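import Mathlib

/-!
# Krull–Akizuki (the case of the same fraction field)

`A` a Noetherian domain of Krull dimension `≤ 1`, `B` a domain containing `A` such that every
element of `B` is a fraction of elements of `A`.  Then `B` is Noetherian of Krull dimension `≤ 1`,
and `B ⧸ (a)` has finite length over `A` for every nonzero `a ∈ A`.
-/

set_option autoImplicit false

namespace Groth.Agent.Lib.Helper38

namespace KrullAkizuki

theorem exists_stabilize {A : Type*} [CommRing A] {I : Ideal A} [IsArtinian A (A ⧸ I)]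
    (J : ℕ → Ideal A) (hJ : Antitone J) :
    ∃ n₀, ∀ k, n₀ ≤ k → ∀ z ∈ J k, ∃ y ∈ J (k + 1), z - y ∈ I := by
  let f : ℕ →o (Submodule A (A ⧸ I))ᵒᵈ :=
    ⟨fun n => OrderDual.toDual (Submodule.map I.mkQ (J n)), fun m n hmn => by
      show Submodule.map I.mkQ (J n) ≤ Submodule.map I.mkQ (J m)
      exact Submodule.map_mono (hJ hmn)⟩
  obtain ⟨n₀, hn₀⟩ := IsArtinian.monotone_stabilizes f
  refine ⟨n₀, fun k hk z hz => ?_⟩
  have h1 : Submodule.map I.mkQ (J k) = Submodule.map I.mkQ (J (k + 1)) := by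
    have e1 := hn₀ k hk
    have e2 := hn₀ (k + 1) (by omega)
    have e3 : f k = f (k + 1) := e1.symm.trans e2
    exact e3
  have h2 : I.mkQ z ∈ Submodule.map I.mkQ (J (k + 1)) := by
    rw [← h1]; exact Submodule.mem_map_of_mem hz
  obtain ⟨y, hy, hyz⟩ := h2
  refine ⟨y, hy, ?_⟩
  have := (Submodule.Quotient.eq I).mp hyz
  have h3 : z - y = -(y - z) := by ring
  rw [h3]
  exact I.neg_mem this

variable {A B : Type*} [CommRing A] [IsDomain A] [IsNoetherianRing A] [Ring.KrullDimLE 1 A]
  [CommRing B] [IsDomain B] [Algebra A B]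

theorem isArtinian_quotient_span_singleton {c : A} (hc : c ≠ 0) :
    IsArtinian A (A ⧸ Ideal.span {c}) :=
  ((isFiniteLength_iff_isNoetherian_isArtinian).mp
    (isFiniteLength_quotient_span_singleton A (mem_nonZeroDivisors_of_ne_zero hc))).2

theorem exists_mul_pow_eq (hinj : Function.Injective (algebraMap A B))
    (hfrac : ∀ x : B, ∃ b c : A, c ≠ 0 ∧ x * algebraMap A B c = algebraMap A B b)
    (a : A) (ha : a ≠ 0) :
    ∃ n₀ : ℕ, ∀ x : B, ∃ (y : B) (z : A),
      algebraMap A B a ^ n₀ * x = algebraMap A B a ^ (n₀ + 1) * y + algebraMap A B z := by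
  have ha' : algebraMap A B a ≠ 0 := fun h => ha (hinj (by rw [h, map_zero]))
  have := isArtinian_quotient_span_singleton ha
  obtain ⟨n₀, hn₀⟩ := exists_stabilize (I := Ideal.span {a})
    (fun n => Ideal.comap (algebraMap A B) (Ideal.span {algebraMap A B a ^ n})) (by
      intro m n hmn
      apply Ideal.comap_mono
      rw [Ideal.span_singleton_le_span_singleton]
      exact pow_dvd_pow _ hmn)
  refine ⟨n₀, fun x => ?_⟩
  obtain ⟨b, c, hc, hxc⟩ := hfrac x
  have := isArtinian_quotient_span_singleton hc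
  obtain ⟨k₀, hk₀⟩ := exists_stabilize (I := Ideal.span {c}) (fun n => Ideal.span {a ^ n}) (by
      intro m n hmn
      show Ideal.span {a ^ n} ≤ Ideal.span {a ^ m}
      rw [Ideal.span_singleton_le_span_singleton]
      exact pow_dvd_pow _ hmn)
  have P_large : ∀ k, k₀ ≤ k → ∃ (y : B) (z : A),
      algebraMap A B a ^ k * x = algebraMap A B a ^ (k + 1) * y + algebraMap A B z := by
    intro k hk
    obtain ⟨y, hy, hz⟩ := hk₀ k hk (a ^ k) (Ideal.mem_span_singleton_self _)
    obtain ⟨u, hu⟩ := Ideal.mem_span_singleton'.mp hy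
    obtain ⟨v, hv⟩ := Ideal.mem_span_singleton'.mp hz
    refine ⟨algebraMap A B u * x, v * b, ?_⟩
    have h0 : a ^ k = u * a ^ (k + 1) + v * c := by rw [hu, hv]; ring
    have h1 := congrArg (algebraMap A B) h0
    simp only [map_add, map_mul, map_pow] at h1
    rw [h1, map_mul, ← hxc]; ring
  have P_desc : ∀ d k, n₀ ≤ k →
      (∃ (y : B) (z : A), algebraMap A B a ^ (k + d) * x
        = algebraMap A B a ^ (k + d + 1) * y + algebraMap A B z) →
      ∃ (y : B) (z : A),
        algebraMap A B a ^ k * x = algebraMap A B a ^ (k + 1) * y + algebraMap A B z := by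
    intro d
    induction d with
    | zero => intro k _ h; simpa using h
    | succ d ih =>
      intro k hk h
      apply ih k hk
      obtain ⟨y, z, hyz⟩ := h
      have hz : z ∈ Ideal.comap (algebraMap A B) (Ideal.span {algebraMap A B a ^ (k + d + 1)}) := by
        rw [Ideal.mem_comap, Ideal.mem_span_singleton']
        refine ⟨x - algebraMap A B a * y, ?_⟩
        have : algebraMap A B z = algebraMap A B a ^ (k + (d + 1)) * x
            - algebraMap A B a ^ (k + (d + 1) + 1) * y := by rw [hyz]; ring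
        rw [this]; ring
      obtain ⟨w, hw, hzw⟩ := hn₀ (k + d + 1) (by omega) z hz
      rw [Ideal.mem_comap, Ideal.mem_span_singleton'] at hw
      obtain ⟨w', hw'⟩ := hw
      obtain ⟨z', hz'⟩ := Ideal.mem_span_singleton'.mp hzw
      refine ⟨y + w', z', ?_⟩
      apply mul_left_cancel₀ ha'
      have hz'' : algebraMap A B z = algebraMap A B w + algebraMap A B z' * algebraMap A B a := by
        rw [← map_mul, hz', ← map_add]; congr 1; ring
      calc algebraMap A B a * (algebraMap A B a ^ (k + d) * x)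
          = algebraMap A B a ^ (k + (d + 1)) * x := by ring
        _ = algebraMap A B a ^ (k + (d + 1) + 1) * y + algebraMap A B z := hyz
        _ = _ := by rw [hz'', ← hw']; ring
  refine P_desc (max k₀ n₀ - n₀) n₀ le_rfl ?_
  have := P_large (max k₀ n₀) (le_max_left _ _)
  rwa [show n₀ + (max k₀ n₀ - n₀) = max k₀ n₀ by omega]

theorem isFiniteLength_quotient_span_singleton (hinj : Function.Injective (algebraMap A B))
    (hfrac : ∀ x : B, ∃ b c : A, c ≠ 0 ∧ x * algebraMap A B c = algebraMap A B b)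
    (a : A) (ha : a ≠ 0) :
    IsFiniteLength A (B ⧸ Ideal.span {algebraMap A B a}) := by
  obtain ⟨n₀, hn₀⟩ := exists_mul_pow_eq hinj hfrac a ha
  have ha' : algebraMap A B a ≠ 0 := fun h => ha (hinj (by rw [h, map_zero]))
  let q : B →ₗ[A] B ⧸ Ideal.span {algebraMap A B a ^ (n₀ + 1)} :=
    (Ideal.Quotient.mkₐ A (Ideal.span {algebraMap A B a ^ (n₀ + 1)})).toLinearMap
  have hq : ∀ x, q x = Ideal.Quotient.mk _ x := fun x => rfl
  let φ : B →ₗ[A] B ⧸ Ideal.span {algebraMap A B a ^ (n₀ + 1)} :=
    q ∘ₗ (LinearMap.mulLeft A (algebraMap A B a ^ n₀))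
  have hφ : ∀ x, φ x = Ideal.Quotient.mk _ (algebraMap A B a ^ n₀ * x) := fun x => rfl
  let ψ : A →ₗ[A] B ⧸ Ideal.span {algebraMap A B a ^ (n₀ + 1)} := q ∘ₗ Algebra.linearMap A B
  have hψ : ∀ z, ψ z = Ideal.Quotient.mk _ (algebraMap A B z) := fun x => rfl
  -- range ψ has finite length
  have hker : Ideal.span {a ^ (n₀ + 1)} ≤ LinearMap.ker ψ := by
    rw [Ideal.span_le]
    intro z hz
    rw [Set.mem_singleton_iff] at hz
    subst hz
    show ψ (a ^ (n₀ + 1)) = 0
    rw [hψ, Ideal.Quotient.eq_zero_iff_mem, map_pow]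
    exact Ideal.mem_span_singleton_self _
  have h1 : IsFiniteLength A (LinearMap.range ψ) := by
    have hfl : IsFiniteLength A (A ⧸ Ideal.span {a ^ (n₀ + 1)}) :=
      _root_.isFiniteLength_quotient_span_singleton A
        (mem_nonZeroDivisors_of_ne_zero (pow_ne_zero _ ha))
    have hr : LinearMap.range (Submodule.liftQ (Ideal.span {a ^ (n₀ + 1)}) ψ hker)
        = LinearMap.range ψ := Submodule.range_liftQ _ _ _
    rw [← hr]
    exact hfl.of_surjective (f := LinearMap.rangeRestrict _) (LinearMap.surjective_rangeRestrict _)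
  have hle : LinearMap.range φ ≤ LinearMap.range ψ := by
    rintro _ ⟨x, rfl⟩
    obtain ⟨y, z, hyz⟩ := hn₀ x
    refine ⟨z, ?_⟩
    rw [hψ, hφ, hyz, eq_comm, Ideal.Quotient.mk_eq_mk_iff_sub_mem]
    rw [add_sub_cancel_right]
    exact Ideal.mul_mem_right _ _ (Ideal.mem_span_singleton_self _)
  have h2 : IsFiniteLength A (LinearMap.range φ) :=
    h1.of_injective (f := Submodule.inclusion hle) (Submodule.inclusion_injective hle)
  have hkerφ : LinearMap.ker φ = (Ideal.span {algebraMap A B a}).restrictScalars A := by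
    ext x
    rw [LinearMap.mem_ker, hφ, Ideal.Quotient.eq_zero_iff_mem, Submodule.restrictScalars_mem,
      Ideal.mem_span_singleton', Ideal.mem_span_singleton']
    constructor
    · rintro ⟨w, hw⟩
      refine ⟨w, ?_⟩
      apply mul_left_cancel₀ (pow_ne_zero n₀ ha')
      rw [← hw]; ring
    · rintro ⟨w, hw⟩
      refine ⟨w, ?_⟩
      rw [← hw]; ring
  have h3 : IsFiniteLength A (B ⧸ LinearMap.ker φ) :=
    φ.quotKerEquivRange.symm.isFiniteLength h2
  have h4 : IsFiniteLength A (B ⧸ (Ideal.span {algebraMap A B a}).restrictScalars A) :=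
    (Submodule.quotEquivOfEq _ _ hkerφ).isFiniteLength h3
  exact (Submodule.Quotient.restrictScalarsEquiv A (Ideal.span {algebraMap A B a})).isFiniteLength h4

/-- **Krull–Akizuki**, Noetherian part. -/
theorem isNoetherianRing (hinj : Function.Injective (algebraMap A B))
    (hfrac : ∀ x : B, ∃ b c : A, c ≠ 0 ∧ x * algebraMap A B c = algebraMap A B b) :
    IsNoetherianRing B := by
  rw [isNoetherianRing_iff_ideal_fg]
  intro I
  by_cases hI : I = ⊥
  · rw [hI]; exact Submodule.fg_bot
  obtain ⟨x, hxI, hx0⟩ := Submodule.exists_mem_ne_zero_of_ne_bot hI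
  obtain ⟨b, c, hc, hxc⟩ := hfrac x
  have hc' : algebraMap A B c ≠ 0 := fun h => hc (hinj (by rw [h, map_zero]))
  have hb : b ≠ 0 := by
    rintro rfl
    rw [map_zero] at hxc
    exact (mul_ne_zero hx0 hc') hxc
  have hbI : algebraMap A B b ∈ I := by rw [← hxc]; exact I.mul_mem_right _ hxI
  have hfl := isFiniteLength_quotient_span_singleton hinj hfrac b hb
  have hN : IsNoetherian A (B ⧸ Ideal.span {algebraMap A B b}) :=
    ((isFiniteLength_iff_isNoetherian_isArtinian).mp hfl).1
  have hNB : IsNoetherian B (B ⧸ Ideal.span {algebraMap A B b}) := isNoetherian_of_tower A hN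
  refine Submodule.fg_of_fg_map_of_fg_inf_ker (Ideal.span {algebraMap A B b}).mkQ
    (IsNoetherian.noetherian _) ?_
  rw [Submodule.ker_mkQ]
  have : I ⊓ Ideal.span {algebraMap A B b} = Ideal.span {algebraMap A B b} := by
    rw [inf_eq_right, Ideal.span_singleton_le_iff_mem]; exact hbI
  rw [this]
  exact ⟨{algebraMap A B b}, by simp [Ideal.span]⟩

/-- **Krull–Akizuki**, dimension part. -/
theorem krullDimLE_one (hinj : Function.Injective (algebraMap A B))
    (hfrac : ∀ x : B, ∃ b c : A, c ≠ 0 ∧ x * algebraMap A B c = algebraMap A B b) :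
    Ring.KrullDimLE 1 B := by
  rw [Ring.krullDimLE_one_iff_of_noZeroDivisors]
  intro P hP0 hP
  obtain ⟨x, hxI, hx0⟩ := Submodule.exists_mem_ne_zero_of_ne_bot hP0
  obtain ⟨b, c, hc, hxc⟩ := hfrac x
  have hc' : algebraMap A B c ≠ 0 := fun h => hc (hinj (by rw [h, map_zero]))
  have hb : b ≠ 0 := by
    rintro rfl
    rw [map_zero] at hxc
    exact (mul_ne_zero hx0 hc') hxc
  have hbI : algebraMap A B b ∈ P := by rw [← hxc]; exact P.mul_mem_right _ hxI
  have hfl := isFiniteLength_quotient_span_singleton hinj hfrac b hb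
  have hle : Ideal.span {algebraMap A B b} ≤ P := by
    rw [Ideal.span_singleton_le_iff_mem]; exact hbI
  have hfl2 : IsFiniteLength A (B ⧸ P) :=
    hfl.of_surjective (f := (Ideal.Quotient.factorₐ A hle).toLinearMap)
      (Ideal.Quotient.factor_surjective hle)
  have hArt : IsArtinian A (B ⧸ P) := ((isFiniteLength_iff_isNoetherian_isArtinian).mp hfl2).2
  have hArt2 : IsArtinianRing (B ⧸ P) := isArtinian_of_tower A hArt
  exact Ideal.Quotient.maximal_of_isField _ (IsArtinianRing.isField_of_isDomain _)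

end KrullAkizuki

end Groth.Agent.Lib.Helper38
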