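import Mathlib
import Groth.Agent.Lib.Helper38.KrullAkizuki

/-!
# Ring-level input for the normalization of a one-dimensional Noetherian integral scheme

`IsFracExt φ` says that `φ : A → B` is injective and every element of `B` is a fraction of elements
of `A`.  For `A` a Noetherian domain of dimension `≤ 1` and `B` a domain this gives (Krull–Akizuki)
that `B` is Noetherian of dimension `≤ 1`, that the fibres of `Spec B → Spec A` are finite and that
the residue field extensions are finite.
-/

set_option autoImplicit false

universe u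

namespace Groth.Agent.Lib.Helper38

/-- `φ : A → B` is injective and every element of `B` is a fraction of elements of `A`. -/
structure IsFracExt {A B : Type*} [CommRing A] [CommRing B] (φ : A →+* B) : Prop where
  inj : Function.Injective φ
  frac : ∀ b : B, ∃ a c : A, c ≠ 0 ∧ b * φ c = φ a

namespace IsFracExt

variable {A B : Type*} [CommRing A] [CommRing B]

theorem comp_ringEquiv {φ : A →+* B} (h : IsFracExt φ) {B' : Type*} [CommRing B']
    (e : B ≃+* B') : IsFracExt ((e : B →+* B').comp φ) where
  inj := e.injective.comp h.inj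
  frac b' := by
    obtain ⟨a, c, hc, hac⟩ := h.frac (e.symm b')
    refine ⟨a, c, hc, ?_⟩
    have := congrArg e hac
    simpa using this

/-- `A → B → K` with `K` the fraction field of `A` and `B → K` injective. -/
theorem of_isFractionRing [IsDomain A] {K : Type*} [Field K] [Algebra A K] [IsFractionRing A K]
    (f : A →+* B) (g : B →+* K) (hg : Function.Injective g)
    (hfg : g.comp f = algebraMap A K) : IsFracExt f where
  inj := by
    have h1 : Function.Injective (g.comp f) := by
      rw [hfg]; exact IsFractionRing.injective A K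
    exact Function.Injective.of_comp (f := g) h1
  frac x := by
    obtain ⟨⟨b, c⟩, hbc⟩ := IsLocalization.surj (nonZeroDivisors A) (g x)
    refine ⟨b, c, nonZeroDivisors.ne_zero c.2, ?_⟩
    apply hg
    rw [map_mul]
    have h1 : g (f (c : A)) = algebraMap A K c := by
      rw [← hfg]; rfl
    have h2 : g (f b) = algebraMap A K b := by
      rw [← hfg]; rfl
    rw [h1, h2]
    exact hbc

section KA

variable [IsDomain A] [IsNoetherianRing A] [Ring.KrullDimLE 1 A] [IsDomain B]
  {φ : A →+* B}

theorem isNoetherianRing (h : IsFracExt φ) : IsNoetherianRing B := by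
  letI : Algebra A B := φ.toAlgebra
  exact KrullAkizuki.isNoetherianRing (A := A) (B := B) h.inj h.frac

theorem krullDimLE_one (h : IsFracExt φ) : Ring.KrullDimLE 1 B := by
  letI : Algebra A B := φ.toAlgebra
  exact KrullAkizuki.krullDimLE_one (A := A) (B := B) h.inj h.frac

theorem finite_quotient (h : IsFracExt φ) (a : A) (ha : a ≠ 0) :
    ((Ideal.Quotient.mk (Ideal.span {φ a})).comp φ).Finite := by
  letI : Algebra A B := φ.toAlgebra
  have hfl := KrullAkizuki.isFiniteLength_quotient_span_singleton (A := A) (B := B) h.inj h.frac a ha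
  have hN : IsNoetherian A (B ⧸ Ideal.span {algebraMap A B a}) :=
    ((isFiniteLength_iff_isNoetherian_isArtinian).mp hfl).1
  have hfin : Module.Finite A (B ⧸ Ideal.span {algebraMap A B a}) := inferInstance
  have : (algebraMap A (B ⧸ Ideal.span {algebraMap A B a})).Finite := hfin
  exact this

end KA

end IsFracExt

namespace NormRing

/-- In a Noetherian domain of dimension `≤ 1` only finitely many primes contain a given nonzero
element. -/
theorem finite_primes_mem {B : Type*} [CommRing B] [IsDomain B] [IsNoetherianRing B]
    [Ring.KrullDimLE 1 B] (b : B) (hb : b ≠ 0) :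
    {Q : PrimeSpectrum B | b ∈ Q.asIdeal}.Finite := by
  have hfin := Ideal.finite_minimalPrimes_of_isNoetherianRing B (Ideal.span {b})
  have hsub : (fun Q : PrimeSpectrum B => Q.asIdeal) '' {Q : PrimeSpectrum B | b ∈ Q.asIdeal} ⊆
      (Ideal.span {b}).minimalPrimes := by
    rintro _ ⟨Q, hQ, rfl⟩
    have hQ' : b ∈ Q.asIdeal := hQ
    refine ⟨⟨Q.2, (Ideal.span_singleton_le_iff_mem _).mpr hQ'⟩, ?_⟩
    rintro Q' ⟨hQ'p, hQ'b⟩ hle
    have hbQ' : b ∈ Q' := (Ideal.span_singleton_le_iff_mem _).mp hQ'b
    have hQ'0 : Q' ≠ ⊥ := by
      rintro rfl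
      exact hb ((Submodule.mem_bot B).mp hbQ')
    have hmax : Q'.IsMaximal :=
      (Ring.krullDimLE_one_iff_of_noZeroDivisors.mp ‹_›) Q' hQ'0 hQ'p
    exact (hmax.eq_of_le Q.2.ne_top hle).ge
  have := (hfin.subset hsub)
  refine Set.Finite.of_finite_image this ?_
  intro Q _ Q' _ h
  exact PrimeSpectrum.ext h

/-- Finite fibres of `Spec B → Spec A` for a fraction extension of a one-dimensional Noetherian
domain. -/
theorem finite_fibre {A B : Type*} [CommRing A] [CommRing B] [IsDomain A] [IsNoetherianRing A]
    [Ring.KrullDimLE 1 A] [IsDomain B] {φ : A →+* B} (h : IsFracExt φ) (P : PrimeSpectrum A) :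
    {Q : PrimeSpectrum B | Q.comap φ = P}.Finite := by
  haveI := h.isNoetherianRing
  haveI := h.krullDimLE_one
  by_cases hP : P.asIdeal = ⊥
  · refine Set.Subsingleton.finite ?_
    have key : ∀ Q : PrimeSpectrum B, Q.comap φ = P → Q.asIdeal = ⊥ := by
      intro Q hQ
      rw [eq_bot_iff]
      intro b hb
      obtain ⟨a, c, hc, hac⟩ := h.frac b
      have h1 : φ a ∈ Q.asIdeal := by rw [← hac]; exact Q.asIdeal.mul_mem_right _ hb
      have h2 : a ∈ (Q.comap φ).asIdeal := h1
      rw [hQ, hP] at h2
      have ha : a = 0 := (Submodule.mem_bot A).mp h2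
      rw [ha, map_zero] at hac
      have hc' : φ c ≠ 0 := fun hc0 => hc (h.inj (by rw [hc0, map_zero]))
      rcases mul_eq_zero.mp hac with h3 | h3
      · exact (Submodule.mem_bot B).mpr h3
      · exact absurd h3 hc'
    intro Q hQ Q' hQ'
    exact PrimeSpectrum.ext ((key Q hQ).trans (key Q' hQ').symm)
  · obtain ⟨a, haP, ha0⟩ := Submodule.exists_mem_ne_zero_of_ne_bot hP
    have hφa : φ a ≠ 0 := fun h0 => ha0 (h.inj (by rw [h0, map_zero]))
    refine (finite_primes_mem (φ a) hφa).subset ?_
    intro Q hQ
    have hQ' : Q.comap φ = P := hQ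
    show φ a ∈ Q.asIdeal
    have : a ∈ (Q.comap φ).asIdeal := by rw [hQ']; exact haP
    exact this

/-- Finiteness of the residue field extension for a local fraction extension of a one-dimensional
Noetherian local domain. -/
theorem finite_residueField_map {R S : Type*} [CommRing R] [CommRing S] [IsDomain R]
    [IsNoetherianRing R] [Ring.KrullDimLE 1 R] [IsLocalRing R] [IsDomain S] [IsLocalRing S]
    (ψ : R →+* S) [IsLocalHom ψ] (h : IsFracExt ψ) :
    (IsLocalRing.ResidueField.map ψ).Finite := by
  by_cases hm : IsLocalRing.maximalIdeal R = ⊥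
  · -- `R` is a field and `ψ` is surjective
    have hsurj : Function.Surjective ψ := by
      intro s
      obtain ⟨a, c, hc, hac⟩ := h.frac s
      have hcu : IsUnit c := by
        by_contra hcu
        have : c ∈ IsLocalRing.maximalIdeal R := (IsLocalRing.mem_maximalIdeal c).mpr hcu
        rw [hm] at this
        exact hc ((Submodule.mem_bot R).mp this)
      obtain ⟨u, rfl⟩ := hcu
      refine ⟨a * (u⁻¹ : Rˣ), ?_⟩
      rw [map_mul, ← hac, mul_assoc, ← map_mul, Units.mul_inv, map_one, mul_one]
    apply RingHom.Finite.of_surjective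
    intro z
    obtain ⟨s, rfl⟩ := IsLocalRing.residue_surjective z
    obtain ⟨r, rfl⟩ := hsurj s
    exact ⟨IsLocalRing.residue R r, rfl⟩
  · obtain ⟨a, haP, ha0⟩ := Submodule.exists_mem_ne_zero_of_ne_bot hm
    have h1 := h.finite_quotient a ha0
    have hmem : ψ a ∈ IsLocalRing.maximalIdeal S := by
      rw [IsLocalRing.mem_maximalIdeal] at haP ⊢
      intro hu
      exact haP (isUnit_of_map_unit ψ a hu)
    have hker : ∀ x ∈ Ideal.span {ψ a}, IsLocalRing.residue S x = 0 := by
      intro x hx
      rw [IsLocalRing.residue_eq_zero_iff]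
      exact (Ideal.span_singleton_le_iff_mem _).mpr hmem hx
    let q : S ⧸ Ideal.span {ψ a} →+* IsLocalRing.ResidueField S :=
      Ideal.Quotient.lift (Ideal.span {ψ a}) (IsLocalRing.residue S) hker
    have hq : Function.Surjective q := by
      intro z
      obtain ⟨s, rfl⟩ := IsLocalRing.residue_surjective z
      exact ⟨Ideal.Quotient.mk _ s, rfl⟩
    have h2 : (q.comp ((Ideal.Quotient.mk (Ideal.span {ψ a})).comp ψ)).Finite :=
      (RingHom.Finite.of_surjective q hq).comp h1
    have h3 : q.comp ((Ideal.Quotient.mk (Ideal.span {ψ a})).comp ψ) =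
        (IsLocalRing.ResidueField.map ψ).comp (IsLocalRing.residue R) := by
      ext r
      rfl
    rw [h3] at h2
    exact RingHom.Finite.of_comp_finite h2

/-- The integral closure of a Noetherian domain of dimension `≤ 1` in its fraction field is a
Dedekind domain (general algebra version). -/
theorem isDedekindDomain_integralClosure (A K : Type*) [CommRing A] [IsDomain A]
    [IsNoetherianRing A] [Ring.KrullDimLE 1 A] [Field K] [Algebra A K] [IsFractionRing A K] :
    IsDedekindDomain (integralClosure A K) ∧ IsFractionRing (integralClosure A K) K := by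
  haveI : IsFractionRing (integralClosure A K) K :=
    integralClosure.isFractionRing_of_finite_extension K K
  haveI : IsIntegrallyClosed (integralClosure A K) :=
    integralClosure.isIntegrallyClosedOfFiniteExtension K
  have hfe : IsFracExt (algebraMap A (integralClosure A K)) :=
    IsFracExt.of_isFractionRing (algebraMap A (integralClosure A K))
      (algebraMap (integralClosure A K) K)
      (FaithfulSMul.algebraMap_injective (integralClosure A K) K) rfl
  haveI := hfe.isNoetherianRing
  have hD := hfe.krullDimLE_one
  haveI : Ring.DimensionLEOne (integralClosure A K) :=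
    ⟨fun {p} hp hp' => (Ring.krullDimLE_one_iff_of_noZeroDivisors.mp hD) p hp hp'⟩
  exact ⟨{ }, inferInstance⟩

/-- Integral closure in (a ring isomorphic to) the fraction field is integrally closed. -/
theorem isIntegrallyClosed_integralClosure_of_algEquiv (A T K : Type*) [CommRing A] [IsDomain A]
    [CommRing T] [Algebra A T] [Field K] [Algebra A K] [IsFractionRing A K] (e : T ≃ₐ[A] K) :
    IsIntegrallyClosed (integralClosure A T) := by
  haveI : IsIntegrallyClosed (integralClosure A K) :=
    integralClosure.isIntegrallyClosedOfFiniteExtension K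
  exact IsIntegrallyClosed.of_equiv (e.mapIntegralClosure.symm.toRingEquiv)

end NormRing

end Groth.Agent.Lib.Helper38
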