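import Mathlib
import Groth.Agent.Lib.Helper38.NormRing

/-!
# Extending a ring map along a fraction extension (ring-level input for the universal property of
the normalization)
-/

set_option autoImplicit false

universe u

namespace Groth.Agent.Lib.Helper38

namespace NormDesc

open Polynomial

/-- Divisibility in an integrally closed domain: if `b φ(c) = φ(a)` with `b` integral over `A`,
then `ψ(c) ∣ ψ(a)` in any integrally closed domain `D` receiving `A` with `ψ(c) ≠ 0`. -/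
theorem exists_mul_eq {A B D : Type*} [CommRing A] [CommRing B] [CommRing D] [IsDomain D]
    [IsIntegrallyClosed D] (φ : A →+* B) (hφ : Function.Injective φ) (ψ : A →+* D)
    (b : B) (hb : φ.IsIntegralElem b) (a c : A) (hbc : b * φ c = φ a) (hc : ψ c ≠ 0) :
    ∃ d : D, d * ψ c = ψ a := by
  obtain ⟨p, hp, hpb⟩ := hb
  have h1 : eval₂ φ (φ c * b) (scaleRoots p c) = 0 := scaleRoots_eval₂_eq_zero φ hpb
  rw [mul_comm, hbc, eval₂_at_apply] at h1
  have h2 : eval a (scaleRoots p c) = 0 := hφ (by rw [h1, map_zero])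
  let L := FractionRing D
  let ψ' : A →+* L := (algebraMap D L).comp ψ
  have hc' : ψ' c ≠ 0 := by
    intro h0
    apply hc
    exact (IsFractionRing.injective D L) (by rw [map_zero]; exact h0)
  have h3 : eval₂ ψ' (ψ' a) (scaleRoots p c) = 0 := by
    rw [eval₂_at_apply, h2, map_zero]
  have h4 : ψ' c * (ψ' a / ψ' c) = ψ' a := by
    rw [mul_comm]; exact div_mul_cancel₀ _ hc'
  have h5 : ψ' c ^ p.natDegree * eval₂ ψ' (ψ' a / ψ' c) p = 0 := by
    rw [← scaleRoots_eval₂_mul, h4, h3]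
  have h6 : eval₂ ψ' (ψ' a / ψ' c) p = 0 :=
    (mul_eq_zero.mp h5).resolve_left (pow_ne_zero _ hc')
  have hint : IsIntegral D (ψ' a / ψ' c) := by
    refine ⟨p.map ψ, hp.map ψ, ?_⟩
    rw [eval₂_map]
    exact h6
  obtain ⟨d, hd⟩ := IsIntegrallyClosed.algebraMap_eq_of_integral hint
  refine ⟨d, IsFractionRing.injective D L ?_⟩
  rw [map_mul, hd]
  show ψ' a / ψ' c * ψ' c = ψ' a
  exact div_mul_cancel₀ _ hc'

section extend

variable {A B C : Type*} [CommRing A] [IsDomain A] [CommRing B] [CommRing C]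
  {φ : A →+* B}

/-- Uniqueness of extensions along a fraction extension. -/
theorem ringHom_ext (hφ : IsFracExt φ) (γ : A →+* C)
    (hND : ∀ c : A, c ≠ 0 → ∀ t : C, t * γ c = 0 → t = 0)
    (χ₁ χ₂ : B →+* C) (h₁ : χ₁.comp φ = γ) (h₂ : χ₂.comp φ = γ) : χ₁ = χ₂ := by
  ext b
  obtain ⟨a, c, hc, hac⟩ := hφ.frac b
  have e1 : χ₁ b * γ c = γ a := by
    rw [← h₁]; simp only [RingHom.comp_apply]; rw [← map_mul, hac]
  have e2 : χ₂ b * γ c = γ a := by
    rw [← h₂]; simp only [RingHom.comp_apply]; rw [← map_mul, hac]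
  have e3 : (χ₁ b - χ₂ b) * γ c = 0 := by rw [sub_mul, e1, e2, sub_self]
  exact sub_eq_zero.mp (hND c hc _ e3)

/-- Existence of extensions along a fraction extension. -/
theorem exists_ringHom (hφ : IsFracExt φ) (γ : A →+* C)
    (hND : ∀ c : A, c ≠ 0 → ∀ t : C, t * γ c = 0 → t = 0)
    (hDIV : ∀ (b : B) (a c : A), c ≠ 0 → b * φ c = φ a → ∃ c' : C, c' * γ c = γ a) :
    ∃ χ : B →+* C, χ.comp φ = γ := by
  let R : B → C → Prop := fun b c' => ∃ a c : A, c ≠ 0 ∧ b * φ c = φ a ∧ c' * γ c = γ a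
  have hex : ∀ b, ∃ c', R b c' := by
    intro b
    obtain ⟨a, c, hc, hac⟩ := hφ.frac b
    obtain ⟨c', hc'⟩ := hDIV b a c hc hac
    exact ⟨c', a, c, hc, hac, hc'⟩
  have huniq : ∀ b c' c'', R b c' → R b c'' → c' = c'' := by
    rintro b c' c'' ⟨a, c, hc, hac, h1⟩ ⟨a₂, c₂, hc₂, hac₂, h2⟩
    have e0 : a * c₂ = a₂ * c := by
      apply hφ.inj
      rw [map_mul, map_mul, ← hac, ← hac₂]; ring
    have e3 : (c' - c'') * γ (c * c₂) = 0 := by
      have : (c' - c'') * γ (c * c₂) = (c' * γ c) * γ c₂ - (c'' * γ c₂) * γ c := by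
        rw [map_mul]; ring
      rw [this, h1, h2, ← map_mul, ← map_mul, e0, sub_self]
    exact sub_eq_zero.mp (hND _ (mul_ne_zero hc hc₂) _ e3)
  choose χ' hχ' using hex
  have key : ∀ b c', R b c' → χ' b = c' := fun b c' h => huniq b _ _ (hχ' b) h
  have hRφ : ∀ a, R (φ a) (γ a) := fun a => ⟨a, 1, one_ne_zero, by simp, by simp⟩
  have hadd : ∀ b₁ b₂ c₁ c₂, R b₁ c₁ → R b₂ c₂ → R (b₁ + b₂) (c₁ + c₂) := by
    rintro b₁ b₂ c₁' c₂' ⟨a₁, c₁, hc₁, hac₁, h1⟩ ⟨a₂, c₂, hc₂, hac₂, h2⟩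
    refine ⟨a₁ * c₂ + a₂ * c₁, c₁ * c₂, mul_ne_zero hc₁ hc₂, ?_, ?_⟩
    · simp only [map_add, map_mul]; rw [← hac₁, ← hac₂]; ring
    · simp only [map_add, map_mul]; rw [← h1, ← h2]; ring
  have hmul : ∀ b₁ b₂ c₁ c₂, R b₁ c₁ → R b₂ c₂ → R (b₁ * b₂) (c₁ * c₂) := by
    rintro b₁ b₂ c₁' c₂' ⟨a₁, c₁, hc₁, hac₁, h1⟩ ⟨a₂, c₂, hc₂, hac₂, h2⟩
    refine ⟨a₁ * a₂, c₁ * c₂, mul_ne_zero hc₁ hc₂, ?_, ?_⟩
    · simp only [map_mul]; rw [← hac₁, ← hac₂]; ring
    · simp only [map_mul]; rw [← h1, ← h2]; ring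
  have h1 : χ' 1 = 1 := key 1 1 (by have := hRφ 1; simpa using this)
  have h0 : χ' 0 = 0 := key 0 0 (by have := hRφ 0; simpa using this)
  refine ⟨{ toFun := χ'
            map_one' := h1
            map_mul' := fun x y => key _ _ (hmul _ _ _ _ (hχ' x) (hχ' y))
            map_zero' := h0
            map_add' := fun x y => key _ _ (hadd _ _ _ _ (hχ' x) (hχ' y)) }, ?_⟩
  ext a
  exact key _ _ (hRφ a)

end extend

end NormDesc

end Groth.Agent.Lib.Helper38
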