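import Mathlib
import Groth.Agent.Lib.Helper38.NormDesc

/-!
# Integral closure of a local ring of an integral scheme versus the fibre of the normalization
(ring-level package)
-/

set_option autoImplicit false

universe u

namespace Groth.Agent.Lib.Helper38

theorem IsFracExt.comp {A B C : Type*} [CommRing A] [CommRing B] [CommRing C] [IsDomain A]
    [IsDomain B] {f : A →+* B} {g : B →+* C} (hf : IsFracExt f) (hg : IsFracExt g) :
    IsFracExt (g.comp f) where
  inj := hg.inj.comp hf.inj
  frac c := by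
    obtain ⟨b₁, b₂, hb₂, h1⟩ := hg.frac c
    obtain ⟨a₁, a₂, ha₂, h2⟩ := hf.frac b₁
    obtain ⟨a₃, a₄, ha₄, h3⟩ := hf.frac b₂
    have hfa₄ : f a₄ ≠ 0 := fun h0 => ha₄ (hf.inj (by rw [h0, map_zero]))
    have ha₃ : a₃ ≠ 0 := by
      rintro rfl
      rw [map_zero] at h3
      exact (mul_ne_zero hb₂ hfa₄) h3
    refine ⟨a₁ * a₄, a₃ * a₂, mul_ne_zero ha₃ ha₂, ?_⟩
    simp only [RingHom.comp_apply, map_mul]
    rw [← h3, ← h2, map_mul, map_mul, ← h1]
    ring

theorem IsFracExt.of_isLocalization {A R : Type*} [CommRing A] [IsDomain A] [CommRing R]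
    [Algebra A R] (M : Submonoid A) (hM : M ≤ nonZeroDivisors A) [IsLocalization M R] :
    IsFracExt (algebraMap A R) where
  inj := IsLocalization.injective R hM
  frac r := by
    obtain ⟨⟨a, s⟩, hs⟩ := IsLocalization.surj M r
    exact ⟨a, s, nonZeroDivisors.ne_zero (hM s.2), hs⟩

namespace NormLocal

section

variable {A B R R' : Type*} [CommRing A] [CommRing B] [CommRing R] [CommRing R'] [IsDomain A]
  [IsDomain B] [IsDomain R] [IsDomain R'] (P : Ideal A) [P.IsPrime] [Algebra A R]
  [IsLocalization.AtPrime R P] {φ : A →+* B} (hφ : IsFracExt φ) (hφi : φ.IsIntegral)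
  [IsIntegrallyClosed B] {ι : R →+* R'} (hι : IsFracExt ι) (hιi : ι.IsIntegral)
  [IsIntegrallyClosed R']

include P hι in
theorem isFracExt_gamma : IsFracExt (ι.comp (algebraMap A R)) :=
  (IsFracExt.of_isLocalization P.primeCompl P.primeCompl_le_nonZeroDivisors).comp hι

include P hφ hφi hι in
theorem exists_beta : ∃ β : B →+* R', β.comp φ = ι.comp (algebraMap A R) := by
  have hγ := isFracExt_gamma (R := R) P hι
  refine NormDesc.exists_ringHom hφ (ι.comp (algebraMap A R)) ?_ ?_
  · intro c hc t ht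
    have : (ι.comp (algebraMap A R)) c ≠ 0 := fun h0 => hc (hγ.inj (by rw [h0, map_zero]))
    exact (mul_eq_zero.mp ht).resolve_right this
  · intro b a c hc hbc
    exact NormDesc.exists_mul_eq φ hφ.inj (ι.comp (algebraMap A R)) b (hφi b) a c hbc
      (fun h0 => hc (hγ.inj (by rw [h0, map_zero])))

variable {β : B →+* R'} (hβ : β.comp φ = ι.comp (algebraMap A R))

include P hφ hι hιi hβ in
/-- `R'` is the localization of `B` at `P`. -/
theorem exists_mul_mem_range (r' : R') :
    ∃ s ∈ P.primeCompl, ∃ b : B, β b = ι (algebraMap A R s) * r' := by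
  have hγ := isFracExt_gamma (R := R) P hι
  letI : Algebra R R' := ι.toAlgebra
  letI : Algebra A R' := (ι.comp (algebraMap A R)).toAlgebra
  haveI : IsScalarTower A R R' := IsScalarTower.of_algebraMap_eq' rfl
  obtain ⟨s, hs⟩ := IsIntegral.exists_multiple_integral_of_isLocalization P.primeCompl r'
    (hιi r')
  have hy : (ι.comp (algebraMap A R)).IsIntegralElem (ι (algebraMap A R s) * r') := by
    have : (s • r' : R') = ι (algebraMap A R s) * r' := by
      rw [Submonoid.smul_def, Algebra.smul_def]; rfl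
    rw [← this]; exact hs
  obtain ⟨a₁, c₁, hc₁, h1⟩ := hγ.frac (ι (algebraMap A R s) * r')
  obtain ⟨b, hb⟩ := NormDesc.exists_mul_eq (ι.comp (algebraMap A R)) hγ.inj φ
    (ι (algebraMap A R s) * r') hy a₁ c₁ h1
    (fun h0 => hc₁ (hφ.inj (by rw [h0, map_zero])))
  refine ⟨s, s.2, b, ?_⟩
  have hγc : (ι.comp (algebraMap A R)) c₁ ≠ 0 := fun h0 => hc₁ (hγ.inj (by rw [h0, map_zero]))
  apply mul_right_cancel₀ hγc
  rw [h1, ← hβ]
  simp only [RingHom.comp_apply]
  rw [← map_mul, hb]

section point

variable (Q : Ideal B) [Q.IsPrime] {S : Type*} [CommRing S] [IsDomain S] [IsLocalRing S]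
  [Algebra B S] [IsLocalization.AtPrime S Q] [IsIntegrallyClosed S]
  {ψ : R →+* S} (hψ : ψ.comp (algebraMap A R) = (algebraMap B S).comp φ)

include P hφ hψ Q in
theorem psi_injective : Function.Injective ψ := by
  rw [injective_iff_map_eq_zero]
  intro r hr
  obtain ⟨⟨a, s⟩, hs⟩ := IsLocalization.surj P.primeCompl r
  have hAR := IsLocalization.injective R P.primeCompl_le_nonZeroDivisors
  have hBS := IsLocalization.injective S Q.primeCompl_le_nonZeroDivisors
  have h1 : ψ (algebraMap A R a) = 0 := by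
    rw [← hs, map_mul, hr, zero_mul]
  have h2 : algebraMap B S (φ a) = 0 := by
    have := congrArg (fun f => f a) hψ
    simp only [RingHom.comp_apply] at this
    rw [← this]; exact h1
  have h3 : a = 0 := hφ.inj (by rw [hBS (by rw [h2, map_zero] : algebraMap B S (φ a) = algebraMap B S 0), map_zero])
  rw [h3, map_zero] at hs
  have hs0 : algebraMap A R (s : A) ≠ 0 := fun h0 =>
    (nonZeroDivisors.ne_zero (P.primeCompl_le_nonZeroDivisors s.2)) (hAR (by rw [h0, map_zero]))
  exact (mul_eq_zero.mp hs).resolve_right hs0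

include P hφ hι hιi hψ Q in
theorem exists_chi : ∃ χ : R' →+* S, χ.comp ι = ψ := by
  have hinj := psi_injective P hφ Q hψ
  refine NormDesc.exists_ringHom hι ψ ?_ ?_
  · intro c hc t ht
    have : ψ c ≠ 0 := fun h0 => hc (hinj (by rw [h0, map_zero]))
    exact (mul_eq_zero.mp ht).resolve_right this
  · intro r' a c hc hbc
    exact NormDesc.exists_mul_eq ι hι.inj ψ r' (hιi r') a c hbc
      (fun h0 => hc (hinj (by rw [h0, map_zero])))

variable {χ : R' →+* S} (hχ : χ.comp ι = ψ)

include P hφ hβ hψ hχ Q in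
theorem chi_comp_beta : χ.comp β = algebraMap B S := by
  have hBS := IsLocalization.injective S Q.primeCompl_le_nonZeroDivisors
  refine NormDesc.ringHom_ext hφ ((algebraMap B S).comp φ) ?_ _ _ ?_ rfl
  · intro c hc t ht
    have : ((algebraMap B S).comp φ) c ≠ 0 := fun h0 =>
      hc (hφ.inj (hBS (by rw [map_zero, map_zero]; exact h0)))
    exact (mul_eq_zero.mp ht).resolve_right this
  · rw [RingHom.comp_assoc, hβ, ← RingHom.comp_assoc, hχ, hψ]

/-- The maximal ideal of `R'` attached to the prime `Q` of `B`. -/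
def theta (χ : R' →+* S) : Ideal R' := (IsLocalRing.maximalIdeal S).comap χ

include P hφ hβ hψ hχ Q in
theorem comap_beta_theta : (theta χ).comap β = Q := by
  have h1 := chi_comp_beta P hφ hβ Q hψ hχ
  unfold theta
  rw [Ideal.comap_comap, h1]
  exact IsLocalization.AtPrime.under_maximalIdeal S Q

include P hψ Q in
theorem comap_psi_maximalIdeal [IsLocalRing R] (hQ : Q.comap φ = P) :
    (IsLocalRing.maximalIdeal S).comap ψ = IsLocalRing.maximalIdeal R := by
  have hprime : ((IsLocalRing.maximalIdeal S).comap ψ).IsPrime := Ideal.comap_isPrime ψ _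
  apply le_antisymm (IsLocalRing.le_maximalIdeal hprime.ne_top)
  intro r hr
  obtain ⟨⟨a, s⟩, hs⟩ := IsLocalization.surj P.primeCompl r
  have ha : a ∈ P := by
    rw [← IsLocalization.AtPrime.to_map_mem_maximal_iff R P a, ← hs]
    exact Ideal.mul_mem_right _ _ hr
  have hcomp : ∀ z : A, ψ (algebraMap A R z) = algebraMap B S (φ z) := fun z => by
    have := congrArg (fun f => f z) hψ
    simpa only [RingHom.comp_apply] using this
  have haQ : φ a ∈ Q := by
    have : a ∈ Q.comap φ := by rw [hQ]; exact ha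
    exact this
  have hsQ : φ (s : A) ∉ Q := by
    intro h
    have : (s : A) ∈ Q.comap φ := h
    rw [hQ] at this
    exact s.2 this
  have h1 : ψ r * algebraMap B S (φ (s : A)) = algebraMap B S (φ a) := by
    rw [← hcomp, ← hcomp, ← map_mul, hs]
  have hu : IsUnit (algebraMap B S (φ (s : A))) :=
    IsLocalization.map_units S (⟨φ s, hsQ⟩ : Q.primeCompl)
  have h2 : algebraMap B S (φ a) ∈ IsLocalRing.maximalIdeal S :=
    (IsLocalization.AtPrime.to_map_mem_maximal_iff S Q (φ a)).mpr haQ
  rw [← h1] at h2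
  show ψ r ∈ IsLocalRing.maximalIdeal S
  rcases (Ideal.IsPrime.mem_or_mem (IsLocalRing.maximalIdeal.isMaximal S).isPrime h2) with h | h
  · exact h
  · exact absurd hu ((IsLocalRing.mem_maximalIdeal _).mp h)

include P hιi hψ hχ Q in
theorem theta_isMaximal [IsLocalRing R] (hQ : Q.comap φ = P) : (theta χ).IsMaximal := by
  haveI : (theta χ).IsPrime := Ideal.comap_isPrime χ _
  apply Ideal.isMaximal_of_isIntegral_of_isMaximal_comap' ι hιi
  have h1 : (theta χ).comap ι = (IsLocalRing.maximalIdeal S).comap ψ := by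
    unfold theta; rw [Ideal.comap_comap, hχ]
  rw [h1, comap_psi_maximalIdeal P Q hψ hQ]
  exact IsLocalRing.maximalIdeal.isMaximal R

include P hφ hι hιi hβ hψ hχ Q in
/-- If `Q` is the contraction of a maximal ideal `m'` of `R'`, then `theta` recovers `m'`. -/
theorem theta_eq_of_comap_eq [IsLocalRing R] (hQ : Q.comap φ = P) (m' : Ideal R')
    [m'.IsMaximal] (hm' : m'.comap β = Q) : theta χ = m' := by
  have hmax := theta_isMaximal P hιi Q hψ hχ hQ
  refine (hmax.eq_of_le (Ideal.IsMaximal.ne_top ‹_›) ?_)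
  intro r' hr'
  obtain ⟨s, hs, b, hb⟩ := exists_mul_mem_range P hφ hι hιi hβ r'
  have h1 := chi_comp_beta P hφ hβ Q hψ hχ
  have h2 : algebraMap B S b ∈ IsLocalRing.maximalIdeal S := by
    rw [← h1]
    simp only [RingHom.comp_apply]
    rw [hb, map_mul]
    exact Ideal.mul_mem_left _ _ hr'
  have h3 : b ∈ Q := (IsLocalization.AtPrime.to_map_mem_maximal_iff S Q b).mp h2
  have h4 : β b ∈ m' := by
    rw [← hm'] at h3; exact h3
  rw [hb] at h4
  rcases (Ideal.IsPrime.mem_or_mem (Ideal.IsMaximal.isPrime ‹_›) h4) with h | h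
  · exfalso
    have h5 : s ∈ (m'.comap β).comap φ := by
      show β (φ s) ∈ m'
      have := congrArg (fun f => f s) hβ
      simp only [RingHom.comp_apply] at this
      rw [this]; exact h
    rw [hm', hQ] at h5
    exact hs h5
  · exact h

include P hι hιi hβ in
theorem comap_phi_comap_beta [IsLocalRing R] (m' : Ideal R') [m'.IsMaximal] :
    (m'.comap β).comap φ = P := by
  rw [Ideal.comap_comap, hβ, ← Ideal.comap_comap]
  haveI := Ideal.isMaximal_comap_of_isIntegral_of_isMaximal' ι hιi m'
  rw [IsLocalRing.eq_maximalIdeal (inferInstance : (m'.comap ι).IsMaximal)]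
  exact IsLocalization.AtPrime.under_maximalIdeal R P

include hχ in
theorem residue_chi_surjective (hmax : (theta χ).IsMaximal)
    (hχβ : χ.comp β = algebraMap B S) (hcomap : (theta χ).comap β = Q) :
    Function.Surjective ((IsLocalRing.residue S).comp χ) := by
  intro z
  obtain ⟨s, rfl⟩ := IsLocalRing.residue_surjective z
  obtain ⟨⟨b, t⟩, hbt⟩ := IsLocalization.surj Q.primeCompl s
  have ht : β (t : B) ∉ theta χ := by
    intro h
    have : (t : B) ∈ (theta χ).comap β := h
    rw [hcomap] at this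
    exact t.2 this
  obtain ⟨u, i, hi, hui⟩ := hmax.exists_inv ht
  refine ⟨β b * u, ?_⟩
  have hχβ' : ∀ z : B, χ (β z) = algebraMap B S z := fun z => by
    have := congrArg (fun f => f z) hχβ
    simpa only [RingHom.comp_apply] using this
  have hunit : IsUnit (algebraMap B S (t : B)) := IsLocalization.map_units S t
  have hi' : χ i ∈ IsLocalRing.maximalIdeal S := hi
  have h1 : (χ (β b * u) - s) * algebraMap B S (t : B) = - (algebraMap B S b * χ i) := by
    have e1 : χ i = 1 - χ u * algebraMap B S (t : B) := by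
      rw [← hχβ', ← map_mul, ← map_one χ, ← map_sub, ← hui]; congr 1; ring
    rw [sub_mul, hbt, map_mul, hχβ', e1]; ring
  have h2 : (χ (β b * u) - s) * algebraMap B S (t : B) ∈ IsLocalRing.maximalIdeal S := by
    rw [h1]; exact neg_mem (Ideal.mul_mem_left _ _ hi')
  have h3 : χ (β b * u) - s ∈ IsLocalRing.maximalIdeal S := by
    rcases (Ideal.IsPrime.mem_or_mem (IsLocalRing.maximalIdeal.isMaximal S).isPrime h2) with h | h
    · exact h
    · exact absurd hunit ((IsLocalRing.mem_maximalIdeal _).mp h)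
  show IsLocalRing.residue S (χ (β b * u)) = IsLocalRing.residue S s
  exact Ideal.Quotient.eq.mpr h3

include hχ in
/-- The residue field of `R'` at `theta χ` is the residue field of `S`. -/
theorem exists_residue_equiv (hmax : (theta χ).IsMaximal)
    (hχβ : χ.comp β = algebraMap B S) (hcomap : (theta χ).comap β = Q) :
    ∃ Φ : (R' ⧸ theta χ) ≃+* IsLocalRing.ResidueField S,
      ∀ r' : R', Φ (Ideal.Quotient.mk _ r') = IsLocalRing.residue S (χ r') := by
  have hsurj := residue_chi_surjective Q hχ hmax hχβ hcomap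
  have hker : ∀ a ∈ theta χ, ((IsLocalRing.residue S).comp χ) a = 0 := by
    intro a ha
    show IsLocalRing.residue S (χ a) = 0
    rw [IsLocalRing.residue_eq_zero_iff]
    exact ha
  let f : (R' ⧸ theta χ) →+* IsLocalRing.ResidueField S :=
    Ideal.Quotient.lift (theta χ) ((IsLocalRing.residue S).comp χ) hker
  have hf : ∀ r' : R', f (Ideal.Quotient.mk _ r') = IsLocalRing.residue S (χ r') := fun r' => rfl
  have hinj : Function.Injective f := by
    rw [injective_iff_map_eq_zero]
    intro z hz
    obtain ⟨r', rfl⟩ := Ideal.Quotient.mk_surjective z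
    rw [hf, IsLocalRing.residue_eq_zero_iff] at hz
    exact Ideal.Quotient.eq_zero_iff_mem.mpr hz
  have hsur : Function.Surjective f := by
    intro z
    obtain ⟨r', hr'⟩ := hsurj z
    exact ⟨Ideal.Quotient.mk _ r', hr'⟩
  exact ⟨RingEquiv.ofBijective f ⟨hinj, hsur⟩, hf⟩

end point

end

end NormLocal

end Groth.Agent.Lib.Helper38
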