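import Mathlib
import Groth.Prelude.Def_CAlg2
import Groth.Agent.Lib.Helper38.NormLocal

set_option autoImplicit false

universe u

namespace Groth.Agent.Lib.Helper38

namespace NormRedDom

variable (R : Type u) [CommRing R] [IsDomain R]

theorem nilradical_eq_bot : nilradical R = ⊥ := nilradical_eq_zero R

instance : IsDomain (CAlg2.red R) := by
  have : (nilradical R).IsPrime := by rw [nilradical_eq_bot]; exact Ideal.isPrime_bot
  exact Ideal.Quotient.isDomain _

/-- The canonical map `R → normRed R`. -/
noncomputable def iota : R →+* CAlg2.normRed R :=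
  (algebraMap (CAlg2.red R) (CAlg2.normRed R)).comp (Ideal.Quotient.mk (nilradical R))

instance : IsDomain (CAlg2.normRed R) := inferInstance

instance : IsIntegrallyClosed (CAlg2.normRed R) :=
  integralClosure.isIntegrallyClosedOfFiniteExtension (FractionRing (CAlg2.red R))

theorem mk_injective : Function.Injective (Ideal.Quotient.mk (nilradical R)) := by
  rw [injective_iff_map_eq_zero]
  intro a ha
  rw [Ideal.Quotient.eq_zero_iff_mem, nilradical_eq_bot] at ha
  exact ha

theorem iota_isIntegral : (iota R).IsIntegral := by
  unfold iota
  apply RingHom.IsIntegral.trans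
  · exact RingHom.isIntegral_of_surjective _ Ideal.Quotient.mk_surjective
  · exact algebraMap_isIntegral_iff.mpr inferInstance

theorem iota_isFracExt : IsFracExt (iota R) where
  inj := by
    have h1 : Function.Injective (algebraMap (CAlg2.red R) (CAlg2.normRed R)) :=
      FaithfulSMul.algebraMap_injective _ _
    exact h1.comp (mk_injective R)
  frac b := by
    obtain ⟨⟨a, c⟩, h⟩ := IsLocalization.surj (nonZeroDivisors (CAlg2.red R)) (b : FractionRing (CAlg2.red R))
    obtain ⟨a', rfl⟩ := Ideal.Quotient.mk_surjective a
    obtain ⟨c', hc'⟩ := Ideal.Quotient.mk_surjective (c : CAlg2.red R)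
    refine ⟨a', c', ?_, ?_⟩
    · rintro rfl
      rw [map_zero] at hc'
      exact nonZeroDivisors.ne_zero c.2 hc'.symm
    · apply Subtype.ext
      simp only [iota, RingHom.comp_apply, hc']
      exact h

end NormRedDom

end Groth.Agent.Lib.Helper38
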