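import Mathlib
import Groth.Prelude.Def_CAlg2
import Groth.Agent.Lib.Helper38.NormLocal
import Groth.Agent.Lib.Helper38.NormRedDom

set_option autoImplicit false

universe u

open AlgebraicGeometry CategoryTheory

namespace Groth.Agent.Lib.Helper38

namespace NormAff

theorem universallyInjective_SpecMap_iff {A B : Type u} [CommRing A] [CommRing B] (φ : A →+* B) :
    UniversallyInjective (Spec.map (CommRingCat.ofHom φ)) ↔
      ∀ (K : Type u) [Field K] (g₁ g₂ : B →+* K), g₁.comp φ = g₂.comp φ → g₁ = g₂ := by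
  have htfae : UniversallyInjective (Spec.map (CommRingCat.ofHom φ)) ↔
      ∀ (K : Type u) [Field K], Function.Injective
        (fun g : Spec (.of K) ⟶ Spec (CommRingCat.of B) ↦ g ≫ Spec.map (CommRingCat.ofHom φ)) :=
    (tfae_universallyInjective (Spec.map (CommRingCat.ofHom φ))).out 0 1
  rw [htfae]
  constructor
  · intro h K _ g₁ g₂ h12
    have h1 : Spec.map (CommRingCat.ofHom g₁) ≫ Spec.map (CommRingCat.ofHom φ) =
        Spec.map (CommRingCat.ofHom g₂) ≫ Spec.map (CommRingCat.ofHom φ) := by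
      rw [← Spec.map_comp, ← Spec.map_comp, ← CommRingCat.ofHom_comp, ← CommRingCat.ofHom_comp, h12]
    have h2 := h K h1
    have h3 := Spec.map_injective h2
    exact congrArg CommRingCat.Hom.hom h3
  · intro h K _ γ₁ γ₂ h12
    obtain ⟨g₁, rfl⟩ := Spec.map_surjective γ₁
    obtain ⟨g₂, rfl⟩ := Spec.map_surjective γ₂
    simp only at h12
    rw [← Spec.map_comp, ← Spec.map_comp] at h12
    have h3 := Spec.map_injective h12
    have h4 : g₁.hom.comp φ = g₂.hom.comp φ := by
      have := congrArg CommRingCat.Hom.hom h3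
      simpa only [CommRingCat.hom_comp, CommRingCat.hom_ofHom] using this
    have h5 := h K g₁.hom g₂.hom h4
    congr 1
    exact CommRingCat.hom_ext h5

theorem eq_of_pow_mem {A B R R' L K : Type*} [CommRing A] [CommRing B] [CommRing R] [CommRing R']
    [CommRing L] [IsDomain L] [Field K] (p : Ideal A)
    (φ : A →+* B) (alg : A →+* R) (ι : R →+* R') (β : B →+* R') (π : R' →+* L)
    (hβ : β.comp φ = ι.comp alg)
    (hsurj : ∀ r : R, ∃ a s : A, s ∉ p ∧ r * alg s = alg a)
    (g₁ g₂ : B →+* K) (h12 : g₁.comp φ = g₂.comp φ) (hp : ∀ s, s ∉ p → g₁ (φ s) ≠ 0)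
    (hk₁ : ∀ b, π (β b) = 0 ↔ g₁ b = 0) (hk₂ : ∀ b, π (β b) = 0 → g₂ b = 0)
    (hpow : ∀ z : L, ∃ n : ℕ, z ^ (ringExpChar L) ^ n ∈ (π.comp ι).range) : g₁ = g₂ := by
  have hβ' : ∀ a, β (φ a) = ι (alg a) := fun a => by
    have := congrArg (fun f => f a) hβ
    simpa only [RingHom.comp_apply] using this
  have h12' : ∀ a, g₁ (φ a) = g₂ (φ a) := fun a => by
    have := congrArg (fun f => f a) h12
    simpa only [RingHom.comp_apply] using this
  haveI : ExpChar L (ringExpChar L) := ringExpChar.expChar _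
  -- transfer of the characteristic exponent
  have hj₁ : Function.Injective (Ideal.Quotient.lift (RingHom.ker g₁) (π.comp β)
      (fun b hb => (hk₁ b).mpr hb)) := by
    apply RingHom.lift_injective_of_ker_le_ideal
    intro b hb
    exact (hk₁ b).mp hb
  haveI : ExpChar (B ⧸ RingHom.ker g₁) (ringExpChar L) := RingHom.expChar _ hj₁ _
  haveI : ExpChar K (ringExpChar L) :=
    expChar_of_injective_ringHom (RingHom.kerLift_injective g₁) _
  ext b
  obtain ⟨n, r, hr⟩ := hpow (π (β b))
  obtain ⟨a, s, hs, hrs⟩ := hsurj r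
  have h1 : π (β (b ^ (ringExpChar L) ^ n * φ s - φ a)) = 0 := by
    rw [map_sub, map_mul, map_pow, hβ', hβ', ← hrs, map_sub, map_mul, map_pow, map_mul, map_mul]
    have : π (ι r) = π (β b) ^ ringExpChar L ^ n := hr
    rw [this]; ring
  have h2 := (hk₁ _).mp h1
  have h3 := hk₂ _ h1
  rw [map_sub, map_mul, map_pow, sub_eq_zero] at h2 h3
  have h4 : g₁ b ^ ringExpChar L ^ n = g₂ b ^ ringExpChar L ^ n := by
    apply mul_right_cancel₀ (hp s hs)
    rw [h2, h12' s, h3, h12' a]
  exact iterateFrobenius_inj K (ringExpChar L) n h4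

theorem pow_mem_of_univ {A B R R' L : Type u} [CommRing A] [CommRing B] [CommRing R] [CommRing R']
    [Field L] [IsLocalRing R] (p : Ideal A)
    (φ : A →+* B) (alg : A →+* R) (ι : R →+* R') (β : B →+* R') (π : R' →+* L)
    (hπ : Function.Surjective π) (hβ : β.comp φ = ι.comp alg)
    (hfrac : ∀ r' : R', ∃ s, s ∉ p ∧ ∃ b, β b = ι (alg s) * r')
    (hlocal : ∀ r, r ∈ IsLocalRing.maximalIdeal R → π (ι r) = 0)
    (hunit : ∀ s, s ∉ p → IsUnit (alg s))
    (huniv : ∀ (K : Type u) [Field K] (g₁ g₂ : B →+* K), g₁.comp φ = g₂.comp φ → g₁ = g₂) :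
    ∀ z : L, ∃ n : ℕ, z ^ (ringExpChar L) ^ n ∈ (π.comp ι).range := by
  have hβ' : ∀ a, β (φ a) = ι (alg a) := fun a => by
    have := congrArg (fun f => f a) hβ
    simpa only [RingHom.comp_apply] using this
  let j : IsLocalRing.ResidueField R →+* L :=
    Ideal.Quotient.lift (IsLocalRing.maximalIdeal R) (π.comp ι) hlocal
  have hj : ∀ r, j (IsLocalRing.residue R r) = π (ι r) := fun r => rfl
  letI : Algebra (IsLocalRing.ResidueField R) L := j.toAlgebra
  have halg : ∀ y, algebraMap (IsLocalRing.ResidueField R) L y = j y := fun y => rfl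
  haveI : ExpChar L (ringExpChar L) := ringExpChar.expChar _
  haveI : ExpChar (IsLocalRing.ResidueField R) (ringExpChar L) :=
    RingHom.expChar j j.injective _
  have hpi : IsPurelyInseparable (IsLocalRing.ResidueField R) L := by
    rw [isPurelyInseparable_iff_subsingleton_emb]
    constructor
    intro σ₁ σ₂
    have h12 : ((σ₁ : L →+* AlgebraicClosure L).comp (π.comp β)).comp φ =
        ((σ₂ : L →+* AlgebraicClosure L).comp (π.comp β)).comp φ := by
      ext a
      simp only [RingHom.comp_apply, hβ']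
      rw [← hj, ← halg]
      exact (σ₁.commutes _).trans (σ₂.commutes _).symm
    have h := huniv (AlgebraicClosure L) _ _ h12
    have hg : ∀ b, σ₁ (π (β b)) = σ₂ (π (β b)) := fun b => by
      have := congrArg (fun f => f b) h
      exact this
    ext l
    obtain ⟨r', rfl⟩ := hπ l
    obtain ⟨s, hs, b, hb⟩ := hfrac r'
    have h1 := hg b
    rw [hb, map_mul, map_mul, map_mul] at h1
    have h2 : σ₁ (π (ι (alg s))) = σ₂ (π (ι (alg s))) := by
      rw [← hj, ← halg]
      exact (σ₁.commutes _).trans (σ₂.commutes _).symm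
    have h3 : σ₂ (π (ι (alg s))) ≠ 0 := by
      have hu : IsUnit (σ₂ (π (ι (alg s)))) := (((hunit s hs).map ι).map π).map σ₂
      exact hu.ne_zero
    rw [h2] at h1
    exact mul_left_cancel₀ h3 h1
  intro z
  obtain ⟨n, y, hy⟩ := (isPurelyInseparable_iff_pow_mem (IsLocalRing.ResidueField R)
    (ringExpChar L)).mp hpi z
  obtain ⟨r, rfl⟩ := IsLocalRing.residue_surjective y
  exact ⟨n, r, hy⟩

section intClosure

variable (A : Type u) [CommRing A] [IsDomain A]

instance : IsIntegrallyClosed (integralClosure A (FractionRing A)) :=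
  integralClosure.isIntegrallyClosedOfFiniteExtension (FractionRing A)

theorem isIntegral_algebraMap :
    (algebraMap A (integralClosure A (FractionRing A))).IsIntegral :=
  algebraMap_isIntegral_iff.mpr inferInstance

theorem isFracExt_algebraMap :
    IsFracExt (algebraMap A (integralClosure A (FractionRing A))) where
  inj := FaithfulSMul.algebraMap_injective _ _
  frac b := by
    obtain ⟨⟨a, c⟩, h⟩ := IsLocalization.surj (nonZeroDivisors A) (b : FractionRing A)
    refine ⟨a, c, nonZeroDivisors.ne_zero c.2, ?_⟩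
    apply Subtype.ext
    exact h

end intClosure

section local_

variable {A B : Type u} [CommRing A] [CommRing B] [IsDomain A] [IsDomain B] [IsIntegrallyClosed B]
  {φ : A →+* B} (hφ : IsFracExt φ) (hφi : φ.IsIntegral) (p : Ideal A) [p.IsPrime]

include hφ hφi in
theorem exists_beta : ∃ β : B →+* CAlg2.normRed (Localization.AtPrime p),
    β.comp φ = (NormRedDom.iota (Localization.AtPrime p)).comp
      (algebraMap A (Localization.AtPrime p)) :=
  NormLocal.exists_beta p hφ hφi (NormRedDom.iota_isFracExt _)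

variable {β : B →+* CAlg2.normRed (Localization.AtPrime p)}
  (hβ : β.comp φ = (NormRedDom.iota (Localization.AtPrime p)).comp
      (algebraMap A (Localization.AtPrime p)))

include hφ hφi hβ in
theorem exists_max_over (Q : Ideal B) [Q.IsPrime] (hQ : Q.comap φ = p) :
    ∃ m' : Ideal (CAlg2.normRed (Localization.AtPrime p)), m'.IsMaximal ∧ m'.comap β = Q ∧
      ∀ m'' : Ideal (CAlg2.normRed (Localization.AtPrime p)), m''.IsMaximal →
        m''.comap β = Q → m'' = m' := by
  haveI : IsDomain (Localization.AtPrime Q) :=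
    IsLocalization.isDomain_localization Q.primeCompl_le_nonZeroDivisors
  haveI : IsIntegrallyClosed (Localization.AtPrime Q) :=
    isIntegrallyClosed_of_isLocalization _ Q.primeCompl Q.primeCompl_le_nonZeroDivisors
  have hψ : (Localization.localRingHom p Q φ hQ.symm).comp
      (algebraMap A (Localization.AtPrime p)) =
      (algebraMap B (Localization.AtPrime Q)).comp φ := by
    ext a
    exact Localization.localRingHom_to_map p Q φ hQ.symm a
  have hι := NormRedDom.iota_isFracExt (Localization.AtPrime p)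
  have hιi := NormRedDom.iota_isIntegral (Localization.AtPrime p)
  obtain ⟨χ, hχ⟩ := NormLocal.exists_chi p hφ hι hιi Q hψ
  refine ⟨NormLocal.theta χ, NormLocal.theta_isMaximal p hιi Q hψ hχ hQ,
    NormLocal.comap_beta_theta p hφ hβ Q hψ hχ, ?_⟩
  intro m'' hm'' hm''Q
  haveI := hm''
  exact (NormLocal.theta_eq_of_comap_eq p hφ hι hιi hβ Q hψ hχ hQ m'' hm''Q).symm

include hφ hφi hβ in
theorem eq_of_isGeomUnibranch (hgu : CAlg2.IsGeomUnibranch (Localization.AtPrime p))
    {K : Type u} [Field K] (g₁ g₂ : B →+* K) (h12 : g₁.comp φ = g₂.comp φ)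
    (hp : RingHom.ker (g₁.comp φ) = p) : g₁ = g₂ := by
  haveI hloc : IsLocalRing (CAlg2.normRed (Localization.AtPrime p)) := hgu.1.2
  have hQ₁ : (RingHom.ker g₁).comap φ = p := by rw [← hp]; rfl
  have hQ₂ : (RingHom.ker g₂).comap φ = p := by rw [← hp, h12]; rfl
  haveI : (RingHom.ker g₁).IsPrime := RingHom.ker_isPrime g₁
  haveI : (RingHom.ker g₂).IsPrime := RingHom.ker_isPrime g₂
  obtain ⟨m₁, hm₁, hc₁, -⟩ := exists_max_over hφ hφi p hβ (RingHom.ker g₁) hQ₁
  obtain ⟨m₂, hm₂, hc₂, -⟩ := exists_max_over hφ hφi p hβ (RingHom.ker g₂) hQ₂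
  have hm12 : m₁ = m₂ := by
    rw [IsLocalRing.eq_maximalIdeal hm₁, IsLocalRing.eq_maximalIdeal hm₂]
  subst hm12
  haveI := hm₁
  have hpow := hgu.2 m₁
  refine eq_of_pow_mem (L := CAlg2.normRed (Localization.AtPrime p) ⧸ m₁) p φ
    (algebraMap A (Localization.AtPrime p))
    (NormRedDom.iota (Localization.AtPrime p)) β (Ideal.Quotient.mk m₁) hβ ?_ g₁ g₂ h12 ?_ ?_ ?_ hpow
  · intro r
    obtain ⟨⟨a, s⟩, hs⟩ := IsLocalization.surj p.primeCompl r
    exact ⟨a, s, s.2, hs⟩
  · intro s hs h0
    apply hs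
    rw [← hp]
    exact h0
  · intro b
    rw [Ideal.Quotient.eq_zero_iff_mem, ← Ideal.mem_comap, hc₁]
    exact Iff.rfl
  · intro b hb
    rw [Ideal.Quotient.eq_zero_iff_mem, ← Ideal.mem_comap, hc₂] at hb
    exact hb

include hφ hφi hβ in
theorem isLocalRing_of_injective
    (hinj : ∀ Q₁ Q₂ : Ideal B, Q₁.IsPrime → Q₂.IsPrime → Q₁.comap φ = p → Q₂.comap φ = p →
      Q₁ = Q₂) : IsLocalRing (CAlg2.normRed (Localization.AtPrime p)) := by
  have hι := NormRedDom.iota_isFracExt (Localization.AtPrime p)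
  have hιi := NormRedDom.iota_isIntegral (Localization.AtPrime p)
  obtain ⟨m, hm⟩ := Ideal.exists_maximal (CAlg2.normRed (Localization.AtPrime p))
  apply IsLocalRing.of_unique_max_ideal
  refine ⟨m, hm, ?_⟩
  intro m₂ hm₂
  haveI := hm
  haveI := hm₂
  haveI : (m.comap β).IsPrime := Ideal.comap_isPrime β _
  haveI : (m₂.comap β).IsPrime := Ideal.comap_isPrime β _
  have h1 := NormLocal.comap_phi_comap_beta p hι hιi hβ m
  have h2 := NormLocal.comap_phi_comap_beta p hι hιi hβ m₂
  have h3 := hinj (m.comap β) (m₂.comap β) inferInstance inferInstance h1 h2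
  obtain ⟨m', -, -, huniq⟩ := exists_max_over hφ hφi p hβ (m.comap β) h1
  rw [huniq m hm rfl, huniq m₂ hm₂ h3.symm]

include hφ hφi hβ in
theorem isGeomUnibranch_of
    (hinj : ∀ Q₁ Q₂ : Ideal B, Q₁.IsPrime → Q₂.IsPrime → Q₁.comap φ = p → Q₂.comap φ = p →
      Q₁ = Q₂)
    (huniv : ∀ (K : Type u) [Field K] (g₁ g₂ : B →+* K), g₁.comp φ = g₂.comp φ → g₁ = g₂) :
    CAlg2.IsGeomUnibranch (Localization.AtPrime p) := by
  have hι := NormRedDom.iota_isFracExt (Localization.AtPrime p)
  have hιi := NormRedDom.iota_isIntegral (Localization.AtPrime p)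
  refine ⟨⟨inferInstance, isLocalRing_of_injective hφ hφi p hβ hinj⟩, ?_⟩
  intro m' hm'
  refine @pow_mem_of_univ A B (Localization.AtPrime p) (CAlg2.normRed (Localization.AtPrime p))
    (CAlg2.normRed (Localization.AtPrime p) ⧸ m') _ _ _ _ (Ideal.Quotient.field m') _ p φ
    (algebraMap A (Localization.AtPrime p))
    (NormRedDom.iota (Localization.AtPrime p)) β (Ideal.Quotient.mk m')
    Ideal.Quotient.mk_surjective hβ ?_ ?_ ?_ huniv
  · intro r'
    obtain ⟨s, hs, b, hb⟩ := NormLocal.exists_mul_mem_range p hφ hι hιi hβ r'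
    exact ⟨s, hs, b, hb⟩
  · intro r hr
    rw [Ideal.Quotient.eq_zero_iff_mem, ← Ideal.mem_comap]
    haveI := Ideal.isMaximal_comap_of_isIntegral_of_isMaximal'
      (NormRedDom.iota (Localization.AtPrime p)) hιi m'
    rw [IsLocalRing.eq_maximalIdeal (inferInstance :
      (m'.comap (NormRedDom.iota (Localization.AtPrime p))).IsMaximal)]
    exact hr
  · intro s hs
    exact IsLocalization.map_units (Localization.AtPrime p) (⟨s, hs⟩ : p.primeCompl)

end local_

end NormAff

end Groth.Agent.Lib.Helper38
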