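import Mathlib
import Groth.Agent.Lib.Helper38.KrullAkizuki

/-!
# Krull–Akizuki for subrings of a field, and domination by discrete valuation rings
-/

set_option autoImplicit false

universe u

namespace Groth.Agent.Lib.Helper38

namespace KrullAkizuki

/-- Krull–Akizuki with ring homomorphisms `A → B → K`. -/
theorem of_ringHom {A B K : Type*} [CommRing A] [IsDomain A] [IsNoetherianRing A]
    [Ring.KrullDimLE 1 A] [CommRing B] [Field K] [Algebra A K] [IsFractionRing A K]
    (f : A →+* B) (g : B →+* K) (hg : Function.Injective g)
    (hfg : g.comp f = algebraMap A K) : IsNoetherianRing B ∧ Ring.KrullDimLE 1 B := by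
  haveI : IsDomain B := hg.isDomain g
  letI : Algebra A B := f.toAlgebra
  have hinj : Function.Injective (algebraMap A B) := by
    have h1 : Function.Injective (g.comp f) := by
      rw [hfg]; exact IsFractionRing.injective A K
    exact Function.Injective.of_comp (f := g) h1
  have hfrac : ∀ x : B, ∃ b c : A, c ≠ 0 ∧ x * algebraMap A B c = algebraMap A B b := by
    intro x
    obtain ⟨⟨b, c⟩, hbc⟩ := IsLocalization.surj (nonZeroDivisors A) (g x)
    refine ⟨b, c, nonZeroDivisors.ne_zero c.2, ?_⟩
    apply hg
    rw [map_mul]
    have h1 : g (algebraMap A B (c : A)) = algebraMap A K c := by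
      rw [← hfg]; rfl
    have h2 : g (algebraMap A B b) = algebraMap A K b := by
      rw [← hfg]; rfl
    rw [h1, h2]
    exact hbc
  exact ⟨isNoetherianRing hinj hfrac, krullDimLE_one hinj hfrac⟩

variable {K : Type u} [Field K]

theorem subring_isFractionRing_of_le (A C : Subring K) [IsFractionRing A K] (h : A ≤ C) :
    IsFractionRing C K := by
  apply IsFractionRing.of_field
  intro z
  obtain ⟨x, y, _, hxy⟩ := IsFractionRing.div_surjective (A := A) z
  exact ⟨Subring.inclusion h x, Subring.inclusion h y, hxy.symm⟩

theorem subring_of_le (A C : Subring K) [IsFractionRing A K] [IsNoetherianRing A]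
    [Ring.KrullDimLE 1 A] (h : A ≤ C) : IsNoetherianRing C ∧ Ring.KrullDimLE 1 C :=
  of_ringHom (Subring.inclusion h) C.subtype Subtype.val_injective rfl

/-- A subring of `K` with fraction field `K` which is a field is everything. -/
theorem subring_eq_top_of_isField (C : Subring K) [IsFractionRing C K] (hC : IsField C) :
    C = ⊤ := by
  rw [eq_top_iff]
  intro z _
  obtain ⟨x, y, hy, hxy⟩ := IsFractionRing.div_surjective (A := C) z
  have hy0 : y ≠ 0 := nonZeroDivisors.ne_zero hy
  obtain ⟨w, hw⟩ := hC.mul_inv_cancel hy0
  have h1 : (y : K) * (w : K) = 1 := by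
    have := congrArg (fun c : C => (c : K)) hw
    simpa using this
  have hy0' : (y : K) ≠ 0 := fun h => hy0 (Subtype.ext h)
  have h2 : (w : K) = (y : K)⁻¹ := by
    field_simp
    rw [mul_comm]; exact h1
  have h3 : z = (x : K) * (w : K) := by
    rw [← hxy, h2, div_eq_mul_inv]; rfl
  rw [h3]
  exact C.mul_mem x.2 w.2

/-- A Noetherian domain of dimension `≤ 1` which is not a field, inside its fraction field, is
contained in a discrete valuation ring of the fraction field. -/
theorem exists_dvr_of_ne_top (C : Subring K) [IsFractionRing C K] [IsNoetherianRing C]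
    [Ring.KrullDimLE 1 C] (hC : C ≠ ⊤) :
    ∃ O : ValuationSubring K, IsDiscreteValuationRing O ∧ C ≤ O.toSubring := by
  let S := integralClosure C K
  haveI : IsFractionRing S K := integralClosure.isFractionRing_of_finite_extension K K
  haveI : IsIntegrallyClosed S := integralClosure.isIntegrallyClosedOfFiniteExtension K
  obtain ⟨hN, hD⟩ := of_ringHom (A := C) (algebraMap C S) (algebraMap S K)
    (FaithfulSMul.algebraMap_injective S K) rfl
  haveI := hN
  haveI : Ring.DimensionLEOne S :=
    ⟨fun {p} hp hp' => (Ring.krullDimLE_one_iff_of_noZeroDivisors.mp hD) p hp hp'⟩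
  haveI : IsDedekindDomain S := { }
  have hSf : ¬ IsField S := by
    intro hS
    have hinj : Function.Injective (algebraMap C S) := by
      intro x y hxy
      have := congrArg (algebraMap S K) hxy
      rw [← IsScalarTower.algebraMap_apply, ← IsScalarTower.algebraMap_apply] at this
      exact IsFractionRing.injective C K this
    exact hC (subring_eq_top_of_isField C (isField_of_isIntegral_of_isField hinj hS))
  obtain ⟨M, hM⟩ := Ideal.exists_maximal S
  have hM0 : M ≠ ⊥ := Ring.ne_bot_of_isMaximal_of_not_isField hM hSf
  let v : IsDedekindDomain.HeightOneSpectrum S := ⟨M, hM.isPrime, hM0⟩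
  refine ⟨(v.valuation K).valuationSubring, ?_, ?_⟩
  · exact (v.valuation K).valuationSubring_isDiscreteValuationRing
  · intro x hx
    have h1 : (algebraMap C S ⟨x, hx⟩ : K) = x := rfl
    have := v.valuation_le_one (K := K) (algebraMap C S ⟨x, hx⟩)
    show v.valuation K x ≤ 1
    exact this

end KrullAkizuki

end Groth.Agent.Lib.Helper38
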