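import Mathlib.RingTheory.KrullDimension.Basic
import Mathlib.RingTheory.Finiteness.Ideal
import Mathlib.RingTheory.Ideal.MinimalPrime.Basic
import Mathlib.RingTheory.LocalRing.MaximalIdeal.Basic
import Mathlib.RingTheory.Noetherian.Basic
import Mathlib.Algebra.Ring.GeomSum

set_option autoImplicit false
universe u

namespace Groth.Agent.Lib.Helper38

open IsLocalRing

/-- In a Noetherian local ring of dimension at most one, an ideal not contained in any minimal
prime contains a power of the maximal ideal. -/
theorem exists_pow_maximalIdeal_le {A : Type u} [CommRing A] [IsLocalRing A] [IsNoetherianRing A]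
    (hdim : ringKrullDim A ≤ 1) (J : Ideal A) (hJ : ∀ p ∈ minimalPrimes A, ¬ J ≤ p) :
    ∃ N : ℕ, maximalIdeal A ^ N ≤ J := by
  have hK : Ring.KrullDimLE 1 A := (Ring.krullDimLE_iff).mpr hdim
  have hrad : maximalIdeal A ≤ J.radical := by
    rw [Ideal.radical_eq_sInf]
    refine le_sInf ?_
    rintro q ⟨hJq, hq⟩
    rcases Ring.krullDimLE_one_iff.mp hK q hq with hmin | hmax
    · exact absurd hJq (hJ q hmin)
    · rw [IsLocalRing.eq_maximalIdeal hmax]
  obtain ⟨N, hN⟩ := J.exists_radical_pow_le_of_fg (IsNoetherian.noetherian _)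
  exact ⟨N, (Ideal.pow_right_mono hrad N).trans hN⟩

end Groth.Agent.Lib.Helper38
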