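import Groth.Prelude.Def_Found
import Groth.Agent.Lib.Helper13.NormalRing
import Groth.Agent.Lib.Helper38.Dim1
import Mathlib.RingTheory.Ideal.MinimalPrime.Noetherian
import Mathlib.RingTheory.Ideal.MinimalPrime.Localization
import Mathlib.RingTheory.Localization.FractionRing
import Mathlib.RingTheory.IntegralClosure.IsIntegralClosure.Basic
import Mathlib.RingTheory.Length
import Mathlib.RingTheory.FiniteLength
import Mathlib.RingTheory.HopkinsLevitzki
import Mathlib.RingTheory.Artinian.Ring
import Mathlib.RingTheory.KrullDimension.Zero

/-! Integral closure of a reduced Nagata ring in its total ring of fractions (helper38). -/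

set_option autoImplicit false

namespace Groth.Agent.Lib.Helper38

universe u

open scoped nonZeroDivisors

section ToFrac

variable (A : Type u) [CommRing A]

/-- For a minimal prime `p`, the canonical `A`-algebra map from the total ring of fractions of `A`
to the fraction field of `A ⧸ p`. -/
noncomputable def toFracQuot (p : Ideal A) [p.IsPrime] (hp : p ∈ minimalPrimes A) :
    FractionRing A →ₐ[A] FractionRing (A ⧸ p) :=
  IsLocalization.liftAlgHom (M := nonZeroDivisors A) (f := Algebra.ofId A (FractionRing (A ⧸ p)))
    (by
      intro s
      have hs : (s : A) ∉ p := fun h =>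
        Set.disjoint_left.mp (Ideal.disjoint_nonZeroDivisors_of_mem_minimalPrimes hp) h s.2
      have h1 : Ideal.Quotient.mk p (s : A) ≠ 0 := by
        rwa [Ne, Ideal.Quotient.eq_zero_iff_mem]
      have h2 : algebraMap (A ⧸ p) (FractionRing (A ⧸ p)) (Ideal.Quotient.mk p (s : A)) ≠ 0 := by
        rwa [Ne, IsFractionRing.to_map_eq_zero_iff]
      have h3 : (Algebra.ofId A (FractionRing (A ⧸ p))) (s : A) =
          algebraMap (A ⧸ p) (FractionRing (A ⧸ p)) (Ideal.Quotient.mk p (s : A)) := by
        rw [Algebra.ofId_apply, IsScalarTower.algebraMap_apply A (A ⧸ p) (FractionRing (A ⧸ p))]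
        rfl
      rw [h3]
      exact IsUnit.mk0 _ h2)

theorem toFracQuot_algebraMap (p : Ideal A) [p.IsPrime] (hp : p ∈ minimalPrimes A) (a : A) :
    toFracQuot A p hp (algebraMap A (FractionRing A) a) =
      algebraMap (A ⧸ p) (FractionRing (A ⧸ p)) (Ideal.Quotient.mk p a) := by
  rw [AlgHom.commutes, IsScalarTower.algebraMap_apply A (A ⧸ p) (FractionRing (A ⧸ p))]
  rfl

/-- In a reduced ring, an element of the total ring of fractions which dies in all the fraction
fields of the quotients by minimal primes is zero. -/
theorem eq_zero_of_toFracQuot_eq_zero [IsReduced A] (x : FractionRing A)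
    (hx : ∀ (p : Ideal A) (_ : p.IsPrime) (hp : p ∈ minimalPrimes A), toFracQuot A p hp x = 0) :
    x = 0 := by
  obtain ⟨a, s, rfl⟩ := IsLocalization.exists_mk'_eq (nonZeroDivisors A) x
  have ha : a = 0 := by
    apply Groth.Agent.Lib.Helper13.eq_zero_of_forall_mem_minimalPrimes
    intro p hp
    haveI : p.IsPrime := hp.1.1
    have h1 := hx p inferInstance hp
    have h2 : toFracQuot A p hp (algebraMap A (FractionRing A) a) = 0 := by
      rw [← IsLocalization.mk'_spec (FractionRing A) a s, map_mul, h1, zero_mul]
    rw [toFracQuot_algebraMap, IsFractionRing.to_map_eq_zero_iff,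
      Ideal.Quotient.eq_zero_iff_mem] at h2
    exact h2
  rw [ha, IsLocalization.mk'_zero]

end ToFrac

section Finite

variable (A : Type u) [CommRing A] [IsReduced A]

/-- Stacks 035P-type finiteness: for a reduced Nagata ring the integral closure in the total ring
of fractions is a finite module. -/
theorem finite_integralClosure_of_isNagata (hN : CAlg.IsNagata A) :
    Module.Finite A (integralClosure A (FractionRing A)) := by
  classical
  haveI : IsNoetherianRing A := hN.1
  let ι := {p : Ideal A // p ∈ minimalPrimes A}
  haveI : Finite ι := (minimalPrimes.finite_of_isNoetherianRing A).to_subtype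
  haveI hprime : ∀ p : ι, p.1.IsPrime := fun p => p.2.1.1
  let B : ι → Type u := fun p => integralClosure (A ⧸ p.1) (FractionRing (A ⧸ p.1))
  haveI hB1 : ∀ p : ι, Module.Finite (A ⧸ p.1) (B p) := fun p => by
    have h := hN.2 p.1
    exact h (FractionRing (A ⧸ p.1)) inferInstance
  haveI hB2 : ∀ p : ι, Module.Finite A (B p) := fun p => Module.Finite.trans (A ⧸ p.1) (B p)
  have hint : ∀ (x : integralClosure A (FractionRing A)) (p : ι),
      toFracQuot A p.1 p.2 x.1 ∈ integralClosure (A ⧸ p.1) (FractionRing (A ⧸ p.1)) := by
    intro x p
    have h1 : IsIntegral A (toFracQuot A p.1 p.2 x.1) := x.2.map (toFracQuot A p.1 p.2)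
    exact h1.tower_top
  let f : integralClosure A (FractionRing A) →ₗ[A] (∀ p : ι, B p) :=
    { toFun := fun x p => ⟨toFracQuot A p.1 p.2 x.1, hint x p⟩
      map_add' := by
        intro x y
        funext p
        apply Subtype.ext
        simp
      map_smul' := by
        intro a x
        funext p
        apply Subtype.ext
        simp [Algebra.smul_def] }
  apply Module.Finite.of_injective f
  intro x y hxy
  apply Subtype.ext
  rw [← sub_eq_zero]
  apply eq_zero_of_toFracQuot_eq_zero
  intro p _ hp
  have h1 := congrFun hxy ⟨p, hp⟩
  have h2 : toFracQuot A p hp x.1 = toFracQuot A p hp y.1 := congrArg Subtype.val h1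
  rw [map_sub, h2, sub_self]

end Finite

section FracSub

variable {A : Type u} {K : Type u} [CommRing A] [CommRing K] [Algebra A K] [IsFractionRing A K]

/-- Any ring between `A` and its total ring of fractions `K` has `K` as total ring of
fractions. -/
theorem isFractionRing_subalgebra (S : Subalgebra A K) : IsFractionRing S K := by
  have hinj : Function.Injective (algebraMap A K) := IsFractionRing.injective A K
  have hval : ∀ b : S, algebraMap S K b = (b : K) := fun _ => rfl
  -- nonzerodivisors of `A` stay nonzerodivisors in `S`
  have hnzd : ∀ s ∈ nonZeroDivisors A, algebraMap A S s ∈ nonZeroDivisors S := by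
    intro s hs
    rw [mem_nonZeroDivisors_iff_right]
    intro y hy
    have hu : IsUnit (algebraMap A K s) := IsLocalization.map_units K (⟨s, hs⟩ : nonZeroDivisors A)
    have h1 : (y : K) * algebraMap A K s = 0 := by
      have := congrArg (fun z : S => (z : K)) hy
      simpa using this
    have h2 : (y : K) = 0 := by
      rw [← hu.mul_left_eq_zero]
      exact h1
    exact Subtype.ext h2
  rw [IsFractionRing, isLocalization_iff]
  refine ⟨?_, ?_, ?_⟩
  · rintro ⟨b, hb⟩
    obtain ⟨⟨a, s⟩, has⟩ := IsLocalization.surj (nonZeroDivisors A) (b : K)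
    -- `b * s = a` in `K`
    have hu : IsUnit (algebraMap A K s) := IsLocalization.map_units K s
    have ha : a ∈ nonZeroDivisors A := by
      rw [mem_nonZeroDivisors_iff_right]
      intro y hy
      have h1 : (algebraMap A S y) * (b * algebraMap A S s) = 0 := by
        apply Subtype.ext
        have : ((algebraMap A S y) * (b * algebraMap A S s) : S) =
            ((algebraMap A K y) * ((b : K) * algebraMap A K s) : K) := rfl
        rw [this, has, ← map_mul, hy, map_zero]
        rfl
      have h2 : b * algebraMap A S s ∈ nonZeroDivisors S := mul_mem hb (hnzd s s.2)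
      have h3 : algebraMap A S y = 0 := (mem_nonZeroDivisors_iff_right.mp h2) _ h1
      have h4 : algebraMap A K y = 0 := by
        have := congrArg (fun z : S => (z : K)) h3
        simpa using this
      exact hinj (by rw [h4, map_zero])
    have hua : IsUnit (algebraMap A K a) := IsLocalization.map_units K (⟨a, ha⟩ : nonZeroDivisors A)
    rw [hval]
    have : IsUnit ((b : K) * algebraMap A K s) := by rw [has]; exact hua
    exact (IsUnit.mul_iff.mp this).1
  · intro z
    obtain ⟨⟨a, s⟩, has⟩ := IsLocalization.surj (nonZeroDivisors A) z
    refine ⟨⟨algebraMap A S a, ⟨algebraMap A S s, hnzd s s.2⟩⟩, ?_⟩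
    exact has
  · intro x y hxy
    refine ⟨1, ?_⟩
    have : x = y := Subtype.ext hxy
    rw [this]

end FracSub

section Normal

variable (A : Type u) [CommRing A] [IsReduced A] [IsNoetherianRing A]

/-- If the integral closure `A'` of the reduced Noetherian ring `A` in its total ring of fractions
is finite over `A`, then `A'` is a normal ring. -/
theorem isNormalRing_integralClosure
    (hfin : Module.Finite A (integralClosure A (FractionRing A))) :
    EGA4.IsNormalRing (integralClosure A (FractionRing A)) := by
  haveI : IsFractionRing (integralClosure A (FractionRing A)) (FractionRing A) :=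
    isFractionRing_subalgebra _
  haveI : IsReduced (integralClosure A (FractionRing A)) :=
    isReduced_of_injective (algebraMap (integralClosure A (FractionRing A)) (FractionRing A))
      Subtype.val_injective
  haveI : IsNoetherianRing (integralClosure A (FractionRing A)) :=
    IsNoetherianRing.of_finite A _
  apply Groth.Agent.Lib.Helper13.isNormalRing_of_isIntegrallyClosedIn
    (minimalPrimes.finite_of_isNoetherianRing (integralClosure A (FractionRing A)))
    (FractionRing A)
  intro x hx
  have h : IsIntegral A x := isIntegral_trans x hx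
  exact ⟨⟨x, h⟩, rfl⟩

end Normal

section FinLength

open IsLocalRing

/-- Over a Noetherian local ring of dimension at most one, a finite module killed by a
nonzerodivisor has finite length. -/
theorem isFiniteLength_of_nonZeroDivisor_smul {A : Type u} {M : Type*} [CommRing A] [IsLocalRing A]
    [IsNoetherianRing A] (hdim : ringKrullDim A ≤ 1) [AddCommGroup M] [Module A M]
    [Module.Finite A M] (s : A) (hs : s ∈ nonZeroDivisors A) (h : ∀ m : M, s • m = 0) :
    IsFiniteLength A M := by
  by_cases hu : IsUnit s
  · haveI : Subsingleton M := by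
      refine ⟨fun x y => ?_⟩
      obtain ⟨u, rfl⟩ := hu
      have hx : x = 0 := by rw [← one_smul A x, ← u.inv_mul, mul_smul, h, smul_zero]
      have hy : y = 0 := by rw [← one_smul A y, ← u.inv_mul, mul_smul, h, smul_zero]
      rw [hx, hy]
    exact IsFiniteLength.of_subsingleton
  have hsm : s ∈ maximalIdeal A := by rwa [mem_maximalIdeal, mem_nonunits_iff]
  have hK : Ring.KrullDimLE 1 A := (Ring.krullDimLE_iff).mpr hdim
  have hmin : maximalIdeal A ∈ (Ideal.span {s}).minimalPrimes := by
    refine ⟨⟨inferInstance, ?_⟩, ?_⟩
    · rw [Ideal.span_le]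
      simpa using hsm
    · rintro q ⟨hq, hsq⟩ _
      rcases Ring.krullDimLE_one_iff.mp hK q hq with hqmin | hqmax
      · exfalso
        have hsq' : s ∈ q := hsq (Ideal.subset_span (Set.mem_singleton s))
        exact Set.disjoint_left.mp (Ideal.disjoint_nonZeroDivisors_of_mem_minimalPrimes hqmin)
          hsq' hs
      · rw [IsLocalRing.eq_maximalIdeal hqmax]
  haveI : IsArtinianRing (A ⧸ Ideal.span {s}) :=
    IsLocalRing.quotient_artinian_of_mem_minimalPrimes_of_isLocalRing _ hmin
  have htors : Module.IsTorsionBy A M s := fun m => h m
  letI : Module (A ⧸ Ideal.span {s}) M := htors.module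
  haveI : IsScalarTower A (A ⧸ Ideal.span {s}) M :=
    Module.IsTorsionBySet.isScalarTower _
  haveI : Module.Finite (A ⧸ Ideal.span {s}) M :=
    Module.Finite.of_restrictScalars_finite A (A ⧸ Ideal.span {s}) M
  have hart : IsArtinian (A ⧸ Ideal.span {s}) M :=
    ((IsArtinianRing.tfae (A ⧸ Ideal.span {s}) M).out 0 2).mp ‹_›
  rw [isFiniteLength_iff_isNoetherian_isArtinian]
  refine ⟨inferInstance, ?_⟩
  exact isArtinian_of_surjective_algebraMap (S := A) (R := A ⧸ Ideal.span {s})
    Ideal.Quotient.mk_surjective

end FinLength

section Conductor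

variable {A : Type u} {K : Type u} [CommRing A] [CommRing K] [Algebra A K] [IsFractionRing A K]

/-- A subalgebra of the total ring of fractions which is a finite module is carried into the
image of `A` by multiplication with a suitable nonzerodivisor. -/
theorem exists_nonZeroDivisor_smul_mem_range (S : Subalgebra A K) [hfin : Module.Finite A S] :
    ∃ s ∈ nonZeroDivisors A, ∀ x : S, s • x ∈ LinearMap.range (Algebra.linearMap A S) := by
  classical
  obtain ⟨G, hG⟩ := hfin.fg_top
  obtain ⟨b, hb⟩ := IsLocalization.exist_integer_multiples_of_finset (nonZeroDivisors A)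
    (G.image (fun x : S => (x : K)))
  refine ⟨b, b.2, ?_⟩
  intro x
  have hx : x ∈ Submodule.span A (G : Set S) := by rw [hG]; trivial
  induction hx using Submodule.span_induction with
  | mem y hy =>
    obtain ⟨a, ha⟩ := hb (y : K) (Finset.mem_image_of_mem _ hy)
    refine ⟨a, Subtype.ext ?_⟩
    simpa using ha
  | zero => simp
  | add y z _ _ hy hz => rw [smul_add]; exact add_mem hy hz
  | smul c y _ hy => rw [smul_comm]; exact Submodule.smul_mem _ c hy

/-- Over a Noetherian local ring of dimension at most one, the quotient of a finite subalgebra of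
the total ring of fractions by the image of `A` has finite length. -/
theorem isFiniteLength_quotient_range [IsLocalRing A] [IsNoetherianRing A]
    (hdim : ringKrullDim A ≤ 1) (S : Subalgebra A K) [Module.Finite A S] :
    IsFiniteLength A (S ⧸ LinearMap.range (Algebra.linearMap A S)) := by
  obtain ⟨s, hs, h⟩ := exists_nonZeroDivisor_smul_mem_range S
  apply isFiniteLength_of_nonZeroDivisor_smul hdim s hs
  intro m
  obtain ⟨x, rfl⟩ := Submodule.Quotient.mk_surjective _ m
  rw [← Submodule.Quotient.mk_smul, Submodule.Quotient.mk_eq_zero]
  exact h x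

end Conductor

end Groth.Agent.Lib.Helper38
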