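import Mathlib

/-!
# Pushforward of sheaves of sets along a closed embedding (helper38)
-/

set_option autoImplicit false
universe u
open CategoryTheory TopologicalSpace Opposite

namespace Groth.Agent.Lib.Helper38.ShCl

variable {Z X : TopCat.{u}} (i : Z ⟶ X) (hi : Topology.IsClosedEmbedding i)

/-- The largest open of `X` with preimage `W`. -/
def vOf (W : Opens Z) : Opens X :=
  ⟨(i '' (W : Set Z)ᶜ)ᶜ, (hi.isClosedMap _ W.isOpen.isClosed_compl).isOpen_compl⟩

theorem vOf_mono {W W' : Opens Z} (h : W ≤ W') : vOf i hi W ≤ vOf i hi W' := by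
  intro x hx
  change x ∉ i '' (W' : Set Z)ᶜ
  rintro ⟨z, hz, rfl⟩
  exact hx ⟨z, fun hzW => hz (h hzW), rfl⟩

theorem map_vOf (W : Opens Z) : (Opens.map i).obj (vOf i hi W) = W := by
  ext z
  change i z ∉ i '' (W : Set Z)ᶜ ↔ z ∈ W
  constructor
  · intro h
    by_contra hz
    exact h ⟨z, hz, rfl⟩
  · rintro hz ⟨z', hz', he⟩
    exact hz' (hi.injective he ▸ hz)

theorem le_vOf_map (V : Opens X) : V ≤ vOf i hi ((Opens.map i).obj V) := by
  rintro x hx ⟨z, hz, rfl⟩
  exact hz hx

/-- `vOf` as a functor. -/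
def vFun : Opens Z ⥤ Opens X where
  obj := vOf i hi
  map h := homOfLE (vOf_mono i hi (leOfHom h))

/-- `vFun ⋙ Opens.map i ≅ 𝟭`. -/
def vIso : vFun i hi ⋙ Opens.map i ≅ 𝟭 (Opens Z) :=
  NatIso.ofComponents (fun W => eqToIso (map_vOf i hi W)) (fun _ => Subsingleton.elim _ _)


section FullyFaithful

variable {C : Type*} [Category C]

theorem map_endo_eq_id (P : (Opens Z)ᵒᵖ ⥤ C) {A : (Opens Z)ᵒᵖ} (f : A ⟶ A) : P.map f = 𝟙 _ := by
  rw [Subsingleton.elim f (𝟙 A), P.map_id]

theorem map_eq_of_parallel (P : (Opens Z)ᵒᵖ ⥤ C) {A B : (Opens Z)ᵒᵖ} (f g : A ⟶ B) :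
    P.map f = P.map g := by
  rw [Subsingleton.elim f g]

/-- Preimage of a natural transformation between pushforward presheaves. -/
def preimageNat {P Q : (Opens Z)ᵒᵖ ⥤ C}
    (φ : (Opens.map i).op ⋙ P ⟶ (Opens.map i).op ⋙ Q) : P ⟶ Q where
  app W :=
    P.map (eqToHom (map_vOf i hi W.unop)).op ≫ φ.app (op (vOf i hi W.unop)) ≫
      Q.map (eqToHom (map_vOf i hi W.unop).symm).op
  naturality := by
    intro W W' h
    have hle : W'.unop ≤ W.unop := leOfHom h.unop
    have hv : vOf i hi W'.unop ≤ vOf i hi W.unop := vOf_mono i hi hle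
    have hnat : P.map ((Opens.map i).map (homOfLE hv)).op ≫ φ.app (op (vOf i hi W'.unop)) =
        φ.app (op (vOf i hi W.unop)) ≫ Q.map ((Opens.map i).map (homOfLE hv)).op :=
      φ.naturality (homOfLE hv).op
    simp only [Category.assoc]
    have e1 : P.map h ≫ P.map (eqToHom (map_vOf i hi W'.unop)).op =
        P.map (eqToHom (map_vOf i hi W.unop)).op ≫
          P.map ((Opens.map i).map (homOfLE hv)).op := by
      rw [← P.map_comp, ← P.map_comp]
      exact map_eq_of_parallel P _ _
    have e2 : Q.map (eqToHom (map_vOf i hi W.unop).symm).op ≫ Q.map h =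
        Q.map ((Opens.map i).map (homOfLE hv)).op ≫
          Q.map (eqToHom (map_vOf i hi W'.unop).symm).op := by
      rw [← Q.map_comp, ← Q.map_comp]
      exact map_eq_of_parallel Q _ _
    rw [reassoc_of% e1, e2, reassoc_of% hnat]

theorem preimageNat_app {P Q : (Opens Z)ᵒᵖ ⥤ C}
    (φ : (Opens.map i).op ⋙ P ⟶ (Opens.map i).op ⋙ Q) (W : Opens Z) :
    (preimageNat i hi φ).app (op W) =
      P.map (eqToHom (map_vOf i hi W)).op ≫ φ.app (op (vOf i hi W)) ≫
        Q.map (eqToHom (map_vOf i hi W).symm).op := rfl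

theorem whiskerLeft_preimageNat {P Q : (Opens Z)ᵒᵖ ⥤ C}
    (φ : (Opens.map i).op ⋙ P ⟶ (Opens.map i).op ⋙ Q) :
    Functor.whiskerLeft (Opens.map i).op (preimageNat i hi φ) = φ := by
  ext V
  induction V using Opposite.rec with | op V => ?_
  have hle : V ≤ vOf i hi ((Opens.map i).obj V) := le_vOf_map i hi V
  have hnat : P.map ((Opens.map i).map (homOfLE hle)).op ≫ φ.app (op V) =
      φ.app (op (vOf i hi ((Opens.map i).obj V))) ≫ Q.map ((Opens.map i).map (homOfLE hle)).op :=
    φ.naturality (homOfLE hle).op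
  change (preimageNat i hi φ).app (op ((Opens.map i).obj V)) = φ.app (op V)
  rw [preimageNat_app]
  have e2 : Q.map (eqToHom (map_vOf i hi ((Opens.map i).obj V)).symm).op =
      Q.map ((Opens.map i).map (homOfLE hle)).op := map_eq_of_parallel Q _ _
  rw [e2, ← hnat, ← Category.assoc, ← P.map_comp, map_endo_eq_id, Category.id_comp]

theorem preimageNat_whiskerLeft {P Q : (Opens Z)ᵒᵖ ⥤ C} (ψ : P ⟶ Q) :
    preimageNat i hi (Functor.whiskerLeft (Opens.map i).op ψ) = ψ := by
  ext W
  induction W using Opposite.rec with | op W => ?_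
  rw [preimageNat_app]
  change P.map (eqToHom _).op ≫ ψ.app (op ((Opens.map i).obj (vOf i hi W))) ≫
      Q.map (eqToHom _).op = ψ.app (op W)
  rw [← ψ.naturality, ← Category.assoc, ← P.map_comp, map_endo_eq_id, Category.id_comp]

end FullyFaithful


section Sheaves

variable {C : Type*} [Category C]

theorem pushforward_map_hom {F G : Z.Sheaf C} (ψ : F ⟶ G) :
    ((TopCat.Sheaf.pushforward C i).map ψ).hom =
      Functor.whiskerLeft (Opens.map i).op ψ.hom := rfl

include hi in
theorem full_pushforward : (TopCat.Sheaf.pushforward C i).Full where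
  map_surjective := by
    intro F G φ
    refine ⟨ObjectProperty.homMk (preimageNat i hi φ.hom), ?_⟩
    apply ObjectProperty.hom_ext
    rw [pushforward_map_hom]
    exact whiskerLeft_preimageNat i hi φ.hom

include hi in
theorem faithful_pushforward : (TopCat.Sheaf.pushforward C i).Faithful where
  map_injective := by
    intro F G ψ₁ ψ₂ h
    apply ObjectProperty.hom_ext
    have h' : Functor.whiskerLeft (Opens.map i).op ψ₁.hom =
        Functor.whiskerLeft (Opens.map i).op ψ₂.hom := by
      rw [← pushforward_map_hom, ← pushforward_map_hom, h]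
    rw [← preimageNat_whiskerLeft i hi ψ₁.hom, ← preimageNat_whiskerLeft i hi ψ₂.hom, h']

end Sheaves

section Stalks

/-- If all sections over small opens around `x` are unique, the stalk at `x` is a singleton. -/
theorem stalk_unique_of_sections (P : X.Presheaf (Type u)) (x : X) (U : Opens X) (hx : x ∈ U)
    (h : ∀ V : Opens X, V ≤ U → Nonempty (Unique (P.obj (op V)))) :
    Nonempty (Unique (P.stalk x)) := by
  obtain ⟨uU⟩ := h U le_rfl
  refine ⟨⟨⟨P.germ U x hx uU.default⟩, ?_⟩⟩
  intro s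
  obtain ⟨V, hxV, t, rfl⟩ := TopCat.Presheaf.exists_germ_eq P s
  obtain ⟨uW⟩ := h (V ⊓ U) inf_le_right
  exact TopCat.Presheaf.germ_ext P (V ⊓ U) ⟨hxV, hx⟩ (homOfLE inf_le_left) (homOfLE inf_le_right)
    (uW.uniq _ |>.trans (uW.uniq _).symm)

/-- The open complement of the range of a closed embedding. -/
def compl : Opens X := ⟨(Set.range i)ᶜ, hi.isClosed_range.isOpen_compl⟩

theorem map_eq_bot_of_le_compl (V : Opens X) (hV : V ≤ compl i hi) :
    (Opens.map i).obj V = ⊥ := by
  ext z
  simp only [Opens.coe_bot, Set.mem_empty_iff_false, iff_false]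
  intro hz
  exact hV hz ⟨z, rfl⟩

include hi in
theorem stalk_pushforward_unique (F : Z.Sheaf (Type u)) (x : X) (hx : x ∉ Set.range i) :
    Nonempty (Unique (((TopCat.Sheaf.pushforward (Type u) i).obj F).presheaf.stalk x)) := by
  refine stalk_unique_of_sections _ x (compl i hi) hx ?_
  intro V hV
  have ht : Limits.IsTerminal (F.obj.obj (op ((Opens.map i).obj V))) :=
    F.isTerminalOfEqEmpty (map_eq_bot_of_le_compl i hi V hV)
  exact ⟨Limits.Types.isTerminalEquivUnique _ ht⟩

end Stalks

end Groth.Agent.Lib.Helper38.ShCl
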