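import Groth.Agent.Lib.Helper17.Segre

set_option autoImplicit false
set_option linter.unusedSectionVars false
universe u
open AlgebraicGeometry CategoryTheory Limits TopologicalSpace Opposite

namespace Groth.Agent.Lib.Helper38.ChowAffine

open Groth.Agent.Lib.Helper11 Groth.Agent.Lib.Helper11.GenLocus Groth.Agent.Lib.Helper45
  Groth.Agent.Lib.Helper49 Groth.Agent.Lib.Helper17.UPCoef Groth.Agent.Lib.Helper17.UPGen

variable {X : Scheme.{u}}

theorem resT_toO (W : X.Opens) (b : Γ(X, ⊤)) :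
    resT (L := Coh.structureModule X) W (toO ⊤ b) = toO W (fres le_top b) := rfl

theorem isBasisOn_toO_one (V : X.Opens) :
    IsBasisOn (Coh.structureModule X) V (toO V 1) := by
  intro W hW
  have h : (fun r : Γ(X, W) => r • mres (Coh.structureModule X) hW (toO V 1)) =
      fun r => toO W r := by
    funext r
    have h1 : mres (Coh.structureModule X) hW (toO V 1) = toO W (fres hW 1) := rfl
    rw [h1, map_one, toO_smul, mul_one]
  rw [h]
  exact Function.bijective_id

/-- the locus where a function generates the structure module is its basic open. -/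
theorem loc_toO (b : Γ(X, ⊤)) :
    loc (L := Coh.structureModule X) (toO ⊤ b) = X.basicOpen b := by
  have h := genLocus_homOfSection_smul (L := Coh.structureModule X) b (toO ⊤ 1)
    (by
      have : mres (Coh.structureModule X) (X.basicOpen_le b) (toO ⊤ 1) = toO _ 1 := by
        change toO _ (fres _ 1) = _
        rw [map_one]
      rw [this]
      exact isBasisOn_toO_one _)
  have h2 : b • toO ⊤ (1 : Γ(X, ⊤)) = toO ⊤ b := by rw [toO_smul, mul_one]
  rw [h2] at h
  exact h

/-- the ratio `b'/b` on an open inside `D(b)`. -/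
theorem coef_toO_mul (b b' : Γ(X, ⊤)) (W : X.Opens)
    (hW : W ≤ loc (L := Coh.structureModule X) (toO ⊤ b)) :
    fres hW (coef (L := Coh.structureModule X) (toO ⊤ b) (toO ⊤ b')) * fres le_top b =
      fres le_top b' := by
  have h := coef_res (L := Coh.structureModule X) (toO ⊤ b) (toO ⊤ b') hW
  rw [resT_toO, resT_toO, toO_smul] at h
  exact h

theorem coef_mul_of_eq (t t' : Γ(Coh.structureModule X, ⊤)) (b b' : Γ(X, ⊤))
    (ht : t = toO ⊤ b) (ht' : t' = toO ⊤ b') (W : X.Opens) (hW : W ≤ loc t) :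
    fres hW (coef t t') * fres le_top b = fres le_top b' := by
  subst ht
  subst ht'
  exact coef_toO_mul _ _ W hW

theorem exists_finset_closure_eq_top {A B : Type*} [CommRing A] [CommRing B] (φ : A →+* B)
    (h : φ.FiniteType) :
    ∃ G : Finset B, Subring.closure (Set.range φ ∪ (G : Set B)) = ⊤ := by
  letI := φ.toAlgebra
  obtain ⟨G, hG⟩ := (h : Algebra.FiniteType A B).out
  refine ⟨G, ?_⟩
  have h1 := Algebra.adjoin_eq_ring_closure (R := A) (G : Set B)
  rw [hG] at h1
  exact h1.symm.trans Algebra.top_toSubring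

theorem exists_mul_pow_eq (b : Γ(X, ⊤)) [IsAffine X] (z : Γ(X, X.basicOpen b)) :
    ∃ (a : Γ(X, ⊤)) (N : ℕ), z * (fres le_top b) ^ N = fres le_top a := by
  have := (isAffineOpen_top X).isLocalization_basicOpen b
  obtain ⟨⟨a, ⟨_, N, rfl⟩⟩, h⟩ := IsLocalization.surj (Submonoid.powers b) z
  refine ⟨a, N, ?_⟩
  rw [← map_pow]
  exact h

open Classical in
/-- **An affine scheme locally of finite type over `S` admits an immersion into some `P^n_S`.** -/
theorem exists_immersion_of_isAffine {X S : Scheme.{u}} (f : X ⟶ S) [IsAffine X]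
    [LocallyOfFiniteType f] :
    ∃ (n : ℕ) (i : X ⟶ CohB1.ProjSpaceOver n S), IsImmersion i ∧
      i ≫ CohB1.ProjSpaceOver.toBase n S = f := by
  -- local data at each point
  have hpt : ∀ x : X, ∃ (V : S.Opens) (b : Γ(X, ⊤)), IsAffineOpen V ∧ x ∈ X.basicOpen b ∧
      X.basicOpen b ≤ f ⁻¹ᵁ V := by
    intro x
    obtain ⟨_, ⟨V, hV, rfl⟩, hxV, -⟩ :=
      S.isBasis_affineOpens.exists_subset_of_mem_open (Set.mem_univ (f.base x)) isOpen_univ
    obtain ⟨b, hb1, hb2⟩ := (isAffineOpen_top X).exists_basicOpen_le (V := f ⁻¹ᵁ V) ⟨x, hxV⟩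
      trivial
    exact ⟨V, b, hV, hb2, hb1⟩
  choose V b hV hxb hbV using hpt
  obtain ⟨T, hT⟩ := isCompact_univ.elim_finite_subcover (fun x => (X.basicOpen (b x) : Set X))
    (fun x => (X.basicOpen (b x)).2) (fun x _ => Set.mem_iUnion.mpr ⟨x, hxb x⟩)
  have hG : ∀ x : X, ∃ G : Finset Γ(X, X.basicOpen (b x)),
      Subring.closure (Set.range (f.appLE (V x) (X.basicOpen (b x)) (hbV x)).hom ∪
        (G : Set Γ(X, X.basicOpen (b x)))) = ⊤ := fun x =>
    exists_finset_closure_eq_top _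
      (f.finiteType_appLE (hV x) ((isAffineOpen_top X).basicOpen (b x)) (hbV x))
  choose G hG using hG
  have ha : ∀ (x : X) (z : Γ(X, X.basicOpen (b x))), ∃ (a : Γ(X, ⊤)) (N : ℕ),
      z * (fres le_top (b x)) ^ N = fres le_top a := fun x z => exists_mul_pow_eq (b x) z
  choose a N haN using ha
  -- the finite set of functions
  let Φ : Finset Γ(X, ⊤) :=
    insert 1 (T.image b ∪ T.biUnion (fun x => (G x).image (fun z => a x z * b x)))
  have h1Φ : (1 : Γ(X, ⊤)) ∈ Φ := Finset.mem_insert_self _ _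
  have hbΦ : ∀ x ∈ T, b x ∈ Φ := fun x hx =>
    Finset.mem_insert_of_mem (Finset.mem_union_left _ (Finset.mem_image_of_mem b hx))
  have haΦ : ∀ x ∈ T, ∀ z ∈ G x, a x z * b x ∈ Φ := fun x hx z hz =>
    Finset.mem_insert_of_mem (Finset.mem_union_right _
      (Finset.mem_biUnion.mpr ⟨x, hx, Finset.mem_image_of_mem _ hz⟩))
  have hcard : 0 < Fintype.card {φ // φ ∈ Φ} := Fintype.card_pos_iff.mpr ⟨⟨1, h1Φ⟩⟩
  obtain ⟨n, hn⟩ : ∃ n, Fintype.card {φ // φ ∈ Φ} = n + 1 := ⟨_, (Nat.succ_pred_eq_of_pos hcard).symm⟩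
  let e : {φ // φ ∈ Φ} ≃ Fin (n + 1) := Fintype.equivFinOfCardEq hn
  let w : Fin (n + 1) → Γ(Coh.structureModule X, ⊤) := fun c => toO ⊤ (e.symm c).1
  let j : {x // x ∈ T} → Fin (n + 1) := fun k => e ⟨b k.1, hbΦ k.1 k.2⟩
  have hwj : ∀ k : {x // x ∈ T}, w (j k) = toO ⊤ (b k.1) := fun k => by
    change toO ⊤ (e.symm (e ⟨b k.1, hbΦ k.1 k.2⟩)).1 = _
    rw [Equiv.symm_apply_apply]
  have hloc : ∀ k : {x // x ∈ T}, loc (w (j k)) = X.basicOpen (b k.1) := fun k => by
    rw [hwj, loc_toO]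
  have hUeq : ∀ k : {x // x ∈ T},
      X.basicOpen (b k.1) = loc (w (j k)) ⊓ f ⁻¹ᵁ V k.1 := fun k => by
    rw [hloc]
    exact (inf_eq_left.mpr (hbV k.1)).symm
  obtain ⟨i, hi1, hi2, -⟩ := Groth.Agent.Lib.Helper17.Segre.exists_immersion_of_sections_aux f
    (Coh.structureModule X) n w j (fun k => V k.1) (fun k => hV k.1)
    (fun k => X.basicOpen (b k.1)) hUeq
    (fun x => by
      obtain ⟨y, hy, hxy⟩ := Set.mem_iUnion₂.mp (hT (Set.mem_univ x))
      exact ⟨⟨y, hy⟩, hxy⟩)
    (fun k => (isAffineOpen_top X).basicOpen (b k.1))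
    (fun k => by
      set 𝒢 := Subring.closure
        (Set.range (f.appLE (V k.1) (X.basicOpen (b k.1)) ((hUeq k).le.trans inf_le_right)).hom ∪
          Set.range (fun c' => fres ((hUeq k).le.trans inf_le_left) (coef (w (j k)) (w c'))))
        with h𝒢
      -- the ratios
      have hratio : ∀ φ' ∈ Φ, ∃ r ∈ 𝒢, r * fres le_top (b k.1) = fres le_top φ' := by
        intro φ' hφ'
        refine ⟨fres ((hUeq k).le.trans inf_le_left) (coef (w (j k)) (w (e ⟨φ', hφ'⟩))),
          Subring.subset_closure (Or.inr ⟨e ⟨φ', hφ'⟩, rfl⟩), ?_⟩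
        have hw' : w (e ⟨φ', hφ'⟩) = toO ⊤ φ' := by
          change toO ⊤ (e.symm (e ⟨φ', hφ'⟩)).1 = _
          rw [Equiv.symm_apply_apply]
        exact coef_mul_of_eq _ _ (b k.1) φ' (hwj k) hw' _ _
      obtain ⟨β, hβ1, hβ2⟩ := hratio 1 h1Φ
      rw [map_one] at hβ2
      apply top_unique
      rw [← hG k.1, Subring.closure_le]
      rintro z (⟨y, rfl⟩ | hz)
      · exact Subring.subset_closure (Or.inl ⟨y, rfl⟩)
      · obtain ⟨r, hr1, hr2⟩ := hratio _ (haΦ k.1 k.2 z hz)
        have hr3 : r = fres le_top (a k.1 z) := by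
          rw [map_mul] at hr2
          calc r = r * fres le_top (b k.1) * β := by rw [mul_assoc, mul_comm _ β, hβ2, mul_one]
            _ = fres le_top (a k.1 z) := by
              rw [hr2, mul_assoc, mul_comm _ β, hβ2, mul_one]
        have hz2 : z = fres le_top (a k.1 z) * β ^ (N k.1 z) := by
          rw [← haN k.1 z, mul_assoc, ← mul_pow, mul_comm _ β, hβ2, one_pow, mul_one]
        rw [SetLike.mem_coe, hz2, ← hr3]
        exact Subring.mul_mem _ hr1 (Subring.pow_mem _ hβ1 _))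
  exact ⟨n, i, hi1, hi2⟩

end Groth.Agent.Lib.Helper38.ChowAffine
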