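import Mathlib.AlgebraicGeometry.Noetherian
import Mathlib.AlgebraicGeometry.Limits
import Mathlib.Topology.NoetherianSpace

set_option autoImplicit false
universe u
open AlgebraicGeometry CategoryTheory Limits TopologicalSpace Opposite

namespace Groth.Agent.Lib.Helper38.ChowCover

variable (X : Scheme.{u})

/-- a point of a scheme has an affine open neighbourhood inside any given open. -/
theorem exists_affine_nhd {x : X} {W : Set X} (hW : IsOpen W) (hx : x ∈ W) :
    ∃ A : X.Opens, IsAffineOpen A ∧ x ∈ A ∧ (A : Set X) ⊆ W := by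
  obtain ⟨_, ⟨A, hA, rfl⟩, hxA, hAW⟩ :=
    X.isBasis_affineOpens.exists_subset_of_mem_open hx hW
  exact ⟨A, hA, hxA, hAW⟩

open Classical in
/-- **A Noetherian scheme has a finite cover by dense affine opens.** -/
theorem exists_dense_affine_cover [NoetherianSpace X] :
    ∃ l : List X.Opens, (∀ V ∈ l, IsAffineOpen V ∧ Dense (V : Set X)) ∧
      ∀ x : X, ∃ V ∈ l, x ∈ V := by
  have h𝒵 : (irreducibleComponents X).Finite := NoetherianSpace.finite_irreducibleComponents
  -- the open part of a component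
  let W : Set X → Set X := fun Z => (⋃₀ (irreducibleComponents X \ {Z}))ᶜ
  have hWopen : ∀ Z, IsOpen (W Z) := fun Z => by
    change IsOpen (⋃₀ (irreducibleComponents X \ {Z}))ᶜ
    rw [Set.sUnion_eq_biUnion, isOpen_compl_iff]
    exact h𝒵.sdiff.isClosed_biUnion fun T hT => isClosed_of_mem_irreducibleComponents T hT.1
  have hWcl : ∀ Z ∈ irreducibleComponents X, closure (W Z) = Z := fun Z hZ =>
    closure_sUnion_irreducibleComponents_sdiff_singleton h𝒵 Z hZ
  have hWne : ∀ Z ∈ irreducibleComponents X, (W Z).Nonempty := fun Z hZ => by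
    by_contra h
    rw [Set.not_nonempty_iff_eq_empty] at h
    have := hWcl Z hZ
    rw [h, closure_empty] at this
    exact hZ.1.nonempty.ne_empty this.symm
  have hWsub : ∀ Z ∈ irreducibleComponents X, W Z ⊆ Z := fun Z hZ =>
    subset_closure.trans (hWcl Z hZ).le
  have hWdisj : ∀ Z ∈ irreducibleComponents X, ∀ Z' ∈ irreducibleComponents X, Z ≠ Z' →
      Disjoint (W Z) Z' := fun Z hZ Z' hZ' hne => by
    rw [Set.disjoint_left]
    intro x hx hx'
    exact hx (Set.mem_sUnion.mpr ⟨Z', ⟨hZ', fun h => hne (Set.mem_singleton_iff.mp h).symm⟩, hx'⟩)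
  -- affine opens inside
  have hA : ∀ Z : Set X, ∃ A : X.Opens, Z ∈ irreducibleComponents X →
      IsAffineOpen A ∧ (A : Set X).Nonempty ∧ (A : Set X) ⊆ W Z := fun Z => by
    by_cases hZ : Z ∈ irreducibleComponents X
    · obtain ⟨x, hx⟩ := hWne Z hZ
      obtain ⟨A, hA1, hA2, hA3⟩ := exists_affine_nhd X (hWopen Z) hx
      exact ⟨A, fun _ => ⟨hA1, ⟨x, hA2⟩, hA3⟩⟩
    · exact ⟨⊥, fun h => absurd h hZ⟩
  choose A hA using hA
  have hAdisj : ∀ Z ∈ irreducibleComponents X, ∀ Z' ∈ irreducibleComponents X, Z ≠ Z' →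
      Disjoint (A Z) (A Z') := fun Z hZ Z' hZ' hne => by
    rw [← Opens.coe_disjoint]
    exact (hWdisj Z hZ Z' hZ' hne).mono (hA Z hZ).2.2 ((hA Z' hZ').2.2.trans (hWsub Z' hZ'))
  -- affine neighbourhoods
  have hB : ∀ x : X, ∃ B : X.Opens, IsAffineOpen B ∧ x ∈ B := fun x => by
    obtain ⟨B, hB1, hB2, -⟩ := exists_affine_nhd X isOpen_univ (Set.mem_univ x)
    exact ⟨B, hB1, hB2⟩
  choose B hBaff hxB using hB
  let I : X → Set (Set X) := fun x => {Z | Z ∈ irreducibleComponents X ∧ Disjoint Z (B x : Set X)}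
  have hI : ∀ x, (I x).Finite := fun x => h𝒵.subset fun Z hZ => hZ.1
  let V : X → X.Opens := fun x => B x ⊔ ⨆ Z ∈ I x, A Z
  have hVaff : ∀ x, IsAffineOpen (V x) := fun x => by
    refine (hBaff x).sup_of_disjoint
      (IsAffineOpen.biSup_of_disjoint (hI x) (fun Z hZ => (hA Z hZ.1).1) ?_) ?_
    · intro Z hZ Z' hZ' hne
      exact hAdisj Z hZ.1 Z' hZ'.1 hne
    · rw [disjoint_iSup₂_iff]
      intro Z hZ
      rw [← Opens.coe_disjoint]
      exact (hZ.2.mono_left ((hA Z hZ.1).2.2.trans (hWsub Z hZ.1))).symm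
  have hVdense : ∀ x, Dense (V x : Set X) := fun x => by
    rw [dense_iff_closure_eq, ← Set.univ_subset_iff, ← sUnion_irreducibleComponents]
    apply Set.sUnion_subset
    intro Z hZ
    have hne : (Z ∩ (V x : Set X)).Nonempty := by
      by_cases hd : Disjoint Z (B x : Set X)
      · obtain ⟨y, hy⟩ := (hA Z hZ).2.1
        refine ⟨y, hWsub Z hZ ((hA Z hZ).2.2 hy), ?_⟩
        change y ∈ V x
        exact Opens.mem_sup.mpr (Or.inr (Opens.mem_iSup.mpr ⟨Z, Opens.mem_iSup.mpr ⟨⟨hZ, hd⟩, hy⟩⟩))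
      · obtain ⟨y, hy1, hy2⟩ := Set.not_disjoint_iff.mp hd
        exact ⟨y, hy1, Opens.mem_sup.mpr (Or.inl hy2)⟩
    exact (subset_closure_inter_of_isPreirreducible_of_isOpen hZ.1.2 (V x).2 hne).trans
      (closure_mono Set.inter_subset_right)
  -- quasi-compactness
  have hcompact : IsCompact (Set.univ : Set X) := NoetherianSpace.isCompact _
  obtain ⟨t, ht⟩ := hcompact.elim_finite_subcover (fun x => (B x : Set X)) (fun x => (B x).2)
    (fun x _ => Set.mem_iUnion.mpr ⟨x, hxB x⟩)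
  refine ⟨t.toList.map V, ?_, ?_⟩
  · intro V' hV'
    obtain ⟨x, -, rfl⟩ := List.mem_map.mp hV'
    exact ⟨hVaff x, hVdense x⟩
  · intro x
    obtain ⟨y, hy, hxy⟩ := Set.mem_iUnion₂.mp (ht (Set.mem_univ x))
    exact ⟨V y, List.mem_map.mpr ⟨y, Finset.mem_toList.mpr hy, rfl⟩,
      Opens.mem_sup.mpr (Or.inl hxy)⟩

end Groth.Agent.Lib.Helper38.ChowCover
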