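import Groth.Agent.Lib.Helper38.ChowStep
import Groth.Agent.Lib.Helper17.Segre

set_option autoImplicit false
set_option linter.unusedSectionVars false
universe u
open AlgebraicGeometry CategoryTheory Limits TopologicalSpace Opposite

namespace Groth.Agent.Lib.Helper38.ChowMain

open Groth.Agent.Lib.Helper38.SchDom Groth.Agent.Lib.Helper38.ChowStep

variable {X S : Scheme.{u}} (f : X ⟶ S) (U : X.Opens)

section Final

variable {𝒱 : Set X.Opens} (D : ChowData f U 𝒱)

theorem isImmersion_q (hcov : ∀ x : X, ∃ W ∈ 𝒱, x ∈ W) : IsImmersion D.q := by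
  choose G hG hcl using D.chart
  apply IsZariskiLocalAtTarget.of_range_subset_iSup (P := @IsImmersion)
    (fun W : 𝒱 => G W.1 W.2)
  · rintro _ ⟨y, rfl⟩
    obtain ⟨W, hW, hx⟩ := hcov (D.π.base y)
    have h1 : y ∈ D.q ⁻¹ᵁ G W hW := by
      rw [hG W hW]
      exact hx
    exact Opens.mem_iSup.mpr ⟨⟨W, hW⟩, h1⟩
  · intro W
    have := hcl W.1 W.2
    infer_instance

theorem isIso_restrict : IsIso (D.π ∣_ U) := by
  haveI := D.openu
  let θ : (U : Scheme.{u}) ≅ ((D.π ⁻¹ᵁ U : D.Y.Opens) : Scheme.{u}) :=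
    IsOpenImmersion.isoOfRangeEq D.u (D.π ⁻¹ᵁ U).ι (by
      rw [Scheme.Opens.range_ι, ← D.hrange]
      rfl)
  have h1 : θ.hom ≫ (D.π ⁻¹ᵁ U).ι = D.u := IsOpenImmersion.isoOfRangeEq_hom_fac _ _ _
  have h2 : θ.hom ≫ (D.π ∣_ U) = 𝟙 _ := by
    rw [← cancel_mono U.ι, Category.assoc, morphismRestrict_ι, reassoc_of% h1, D.hu,
      Category.id_comp]
  have h3 : D.π ∣_ U = θ.inv := by
    rw [← Category.id_comp (D.π ∣_ U), ← θ.inv_hom_id, Category.assoc, h2, Category.comp_id]
  rw [h3]
  infer_instance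

theorem surjective_π (hU : Dense (U : Set X)) : Surjective D.π := by
  haveI := D.properπ
  constructor
  have hcl : IsClosed (Set.range D.π.base) := D.π.isClosedMap.isClosed_range
  have hsub : (U : Set X) ⊆ Set.range D.π.base := by
    intro x hx
    refine ⟨D.u.base ⟨x, hx⟩, ?_⟩
    rw [← Scheme.Hom.comp_apply, D.hu]
    rfl
  have : Set.range D.π.base = Set.univ := by
    apply Set.eq_univ_of_univ_subset
    rw [← hU.closure_eq]
    exact hcl.closure_subset_iff.mpr hsub
  exact Set.range_eq_univ.mp this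

end Final

theorem segre' (S : Scheme.{u}) (N n : ℕ) :
    ∃ φ : pullback (CohB1.ProjSpaceOver.toBase N S) (CohB1.ProjSpaceOver.toBase n S) ⟶
        CohB1.ProjSpaceOver (N * n + N + n) S,
      IsClosedImmersion φ ∧ φ ≫ CohB1.ProjSpaceOver.toBase (N * n + N + n) S =
        pullback.fst (CohB1.ProjSpaceOver.toBase N S) (CohB1.ProjSpaceOver.toBase n S) ≫
          CohB1.ProjSpaceOver.toBase N S := by
  obtain ⟨φ, h1, h2, -⟩ := Groth.Agent.Lib.Helper17.Segre.exists_segre S N n
  exact ⟨φ, h1, h2⟩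

section Proj

variable [NoetherianSpace X] [IsSeparated f]

/-- the existence of the Chow data for a finite list of opens, each immersed in a projective space
over `S`, with `Q` projective over `S`. -/
theorem exists_chowData (l : List X.Opens)
    (hl : ∀ V ∈ l, U ≤ V ∧ ∃ (n : ℕ) (e : (V : Scheme.{u}) ⟶ CohB1.ProjSpaceOver n S),
      IsImmersion e ∧ e ≫ CohB1.ProjSpaceOver.toBase n S = V.ι ≫ f) :
    ∃ D : ChowData f U {V | V ∈ l}, (l = [] → IsIso D.tQ) ∧
      (l ≠ [] → ∃ (N : ℕ) (σ : D.Q ⟶ CohB1.ProjSpaceOver N S), IsClosedImmersion σ ∧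
        σ ≫ CohB1.ProjSpaceOver.toBase N S = D.tQ) := by
  induction l with
  | nil =>
    refine ⟨⟨X, 𝟙 X, S, 𝟙 S, f, by simp, inferInstance, inferInstance,
      fun a b h _ => by simpa using h, U.ι, by simp, inferInstance, by simp,
      fun W hW => by simp at hW⟩, fun _ => ?_, fun h => absurd rfl h⟩
    change IsIso (𝟙 S)
    infer_instance
  | cons V l ih =>
    obtain ⟨D, hD1, hD2⟩ := ih (fun W hW => hl W (List.mem_cons_of_mem _ hW))
    obtain ⟨hUV, n, e, he1, he2⟩ := hl V List.mem_cons_self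
    haveI := Groth.Agent.Lib.Helper17.ProjSpaceProper.isProper_toBase n S
    refine ⟨D.step f U V hUV (CohB1.ProjSpaceOver.toBase n S) e he2 {W | W ∈ V :: l} ?_,
      fun h => absurd h (List.cons_ne_nil _ _), fun _ => ?_⟩
    · intro W hW
      rcases List.mem_cons.mp hW with rfl | h
      · exact Set.mem_insert _ _
      · exact Set.mem_insert_of_mem _ h
    · change ∃ (N : ℕ) (σ : pullback D.tQ (CohB1.ProjSpaceOver.toBase n S) ⟶
          CohB1.ProjSpaceOver N S), IsClosedImmersion σ ∧
        σ ≫ CohB1.ProjSpaceOver.toBase N S =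
          pullback.fst D.tQ (CohB1.ProjSpaceOver.toBase n S) ≫ D.tQ
      by_cases hnil : l = []
      · haveI := hD1 hnil
        exact ⟨n, pullback.snd D.tQ (CohB1.ProjSpaceOver.toBase n S), inferInstance,
          pullback.condition.symm⟩
      · obtain ⟨N, σ, hσ1, hσ2⟩ := hD2 hnil
        obtain ⟨φ, hφ1, hφ2⟩ := segre' S N n
        let m : pullback D.tQ (CohB1.ProjSpaceOver.toBase n S) ⟶
            pullback (CohB1.ProjSpaceOver.toBase N S) (CohB1.ProjSpaceOver.toBase n S) :=
          pullback.map D.tQ (CohB1.ProjSpaceOver.toBase n S) (CohB1.ProjSpaceOver.toBase N S)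
            (CohB1.ProjSpaceOver.toBase n S) σ (𝟙 _) (𝟙 _)
            ((Category.comp_id _).trans hσ2.symm)
            ((Category.comp_id _).trans (Category.id_comp _).symm)
        have hm : IsClosedImmersion m :=
          MorphismProperty.pullbackMap (P := @IsClosedImmersion) hσ1
            (inferInstanceAs (IsClosedImmersion (𝟙 _))) hσ2.symm (Category.id_comp _).symm
        refine ⟨N * n + N + n, m ≫ φ, inferInstance, ?_⟩
        rw [Category.assoc, hφ2, pullback.lift_fst_assoc, Category.assoc, hσ2]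

end Proj

end Groth.Agent.Lib.Helper38.ChowMain
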