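import Mathlib
import Groth.Agent.Lib.Helper11.AmpleBasis
import Groth.Agent.Lib.Helper17.TwistTensor

/-!
# Tensoring with an invertible module is an equivalence of categories (helper38)

* `tensorRight N : X.Modules ⥤ X.Modules`, `M ↦ CohB1.tensorMod M N` (definitionally on objects).
* natural isomorphisms `congrNat`, `unitNat`, `assocNat`.
* `equiv N N' e e'`: if `N ⊗ N' ≅ O` and `N' ⊗ N ≅ O` then `tensorRight N` is an equivalence;
  `shortExact_map_tensorRight`: it preserves short exact sequences.
-/

set_option autoImplicit false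
universe u

open AlgebraicGeometry CategoryTheory Limits TopologicalSpace Opposite MonoidalCategory

namespace Groth.Agent.Lib.Helper38.TwistEquiv

open Groth.Agent.Lib.Helper30.ModTensor

variable {X : Scheme.{u}}

/-- the forgetful functor to presheaves of modules, with the type on which the monoidal structure
lives. -/
noncomputable abbrev fg (X : Scheme.{u}) : X.Modules ⥤ PM X.sheaf :=
  SheafOfModules.forget X.ringCatSheaf

/-- the functor `M ↦ M ⊗ N`. -/
noncomputable def tensorRight (N : X.Modules) : X.Modules ⥤ X.Modules :=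
  fg X ⋙ MonoidalCategory.tensorRight (CohB1.toPMod N) ⋙ shf X.sheaf

theorem tensorRight_obj (N M : X.Modules) : (tensorRight N).obj M = CohB1.tensorMod M N := rfl

/-- `M ⊗ N ≅ M ⊗ N'` naturally in `M`. -/
noncomputable def congrNat {N N' : X.Modules} (e : N ≅ N') : tensorRight N ≅ tensorRight N' :=
  Functor.isoWhiskerLeft (fg X) (Functor.isoWhiskerRight
    ((MonoidalCategory.tensoringRight (PM X.sheaf)).mapIso ((fg X).mapIso e)) (shf X.sheaf))

/-- the unit of the sheafification adjunction. -/
noncomputable abbrev eta (X : Scheme.{u}) : 𝟭 (PM X.sheaf) ⟶ shf X.sheaf ⋙ fg X :=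
  (PresheafOfModules.sheafificationAdjunction.{u} (𝟙 (RS X.sheaf).obj)).unit

/-- the counit of the sheafification adjunction, an isomorphism. -/
noncomputable def counitIso' (X : Scheme.{u}) :=
  asIso (PresheafOfModules.sheafificationAdjunction.{u} (𝟙 X.ringCatSheaf.obj)).counit

noncomputable def counitIso (X : Scheme.{u}) : fg X ⋙ shf X.sheaf ≅ 𝟭 X.Modules :=
  counitIso' X

/-- `M ⊗ O ≅ M` naturally in `M`. -/
noncomputable def unitNat (X : Scheme.{u}) : tensorRight (Coh.structureModule X) ≅ 𝟭 X.Modules :=
  Functor.isoWhiskerLeft (fg X) (Functor.isoWhiskerRight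
    (MonoidalCategory.rightUnitorNatIso (PM X.sheaf)) (shf X.sheaf)) ≪≫ counitIso X

/-- `shf(P ⊗ Q) ≅ shf(toPMod(shf P) ⊗ Q)` naturally in `P`. -/
noncomputable def absorbLeft (Q : PM X.sheaf) :
    MonoidalCategory.tensorRight Q ⋙ shf X.sheaf ≅
      (shf X.sheaf ⋙ fg X) ⋙ MonoidalCategory.tensorRight Q ⋙ shf X.sheaf :=
  haveI : IsIso (Functor.whiskerRight (eta X) (MonoidalCategory.tensorRight Q ⋙ shf X.sheaf)) := by
    apply (config := { allowSynthFailures := true }) NatIso.isIso_of_isIso_app
    intro P
    exact isIso_shf_map_whiskerRight _ Q (isIso_shf_map_unit P)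
  asIso (Functor.whiskerRight (eta X) (MonoidalCategory.tensorRight Q ⋙ shf X.sheaf))

/-- the natural transformation underlying `absorbRight`. -/
noncomputable def absorbRightHom (Q : PM X.sheaf) :
    MonoidalCategory.tensorRight Q ⋙ shf X.sheaf ⟶
      MonoidalCategory.tensorRight ((fg X).obj ((shf X.sheaf).obj Q)) ⋙ shf X.sheaf :=
  Functor.whiskerRight
    ((MonoidalCategory.tensoringRight (PM X.sheaf)).map (shfUnit Q)) (shf X.sheaf)

instance (Q : PM X.sheaf) : IsIso (absorbRightHom (X := X) Q) := by
  apply (config := { allowSynthFailures := true }) NatIso.isIso_of_isIso_app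
  intro P
  exact isIso_shf_map_whiskerLeft _ P (isIso_shf_map_unit Q)

/-- `shf(P ⊗ Q) ≅ shf(P ⊗ toPMod(shf Q))` naturally in `P`. -/
noncomputable def absorbRight (Q : PM X.sheaf) :
    MonoidalCategory.tensorRight Q ⋙ shf X.sheaf ≅
      MonoidalCategory.tensorRight ((fg X).obj ((shf X.sheaf).obj Q)) ⋙ shf X.sheaf :=
  asIso (absorbRightHom Q)

/-- `(M ⊗ N) ⊗ N' ≅ M ⊗ (N ⊗ N')` naturally in `M`. -/
noncomputable def assocNat (N N' : X.Modules) :
    tensorRight N ⋙ tensorRight N' ≅ tensorRight (CohB1.tensorMod N N') :=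
  (Functor.isoWhiskerLeft (fg X ⋙ MonoidalCategory.tensorRight (CohB1.toPMod N))
      (absorbLeft (CohB1.toPMod N'))).symm ≪≫
    Functor.isoWhiskerLeft (fg X) (Functor.isoWhiskerRight
      (MonoidalCategory.tensorRightTensor (CohB1.toPMod N) (CohB1.toPMod N')).symm (shf X.sheaf)) ≪≫
    Functor.isoWhiskerLeft (fg X) (absorbRight (CohB1.toPMod N ⊗ CohB1.toPMod N'))

/-- tensoring with an invertible module (one with a two-sided tensor inverse) is an equivalence. -/
noncomputable def equiv (N N' : X.Modules) (e : CohB1.tensorMod N N' ≅ Coh.structureModule X)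
    (e' : CohB1.tensorMod N' N ≅ Coh.structureModule X) : X.Modules ≌ X.Modules :=
  CategoryTheory.Equivalence.mk (tensorRight N) (tensorRight N')
    ((unitNat X).symm ≪≫ (congrNat e).symm ≪≫ (assocNat N N').symm)
    (assocNat N' N ≪≫ congrNat e' ≪≫ unitNat X)

theorem isEquivalence_tensorRight (N N' : X.Modules)
    (e : CohB1.tensorMod N N' ≅ Coh.structureModule X)
    (e' : CohB1.tensorMod N' N ≅ Coh.structureModule X) : (tensorRight N).IsEquivalence :=
  (equiv N N' e e').isEquivalence_functor

instance : (shf X.sheaf).PreservesZeroMorphisms :=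
  haveI : (shf X.sheaf).IsLeftAdjoint :=
    (PresheafOfModules.sheafificationAdjunction.{u} (𝟙 (RS X.sheaf).obj)).isLeftAdjoint
  inferInstance

instance (N : X.Modules) : (tensorRight N).PreservesZeroMorphisms where
  map_zero A B := by
    change (shf X.sheaf).map ((MonoidalCategory.tensorRight (CohB1.toPMod N)).map
      ((fg X).map (0 : A ⟶ B))) = 0
    have h1 : (fg X).map (0 : A ⟶ B) = 0 := (SheafOfModules.forget X.ringCatSheaf).map_zero A B
    rw [h1, Functor.map_zero, Functor.map_zero]

/-- tensoring with an invertible module preserves short exact sequences. -/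
theorem shortExact_map_tensorRight (N N' : X.Modules)
    (e : CohB1.tensorMod N N' ≅ Coh.structureModule X)
    (e' : CohB1.tensorMod N' N ≅ Coh.structureModule X)
    {S : ShortComplex X.Modules} (hS : S.ShortExact) :
    (S.map (tensorRight N)).ShortExact := by
  haveI := isEquivalence_tensorRight N N' e e'
  haveI : (tensorRight N).IsLeftAdjoint := inferInstance
  haveI : (tensorRight N).IsRightAdjoint := inferInstance
  haveI : PreservesFiniteLimits (tensorRight N) := inferInstance
  haveI : PreservesFiniteColimits (tensorRight N) := inferInstance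
  exact hS.map_of_exact (tensorRight N)

end Groth.Agent.Lib.Helper38.TwistEquiv
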