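import Groth.Agent.Lib.Helper17.FinCoh
import Groth.Agent.Lib.Helper11.TensorQCoh
import Groth.Agent.Lib.Helper38.TwistEquiv

/-!
# Serre vanishing on `P^n_R` (helper38)

`serre_vanishing`: for `R` Noetherian and `M` coherent on `P^n_R`, `H^i(P^n_R, M ⊗ O(d)) = 0` for
all `i ≥ 1` and all large `d`. Uses helper17's finiteness package (`FinCoh`) and the equivalence
`TwistEquiv.tensorRight`.  Also: `tw n R d` (the twisting functor), `shortExact_tw`,
`subsingleton_HH_of_iso`, `subsingleton_HH_sigma`.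
-/

set_option autoImplicit false
universe u
open AlgebraicGeometry CategoryTheory Limits Opposite TopologicalSpace

namespace Groth.Agent.Lib.Helper38.SerreVanishPn

open Groth.Agent.Lib.Helper17 Groth.Agent.Lib.Helper17.HHLinLES Groth.Agent.Lib.Helper1
open Groth.Agent.Lib.Helper38.TwistEquiv

section General

variable (A : Type u) [CommRing A] {X : Scheme.{u}} [X.Over (Spec (CommRingCat.of A))]

include A in
theorem subsingleton_HH_of_iso {M N : X.Modules} (e : M ≅ N) (i : ℕ)
    (h : Subsingleton (Coh.HH X N i)) : Subsingleton (Coh.HH X M i) := by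
  refine ⟨fun x y => ?_⟩
  have key : ∀ z : Coh.HH X M i, z = Canon.HHlin A e.inv i (Canon.HHlin A e.hom i z) := by
    intro z
    have h1 := congrArg (fun f => f z) (HHlin_comp A e.hom e.inv i)
    simp only [LinearMap.comp_apply] at h1
    rw [← h1, e.hom_inv_id, HHlin_id]
    rfl
  rw [key x, key y, h.elim (Canon.HHlin A e.hom i x) (Canon.HHlin A e.hom i y)]

include A in
theorem subsingleton_HH_sigma (k : ℕ) (f : Fin k → X.Modules) (i : ℕ)
    (h : ∀ j, Subsingleton (Coh.HH X (f j) i)) : Subsingleton (Coh.HH X (∐ f) i) := by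
  classical
  have hid : ∑ j : Fin k, (Sigma.desc (fun j' : Fin k =>
      if hj : j' = j then eqToHom (congrArg f hj) else 0) : ∐ f ⟶ f j) ≫
      Sigma.ι f j = 𝟙 (∐ f) := by
    apply Sigma.hom_ext
    intro j'
    rw [Preadditive.comp_sum, Category.comp_id]
    rw [Finset.sum_eq_single j']
    · rw [← Category.assoc, Sigma.ι_desc, dif_pos rfl, eqToHom_refl, Category.id_comp]
    · intro j _ hj
      rw [← Category.assoc, Sigma.ι_desc, dif_neg (Ne.symm hj), zero_comp]
    · intro h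
      exact absurd (Finset.mem_univ j') h
  have key : ∀ y : Coh.HH X (∐ f) i, y = 0 := by
    intro y
    have h1 := congrArg (fun φ => Canon.HHlin A φ i y) hid
    simp only [HHlin_sum, HHlin_comp, HHlin_id, LinearMap.sum_apply, LinearMap.comp_apply,
      LinearMap.id_apply] at h1
    rw [← h1]
    apply Finset.sum_eq_zero
    intro j _
    rw [(h j).elim (Canon.HHlin A _ i y) 0, map_zero]
  exact ⟨fun x y => (key x).trans (key y).symm⟩

end General

section Pn

variable (n : ℕ) (R : Type u) [CommRing R]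

/-- `O(a) ⊗ O(b) ≅ O(a + b)` on `P^n_R`. -/
noncomputable def twistTensorIso (a b : ℤ) :
    CohB1.tensorMod (Twist.twistProjSpace n R a) (Twist.twistProjSpace n R b) ≅
      Twist.twistProjSpace n R (a + b) :=
  (TwistTensor.nonempty_tensor_iso (CohB1.polyGrading n R) a b
    (FinCoh.iSup_basicOpen_deg_one n R)).some

/-- `O(0) ≅ O`. -/
noncomputable def twistZeroIso :
    Twist.twistProjSpace n R 0 ≅ Coh.structureModule (CohB1.ProjSpace n R) :=
  (TwistTensor.nonempty_twist_zero_iso (CohB1.polyGrading n R)).some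

/-- `O(a) ⊗ O(b) ≅ O` when `a + b = 0`. -/
noncomputable def twistInvIso (a b : ℤ) (h : a + b = 0) :
    CohB1.tensorMod (Twist.twistProjSpace n R a) (Twist.twistProjSpace n R b) ≅
      Coh.structureModule (CohB1.ProjSpace n R) :=
  twistTensorIso n R a b ≪≫ eqToIso (by rw [h]) ≪≫ twistZeroIso n R

/-- the functor `F ↦ F(d)`. -/
noncomputable abbrev tw (d : ℤ) : (CohB1.ProjSpace n R).Modules ⥤ (CohB1.ProjSpace n R).Modules :=
  tensorRight (Twist.twistProjSpace n R d)

theorem isEquivalence_tw (d : ℤ) : (tw n R d).IsEquivalence :=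
  isEquivalence_tensorRight _ (Twist.twistProjSpace n R (-d))
    (twistInvIso n R d (-d) (add_neg_cancel d)) (twistInvIso n R (-d) d (neg_add_cancel d))

theorem shortExact_tw (d : ℤ) {S : ShortComplex (CohB1.ProjSpace n R).Modules}
    (hS : S.ShortExact) : (S.map (tw n R d)).ShortExact :=
  shortExact_map_tensorRight _ (Twist.twistProjSpace n R (-d))
    (twistInvIso n R d (-d) (add_neg_cancel d)) (twistInvIso n R (-d) d (neg_add_cancel d)) hS

/-- `H^i` of a twisted finite sum of `O(-m)` vanishes for `i ≥ 1` and `d ≥ m`. -/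
theorem subsingleton_HH_tw_sigma (k m : ℕ) (d : ℤ) (hd : (m : ℤ) ≤ d) (i : ℕ) (hi : 1 ≤ i) :
    Subsingleton (Coh.HH (CohB1.ProjSpace n R)
      ((tw n R d).obj (∐ fun _ : Fin k => Twist.twistProjSpace n R (-(m : ℤ)))) i) := by
  haveI := isEquivalence_tw n R d
  let f : Fin k → (CohB1.ProjSpace n R).Modules := fun _ => Twist.twistProjSpace n R (-(m : ℤ))
  let e1 : (tw n R d).obj (∐ f) ≅ ∐ fun j => (tw n R d).obj (f j) :=
    (PreservesCoproduct.iso (tw n R d) f)
  let e2 : (∐ fun j => (tw n R d).obj (f j)) ≅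
      ∐ fun _ : Fin k => Twist.twistProjSpace n R (-(m : ℤ) + d) :=
    Sigma.mapIso fun _ => twistTensorIso n R (-(m : ℤ)) d
  apply subsingleton_HH_of_iso R (e1 ≪≫ e2) i
  apply subsingleton_HH_sigma R
  intro _
  apply PnVanish.subsingleton_HH n R (-(m : ℤ) + d) i
  · rintro ⟨h0, -⟩; omega
  · rintro ⟨-, h1⟩; omega

variable [IsNoetherianRing R]

theorem step (t : ℕ) (ht : 1 ≤ t)
    (ih : ∀ M : (CohB1.ProjSpace n R).Modules, Coh.IsCoh M → ∃ d₀ : ℤ, ∀ d : ℤ, d₀ ≤ d →
      ∀ i : ℕ, t + 1 ≤ i → Subsingleton (Coh.HH (CohB1.ProjSpace n R) ((tw n R d).obj M) i))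
    (M : (CohB1.ProjSpace n R).Modules) (hM : Coh.IsCoh M) :
    ∃ d₀ : ℤ, ∀ d : ℤ, d₀ ≤ d →
      ∀ i : ℕ, t ≤ i → Subsingleton (Coh.HH (CohB1.ProjSpace n R) ((tw n R d).obj M) i) := by
  obtain ⟨m, k, p, hp⟩ := FinCoh.exists_epi n R M hM
  have hB : Coh.IsCoh (∐ fun _ : Fin k => Twist.twistProjSpace n R (-(m : ℤ))) :=
    CohSigma.isCoh_sigma k _ fun _ => FinCoh.isCoh_twist n R _
  have hK : Coh.IsCoh (kernel p) := (Groth.Agent.S9514.result _ hB hM p).1
  have hS : (ShortComplex.mk (kernel.ι p) p (kernel.condition p)).ShortExact :=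
    { exact := ShortComplex.exact_of_f_is_kernel _ (kernelIsKernel p)
      mono_f := inferInstanceAs (Mono (kernel.ι p))
      epi_g := hp }
  obtain ⟨d₁, hd₁⟩ := ih (kernel p) hK
  refine ⟨max d₁ m, fun d hd i hi => ?_⟩
  have hSd := shortExact_tw n R d hS
  have h1 : Subsingleton (Coh.HH (CohB1.ProjSpace n R) ((tw n R d).obj (kernel p)) (i + 1)) :=
    hd₁ d (le_trans (le_max_left _ _) hd) (i + 1) (by omega)
  have h2 : Subsingleton (Coh.HH (CohB1.ProjSpace n R)
      ((tw n R d).obj (∐ fun _ : Fin k => Twist.twistProjSpace n R (-(m : ℤ)))) i) :=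
    subsingleton_HH_tw_sigma n R k m d (le_trans (le_max_right _ _) hd) i (by omega)
  have key : ∀ z : Coh.HH (CohB1.ProjSpace n R) ((tw n R d).obj M) i, z = 0 := by
    intro z
    have hδ : deltaLin R hSd i z = 0 := h1.elim _ _
    obtain ⟨w, rfl⟩ := exists_of_deltaLin_eq_zero R hSd i z hδ
    have hw : w = 0 := h2.elim w 0
    rw [hw]
    exact map_zero _
  exact ⟨fun x y => (key x).trans (key y).symm⟩

omit [IsNoetherianRing R] in
theorem base (M : (CohB1.ProjSpace n R).Modules) (hM : Coh.IsCoh M) (d : ℤ) (i : ℕ) (hi : n < i) :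
    Subsingleton (Coh.HH (CohB1.ProjSpace n R) ((tw n R d).obj M) i) := by
  haveI : M.IsQuasicoherent := hM.1
  haveI : Coh.IsQCoh (CohB1.tensorMod M (Twist.twistProjSpace n R d)) :=
    (Groth.Agent.Lib.Helper11.TildeTensor.isQuasicoherent_tensorMod M (Twist.twistProjSpace n R d)).1
  exact Groth.Agent.S0022.result n R (CohB1.tensorMod M (Twist.twistProjSpace n R d)) i hi

theorem main_aux : ∀ (s t : ℕ), 1 ≤ t → t + s = n + 1 →
    ∀ M : (CohB1.ProjSpace n R).Modules, Coh.IsCoh M → ∃ d₀ : ℤ, ∀ d : ℤ, d₀ ≤ d →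
      ∀ i : ℕ, t ≤ i → Subsingleton (Coh.HH (CohB1.ProjSpace n R) ((tw n R d).obj M) i) := by
  intro s
  induction s with
  | zero =>
    intro t _ hts M hM
    exact ⟨0, fun d _ i hi => base n R M hM d i (by omega)⟩
  | succ s ih =>
    intro t ht hts M hM
    exact step n R t ht (fun M' hM' => ih (t + 1) (by omega) (by omega) M' hM') M hM

/-- **Serre vanishing on `P^n_R`** (`R` Noetherian): for a coherent module `M`, the higher
cohomology of `M(d) = M ⊗ O(d)` vanishes for all large `d`. -/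
theorem serre_vanishing (M : (CohB1.ProjSpace n R).Modules) (hM : Coh.IsCoh M) :
    ∃ d₀ : ℤ, ∀ d : ℤ, d₀ ≤ d → ∀ i : ℕ, 1 ≤ i →
      Subsingleton (Coh.HH (CohB1.ProjSpace n R)
        (CohB1.tensorMod M (Twist.twistProjSpace n R d)) i) :=
  main_aux n R n 1 le_rfl (by omega) M hM

end Pn

end Groth.Agent.Lib.Helper38.SerreVanishPn
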