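import Mathlib
import Groth.Prelude.Def_Curv2
import Groth.Agent.Lib.Helper38.NormRing

/-!
# Normalization of an integral scheme: affine pieces, stalks; the one-dimensional Noetherian case
-/

set_option autoImplicit false

universe u

open AlgebraicGeometry CategoryTheory TopologicalSpace Opposite

namespace Groth.Agent.Lib.Helper38

namespace NormSch

variable (X : Scheme.{u}) [IsIntegral X]

theorem genericPoint_mem {U : X.Opens} (hne : (U : Set X).Nonempty) : genericPoint X ∈ U :=
  ((genericPoint_spec X).mem_open_set_iff U.isOpen).mpr (by simpa [Set.nonempty_iff_ne_empty] using hne)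

theorem preimage_eq_top {U : X.Opens} (hη : genericPoint X ∈ U) :
    (X.fromSpecStalk (genericPoint X)) ⁻¹ᵁ U = ⊤ := by
  ext p
  simp only [Opens.coe_top, Set.mem_univ, iff_true]
  have h1 : (X.fromSpecStalk (genericPoint X)) p ⤳ genericPoint X := by
    have := Set.mem_range_self (f := (X.fromSpecStalk (genericPoint X))) p
    rw [Scheme.range_fromSpecStalk] at this
    exact this
  exact h1.mem_open U.isOpen hη

/-- The identification of the sections of `Spec K(X)` over the preimage of `U` with `K(X)`. -/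
noncomputable def rho {U : X.Opens} (hη : genericPoint X ∈ U) :
    Γ(Spec (X.presheaf.stalk (genericPoint X)), (X.fromSpecStalk (genericPoint X)) ⁻¹ᵁ U) ⟶
      X.presheaf.stalk (genericPoint X) :=
  (Spec (X.presheaf.stalk (genericPoint X))).presheaf.map
    (eqToHom (preimage_eq_top X hη).symm).op ≫ (Scheme.ΓSpecIso _).hom

instance {U : X.Opens} (hη : genericPoint X ∈ U) : IsIso (rho X hη) := by
  unfold rho; infer_instance

theorem app_rho {U : X.Opens} (hη : genericPoint X ∈ U) :
    (X.fromSpecStalk (genericPoint X)).app U ≫ rho X hη = X.presheaf.germ U (genericPoint X) hη := by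
  rw [Scheme.fromSpecStalk_app hη, rho]
  simp only [Category.assoc]
  rw [← Functor.map_comp_assoc]
  have : (homOfLE le_top : (X.fromSpecStalk (genericPoint X)) ⁻¹ᵁ U ⟶ ⊤).op ≫
      (eqToHom (preimage_eq_top X hη).symm).op = 𝟙 _ := Subsingleton.elim _ _
  rw [this]
  simp

section affine

variable {U : X.Opens} (hU : IsAffineOpen U) (hη : genericPoint X ∈ U)

include hU hη in
theorem integralClosure_props :
    letI := ((X.fromSpecStalk (genericPoint X)).app U).hom.toAlgebra
    IsIntegrallyClosed (integralClosure Γ(X, U)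
      Γ(Spec (X.presheaf.stalk (genericPoint X)), (X.fromSpecStalk (genericPoint X)) ⁻¹ᵁ U)) ∧
    IsFracExt (algebraMap Γ(X, U) (integralClosure Γ(X, U)
      Γ(Spec (X.presheaf.stalk (genericPoint X)), (X.fromSpecStalk (genericPoint X)) ⁻¹ᵁ U))) := by
  letI := ((X.fromSpecStalk (genericPoint X)).app U).hom.toAlgebra
  haveI : Nonempty U := ⟨⟨_, hη⟩⟩
  haveI := functionField_isFractionRing_of_isAffineOpen X U hU
  let e0 : Γ(Spec (X.presheaf.stalk (genericPoint X)), (X.fromSpecStalk (genericPoint X)) ⁻¹ᵁ U) ≃+*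
      X.functionField := (asIso (rho X hη)).commRingCatIsoToRingEquiv
  have he0 : ∀ a : Γ(X, U), e0 (algebraMap Γ(X, U) _ a) = algebraMap Γ(X, U) X.functionField a := by
    intro a
    have := congr($(app_rho X hη) a)
    exact this
  let e : Γ(Spec (X.presheaf.stalk (genericPoint X)), (X.fromSpecStalk (genericPoint X)) ⁻¹ᵁ U)
      ≃ₐ[Γ(X, U)] X.functionField := AlgEquiv.ofRingEquiv he0
  refine ⟨NormRing.isIntegrallyClosed_integralClosure_of_algEquiv _ _ _ e, ?_⟩
  refine IsFracExt.of_isFractionRing (K := X.functionField) _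
    ((e0 : _ →+* X.functionField).comp (integralClosure Γ(X, U) _).val.toRingHom) ?_ ?_
  · intro x y hxy
    exact Subtype.ext (e0.injective hxy)
  · ext a
    exact he0 a

include hU hη in
theorem app_props' [QuasiCompact (X.fromSpecStalk (genericPoint X))]
    [QuasiSeparated (X.fromSpecStalk (genericPoint X))] :
    IsIntegrallyClosed Γ((X.fromSpecStalk (genericPoint X)).normalization,
        (X.fromSpecStalk (genericPoint X)).fromNormalization ⁻¹ᵁ U) ∧
      IsFracExt ((X.fromSpecStalk (genericPoint X)).fromNormalization.app U).hom := by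
  obtain ⟨h1, h2⟩ := integralClosure_props X hU hη
  letI := ((X.fromSpecStalk (genericPoint X)).app U).hom.toAlgebra
  let i := (X.fromSpecStalk (genericPoint X)).normalizationObjIso hU
  constructor
  · exact IsIntegrallyClosed.of_equiv i.symm.commRingCatIsoToRingEquiv
  · have h3 : ((X.fromSpecStalk (genericPoint X)).fromNormalization.app U).hom =
        (i.symm.commRingCatIsoToRingEquiv.toRingHom).comp (algebraMap Γ(X, U) _) :=
      congrArg CommRingCat.Hom.hom ((X.fromSpecStalk (genericPoint X)).fromNormalization_app hU)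
    rw [h3]
    exact h2.comp_ringEquiv i.symm.commRingCatIsoToRingEquiv

include hU hη in
theorem app_props [QuasiCompact (X.fromSpecStalk (genericPoint X))]
    [QuasiSeparated (X.fromSpecStalk (genericPoint X))] :
    IsIntegrallyClosed Γ(Curv2.normalization X, (Curv2.normalizationι X) ⁻¹ᵁ U) ∧
      IsFracExt ((Curv2.normalizationι X).app U).hom :=
  app_props' X hU hη

end affine

theorem isFracExt_stalkMap {N X : Scheme.{u}} [IsIntegral N] [IsIntegral X] (g : N ⟶ X)
    {U : X.Opens} (hU : IsAffineOpen U) (hW : IsAffineOpen (g ⁻¹ᵁ U)) (x' : N) (hx' : g x' ∈ U)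
    (h : IsFracExt (g.app U).hom) : IsFracExt (g.stalkMap x').hom := by
  have hx'W : x' ∈ g ⁻¹ᵁ U := hx'
  haveI : Nonempty (g ⁻¹ᵁ U : N.Opens) := ⟨⟨x', hx'W⟩⟩
  haveI : Nonempty U := ⟨⟨g x', hx'⟩⟩
  have hgermN : Function.Injective (N.presheaf.germ (g ⁻¹ᵁ U) x' hx'W) :=
    germ_injective_of_isIntegral N x' hx'W
  have hgermX : Function.Injective (X.presheaf.germ U (g x') hx') :=
    germ_injective_of_isIntegral X (g x') hx'
  have key : ∀ a : Γ(X, U), (g.stalkMap x').hom (X.presheaf.germ U (g x') hx' a) =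
      N.presheaf.germ (g ⁻¹ᵁ U) x' hx'W ((g.app U).hom a) := fun a =>
    Scheme.Hom.germ_stalkMap_apply g U x' hx' a
  constructor
  · apply hU.stalkMap_injective g x' hx'
    intro a ha
    have h1 : N.presheaf.germ (g ⁻¹ᵁ U) x' hx'W ((g.app U).hom a) = 0 := by
      rw [← key a]; exact ha
    have h2 : (g.app U).hom a = 0 := hgermN (by rw [h1, map_zero])
    have h3 : a = 0 := h.inj (by rw [h2, map_zero])
    rw [h3, map_zero]
  · intro s
    letI : Algebra Γ(N, g ⁻¹ᵁ U) (N.presheaf.stalk x') :=
      TopCat.Presheaf.algebra_section_stalk N.presheaf ⟨x', hx'W⟩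
    haveI : IsLocalization.AtPrime (N.presheaf.stalk x')
        (hW.primeIdealOf ⟨x', hx'W⟩).asIdeal := hW.isLocalization_stalk ⟨x', hx'W⟩
    obtain ⟨⟨b, t⟩, hbt⟩ := IsLocalization.surj (hW.primeIdealOf ⟨x', hx'W⟩).asIdeal.primeCompl s
    have ht0 : (t : Γ(N, g ⁻¹ᵁ U)) ≠ 0 := by
      intro h0
      exact t.2 (by rw [h0]; exact Ideal.zero_mem _)
    obtain ⟨a1, c1, hc1, h1⟩ := h.frac b
    obtain ⟨a2, c2, hc2, h2⟩ := h.frac (t : Γ(N, g ⁻¹ᵁ U))
    have hφc2 : (g.app U).hom c2 ≠ 0 := fun h0 => hc2 (h.inj (by rw [h0, map_zero]))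
    have ha2 : a2 ≠ 0 := by
      rintro rfl
      rw [map_zero] at h2
      exact (mul_ne_zero ht0 hφc2) h2
    refine ⟨X.presheaf.germ U (g x') hx' (a1 * c2), X.presheaf.germ U (g x') hx' (a2 * c1), ?_, ?_⟩
    · intro h0
      have := hgermX (by rw [h0, map_zero] : X.presheaf.germ U (g x') hx' (a2 * c1) = X.presheaf.germ U (g x') hx' 0)
      exact (mul_ne_zero ha2 hc1) this
    · have e1 : (g.app U).hom (a2 * c1) = t * (g.app U).hom c2 * (g.app U).hom c1 := by
        rw [map_mul, ← h2]
      have e2 : (g.app U).hom (a1 * c2) = b * (g.app U).hom c1 * (g.app U).hom c2 := by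
        rw [map_mul, ← h1]
      have hbt' : s * N.presheaf.germ (g ⁻¹ᵁ U) x' hx'W (t : Γ(N, g ⁻¹ᵁ U)) =
          N.presheaf.germ (g ⁻¹ᵁ U) x' hx'W b := hbt
      rw [key, key, e1, e2, map_mul, map_mul, map_mul, map_mul, ← hbt']
      ring


theorem krullDimLE_of_isLocalization_atPrime {R S : Type*} [CommRing R] [CommRing S] [Algebra R S]
    (P : Ideal R) [P.IsPrime] [IsLocalization.AtPrime S P] (n : ℕ) [h : Ring.KrullDimLE n R] :
    Ring.KrullDimLE n S := by
  rw [Ring.krullDimLE_iff] at h ⊢
  rw [IsLocalization.AtPrime.ringKrullDim_eq_height P S]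
  exact (Ideal.height_le_ringKrullDim_of_ne_top (Ideal.IsPrime.ne_top ‹_›)).trans h

theorem krullDimLE_one_of_isAffineOpen (X : Scheme.{u}) (hdim : topologicalKrullDim X = 1)
    {U : X.Opens} (hU : IsAffineOpen U) : Ring.KrullDimLE 1 Γ(X, U) := by
  rw [Ring.krullDimLE_iff, ← PrimeSpectrum.topologicalKrullDim_eq_ringKrullDim]
  have := hU.fromSpec.isOpenEmbedding.isInducing.topologicalKrullDim_le
  rw [hdim] at this
  exact this

theorem krullDimLE_one_stalk (X : Scheme.{u}) (hdim : topologicalKrullDim X = 1) (x : X) :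
    Ring.KrullDimLE 1 (X.presheaf.stalk x) := by
  obtain ⟨_, ⟨U, hU, rfl⟩, hxU, -⟩ :=
    X.isBasis_affineOpens.exists_subset_of_mem_open (Set.mem_univ x) isOpen_univ
  haveI := krullDimLE_one_of_isAffineOpen X hdim hU
  letI : Algebra Γ(X, U) (X.presheaf.stalk x) :=
    TopCat.Presheaf.algebra_section_stalk X.presheaf ⟨x, hxU⟩
  haveI : IsLocalization.AtPrime (X.presheaf.stalk x) (hU.primeIdealOf ⟨x, hxU⟩).asIdeal :=
    hU.isLocalization_stalk ⟨x, hxU⟩
  exact krullDimLE_of_isLocalization_atPrime (hU.primeIdealOf ⟨x, hxU⟩).asIdeal 1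

section main

variable (X : Scheme.{u}) [IsIntegral X] [QuasiCompact (X.fromSpecStalk (genericPoint X))]
  [QuasiSeparated (X.fromSpecStalk (genericPoint X))]

instance : IsIntegral (Curv2.normalization X) := by
  unfold Curv2.normalization; infer_instance

instance : IsIntegralHom (Curv2.normalizationι X) :=
  inferInstanceAs (IsIntegralHom (X.fromSpecStalk (genericPoint X)).fromNormalization)

theorem exists_affine (x : X) : ∃ U : X.Opens, IsAffineOpen U ∧ x ∈ U := by
  obtain ⟨_, ⟨U, hU, rfl⟩, hxU, -⟩ :=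
    X.isBasis_affineOpens.exists_subset_of_mem_open (Set.mem_univ x) isOpen_univ
  exact ⟨U, hU, hxU⟩

theorem preimage_nonempty {U : X.Opens} (hη : genericPoint X ∈ U) :
    Nonempty ((Curv2.normalizationι X) ⁻¹ᵁ U : (Curv2.normalization X).Opens) := by
  have p : Spec (X.presheaf.stalk (genericPoint X)) := Nonempty.some inferInstance
  refine ⟨⟨(X.fromSpecStalk (genericPoint X)).toNormalization p, ?_⟩⟩
  have h1 : ((X.fromSpecStalk (genericPoint X)).toNormalization ≫
      (X.fromSpecStalk (genericPoint X)).fromNormalization) p ∈ U := by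
    rw [Scheme.Hom.toNormalization_fromNormalization]
    have h2 : p ∈ (X.fromSpecStalk (genericPoint X)) ⁻¹ᵁ U := by
      rw [preimage_eq_top X hη]; trivial
    exact h2
  exact h1

/-- The local rings of the normalization of an integral scheme are integrally closed. -/
theorem isIntegrallyClosed_stalk (y : Curv2.normalization X) :
    IsIntegrallyClosed ((Curv2.normalization X).presheaf.stalk y) := by
  obtain ⟨U, hU, hyU⟩ := exists_affine X ((Curv2.normalizationι X) y)
  have hη : genericPoint X ∈ U := genericPoint_mem X ⟨_, hyU⟩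
  have hW : IsAffineOpen ((Curv2.normalizationι X) ⁻¹ᵁ U) := hU.preimage (Curv2.normalizationι X)
  have hyW : y ∈ (Curv2.normalizationι X) ⁻¹ᵁ U := hyU
  haveI : Nonempty ((Curv2.normalizationι X) ⁻¹ᵁ U : (Curv2.normalization X).Opens) := ⟨⟨y, hyW⟩⟩
  haveI := (app_props X hU hη).1
  letI : Algebra Γ(Curv2.normalization X, (Curv2.normalizationι X) ⁻¹ᵁ U)
      ((Curv2.normalization X).presheaf.stalk y) :=
    TopCat.Presheaf.algebra_section_stalk (Curv2.normalization X).presheaf ⟨y, hyW⟩
  haveI : IsLocalization.AtPrime ((Curv2.normalization X).presheaf.stalk y)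
      (hW.primeIdealOf ⟨y, hyW⟩).asIdeal := hW.isLocalization_stalk ⟨y, hyW⟩
  exact isIntegrallyClosed_of_isLocalization _ (hW.primeIdealOf ⟨y, hyW⟩).asIdeal.primeCompl
    (Ideal.primeCompl_le_nonZeroDivisors _)

variable [IsLocallyNoetherian X] (hdim : topologicalKrullDim X = 1)

include hdim

theorem app_isNoetherianRing_krullDimLE {U : X.Opens} (hU : IsAffineOpen U)
    (hη : genericPoint X ∈ U) :
    IsNoetherianRing Γ(Curv2.normalization X, (Curv2.normalizationι X) ⁻¹ᵁ U) ∧
      Ring.KrullDimLE 1 Γ(Curv2.normalization X, (Curv2.normalizationι X) ⁻¹ᵁ U) := by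
  haveI : Nonempty U := ⟨⟨_, hη⟩⟩
  haveI := preimage_nonempty X hη
  haveI := krullDimLE_one_of_isAffineOpen X hdim hU
  haveI : IsNoetherianRing Γ(X, U) := IsLocallyNoetherian.component_noetherian ⟨U, hU⟩
  have h := (app_props X hU hη).2
  exact ⟨h.isNoetherianRing, h.krullDimLE_one⟩

theorem isLocallyNoetherian : IsLocallyNoetherian (Curv2.normalization X) := by
  choose U hU hxU using exists_affine X
  refine isLocallyNoetherian_of_affine_cover (ι := Curv2.normalization X)
    (S := fun y => ⟨(Curv2.normalizationι X) ⁻¹ᵁ U ((Curv2.normalizationι X) y),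
      (hU _).preimage (Curv2.normalizationι X)⟩) ?_ ?_
  · rw [eq_top_iff]
    intro y _
    exact Opens.mem_iSup.mpr ⟨y, hxU _⟩
  · intro y
    exact (app_isNoetherianRing_krullDimLE X hdim (hU _) (genericPoint_mem X ⟨_, hxU _⟩)).1

theorem krullDimLE_one_stalk_normalization (y : Curv2.normalization X) :
    Ring.KrullDimLE 1 ((Curv2.normalization X).presheaf.stalk y) := by
  obtain ⟨U, hU, hyU⟩ := exists_affine X ((Curv2.normalizationι X) y)
  have hη : genericPoint X ∈ U := genericPoint_mem X ⟨_, hyU⟩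
  have hW : IsAffineOpen ((Curv2.normalizationι X) ⁻¹ᵁ U) := hU.preimage (Curv2.normalizationι X)
  have hyW : y ∈ (Curv2.normalizationι X) ⁻¹ᵁ U := hyU
  haveI := (app_isNoetherianRing_krullDimLE X hdim hU hη).2
  letI : Algebra Γ(Curv2.normalization X, (Curv2.normalizationι X) ⁻¹ᵁ U)
      ((Curv2.normalization X).presheaf.stalk y) :=
    TopCat.Presheaf.algebra_section_stalk (Curv2.normalization X).presheaf ⟨y, hyW⟩
  haveI : IsLocalization.AtPrime ((Curv2.normalization X).presheaf.stalk y)
      (hW.primeIdealOf ⟨y, hyW⟩).asIdeal := hW.isLocalization_stalk ⟨y, hyW⟩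
  exact krullDimLE_of_isLocalization_atPrime (hW.primeIdealOf ⟨y, hyW⟩).asIdeal 1

theorem finite_fibre (x : X) :
    Finite {x' : ↥(Curv2.normalization X) // (Curv2.normalizationι X).base x' = x} := by
  obtain ⟨U, hU, hxU⟩ := exists_affine X x
  have hη : genericPoint X ∈ U := genericPoint_mem X ⟨_, hxU⟩
  have hW : IsAffineOpen ((Curv2.normalizationι X) ⁻¹ᵁ U) := hU.preimage (Curv2.normalizationι X)
  haveI : Nonempty U := ⟨⟨_, hη⟩⟩
  haveI := preimage_nonempty X hη
  haveI := krullDimLE_one_of_isAffineOpen X hdim hU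
  haveI : IsNoetherianRing Γ(X, U) := IsLocallyNoetherian.component_noetherian ⟨U, hU⟩
  have hfe := (app_props X hU hη).2
  have hfin := NormRing.finite_fibre hfe (hU.primeIdealOf ⟨x, hxU⟩)
  haveI := hfin.to_subtype
  have hmem : ∀ x' : {x' : ↥(Curv2.normalization X) // (Curv2.normalizationι X).base x' = x},
      x'.1 ∈ (Curv2.normalizationι X) ⁻¹ᵁ U := by
    intro x'
    show (Curv2.normalizationι X).base x'.1 ∈ U
    rw [x'.2]; exact hxU
  let F : {x' : ↥(Curv2.normalization X) // (Curv2.normalizationι X).base x' = x} →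
      {Q : PrimeSpectrum Γ(Curv2.normalization X, (Curv2.normalizationι X) ⁻¹ᵁ U) |
        Q.comap ((Curv2.normalizationι X).app U).hom = hU.primeIdealOf ⟨x, hxU⟩} :=
    fun x' => ⟨hW.primeIdealOf ⟨x'.1, hmem x'⟩, by
      have h1 := IsAffineOpen.comap_primeIdealOf_appLE (f := Curv2.normalizationι X) U hU
        ((Curv2.normalizationι X) ⁻¹ᵁ U) hW le_rfl (x := x'.1) (hmem x')
      have h2 : (⟨(Curv2.normalizationι X) x'.1, hmem x'⟩ : U) = ⟨x, hxU⟩ := Subtype.ext x'.2
      rw [h2] at h1
      show PrimeSpectrum.comap ((Curv2.normalizationι X).app U).hom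
        (hW.primeIdealOf ⟨x'.1, hmem x'⟩) = hU.primeIdealOf ⟨x, hxU⟩
      rw [Scheme.Hom.app_eq_appLE]
      exact h1⟩
  refine Finite.of_injective F ?_
  intro x1 x2 h12
  have h3 : hW.primeIdealOf ⟨x1.1, hmem x1⟩ = hW.primeIdealOf ⟨x2.1, hmem x2⟩ :=
    congrArg Subtype.val h12
  have h4 := hW.fromSpec_primeIdealOf ⟨x1.1, hmem x1⟩
  have h5 := hW.fromSpec_primeIdealOf ⟨x2.1, hmem x2⟩
  rw [h3] at h4
  exact Subtype.ext (h4.symm.trans h5)

theorem finite_residueFieldMap (x' : Curv2.normalization X) :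
    ((Curv2.normalizationι X).residueFieldMap x').hom.Finite := by
  obtain ⟨U, hU, hxU⟩ := exists_affine X ((Curv2.normalizationι X) x')
  have hη : genericPoint X ∈ U := genericPoint_mem X ⟨_, hxU⟩
  have hW : IsAffineOpen ((Curv2.normalizationι X) ⁻¹ᵁ U) := hU.preimage (Curv2.normalizationι X)
  have hfe := (app_props X hU hη).2
  have hst := isFracExt_stalkMap (Curv2.normalizationι X) hU hW x' hxU hfe
  haveI := krullDimLE_one_stalk X hdim ((Curv2.normalizationι X) x')
  exact NormRing.finite_residueField_map _ hst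

theorem isDedekindDomain (V : (Curv2.normalization X).affineOpens)
    (hne : ((V : (Curv2.normalization X).Opens) : Set ↥(Curv2.normalization X)).Nonempty) :
    IsDedekindDomain Γ(Curv2.normalization X, (V : (Curv2.normalization X).Opens)) := by
  haveI : Nonempty (V : (Curv2.normalization X).Opens) := hne.to_subtype
  haveI := isLocallyNoetherian X hdim
  haveI : IsNoetherianRing Γ(Curv2.normalization X, (V : (Curv2.normalization X).Opens)) :=
    IsLocallyNoetherian.component_noetherian V
  have hV := V.2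
  let (y : _) : Algebra Γ(Curv2.normalization X, (V : (Curv2.normalization X).Opens))
      ((Curv2.normalization X).presheaf.stalk (hV.fromSpec y)) :=
    TopCat.Presheaf.algebra_section_stalk (Curv2.normalization X).presheaf _
  have hloc (P : Ideal Γ(Curv2.normalization X, (V : (Curv2.normalization X).Opens)))
      [hP : P.IsPrime] : IsLocalization.AtPrime
        ((Curv2.normalization X).presheaf.stalk (hV.fromSpec ⟨P, hP⟩)) P :=
    hV.isLocalization_stalk' ⟨P, hP⟩ (hV.isoSpec.inv _).2
  haveI : IsIntegrallyClosed Γ(Curv2.normalization X, (V : (Curv2.normalization X).Opens)) :=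
    IsIntegrallyClosed.of_isLocalization_maximal
      (fun P hP => (Curv2.normalization X).presheaf.stalk (hV.fromSpec ⟨P, hP.isPrime⟩))
      (fun P hP => isIntegrallyClosed_stalk X _)
  have hD : Ring.KrullDimLE 1 Γ(Curv2.normalization X, (V : (Curv2.normalization X).Opens)) :=
    Ring.krullDimLE_of_isLocalization_maximal
      (fun P hP => (Curv2.normalization X).presheaf.stalk (hV.fromSpec ⟨P, hP.isPrime⟩))
      (fun P hP => krullDimLE_one_stalk_normalization X hdim _)
  haveI : Ring.DimensionLEOne Γ(Curv2.normalization X, (V : (Curv2.normalization X).Opens)) :=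
    ⟨fun {p} hp hp' => (Ring.krullDimLE_one_iff_of_noZeroDivisors.mp hD) p hp hp'⟩
  exact { }

end main

end NormSch

end Groth.Agent.Lib.Helper38
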