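import Mathlib
import Groth.Prelude.Def_Curv2
import Groth.Agent.Lib.Helper38.NormSch

set_option autoImplicit false

universe u

open AlgebraicGeometry CategoryTheory TopologicalSpace Opposite

namespace Groth.Agent.Lib.Helper38

namespace NormL

variable (X : Scheme.{u}) [IsIntegral X] (L : Type u) [Field L] [Algebra X.functionField L]

/-- The morphism `Spec L ⟶ X`. -/
noncomputable abbrev fL : Spec (CommRingCat.of L) ⟶ X :=
  Spec.map (CommRingCat.ofHom (algebraMap X.functionField L)) ≫ X.fromSpecStalk (genericPoint X)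

theorem preimage_eq_top {U : X.Opens} (hη : genericPoint X ∈ U) : (fL X L) ⁻¹ᵁ U = ⊤ := by
  have h1 : (fL X L) ⁻¹ᵁ U = (Spec.map (CommRingCat.ofHom (algebraMap X.functionField L))) ⁻¹ᵁ
      ((X.fromSpecStalk (genericPoint X)) ⁻¹ᵁ U) := rfl
  rw [h1, NormSch.preimage_eq_top X hη]
  rfl

/-- The identification of the sections of `Spec L` over the preimage of `U` with `L`. -/
noncomputable def rho {U : X.Opens} (hη : genericPoint X ∈ U) :
    Γ(Spec (CommRingCat.of L), (fL X L) ⁻¹ᵁ U) ⟶ CommRingCat.of L :=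
  (Spec (CommRingCat.of L)).presheaf.map
    (eqToHom (preimage_eq_top X L hη).symm).op ≫ (Scheme.ΓSpecIso _).hom

instance {U : X.Opens} (hη : genericPoint X ∈ U) : IsIso (rho X L hη) := by
  unfold rho; infer_instance

theorem app_rho {U : X.Opens} (hη : genericPoint X ∈ U) :
    (fL X L).app U ≫ rho X L hη =
      X.presheaf.germ U (genericPoint X) hη ≫ CommRingCat.ofHom (algebraMap X.functionField L) := by
  unfold rho
  rw [← Category.assoc, Scheme.Hom.app_eq_appLE, Scheme.Hom.appLE_map, Scheme.Hom.comp_appLE,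
    Scheme.fromSpecStalk_app hη]
  simp only [Category.assoc]
  rw [Scheme.Hom.map_appLE_assoc]
  have h1 : Scheme.Hom.appLE (Spec.map (CommRingCat.ofHom (algebraMap (↑X.functionField) L))) ⊤ ⊤
      le_top = (Spec.map (CommRingCat.ofHom (algebraMap (↑X.functionField) L))).appTop :=
    Scheme.Hom.appLE_eq_app _
  rw [h1, Scheme.ΓSpecIso_naturality]
  congr 1
  exact Iso.inv_hom_id_assoc (Scheme.ΓSpecIso (X.presheaf.stalk (genericPoint X))) _

section affine

variable [QuasiCompact (fL X L)] [QuasiSeparated (fL X L)]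

instance : IsIntegralHom (fL X L).fromNormalization := inferInstance

theorem exists_app_equiv {U : X.Opens} (hU : IsAffineOpen U) [Nonempty U] :
    letI := ((algebraMap X.functionField L).comp (algebraMap Γ(X, U) X.functionField)).toAlgebra
    ∃ e : Γ((fL X L).normalization, (fL X L).fromNormalization ⁻¹ᵁ U) ≃+*
        integralClosure Γ(X, U) L,
      ∀ a : Γ(X, U), e (((fL X L).fromNormalization.app U).hom a) =
        algebraMap Γ(X, U) (integralClosure Γ(X, U) L) a := by
  letI algL : Algebra Γ(X, U) L :=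
    ((algebraMap X.functionField L).comp (algebraMap Γ(X, U) X.functionField)).toAlgebra
  have hη : genericPoint X ∈ U := NormSch.genericPoint_mem X ⟨_, (Classical.arbitrary U).2⟩
  letI := ((fL X L).app U).hom.toAlgebra
  let e0 : Γ(Spec (CommRingCat.of L), (fL X L) ⁻¹ᵁ U) ≃+* L :=
    (asIso (rho X L hη)).commRingCatIsoToRingEquiv
  have he0 : ∀ a : Γ(X, U), e0 (algebraMap Γ(X, U) _ a) = algebraMap Γ(X, U) L a := by
    intro a
    have := congr($(app_rho X L hη) a)
    exact this
  let e1 : Γ(Spec (CommRingCat.of L), (fL X L) ⁻¹ᵁ U) ≃ₐ[Γ(X, U)] L := AlgEquiv.ofRingEquiv he0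
  let i := (fL X L).normalizationObjIso hU
  have h3 : ((fL X L).fromNormalization.app U).hom =
      (i.symm.commRingCatIsoToRingEquiv.toRingHom).comp (algebraMap Γ(X, U) _) :=
    congrArg CommRingCat.Hom.hom ((fL X L).fromNormalization_app hU)
  refine ⟨i.commRingCatIsoToRingEquiv.trans e1.mapIntegralClosure.toRingEquiv, ?_⟩
  intro a
  rw [h3]
  simp only [RingHom.comp_apply, RingEquiv.trans_apply]
  have h4 : i.commRingCatIsoToRingEquiv ((i.symm.commRingCatIsoToRingEquiv.toRingHom)
      (algebraMap Γ(X, U) _ a)) = algebraMap Γ(X, U) _ a := by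
    show i.hom.hom (i.inv.hom _) = _
    rw [← CommRingCat.comp_apply, Iso.inv_hom_id]
    rfl
  rw [h4]
  exact e1.mapIntegralClosure.commutes a

end affine

end NormL

end Groth.Agent.Lib.Helper38
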