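import Mathlib
import Groth.Prelude.Def_Curv2
import Groth.Prelude.Def_Pi1
import Groth.Agent.Lib.Helper38.NormSch

set_option autoImplicit false

universe u

open AlgebraicGeometry CategoryTheory TopologicalSpace Opposite

namespace Groth.Agent.Lib.Helper38

namespace NormSch

variable (X : Scheme.{u}) [IsIntegral X] [QuasiCompact (X.fromSpecStalk (genericPoint X))]
  [QuasiSeparated (X.fromSpecStalk (genericPoint X))]

theorem isNormalScheme : Pi1.IsNormalScheme (Curv2.normalization X) :=
  fun y => ⟨inferInstance, isIntegrallyClosed_stalk X y⟩

theorem genericPoint_mem_range :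
    genericPoint X ∈ Set.range (Curv2.normalizationι X) := by
  refine ⟨(X.fromSpecStalk (genericPoint X)).toNormalization
    (IsLocalRing.closedPoint (X.presheaf.stalk (genericPoint X))), ?_⟩
  have h1 : ((X.fromSpecStalk (genericPoint X)).toNormalization ≫
      (X.fromSpecStalk (genericPoint X)).fromNormalization)
      (IsLocalRing.closedPoint (X.presheaf.stalk (genericPoint X))) = genericPoint X := by
    rw [Scheme.Hom.toNormalization_fromNormalization]
    exact Scheme.fromSpecStalk_closedPoint
  exact h1

theorem surjective : Function.Surjective (Curv2.normalizationι X) := by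
  have hcl : IsClosed (Set.range (Curv2.normalizationι X)) :=
    (Curv2.normalizationι X).isClosedMap.isClosed_range
  rw [← Set.range_eq_univ, ← Set.univ_subset_iff]
  have h1 : closure {genericPoint X} ⊆ Set.range (Curv2.normalizationι X) :=
    hcl.closure_subset_iff.mpr (Set.singleton_subset_iff.mpr (genericPoint_mem_range X))
  have h2 : closure {genericPoint X} = Set.univ := (genericPoint_spec X).def
  rwa [h2] at h1

theorem map_genericPoint :
    (Curv2.normalizationι X) (genericPoint (Curv2.normalization X)) = genericPoint X := by
  have h1 := (genericPoint_spec (Curv2.normalization X)).image (Curv2.normalizationι X).continuous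
  have h2 : closure ((Curv2.normalizationι X) '' (Set.univ : Set (Curv2.normalization X))) =
      Set.univ := by
    rw [Set.image_univ, (surjective X).range_eq, closure_univ]
  rw [h2] at h1
  exact ((genericPoint_spec X).eq h1).symm

theorem bijective_residueFieldMap_genericPoint :
    Function.Bijective ((Curv2.normalizationι X).residueFieldMap
      (genericPoint (Curv2.normalization X))).hom := by
  set y := genericPoint (Curv2.normalization X) with hy
  obtain ⟨U, hU, hxU⟩ := exists_affine X ((Curv2.normalizationι X) y)
  have hη : genericPoint X ∈ U := genericPoint_mem X ⟨_, hxU⟩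
  have hW : IsAffineOpen ((Curv2.normalizationι X) ⁻¹ᵁ U) := hU.preimage (Curv2.normalizationι X)
  have hfe := (app_props X hU hη).2
  have hst := isFracExt_stalkMap (Curv2.normalizationι X) hU hW y hxU hfe
  have hfield : ∀ x : X, x = genericPoint X → IsField (X.presheaf.stalk x) := by
    rintro _ rfl
    exact Field.toIsField X.functionField
  have hF := hfield _ (map_genericPoint X)
  have hsurj : Function.Surjective ((Curv2.normalizationι X).stalkMap y).hom := by
    intro s
    obtain ⟨a, c, hc, hac⟩ := hst.frac s
    obtain ⟨d, hd⟩ := hF.mul_inv_cancel hc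
    refine ⟨a * d, ?_⟩
    rw [map_mul, ← hac, mul_assoc, ← map_mul, hd, map_one, mul_one]
  refine ⟨RingHom.injective _, ?_⟩
  intro z
  obtain ⟨s, rfl⟩ := IsLocalRing.residue_surjective z
  obtain ⟨r, rfl⟩ := hsurj s
  exact ⟨IsLocalRing.residue _ r, rfl⟩

end NormSch

end Groth.Agent.Lib.Helper38
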