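import Mathlib
import Groth.Prelude.Def_Curv2
import Groth.Prelude.Def_Pi1
import Groth.Agent.Lib.Helper38.NormSch2
import Groth.Agent.Lib.Helper23.BirationalNormal

set_option autoImplicit false

universe u

open AlgebraicGeometry CategoryTheory TopologicalSpace Opposite

namespace Groth.Agent.Lib.Helper38

theorem IsFracExt.eq_bot_of_comap_eq_bot {A B : Type*} [CommRing A] [CommRing B] [IsDomain B]
    {φ : A →+* B} (h : IsFracExt φ) (Q : Ideal B) (hQ : Q.comap φ = ⊥) : Q = ⊥ := by
  rw [eq_bot_iff]
  intro b hb
  obtain ⟨a, c, hc, hac⟩ := h.frac b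
  have h1 : φ a ∈ Q := by rw [← hac]; exact Q.mul_mem_right _ hb
  have h2 : a ∈ Q.comap φ := h1
  rw [hQ] at h2
  have ha : a = 0 := (Submodule.mem_bot A).mp h2
  rw [ha, map_zero] at hac
  have hc' : φ c ≠ 0 := fun hc0 => hc (h.inj (by rw [hc0, map_zero]))
  rcases mul_eq_zero.mp hac with h3 | h3
  · exact (Submodule.mem_bot B).mpr h3
  · exact absurd h3 hc'

namespace NormSch

variable (X : Scheme.{u}) [IsIntegral X] [QuasiCompact (X.fromSpecStalk (genericPoint X))]
  [QuasiSeparated (X.fromSpecStalk (genericPoint X))]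

/-- The only point of the normalization over the generic point is the generic point. -/
theorem eq_genericPoint_of_map_eq (x' : Curv2.normalization X)
    (hx' : (Curv2.normalizationι X) x' = genericPoint X) :
    x' = genericPoint (Curv2.normalization X) := by
  obtain ⟨U, hU, hxU⟩ := exists_affine X ((Curv2.normalizationι X) x')
  have hη : genericPoint X ∈ U := genericPoint_mem X ⟨_, hxU⟩
  have hW : IsAffineOpen ((Curv2.normalizationι X) ⁻¹ᵁ U) := hU.preimage (Curv2.normalizationι X)
  have hx'W : x' ∈ (Curv2.normalizationι X) ⁻¹ᵁ U := hxU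
  haveI : Nonempty U := ⟨⟨_, hη⟩⟩
  haveI : Nonempty ((Curv2.normalizationι X) ⁻¹ᵁ U : (Curv2.normalization X).Opens) :=
    ⟨⟨x', hx'W⟩⟩
  have hfe := (app_props X hU hη).2
  have hgW : genericPoint (Curv2.normalization X) ∈ (Curv2.normalizationι X) ⁻¹ᵁ U :=
    ((genericPoint_spec (Curv2.normalization X)).mem_open_set_iff
      ((Curv2.normalizationι X) ⁻¹ᵁ U).isOpen).mpr ⟨x', Set.mem_univ _, hx'W⟩
  -- the prime of `x'`
  have h1 := IsAffineOpen.comap_primeIdealOf_appLE (f := Curv2.normalizationι X) U hU
    ((Curv2.normalizationι X) ⁻¹ᵁ U) hW le_rfl (x := x') hx'W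
  have h2 : (⟨(Curv2.normalizationι X) x', hx'W⟩ : U) = ⟨genericPoint X, hη⟩ := Subtype.ext hx'
  rw [h2, hU.primeIdealOf_genericPoint, genericPoint_eq_bot_of_affine,
    ← Scheme.Hom.app_eq_appLE] at h1
  have h3 : (hW.primeIdealOf ⟨x', hx'W⟩).asIdeal = ⊥ :=
    hfe.eq_bot_of_comap_eq_bot _ (congrArg PrimeSpectrum.asIdeal h1)
  have h4 : hW.primeIdealOf ⟨x', hx'W⟩ = hW.primeIdealOf ⟨genericPoint _, hgW⟩ := by
    rw [hW.primeIdealOf_genericPoint, genericPoint_eq_bot_of_affine]
    exact PrimeSpectrum.ext h3
  have h5 := hW.fromSpec_primeIdealOf ⟨x', hx'W⟩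
  have h6 := hW.fromSpec_primeIdealOf ⟨genericPoint _, hgW⟩
  rw [h4] at h5
  exact h5.symm.trans h6

/-- The stalk map of the normalization at a point over the generic point is an isomorphism. -/
theorem isIso_stalkMap_of_map_eq (x' : Curv2.normalization X)
    (hx' : (Curv2.normalizationι X) x' = genericPoint X) :
    IsIso ((Curv2.normalizationι X).stalkMap x') := by
  obtain ⟨U, hU, hxU⟩ := exists_affine X ((Curv2.normalizationι X) x')
  have hη : genericPoint X ∈ U := genericPoint_mem X ⟨_, hxU⟩
  have hW : IsAffineOpen ((Curv2.normalizationι X) ⁻¹ᵁ U) := hU.preimage (Curv2.normalizationι X)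
  have hfe := (app_props X hU hη).2
  have hst := isFracExt_stalkMap (Curv2.normalizationι X) hU hW x' hxU hfe
  have hfield : ∀ x : X, x = genericPoint X → IsField (X.presheaf.stalk x) := by
    rintro _ rfl
    exact Field.toIsField X.functionField
  have hF := hfield _ hx'
  rw [ConcreteCategory.isIso_iff_bijective]
  refine ⟨hst.inj, ?_⟩
  intro s
  obtain ⟨a, c, hc, hac⟩ := hst.frac s
  obtain ⟨d, hd⟩ := hF.mul_inv_cancel hc
  refine ⟨a * d, ?_⟩
  change ((Curv2.normalizationι X).stalkMap x').hom (a * d) = s
  rw [map_mul, ← hac, mul_assoc, ← map_mul, hd, map_one, mul_one]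

/-- Properties of a scheme isomorphic to the normalization over `X`. -/
theorem props_of_iso {Y : Scheme.{u}} (f : Y ⟶ X) (e : Y ≅ Curv2.normalization X)
    (he : e.hom ≫ Curv2.normalizationι X = f) :
    Pi1.IsNormalScheme Y ∧ IsIntegralHom f ∧
      ∃ _ : IrreducibleSpace ↥Y, f.base ⁻¹' {genericPoint X} = {genericPoint Y} ∧
        IsIso (f.stalkMap (genericPoint Y)) := by
  subst he
  haveI : Nonempty Y := ⟨e.inv (genericPoint _)⟩
  haveI : IsIntegral Y := isIntegral_of_isOpenImmersion e.hom
  have hgen : e.hom (genericPoint Y) = genericPoint (Curv2.normalization X) :=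
    genericPoint_eq_of_isOpenImmersion e.hom
  refine ⟨fun y => ?_, inferInstance, inferInstance, ?_, ?_⟩
  · let i := (asIso (e.hom.stalkMap y)).commRingCatIsoToRingEquiv
    haveI := isIntegrallyClosed_stalk X (e.hom y)
    exact ⟨inferInstance, IsIntegrallyClosed.of_equiv i⟩
  · ext y
    simp only [Set.mem_preimage, Set.mem_singleton_iff]
    constructor
    · intro hy
      have h1 : (Curv2.normalizationι X) (e.hom y) = genericPoint X := hy
      have h2 := eq_genericPoint_of_map_eq X _ h1
      rw [← hgen] at h2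
      have hinj : Function.Injective e.hom := e.hom.isOpenEmbedding.injective
      exact hinj h2
    · rintro rfl
      show (Curv2.normalizationι X) (e.hom (genericPoint Y)) = genericPoint X
      rw [hgen]; exact map_genericPoint X
  · rw [Scheme.Hom.stalkMap_comp]
    have h1 : (Curv2.normalizationι X) (e.hom (genericPoint Y)) = genericPoint X := by
      rw [hgen]; exact map_genericPoint X
    have hA := isIso_stalkMap_of_map_eq X _ h1
    exact @IsIso.comp_isIso _ _ _ _ _ _ _ hA inferInstance

/-- A normal scheme, integral and birational over `X`, is the normalization. -/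
theorem exists_iso_of_props {Y : Scheme.{u}} (f : Y ⟶ X) (hY : Pi1.IsNormalScheme Y)
    [IsIntegralHom f] [IrreducibleSpace ↥Y]
    (hfib : f.base ⁻¹' {genericPoint X} = {genericPoint Y})
    (hiso : IsIso (f.stalkMap (genericPoint Y))) :
    ∃ e : Y ≅ Curv2.normalization X, e.hom ≫ Curv2.normalizationι X = f := by
  haveI : ∀ y : Y, _root_.IsReduced (Y.presheaf.stalk y) := fun y => by
    haveI := (hY y).1; infer_instance
  haveI : IsReduced Y := isReduced_of_isReduced_stalk Y
  haveI : IsIntegral Y := isIntegral_of_irreducibleSpace_of_isReduced Y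
  have hgenY : f (genericPoint Y) = genericPoint X := by
    have : genericPoint Y ∈ f.base ⁻¹' {genericPoint X} := by rw [hfib]; rfl
    exact this
  have hsp : genericPoint X ⤳ f (genericPoint Y) := specializes_of_eq hgenY.symm
  let f₁ : Spec (X.presheaf.stalk (genericPoint X)) ⟶ Y :=
    Spec.map (X.presheaf.stalkSpecializes hsp) ≫ Spec.map (inv (f.stalkMap (genericPoint Y))) ≫
      Y.fromSpecStalk (genericPoint Y)
  have H : X.fromSpecStalk (genericPoint X) = f₁ ≫ f := by
    have h1 := Scheme.SpecMap_stalkMap_fromSpecStalk f (x := genericPoint Y)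
    have h2 := Scheme.SpecMap_stalkSpecializes_fromSpecStalk hsp
    have h3 : Spec.map (inv (f.stalkMap (genericPoint Y))) ≫
        Spec.map (f.stalkMap (genericPoint Y)) = 𝟙 _ := by
      rw [← Spec.map_comp, IsIso.hom_inv_id, Spec.map_id]
    simp only [f₁, Category.assoc]
    rw [← h1, reassoc_of% h3, h2]
  let u : Curv2.normalization X ⟶ Y :=
    (X.fromSpecStalk (genericPoint X)).normalizationDesc f₁ f H
  have hu : u ≫ f = Curv2.normalizationι X :=
    (X.fromSpecStalk (genericPoint X)).normalizationDesc_comp f₁ f H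
  haveI : IsIntegralHom u := by
    show IsIntegralHom ((X.fromSpecStalk (genericPoint X)).normalizationDesc f₁ f H)
    infer_instance
  have hgen : u (genericPoint (Curv2.normalization X)) = genericPoint Y := by
    have h1 : f (u (genericPoint (Curv2.normalization X))) = genericPoint X := by
      rw [← Scheme.Hom.comp_apply, hu]; exact map_genericPoint X
    have h2 : u (genericPoint (Curv2.normalization X)) ∈ f.base ⁻¹' {genericPoint X} := h1
    rw [hfib] at h2
    exact h2
  have hbir : IsIso (u.stalkMap (genericPoint (Curv2.normalization X))) := by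
    have h1 : ∀ g : Curv2.normalization X ⟶ X, g = Curv2.normalizationι X →
        IsIso (g.stalkMap (genericPoint (Curv2.normalization X))) := by
      rintro _ rfl
      exact isIso_stalkMap_of_map_eq X _ (map_genericPoint X)
    have h2 := h1 _ hu
    rw [Scheme.Hom.stalkMap_comp] at h2
    have h3 : ∀ z : Y, z = genericPoint Y → IsIso (f.stalkMap z) := by
      rintro _ rfl; exact hiso
    exact @IsIso.of_isIso_comp_left _ _ _ _ _ (f.stalkMap (u (genericPoint (Curv2.normalization X))))
      (u.stalkMap (genericPoint (Curv2.normalization X))) (h3 _ hgen) h2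
  haveI : IsIso u := Groth.Agent.Lib.Helper23.isIso_of_isIntegralHom_birational_of_normal
    (fun y => (hY y).2) u hgen hbir
  refine ⟨(asIso u).symm, ?_⟩
  show inv u ≫ Curv2.normalizationι X = f
  rw [← hu, IsIso.inv_hom_id_assoc]

end NormSch

end Groth.Agent.Lib.Helper38
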