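import Mathlib
import Groth.Prelude.Def_Curv2
import Groth.Prelude.Def_Pi1
import Groth.Agent.Lib.Helper38.NormSch4

set_option autoImplicit false

universe u

open AlgebraicGeometry CategoryTheory TopologicalSpace Opposite

namespace Groth.Agent.Lib.Helper38

namespace NormSch

/-- Sections over a nonempty affine open all of whose points have integrally closed local rings
form an integrally closed ring. -/
theorem isIntegrallyClosed_of_isAffineOpen' {Y : Scheme.{u}} [IsIntegral Y] {U : Y.Opens}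
    (hU : IsAffineOpen U) [Nonempty U]
    (hN : ∀ y ∈ U, IsIntegrallyClosed (Y.presheaf.stalk y)) : IsIntegrallyClosed Γ(Y, U) := by
  exact @IsIntegrallyClosed.of_isLocalization_maximal Γ(Y, U) _
    (fun P hP => Y.presheaf.stalk (hU.fromSpec ⟨P, hP.isPrime⟩)) (fun P hP => inferInstance)
    (fun P hP => TopCat.Presheaf.algebra_section_stalk Y.presheaf ⟨_, (hU.isoSpec.inv _).2⟩)
    (fun P hP => hU.isLocalization_stalk' ⟨P, hP.isPrime⟩ (hU.isoSpec.inv _).2) _
    (fun P hP => hN _ (hU.isoSpec.inv _).2)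

variable (X : Scheme.{u}) [IsIntegral X] [QuasiCompact (X.fromSpecStalk (genericPoint X))]
  [QuasiSeparated (X.fromSpecStalk (genericPoint X))]

theorem bijective_app_of_isIntegrallyClosed {U : X.Opens} (hU : IsAffineOpen U) [Nonempty U]
    [IsIntegrallyClosed Γ(X, U)] :
    Function.Bijective ((Curv2.normalizationι X).app U).hom := by
  have hη : genericPoint X ∈ U := genericPoint_mem X ⟨_, (Classical.arbitrary U).2⟩
  refine ⟨(app_props X hU hη).2.inj, ?_⟩
  haveI := functionField_isFractionRing_of_isAffineOpen X U hU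
  letI := ((X.fromSpecStalk (genericPoint X)).app U).hom.toAlgebra
  let e0 : Γ(Spec (X.presheaf.stalk (genericPoint X)), (X.fromSpecStalk (genericPoint X)) ⁻¹ᵁ U) ≃+*
      X.functionField := (asIso (rho X hη)).commRingCatIsoToRingEquiv
  have he0 : ∀ a : Γ(X, U), e0 (algebraMap Γ(X, U) _ a) = algebraMap Γ(X, U) X.functionField a := by
    intro a
    have := congr($(app_rho X hη) a)
    exact this
  let e : Γ(Spec (X.presheaf.stalk (genericPoint X)), (X.fromSpecStalk (genericPoint X)) ⁻¹ᵁ U)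
      ≃ₐ[Γ(X, U)] X.functionField := AlgEquiv.ofRingEquiv he0
  have h1 : Function.Surjective (algebraMap Γ(X, U) (integralClosure Γ(X, U)
      Γ(Spec (X.presheaf.stalk (genericPoint X)), (X.fromSpecStalk (genericPoint X)) ⁻¹ᵁ U))) := by
    intro b
    have hb : IsIntegral Γ(X, U) (e (b : Γ(Spec (X.presheaf.stalk (genericPoint X)),
        (X.fromSpecStalk (genericPoint X)) ⁻¹ᵁ U))) := b.2.map e
    obtain ⟨a, ha⟩ := IsIntegrallyClosed.algebraMap_eq_of_integral hb
    refine ⟨a, Subtype.ext (e.injective ?_)⟩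
    rw [← ha]
    exact he0 a
  let i := (X.fromSpecStalk (genericPoint X)).normalizationObjIso hU
  have h3 : ((X.fromSpecStalk (genericPoint X)).fromNormalization.app U).hom =
      (i.symm.commRingCatIsoToRingEquiv.toRingHom).comp (algebraMap Γ(X, U) _) :=
    congrArg CommRingCat.Hom.hom ((X.fromSpecStalk (genericPoint X)).fromNormalization_app hU)
  show Function.Surjective ((X.fromSpecStalk (genericPoint X)).fromNormalization.app U).hom
  rw [h3]
  exact i.symm.commRingCatIsoToRingEquiv.surjective.comp h1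

/-- If `X` has a nonempty open normal locus, a scheme isomorphic to the normalization over `X` is
isomorphic to `X` over a dense open. -/
theorem exists_dense_isIso_of_iso
    (hV : ∃ V : X.Opens, (V : Set ↥X).Nonempty ∧ ∀ x ∈ V, IsIntegrallyClosed (X.presheaf.stalk x))
    {Y : Scheme.{u}} (f : Y ⟶ X) (e : Y ≅ Curv2.normalization X)
    (he : e.hom ≫ Curv2.normalizationι X = f) :
    ∃ U : X.Opens, Dense (U : Set ↥X) ∧ Dense ((f ⁻¹ᵁ U : Y.Opens) : Set ↥Y) ∧ IsIso (f ∣_ U) := by
  obtain ⟨hY, hf, hirr, hfib, hiso⟩ := props_of_iso X f e he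
  obtain ⟨V, ⟨x, hxV⟩, hVn⟩ := hV
  obtain ⟨_, ⟨U, hU, rfl⟩, hxU, hUV⟩ :=
    X.isBasis_affineOpens.exists_subset_of_mem_open hxV V.isOpen
  haveI : Nonempty U := ⟨⟨x, hxU⟩⟩
  have hη : genericPoint X ∈ U := genericPoint_mem X ⟨x, hxU⟩
  have hgenY : f (genericPoint Y) = genericPoint X := by
    have : genericPoint Y ∈ f.base ⁻¹' {genericPoint X} := by rw [hfib]; rfl
    exact this
  refine ⟨U, U.isOpen.dense ⟨x, hxU⟩, (f ⁻¹ᵁ U).isOpen.dense ⟨genericPoint Y, ?_⟩, ?_⟩
  · show f (genericPoint Y) ∈ U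
    rw [hgenY]; exact hη
  · rw [isIso_morphismRestrict_iff_isIso_app f hU]
    subst he
    rw [Scheme.Hom.comp_app]
    haveI : IsIntegrallyClosed Γ(X, U) :=
      isIntegrallyClosed_of_isAffineOpen' hU (fun y hy => hVn y (hUV hy))
    haveI : IsIso ((Curv2.normalizationι X).app U) :=
      (ConcreteCategory.isIso_iff_bijective _).mpr (bijective_app_of_isIntegrallyClosed X hU)
    have hB : IsIso (e.hom.app ((Curv2.normalizationι X) ⁻¹ᵁ U)) := inferInstance
    exact @IsIso.comp_isIso _ _ _ _ _ _ _ ‹_› hB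

/-- A morphism of schemes which is an isomorphism over a dense open with dense preimage is
birational. -/
theorem props_of_dense_isIso {Y : Scheme.{u}} (f : Y ⟶ X) (hY : Pi1.IsNormalScheme Y)
    (U : X.Opens) (hU : Dense (U : Set ↥X)) (hfU : Dense ((f ⁻¹ᵁ U : Y.Opens) : Set ↥Y))
    [hiso : IsIso (f ∣_ U)] :
    ∃ _ : IrreducibleSpace ↥Y, f.base ⁻¹' {genericPoint X} = {genericPoint Y} ∧
      IsIso (f.stalkMap (genericPoint Y)) := by
  obtain ⟨x, hxU⟩ := hU.nonempty
  haveI : Nonempty U := ⟨⟨x, hxU⟩⟩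
  haveI : Nonempty ((f ⁻¹ᵁ U : Y.Opens)) := ⟨(inv (f ∣_ U)) ⟨x, hxU⟩⟩
  haveI : IsIntegral (f ⁻¹ᵁ U).toScheme := isIntegral_of_isOpenImmersion (f ∣_ U)
  -- `Y` is irreducible
  have hirrset : IsIrreducible ((f ⁻¹ᵁ U : Y.Opens) : Set Y) := by
    have h1 := (IrreducibleSpace.isIrreducible_univ (f ⁻¹ᵁ U).toScheme).image (f ⁻¹ᵁ U).ι
      (f ⁻¹ᵁ U).ι.continuous.continuousOn
    rw [Set.image_univ, Scheme.Opens.range_ι] at h1
    exact h1
  haveI hirr : IrreducibleSpace ↥Y := by
    have h2 := hirrset.closure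
    rw [hfU.closure_eq] at h2
    exact { toPreirreducibleSpace := ⟨h2.isPreirreducible⟩, toNonempty := ⟨h2.nonempty.some⟩ }
  refine ⟨hirr, ?_⟩
  have hgY : genericPoint Y ∈ f ⁻¹ᵁ U :=
    ((genericPoint_spec Y).mem_open_set_iff (f ⁻¹ᵁ U).isOpen).mpr
      (by obtain ⟨y⟩ := ‹Nonempty ((f ⁻¹ᵁ U : Y.Opens))›; exact ⟨y.1, Set.mem_univ _, y.2⟩)
  have hgX : genericPoint X ∈ U := genericPoint_mem X ⟨x, hxU⟩
  -- generic points of the opens
  have h1 : (genericPoint (f ⁻¹ᵁ U).toScheme).1 = genericPoint Y :=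
    genericPoint_eq_of_isOpenImmersion (f ⁻¹ᵁ U).ι
  have h2 : (genericPoint U.toScheme).1 = genericPoint X :=
    genericPoint_eq_of_isOpenImmersion U.ι
  have h3 : (f ∣_ U) (genericPoint (f ⁻¹ᵁ U).toScheme) = genericPoint U.toScheme :=
    genericPoint_eq_of_isOpenImmersion (f ∣_ U)
  have hgenY : f (genericPoint Y) = genericPoint X := by
    rw [← h1, ← morphismRestrict_base_coe f U, h3, h2]
  constructor
  · ext y
    simp only [Set.mem_preimage, Set.mem_singleton_iff]
    constructor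
    · intro hy
      have hyU : y ∈ f ⁻¹ᵁ U := by
        show f y ∈ U
        have hy' : f y = genericPoint X := hy
        rw [hy']; exact hgX
      have h4 : (f ∣_ U) ⟨y, hyU⟩ = genericPoint U.toScheme := by
        apply Subtype.ext
        rw [morphismRestrict_base_coe, h2]
        exact hy
      have hinj : Function.Injective (f ∣_ U) := (f ∣_ U).isOpenEmbedding.injective
      have h5 : (⟨y, hyU⟩ : (f ⁻¹ᵁ U : Y.Opens)) = genericPoint (f ⁻¹ᵁ U).toScheme :=
        hinj (h4.trans h3.symm)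
      rw [← h1, ← h5]
    · rintro rfl
      exact hgenY
  · have h6 : ∀ z : (f ⁻¹ᵁ U : Y.Opens), z.1 = genericPoint Y → IsIso (f.stalkMap (genericPoint Y)) := by
      intro z hz
      have h7 : IsIso ((f ∣_ U).stalkMap z) := inferInstance
      have h8 := ((MorphismProperty.isomorphisms CommRingCat).arrow_mk_iso_iff
        (morphismRestrictStalkMap f U z)).mp h7
      have h9 : ∀ y : Y, y = genericPoint Y → IsIso (f.stalkMap y) → IsIso (f.stalkMap (genericPoint Y)) := by
        rintro _ rfl h; exact h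
      exact h9 _ hz h8
    exact h6 ⟨genericPoint Y, hgY⟩ rfl

end NormSch

end Groth.Agent.Lib.Helper38
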