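import Mathlib
import Groth.Prelude
import Groth.Agent.Lib.Helper47.SeparableSmooth
import Groth.Agent.Lib.Helper50.GeomReducedScheme
import Groth.Agent.Lib.Helper50.GeomReducedGeneric
import Groth.Agent.S1628
import Groth.Agent.Lib.Helper89.DenseOpenDim

/-!
# Geometrically reduced iff a dense open is smooth (helper38)
-/

set_option autoImplicit false
universe u
open CategoryTheory CategoryTheory.Limits AlgebraicGeometry TensorProduct

namespace Groth.Agent.Lib.Helper38.GRSm

/-- Formal smoothness cancels a localization of the base. -/
theorem formallySmooth_of_comp_localization {R Rₘ S : Type*} [CommRing R] [CommRing Rₘ]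
    [CommRing S] (M : Submonoid R) [Algebra R Rₘ] [IsLocalization M Rₘ] (g : Rₘ →+* S)
    (h : (g.comp (algebraMap R Rₘ)).FormallySmooth) : g.FormallySmooth := by
  letI := g.toAlgebra
  letI := (g.comp (algebraMap R Rₘ)).toAlgebra
  haveI : IsScalarTower R Rₘ S := IsScalarTower.of_algebraMap_eq' rfl
  haveI : Algebra.FormallySmooth R S := h
  exact Algebra.FormallySmooth.localization_base M

open Groth.Agent.Lib.Helper50 in
/-- The generic point of an integral geometrically reduced scheme over a field is a smooth point. -/
theorem genericPoint_mem_smoothLocus {K : Type u} [Field K] {X : Scheme.{u}} [IsIntegral X]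
    (f : X ⟶ Spec (CommRingCat.of K)) [LocallyOfFinitePresentation f] [GeometricallyReduced f] :
    genericPoint X ∈ f.smoothLocus := by
  rw [Scheme.Hom.mem_smoothLocus]
  obtain ⟨φ, hφ⟩ := exists_ringHom_stalk f (genericPoint X)
  have hgr := isGeometricallyReduced_stalk_of_geometricallyReduced f (genericPoint X) φ hφ
  have hφs : φ.FormallySmooth := by
    letI := φ.toAlgebra
    letI : Field (X.presheaf.stalk (genericPoint X)) :=
      inferInstanceAs (Field X.functionField)
    exact Groth.Agent.Lib.Helper47.formallySmooth_of_isGeometricallyReduced K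
      (X.presheaf.stalk (genericPoint X))
  have e := Spec.fromSpecStalk_eq' (CommRingCat.of K) (f (genericPoint X))
  have hcomp : CommRingCat.ofHom φ =
      StructureSheaf.toStalk K (f (genericPoint X)) ≫ f.stalkMap (genericPoint X) := by
    apply Spec.map_injective
    rw [hφ, Spec.map_comp, ← Scheme.SpecMap_stalkMap_fromSpecStalk f, e]
    rfl
  have hcomp' : φ = (f.stalkMap (genericPoint X)).hom.comp
      (StructureSheaf.toStalk K (f (genericPoint X))).hom :=
    congrArg CommRingCat.Hom.hom hcomp
  rw [hcomp'] at hφs
  exact formallySmooth_of_comp_localization (f (genericPoint X)).asIdeal.primeCompl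
    (Rₘ := (Spec.structureSheaf K).presheaf.stalk (f (genericPoint X))) _ hφs

/-- Precomposing a geometrically reduced morphism with an open immersion stays geometrically
reduced. -/
theorem geometricallyReduced_comp_of_isOpenImmersion {U X S : Scheme.{u}} (j : U ⟶ X)
    [IsOpenImmersion j] (f : X ⟶ S) [hf : GeometricallyReduced f] :
    GeometricallyReduced (j ≫ f) := by
  refine ⟨fun K _ y Z fst snd h => ?_⟩
  have t : IsPullback (pullback.snd f y) (pullback.fst f y) y f :=
    (IsPullback.of_hasPullback f y).flip
  have res := IsPullback.of_right' h.flip t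
  have hopen := MorphismProperty.of_isPullback (P := @IsOpenImmersion) res.flip inferInstance
  haveI : IsReduced (pullback f y) :=
    hf.1 y (pullback.fst f y) (pullback.snd f y) (IsPullback.of_hasPullback f y)
  exact @isReduced_of_isOpenImmersion _ _ _ hopen _

/-- A reduced geometrically reduced scheme locally of finite presentation over a field has a
dense smooth locus. -/
theorem dense_smoothLocus {K : Type u} [Field K] {X : Scheme.{u}} [IsReduced X]
    (f : X ⟶ Spec (CommRingCat.of K)) [LocallyOfFinitePresentation f] [GeometricallyReduced f] :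
    Dense (f.smoothLocus : Set X) := by
  wlog H : CompactSpace X generalizing X with ih
  · rw [dense_iff_closure_eq, Set.eq_univ_iff_forall]
    intro x
    obtain ⟨_, ⟨U : X.Opens, hU, rfl⟩, hxU, -⟩ :=
      X.isBasis_affineOpens.exists_subset_of_mem_open (Set.mem_univ x) isOpen_univ
    haveI : GeometricallyReduced (U.ι ≫ f) := geometricallyReduced_comp_of_isOpenImmersion U.ι f
    have := ih (U.ι ≫ f) (isCompact_iff_compactSpace.mp hU.isCompact) ⟨x, hxU⟩
    rwa [← Scheme.Hom.preimage_smoothLocus_eq, Scheme.Hom.coe_preimage,
      ← U.ι.isOpenEmbedding.isOpenMap.preimage_closure_eq_closure_preimage U.ι.continuous,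
      Set.mem_preimage, U.ι_apply] at this
  have : IsNoetherian X := { __ := LocallyOfFiniteType.isLocallyNoetherian f }
  rw [dense_iff_closure_eq, Set.eq_univ_iff_forall]
  intro x
  let U : X.Opens :=
    ⟨(⋃₀ (irreducibleComponents X \ {irreducibleComponent x}))ᶜ, by
      rw [Set.sUnion_eq_biUnion, isOpen_compl_iff]
      exact TopologicalSpace.NoetherianSpace.finite_irreducibleComponents.sdiff.isClosed_biUnion
        fun W hW ↦ isClosed_of_mem_irreducibleComponents W hW.1⟩
  have hU : closure U = irreducibleComponent x :=
    closure_sUnion_irreducibleComponents_sdiff_singleton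
      TopologicalSpace.NoetherianSpace.finite_irreducibleComponents
      _ (irreducibleComponent_mem_irreducibleComponents x)
  have : AlgebraicGeometry.IsIntegral U :=
    have : IrreducibleSpace U := isIrreducible_iff_irreducibleSpace.mp
      (isIrreducible_iff_closure.mp (hU ▸ isIrreducible_irreducibleComponent))
    isIntegral_of_irreducibleSpace_of_isReduced _
  haveI : GeometricallyReduced (U.ι ≫ f) := geometricallyReduced_comp_of_isOpenImmersion U.ι f
  have : U.ι (genericPoint U) ∈ f.smoothLocus := by
    have := genericPoint_mem_smoothLocus (U.ι ≫ f)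
    rwa [← Scheme.Hom.preimage_smoothLocus_eq, Scheme.Hom.mem_preimage] at this
  exact (((genericPoint_spec U).image U.ι.continuous).specializes (y := x)
    (by rw [Set.image_univ, U.range_ι, hU]; exact mem_irreducibleComponent)).mem_closed
    isClosed_closure (subset_closure this)

/-- If a dense open of a reduced locally Noetherian `k`-scheme is geometrically reduced, so is
the scheme. -/
theorem geometricallyReduced_of_dense_open {k : Type u} [Field k] {X : Scheme.{u}} [IsReduced X]
    [IsLocallyNoetherian X]
    (f : X ⟶ Spec (CommRingCat.of k)) (U : X.Opens) (hU : Dense (U : Set X))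
    [hUf : GeometricallyReduced (U.ι ≫ f)] : GeometricallyReduced f := by
  apply Groth.Agent.Lib.Helper50.geometricallyReduced_of_forall_generic
  intro η hη K _ _ y hy
  -- the generic point `η` lies in `U`
  have hmax : ∀ ξ : X, ξ ⤳ η → ξ = η := by
    intro ξ hξ
    have hle : closure ({η} : Set X) ⊆ closure {ξ} := hξ.closure_subset
    have heq : closure ({η} : Set X) = closure {ξ} :=
      le_antisymm hle (hη.2 isIrreducible_singleton.closure hle)
    have hinsep : Inseparable ξ η := by
      rw [inseparable_iff_closure_eq]; exact heq.symm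
    exact hinsep.eq
  have hηU : η ∈ U :=
    Groth.Agent.Lib.Helper89.DenseOpenDim.mem_of_dense_of_maximal X (U : Set X) U.isOpen hU η hmax
  -- the base change of `U`
  let g := Spec.map (CommRingCat.ofHom (algebraMap k K))
  have t : IsPullback (pullback.snd f g) (pullback.fst f g) g f :=
    (IsPullback.of_hasPullback f g).flip
  have h0 : IsPullback (pullback.snd (U.ι ≫ f) g) (pullback.fst (U.ι ≫ f) g) g (U.ι ≫ f) :=
    (IsPullback.of_hasPullback (U.ι ≫ f) g).flip
  have res := IsPullback.of_right' h0 t
  have hopen := MorphismProperty.of_isPullback (P := @IsOpenImmersion) res.flip inferInstance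
  haveI : IsReduced (pullback (U.ι ≫ f) g) :=
    hUf.1 g (pullback.fst _ g) (pullback.snd _ g) (IsPullback.of_hasPullback _ g)
  obtain ⟨y', hy'1, hy'2⟩ := Scheme.exists_preimage_of_isPullback res y
    (⟨η, hηU⟩ : U) (by rw [hy]; rfl)
  rw [← hy'1]
  haveI := hopen
  exact isReduced_of_injective _ (MulEquiv.injective
    (asIso (Scheme.Hom.stalkMap _ y')).commRingCatIsoToRingEquiv.toMulEquiv)

/-- A reduced scheme locally of finite type over a field is geometrically reduced iff it has a
dense open subscheme smooth over the field. -/
theorem main (k : Type u) [Field k] (X : Scheme.{u}) [X.Over (Spec (CommRingCat.of k))]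
    [IsReduced X] [LocallyOfFiniteType (X ↘ (Spec (CommRingCat.of k)))] :
    GeometricallyReduced (X ↘ (Spec (CommRingCat.of k))) ↔
      ∃ U : X.Opens, Dense (U : Set X) ∧ Smooth (U.ι ≫ (X ↘ (Spec (CommRingCat.of k)))) := by
  haveI : IsLocallyNoetherian X :=
    LocallyOfFiniteType.isLocallyNoetherian (X ↘ (Spec (CommRingCat.of k)))
  constructor
  · intro h
    refine ⟨(X ↘ (Spec (CommRingCat.of k))).smoothLocus,
      dense_smoothLocus (X ↘ (Spec (CommRingCat.of k))), ?_⟩
    rw [← Scheme.Hom.smoothLocus_eq_top_iff, ← Scheme.Hom.preimage_smoothLocus_eq]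
    exact Scheme.Opens.ι_preimage_self _
  · rintro ⟨U, hU, hs⟩
    letI : (U : Scheme.{u}).Over (Spec (CommRingCat.of k)) :=
      ⟨U.ι ≫ (X ↘ (Spec (CommRingCat.of k)))⟩
    haveI : Smooth ((U : Scheme.{u}) ↘ (Spec (CommRingCat.of k))) := hs
    haveI : GeometricallyReduced (U.ι ≫ (X ↘ (Spec (CommRingCat.of k)))) :=
      (Groth.Agent.S1628.result k (U : Scheme.{u})).1
    exact geometricallyReduced_of_dense_open (X ↘ (Spec (CommRingCat.of k))) U hU

end Groth.Agent.Lib.Helper38.GRSm
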