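import Mathlib
import Groth.Prelude.Def_Curv2
import Groth.Agent.Lib.Helper50.GaloisComp

/-!
# Galois orbits of irreducible components of a base change (no finiteness hypotheses)
-/

open CategoryTheory AlgebraicGeometry Limits TopologicalSpace

namespace Groth.Agent.Lib.Helper38

namespace GaloisOrbit

universe u

variable (k : Type u) [Field k] (X : Scheme.{u}) [X.Over (Spec (CommRingCat.of k))]
  (K : Type u) [Field K] [Algebra k K]

theorem galAct_fst (σ : K ≃ₐ[k] K) :
    Curv2.galAct k X K σ ≫ Curv2.bcFst k X K = Curv2.bcFst k X K := by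
  unfold Curv2.galAct
  rw [pullback.lift_fst, Category.comp_id]

theorem galAct_snd (σ : K ≃ₐ[k] K) :
    Curv2.galAct k X K σ ≫ Curv2.bcSnd k X K =
      Curv2.bcSnd k X K ≫ Spec.map (CommRingCat.ofHom (σ : K →ₐ[k] K).toRingHom) := by
  unfold Curv2.galAct
  rw [pullback.lift_snd]

theorem bcFst_galAct_apply (σ : K ≃ₐ[k] K) (z : ↥(Curv2.bc k X K)) :
    (Curv2.bcFst k X K).base ((Curv2.galAct k X K σ).base z) = (Curv2.bcFst k X K).base z := by
  have := congr($(galAct_fst k X K σ) z)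
  exact this

theorem image_bcFst_galAct (σ : K ≃ₐ[k] K) (Z : Set ↥(Curv2.bc k X K)) :
    (Curv2.bcFst k X K).base '' ((Curv2.galAct k X K σ).base '' Z) =
      (Curv2.bcFst k X K).base '' Z := by
  rw [Set.image_image]
  congr 1
  funext z
  exact bcFst_galAct_apply k X K σ z

theorem galAct_symm_galAct_apply (σ : K ≃ₐ[k] K) (z : ↥(Curv2.bc k X K)) :
    (Curv2.galAct k X K σ.symm).base ((Curv2.galAct k X K σ).base z) = z := by
  have := congr($(Groth.Agent.Lib.Helper50.galAct_comp_galAct_symm k X K σ) z)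
  exact this

theorem galAct_galAct_symm_apply (σ : K ≃ₐ[k] K) (z : ↥(Curv2.bc k X K)) :
    (Curv2.galAct k X K σ).base ((Curv2.galAct k X K σ.symm).base z) = z := by
  have := galAct_symm_galAct_apply k X K σ.symm z
  rwa [AlgEquiv.symm_symm] at this

/-- The preimage of a subset of `X` is stable under the Galois action. -/
theorem image_galAct_preimage (σ : K ≃ₐ[k] K) (T : Set X) :
    (Curv2.galAct k X K σ).base '' ((Curv2.bcFst k X K).base ⁻¹' T) =
      (Curv2.bcFst k X K).base ⁻¹' T := by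
  ext z
  constructor
  · rintro ⟨w, hw, rfl⟩
    show (Curv2.bcFst k X K).base _ ∈ T
    rw [bcFst_galAct_apply]
    exact hw
  · intro hz
    refine ⟨(Curv2.galAct k X K σ.symm).base z, ?_, galAct_galAct_symm_apply k X K σ z⟩
    show (Curv2.bcFst k X K).base _ ∈ T
    rw [bcFst_galAct_apply]
    exact hz

variable [IsGalois k K]

/-- Two points of `X_K` with the same image in `X` are Galois conjugate. -/
theorem exists_galAct_apply_eq (t y : ↥(Curv2.bc k X K))
    (h : (Curv2.bcFst k X K).base t = (Curv2.bcFst k X K).base y) :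
    ∃ σ : K ≃ₐ[k] K, (Curv2.galAct k X K σ).base t = y := by
  obtain ⟨σ, hσ⟩ := Groth.Agent.Lib.Helper50.exists_galAct_eq
    (X ↘ Spec (CommRingCat.of k)) t y h
  exact ⟨σ, hσ _ (galAct_fst k X K σ) (galAct_snd k X K σ)⟩

/-- Irreducible components of `X_K` with the same image in `X` are Galois conjugate. -/
theorem exists_galAct_image_eq (Z' Z'' : Set ↥(Curv2.bc k X K))
    (hZ' : Z' ∈ irreducibleComponents ↥(Curv2.bc k X K))
    (hZ'' : Z'' ∈ irreducibleComponents ↥(Curv2.bc k X K))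
    (h : (Curv2.bcFst k X K).base '' Z' = (Curv2.bcFst k X K).base '' Z'') :
    ∃ σ : K ≃ₐ[k] K, (Curv2.galAct k X K σ).base '' Z' = Z'' := by
  obtain ⟨hbc1, -⟩ := Groth.Agent.Lib.Helper50.irreducibleComponents_bc (K := K)
    (X ↘ Spec (CommRingCat.of k))
  have hT := hbc1 Z' hZ'
  have hTcl := isClosed_of_mem_irreducibleComponents _ hT
  obtain ⟨η, hη⟩ := QuasiSober.sober hT.1 hTcl
  have hG : ∀ W ∈ irreducibleComponents ↥(Curv2.bc k X K),
      (Curv2.bcFst k X K).base '' W = (Curv2.bcFst k X K).base '' Z' →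
      ∃ ξ, IsGenericPoint ξ W ∧ (Curv2.bcFst k X K).base ξ = η := by
    intro W hW hWZ
    obtain ⟨ξ, hξ⟩ := QuasiSober.sober hW.1 (isClosed_of_mem_irreducibleComponents W hW)
    refine ⟨ξ, hξ, ?_⟩
    have h2 := hξ.image (Curv2.bcFst k X K).continuous
    have h3 : closure ((Curv2.bcFst k X K).base '' W) = (Curv2.bcFst k X K).base '' Z' := by
      rw [hWZ]; exact hTcl.closure_eq
    have h1 : IsGenericPoint ((Curv2.bcFst k X K).base ξ) ((Curv2.bcFst k X K).base '' Z') := by
      rw [← h3]; exact h2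
    exact h1.eq hη
  obtain ⟨ξ', hξ', hpξ'⟩ := hG Z' hZ' rfl
  obtain ⟨ξ'', hξ'', hpξ''⟩ := hG Z'' hZ'' h.symm
  obtain ⟨σ, h1⟩ := exists_galAct_apply_eq k X K ξ' ξ'' (hpξ'.trans hpξ''.symm)
  refine ⟨σ, ?_⟩
  have hiso := Groth.Agent.Lib.Helper50.isIso_galAct k X K σ
  have h2 := (Curv2.galAct k X K σ).homeomorph.image_closure {ξ'}
  rw [hξ'.def, Set.image_singleton] at h2
  have h3 : (Curv2.galAct k X K σ).homeomorph ξ' = ξ'' := h1
  rw [h3, hξ''.def] at h2
  exact h2

end GaloisOrbit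

end Groth.Agent.Lib.Helper38
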