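import Groth.Agent.Lib.Helper38.FlatBCField
import Groth.Agent.Lib.Helper17.HHIso
import Groth.Prelude.Def_ega3

/-!
# Fibres over closed points of an affine base (helper38)

For `f : X ⟶ Spec A` separated and quasi-compact, `F` quasi-coherent and a maximal ideal `m` of `A`:
if the cohomology `H^p(X_y, F_y)` of the fibre at the point `y` of `m` (fibre over `Spec κ(y)`)
vanishes, then so does the cohomology of the base change of `F` to `X ×_A Spec (A ⧸ m)`.
-/

set_option autoImplicit false
universe u
open AlgebraicGeometry CategoryTheory Limits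

namespace Groth.Agent.Lib.Helper38.CBFibre

open Groth.Agent.Lib.Helper38.FlatBCField

variable {A : Type u} [CommRing A] {X : Scheme.{u}} (f : X ⟶ Spec (CommRingCat.of A))

/-- the point of `Spec A` attached to a maximal ideal. -/
def pt (m : Ideal A) [hm : m.IsMaximal] : ↑(Spec (CommRingCat.of A)) :=
  (⟨m, hm.isPrime⟩ : PrimeSpectrum A)

/-- the fibre at a point `y` as a pullback along `Spec κ'(y) → Spec A` (`κ'` Mathlib's algebraic
residue field). -/
theorem isPullback_fiber (y : ↑(Spec (CommRingCat.of A))) :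
    IsPullback (f.fiberι y)
      (f.fiberToSpecResidueField y ≫ Spec.map (Scheme.Spec.residueFieldIso (CommRingCat.of A) y).inv)
      f (Spec.map (CommRingCat.ofHom (algebraMap A y.asIdeal.ResidueField))) := by
  have sq₀ : IsPullback (f.fiberι y) (f.fiberToSpecResidueField y) f
      ((Spec (CommRingCat.of A)).fromSpecResidueField y) := IsPullback.of_hasPullback _ _
  refine IsPullback.of_iso sq₀ (Iso.refl _) (Iso.refl _)
    (asIso (Spec.map (Scheme.Spec.residueFieldIso (CommRingCat.of A) y).inv)) (Iso.refl _)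
    ?_ ?_ ?_ ?_
  · simp
  · simp
  · simp
  · simp only [asIso_hom, Iso.refl_hom, Category.comp_id]
    exact (Scheme.Spec.map_residueFieldIso_inv_eq_fromSpecResidueField (CommRingCat.of A) y).symm

variable [IsSeparated f] [QuasiCompact f] (F : X.Modules) [F.IsQuasicoherent]

/-- vanishing on the fibre at a closed point gives vanishing after base change to `A ⧸ m`. -/
theorem subsingleton_HH_quotient_of_fiberH (m : Ideal A) [hm : m.IsMaximal] (p : ℕ)
    (h : Subsingleton (CohIII.fiberH f F (pt m) p)) :
    Subsingleton (Coh.HH (pullback f (Spec.map (CommRingCat.ofHom (algebraMap A (A ⧸ m)))))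
      ((Scheme.Modules.pullback
        (pullback.fst f (Spec.map (CommRingCat.ofHom (algebraMap A (A ⧸ m)))))).obj F) p) := by
  letI : Field (A ⧸ m) := Ideal.Quotient.field m
  -- the fibre as a pullback over the algebraic residue field
  let g₁ : f.fiber (pt m) ⟶ Spec (CommRingCat.of m.ResidueField) :=
    f.fiberToSpecResidueField (pt m) ≫
      Spec.map (Scheme.Spec.residueFieldIso (CommRingCat.of A) (pt m)).inv
  have sq₁ : IsPullback (f.fiberι (pt m)) g₁ f
      (Spec.map (CommRingCat.ofHom (algebraMap A m.ResidueField))) := isPullback_fiber f (pt m)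
  -- the square over `A ⧸ m`
  have sq₂ : IsPullback (pullback.fst f (Spec.map (CommRingCat.ofHom (algebraMap A (A ⧸ m)))))
      (pullback.snd f (Spec.map (CommRingCat.ofHom (algebraMap A (A ⧸ m))))) f
      (Spec.map (CommRingCat.ofHom (algebraMap A (A ⧸ m)))) := IsPullback.of_hasPullback _ _
  have hfac : Spec.map (CommRingCat.ofHom (algebraMap A m.ResidueField)) =
      Spec.map (CommRingCat.ofHom (algebraMap (A ⧸ m) m.ResidueField)) ≫
        Spec.map (CommRingCat.ofHom (algebraMap A (A ⧸ m))) := by
    rw [← Spec.map_comp, ← CommRingCat.ofHom_comp,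
      ← IsScalarTower.algebraMap_eq A (A ⧸ m) m.ResidueField]
  have hw : f.fiberι (pt m) ≫ f =
      (g₁ ≫ Spec.map (CommRingCat.ofHom (algebraMap (A ⧸ m) m.ResidueField))) ≫
      Spec.map (CommRingCat.ofHom (algebraMap A (A ⧸ m))) :=
    sq₁.w.trans (by rw [hfac]; exact (Category.assoc _ _ _).symm)
  let l : f.fiber (pt m) ⟶ pullback f (Spec.map (CommRingCat.ofHom (algebraMap A (A ⧸ m)))) :=
    pullback.lift (f.fiberι (pt m))
      (g₁ ≫ Spec.map (CommRingCat.ofHom (algebraMap (A ⧸ m) m.ResidueField))) hw
  have hl₁ : l ≫ pullback.fst f (Spec.map (CommRingCat.ofHom (algebraMap A (A ⧸ m)))) =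
      f.fiberι (pt m) := pullback.lift_fst _ _ _
  have hl₂ : l ≫ pullback.snd f (Spec.map (CommRingCat.ofHom (algebraMap A (A ⧸ m)))) =
      g₁ ≫ Spec.map (CommRingCat.ofHom (algebraMap (A ⧸ m) m.ResidueField)) :=
    pullback.lift_snd _ _ _
  have sq₃ : IsPullback l g₁
      (pullback.snd f (Spec.map (CommRingCat.ofHom (algebraMap A (A ⧸ m)))))
      (Spec.map (CommRingCat.ofHom (algebraMap (A ⧸ m) m.ResidueField))) := by
    refine IsPullback.of_right ?_ hl₂ sq₂
    rw [hl₁, ← hfac]
    exact sq₁
  haveI : IsSeparated (pullback.snd f (Spec.map (CommRingCat.ofHom (algebraMap A (A ⧸ m))))) :=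
    MorphismProperty.of_isPullback sq₂ inferInstance
  haveI : QuasiCompact (pullback.snd f (Spec.map (CommRingCat.ofHom (algebraMap A (A ⧸ m))))) :=
    MorphismProperty.of_isPullback sq₂ inferInstance
  haveI : ((Scheme.Modules.pullback
      (pullback.fst f (Spec.map (CommRingCat.ofHom (algebraMap A (A ⧸ m)))))).obj F).IsQuasicoherent :=
    Groth.Agent.Lib.Helper16.FlatPull.isQuasicoherent_pullback _ F
  rw [← subsingleton_HH_iff (k := A ⧸ m) (K := m.ResidueField) l
    (pullback.snd f (Spec.map (CommRingCat.ofHom (algebraMap A (A ⧸ m))))) g₁ sq₃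
    ((Scheme.Modules.pullback
      (pullback.fst f (Spec.map (CommRingCat.ofHom (algebraMap A (A ⧸ m)))))).obj F) p]
  -- identify the two modules on the fibre
  let e : (Scheme.Modules.pullback (f.fiberι (pt m))).obj F ≅
      (Scheme.Modules.pullback l).obj ((Scheme.Modules.pullback
        (pullback.fst f (Spec.map (CommRingCat.ofHom (algebraMap A (A ⧸ m)))))).obj F) :=
    (Scheme.Modules.pullbackCongr hl₁.symm).app F ≪≫
      ((Scheme.Modules.pullbackComp l
        (pullback.fst f (Spec.map (CommRingCat.ofHom (algebraMap A (A ⧸ m)))))).app F).symm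
  haveI : Subsingleton (Coh.HH (f.fiber (pt m))
      ((Scheme.Modules.pullback (f.fiberι (pt m))).obj F) p) := h
  exact Groth.Agent.Lib.Helper17.HHIso.subsingleton_of_iso e p

end Groth.Agent.Lib.Helper38.CBFibre
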