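import Groth.Agent.Lib.Helper38.CBTrunc
import Groth.Agent.Lib.Helper20.HomologyElts
import Groth.Prelude.Def_ega3

/-!
# Cohomology and base change: from families to cochain complexes (helper38)

An `ℕ`-indexed family of modules and linear maps `d q : C q → C (q+1)` with `d ∘ d = 0` gives a
cochain complex `cx d hd : CochainComplex (ModuleCat A) ℤ` (zero in negative degrees), and the
homology of `CohIII.tensorObj (cx d hd) M` in degree `p : ℕ` is presented by the cocycles of
`(d p).rTensor M` modulo the coboundaries.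
-/

set_option autoImplicit false
universe u

open CategoryTheory Limits TensorProduct Function MonoidalCategory

namespace Groth.Agent.Lib.Helper38.CBCat

open Groth.Agent.Lib.Helper38.CBTrunc Groth.Agent.Lib.Helper20.HomologyElts

section general

variable {A : Type u} [CommRing A] {ι : Type*} {c : ComplexShape ι}

/-- presentation of the homology of a complex of modules at `j` in terms of `i = prev j`,
`k = next j`. -/
theorem exists_pres_sc' (E : HomologicalComplex (ModuleCat.{u} A) c) (i j k : ι)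
    (hi : c.prev j = i) (hk : c.next j = k) :
    ∃ cl : LinearMap.ker (E.d j k).hom →ₗ[A] E.homology j,
      Pres (LinearMap.range (E.d i j).hom) (E.d j k).hom cl := by
  refine ⟨(E.homologyIsoSc' i j k hi hk).inv.hom ∘ₗ cls (E.sc' i j k), ?_, fun z => ?_⟩
  · have h1 : Surjective (E.homologyIsoSc' i j k hi hk).inv.hom :=
      (ConcreteCategory.bijective_of_isIso (E.homologyIsoSc' i j k hi hk).inv).2
    exact h1.comp (cls_surjective (E.sc' i j k))
  · have h1 : Injective (E.homologyIsoSc' i j k hi hk).inv.hom :=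
      (ConcreteCategory.bijective_of_isIso (E.homologyIsoSc' i j k hi hk).inv).1
    rw [LinearMap.comp_apply]
    constructor
    · intro h0
      exact (cls_eq_zero_iff (E.sc' i j k) z).mp (h1 (h0.trans (map_zero _).symm))
    · intro h0
      have h2 := (cls_eq_zero_iff (E.sc' i j k) z).mpr h0
      exact (congrArg _ h2).trans (map_zero _)

end general

section family

variable {A : Type u} [CommRing A] (C : ℕ → Type u) [∀ q, AddCommGroup (C q)]
  [∀ q, Module A (C q)] (d : ∀ q, C q →ₗ[A] C (q + 1)) (hd : ∀ q x, d (q + 1) (d q x) = 0)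

/-- terms of the complex attached to a family. -/
def XZ : ℤ → ModuleCat.{u} A
  | Int.ofNat q => ModuleCat.of A (C q)
  | Int.negSucc _ => ModuleCat.of A PUnit

variable {C}

/-- differentials of the complex attached to a family. -/
def dZ : ∀ i : ℤ, XZ (A := A) C i ⟶ XZ C (i + 1)
  | Int.ofNat q => ModuleCat.ofHom (d q)
  | Int.negSucc _ => 0

include hd in
theorem dZ_comp (i : ℤ) : dZ d i ≫ dZ d (i + 1) = 0 := by
  cases i with
  | ofNat q =>
    change ModuleCat.ofHom (d q) ≫ ModuleCat.ofHom (d (q + 1)) = 0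
    ext x
    exact hd q x
  | negSucc n => exact zero_comp

/-- the cochain complex attached to a family. -/
noncomputable def cx : CochainComplex (ModuleCat.{u} A) ℤ :=
  CochainComplex.of (XZ C) (dZ d) (dZ_comp d hd)

theorem cx_X (q : ℕ) : (cx d hd).X (q : ℤ) = ModuleCat.of A (C q) := rfl

theorem cx_d (q : ℕ) : (cx d hd).d (q : ℤ) ((q : ℤ) + 1) = ModuleCat.ofHom (d q) :=
  CochainComplex.of_d (XZ C) (dZ d) (q : ℤ)

theorem cx_d' (q : ℕ) : (cx d hd).d (q : ℤ) ((q + 1 : ℕ) : ℤ) = ModuleCat.ofHom (d q) :=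
  CochainComplex.of_d (XZ C) (dZ d) (q : ℤ)

theorem isZero_cx_X_neg (i : ℤ) (hi : i < 0) : IsZero ((cx d hd).X i) := by
  cases i with
  | ofNat q => exact absurd hi (by simp)
  | negSucc n =>
    change IsZero (ModuleCat.of A PUnit)
    exact ModuleCat.isZero_of_subsingleton _

theorem isZero_cx_X_of_subsingleton (q : ℕ) [Subsingleton (C q)] :
    IsZero ((cx d hd).X (q : ℤ)) := by
  change IsZero (ModuleCat.of A (C q))
  exact ModuleCat.isZero_of_subsingleton _

theorem flat_cx_X (hC : ∀ q, Module.Flat A (C q)) (i : ℤ) : Module.Flat A ((cx d hd).X i) := by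
  cases i with
  | ofNat q => exact hC q
  | negSucc n =>
    change Module.Flat A PUnit.{u + 1}
    infer_instance

theorem pres_congr {C1 C2 H : Type u} [AddCommGroup C1] [Module A C1] [AddCommGroup C2]
    [Module A C2] [AddCommGroup H] [Module A H] {B B' : Submodule A C1} {g g' : C1 →ₗ[A] C2}
    (hB : B = B') (hg : g = g') (cl : LinearMap.ker g →ₗ[A] H) (h : Pres B g cl) :
    ∃ cl' : LinearMap.ker g' →ₗ[A] H, Pres B' g' cl' := by
  subst hB
  subst hg
  exact ⟨cl, h⟩

/-- **Presentation of the homology of `cx`** by the family. -/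
theorem exists_pres_cx (p : ℕ) :
    ∃ cl : LinearMap.ker (d p) →ₗ[A] (cx d hd).homology (p : ℤ), Pres (Bd d p) (d p) cl := by
  have hdp : ∀ q : ℕ, ((cx d hd).d (q : ℤ) ((q : ℤ) + 1)).hom = d q := fun q => by
    rw [cx_d]
    rfl
  cases p with
  | zero =>
    obtain ⟨cl, hcl⟩ := exists_pres_sc' (cx d hd)
      (((0 : ℕ) : ℤ) - 1) ((0 : ℕ) : ℤ) (((0 : ℕ) : ℤ) + 1) (by simp) (by simp)
    refine pres_congr ?_ (hdp 0) cl hcl
    rw [Bd_zero]
    have hz : IsZero ((cx d hd).X (((0 : ℕ) : ℤ) - 1)) := isZero_cx_X_neg d hd _ (by simp)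
    rw [hz.eq_of_src ((cx d hd).d (((0 : ℕ) : ℤ) - 1) ((0 : ℕ) : ℤ)) 0]
    exact LinearMap.range_zero
  | succ q =>
    obtain ⟨cl, hcl⟩ := exists_pres_sc' (cx d hd)
      (q : ℤ) ((q + 1 : ℕ) : ℤ) (((q + 1 : ℕ) : ℤ) + 1) (by simp) (by simp)
    refine pres_congr ?_ (hdp (q + 1)) cl hcl
    rw [Bd_succ]
    exact congrArg LinearMap.range (hdp q)

section tensor

variable (M : Type u) [AddCommGroup M] [Module A M]

/-- the family tensored on the right. -/
abbrev dR (q : ℕ) : C q ⊗[A] M →ₗ[A] C (q + 1) ⊗[A] M := (d q).rTensor M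

theorem hom_tensorObj_d (p : ℕ) :
    ((CohIII.tensorObj (cx d hd) (ModuleCat.of A M)).d (p : ℤ) ((p : ℤ) + 1)).hom =
      dR d M p := by
  change ((cx d hd).d (p : ℤ) ((p : ℤ) + 1) ▷ ModuleCat.of A M).hom = _
  rw [ModuleCat.hom_whiskerRight, cx_d]
  rfl

/-- **Presentation of the homology of `cx ⊗ M`** by the tensored family. -/
theorem exists_pres_tensorObj (p : ℕ) :
    ∃ cl : LinearMap.ker (dR d M p) →ₗ[A]
        (CohIII.tensorObj (cx d hd) (ModuleCat.of A M)).homology (p : ℤ),
      Pres (Bd (C := fun q => C q ⊗[A] M) (dR d M) p) (dR d M p) cl := by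
  cases p with
  | zero =>
    obtain ⟨cl, hcl⟩ := exists_pres_sc' (CohIII.tensorObj (cx d hd) (ModuleCat.of A M))
      (((0 : ℕ) : ℤ) - 1) ((0 : ℕ) : ℤ) (((0 : ℕ) : ℤ) + 1) (by simp) (by simp)
    refine pres_congr ?_ (hom_tensorObj_d d hd M 0) cl hcl
    rw [Bd_zero]
    have hz : IsZero ((CohIII.tensorObj (cx d hd) (ModuleCat.of A M)).X (((0 : ℕ) : ℤ) - 1)) :=
      Functor.map_isZero (tensorRight (ModuleCat.of A M))
        (isZero_cx_X_neg d hd _ (by simp))
    rw [hz.eq_of_src ((CohIII.tensorObj (cx d hd) (ModuleCat.of A M)).d (((0 : ℕ) : ℤ) - 1)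
      ((0 : ℕ) : ℤ)) 0]
    exact LinearMap.range_zero
  | succ q =>
    obtain ⟨cl, hcl⟩ := exists_pres_sc' (CohIII.tensorObj (cx d hd) (ModuleCat.of A M))
      (q : ℤ) ((q + 1 : ℕ) : ℤ) (((q + 1 : ℕ) : ℤ) + 1) (by simp) (by simp)
    refine pres_congr ?_ (hom_tensorObj_d d hd M (q + 1)) cl hcl
    rw [Bd_succ]
    exact congrArg LinearMap.range (hom_tensorObj_d d hd M q)

end tensor

end family

end Groth.Agent.Lib.Helper38.CBCat
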