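import Mathlib
import Groth.Agent.Lib.Helper45.Dev.DevNoeth
import Groth.Agent.Lib.Helper67.HHLES
import Groth.Agent.Lib.Helper17.HHLinLES
import Groth.Agent.Lib.Helper1.HHTools

/-!
# Finiteness of cohomology: reduction to generic pieces (helper38)

`finite_HH_of_hgen`: on a Noetherian scheme `X` over a Noetherian ring `A`, if for every point `x`
there is a coherent `G` supported on `closure {x}` with finite cohomology and simple stalk at `x`,
then every coherent module has finite cohomology.
-/

set_option autoImplicit false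
universe u
open CategoryTheory CategoryTheory.Limits AlgebraicGeometry TopologicalSpace

namespace Groth.Agent.Lib.Helper38.PropFinDev

open Groth.Agent.Lib.Helper17 Groth.Agent.Lib.Helper17.HHLinLES Groth.Agent.Lib.Helper67.HHLES

variable (A : Type u) [CommRing A] {X : Scheme.{u}} [X.Over (Spec (CommRingCat.of A))]

/-- Iso-invariance of finiteness of cohomology. -/
theorem finite_HH_of_iso {F G : X.Modules} (e : F ≅ G) (n : ℕ)
    (h : Module.Finite A (Coh.HH X F n)) : Module.Finite A (Coh.HH X G n) := by
  have hsurj : Function.Surjective (Canon.HHlin A e.hom n) := by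
    intro y
    refine ⟨Canon.HHlin A e.inv n y, ?_⟩
    have := congrArg (fun φ => φ y) (HHlin_comp A e.inv e.hom n)
    simp only [LinearMap.comp_apply] at this
    rw [← this, e.inv_hom_id, HHlin_id]
    rfl
  exact Module.Finite.of_surjective _ hsurj

variable {S : ShortComplex X.Modules} (hS : S.ShortExact)

include hS in
theorem finite_X₂ [IsNoetherianRing A] (i : ℕ) (h1 : Module.Finite A (Coh.HH X S.X₁ i))
    (h3 : Module.Finite A (Coh.HH X S.X₃ i)) : Module.Finite A (Coh.HH X S.X₂ i) := by
  have h1' : IsNoetherian A (Coh.HH X S.X₁ i) := isNoetherian_of_isNoetherianRing_of_finite A _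
  have h3' : IsNoetherian A (Coh.HH X S.X₃ i) := isNoetherian_of_isNoetherianRing_of_finite A _
  have : IsNoetherian A (Coh.HH X S.X₂ i) :=
    isNoetherian_of_range_eq_ker (Canon.HHlin A S.f i) (Canon.HHlin A S.g i)
      (range_f_eq_ker_g A hS i)
  infer_instance

include hS in
theorem finite_X₁_succ [IsNoetherianRing A] (i : ℕ) (h3 : Module.Finite A (Coh.HH X S.X₃ i))
    (h2 : Module.Finite A (Coh.HH X S.X₂ (i + 1))) :
    Module.Finite A (Coh.HH X S.X₁ (i + 1)) := by
  have h2' : IsNoetherian A (Coh.HH X S.X₂ (i + 1)) :=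
    isNoetherian_of_isNoetherianRing_of_finite A _
  have h3' : IsNoetherian A (Coh.HH X S.X₃ i) := isNoetherian_of_isNoetherianRing_of_finite A _
  have : IsNoetherian A (Coh.HH X S.X₁ (i + 1)) :=
    isNoetherian_of_range_eq_ker (deltaLin A hS i) (Canon.HHlin A S.f (i + 1))
      (range_delta_eq_ker_f A hS i)
  exact Module.IsNoetherian.finite A _

include hS in
theorem finite_X₁_zero [IsNoetherianRing A] (h2 : Module.Finite A (Coh.HH X S.X₂ 0)) :
    Module.Finite A (Coh.HH X S.X₁ 0) := by
  have h2' : IsNoetherian A (Coh.HH X S.X₂ 0) := isNoetherian_of_isNoetherianRing_of_finite A _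
  have : IsNoetherian A (Coh.HH X S.X₁ 0) :=
    isNoetherian_of_injective (Canon.HHlin A S.f 0) (HHlin_f_zero_injective A hS)
  infer_instance

/-- The reduction. -/
theorem finite_HH_of_hgen [IsNoetherianRing A] [IsNoetherian X]
    (hgen : ∀ x : X, ∃ G : X.Modules, Coh.IsCoh G ∧ CohB1.support G ⊆ closure {x} ∧
      (∀ n : ℕ, Module.Finite A (Coh.HH X G n)) ∧
      IsSimpleModule (X.presheaf.stalk x) ↑(G.presheaf.stalk x))
    (M : X.Modules) (hM : Coh.IsCoh M) (n : ℕ) : Module.Finite A (Coh.HH X M n) := by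
  refine Groth.Agent.Lib.Helper45.DevNoeth.devissage
    (P := fun M : X.Modules => ∀ n : ℕ, Module.Finite A (Coh.HH X M n)) ?_ ?_ Set.univ
    isClosed_univ ?_ ?_ M hM (Set.subset_univ _) n
  · rintro F G ⟨e⟩ h n
    exact finite_HH_of_iso A e n (h n)
  · intro F hF n
    haveI := Groth.Agent.Lib.Helper1.subsingleton_HH_of_isZero hF n
    infer_instance
  · intro S hS _ _ _ _
    refine ⟨fun h1 h2 n => finite_X₃ A hS n (h2 n) (h1 (n + 1)),
      fun h1 h3 n => finite_X₂ A hS n (h1 n) (h3 n), fun h2 h3 n => ?_⟩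
    cases n with
    | zero => exact finite_X₁_zero A hS (h2 0)
    | succ n => exact finite_X₁_succ A hS n (h3 n) (h2 (n + 1))
  · intro x _
    exact hgen x

end Groth.Agent.Lib.Helper38.PropFinDev
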