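import Groth.Agent.Lib.Helper38.PropFinProj
import Groth.Agent.Lib.Helper38.PropFinDev
import Groth.Agent.S0025
import Groth.Agent.S10865
import Groth.Agent.S1704
import Groth.Agent.Lib.Helper17.VeryAmpleAmple
import Groth.Agent.Lib.Helper11.PullbackAmple2
import Groth.Agent.Lib.Helper11.AmpleFinite
import Groth.Agent.Lib.Helper49.PushStructure

/-!
# Finiteness of coherent cohomology on proper schemes, given Serre's package (helper38)

`finite_HH_of_serreP2`: if `SerreP2` holds (finiteness and vanishing for ample modules on schemes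
proper over a Noetherian ring), then `H^n(X, M)` is a finite `A`-module for `X` proper over a Noetherian
ring `A` and `M` coherent.  Proof: dévissage `S10865` + Chow's lemma `S0025` +
`PropFinProj.exists_pushforward_good`.
-/

set_option autoImplicit false
universe u
open AlgebraicGeometry CategoryTheory Limits TopologicalSpace Opposite

namespace Groth.Agent.Lib.Helper38.PropFinMain

open Groth.Agent.Lib.Helper49 Groth.Agent.Lib.Helper11.GenLocus
  Groth.Agent.Lib.Helper38.PropFinProj Groth.Agent.Lib.Helper38.PropFinDev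

/-- the stalk of `π_* N` at the image of a point where a global section generates `N` is
nontrivial. -/
theorem nontrivial_stalk_pushforward {Z' Z : Scheme.{u}} (π : Z' ⟶ Z) (N : Z'.Modules)
    (σ : Coh.structureModule Z' ⟶ N) (z' : Z') (hz' : z' ∈ CohB1.genLocus N σ) :
    Nontrivial ↑(((Scheme.Modules.pushforward π).obj N).presheaf.stalk (π z')) := by
  by_contra hnt
  haveI hsub : Subsingleton ↑(((Scheme.Modules.pushforward π).obj N).presheaf.stalk (π z')) :=
    not_nontrivial_iff_subsingleton.mp hnt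
  let t : Γ((Scheme.Modules.pushforward π).obj N, ⊤) := (sec σ (π ⁻¹ᵁ ⊤) : Γ(N, π ⁻¹ᵁ ⊤))
  obtain ⟨U', hle, hxU', ht⟩ := PushStructure.exists_res_eq_zero _ (π z') ⊤ trivial t
  let W : Z'.Opens := π ⁻¹ᵁ U' ⊓ CohB1.genLocus N σ
  have hW : z' ∈ W := ⟨hxU', hz'⟩
  have hWle : W ≤ π ⁻¹ᵁ U' := inf_le_left
  have h1 : sec σ W = 0 := by
    have h2 : (N.presheaf.map (homOfLE (show π ⁻¹ᵁ U' ≤ π ⁻¹ᵁ ⊤ from fun _ _ => trivial)).op).hom
        (sec σ (π ⁻¹ᵁ ⊤)) = 0 := ht
    rw [sec_res] at h2
    rw [← sec_res σ hWle, h2, map_zero]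
  have hiso : IsIso (σ.app W) :=
    (le_genLocus_iff_app N σ W).mp inf_le_right W le_rfl
  have hinj : Function.Injective (σ.app W).hom :=
    ((Groth.Agent.Lib.Helper11.GenLocus.isIso_iff_bijective _).mp hiso).1
  have h3 : toO W (1 : Γ(Z', W)) = toO W 0 := by
    apply hinj
    change sec σ W = (σ.app W).hom 0
    rw [h1, map_zero]
  have h4 : (1 : Γ(Z', W)) = 0 := h3
  have h5 : Z'.basicOpen (1 : Γ(Z', W)) = W := Z'.basicOpen_of_isUnit isUnit_one
  rw [h4, Scheme.basicOpen_zero] at h5
  rw [← h5] at hW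
  exact hW

/-- the generic piece: on every integral closed subscheme there is a coherent module with
nontrivial generic stalk whose direct image has finite cohomology. -/
theorem exists_generic_piece (hP2 : SerreP2.{u}) (A : Type u) [CommRing A] [IsNoetherianRing A]
    {X : Scheme.{u}} (s : X ⟶ Spec (CommRingCat.of A)) [IsProper s]
    {Z : Scheme.{u}} (i : Z ⟶ X) [IsClosedImmersion i] [IsIntegral Z] :
    ∃ H : Z.Modules, Coh.IsCoh H ∧ Nontrivial ↑(H.presheaf.stalk (genericPoint Z)) ∧
      ∀ p : ℕ,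
        letI : Module A (Coh.HH X ((Scheme.Modules.pushforward i).obj H) p) :=
          Module.compHom _ (Coh.toGlobal s)
        Module.Finite A (Coh.HH X ((Scheme.Modules.pushforward i).obj H) p) := by
  haveI : IsProper (i ≫ s) := inferInstance
  obtain ⟨n, Z', π, j, hj, hcomm, hπ, hπs, -⟩ := Groth.Agent.S0025.result (i ≫ s)
  haveI := hπ
  haveI := hj
  haveI : IsProper (π ≫ i ≫ s) := inferInstance
  haveI : IsProper ((π ≫ i) ≫ s) := by rw [Category.assoc]; infer_instance
  haveI : CompactSpace Z' := QuasiCompact.compactSpace_of_compactSpace (π ≫ i ≫ s)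
  let L : Z'.Modules := (Scheme.Modules.pullback j).obj (Twist.twistOver n (Spec (CommRingCat.of A)) 1)
  have hL : CohB1.IsAmple L :=
    Groth.Agent.Lib.Helper11.PullbackAmple2.isAmple_pullback_of_isEmbedding' j j.isEmbedding
      (Groth.Agent.Lib.Helper17.VeryAmpleAmple.isAmple_twistOver n (Spec (CommRingCat.of A)))
  obtain ⟨m₁, h₁⟩ := exists_pushforward_good π L hP2 A (i ≫ s) hL
  obtain ⟨m₂, h₂⟩ := exists_pushforward_good (π ≫ i) L hP2 A s hL
  obtain ⟨ξ', hξ'⟩ := hπs.surj (genericPoint Z)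
  obtain ⟨k, σ, hσ, -⟩ := hL.2.2 ξ'
  obtain ⟨N, hN⟩ : ∃ N : ℕ, (k + 1) * (max m₁ m₂ + 1) = N + 1 :=
    ⟨k * (max m₁ m₂ + 1) + max m₁ m₂, by ring⟩
  obtain ⟨σ', hσ'⟩ := Groth.Agent.Lib.Helper11.GenLocus.exists_pow_section hL.1 k (max m₁ m₂)
    N hN σ
  have hle : max m₁ m₂ + 1 ≤ N + 1 := by
    rw [← hN]
    exact Nat.le_mul_of_pos_left _ (Nat.succ_pos k)
  have hm₁ : m₁ ≤ N + 1 := by
    have := le_max_left m₁ m₂
    omega
  have hm₂ : m₂ ≤ N + 1 := by
    have := le_max_right m₁ m₂
    omega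
  refine ⟨(Scheme.Modules.pushforward π).obj (CohB1.tensorPow L (N + 1)), (h₁ (N + 1) hm₁).1, ?_, fun p => ?_⟩
  · have h3 := nontrivial_stalk_pushforward π (CohB1.tensorPow L (N + 1)) σ' ξ' (by rw [hσ']; exact hσ)
    rw [hξ'] at h3
    exact h3
  · letI : X.Over (Spec (CommRingCat.of A)) := ⟨s⟩
    exact finite_HH_of_iso A ((Scheme.Modules.pushforwardComp π i).app (CohB1.tensorPow L (N + 1))).symm p
      ((h₂ (N + 1) hm₂).2 p)

/-- **Finiteness of coherent cohomology for proper schemes over a Noetherian ring**, given Serre's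
package for ample modules. -/
theorem finite_HH_of_serreP2 (hP2 : SerreP2.{u}) (A : Type u) [CommRing A] [IsNoetherianRing A]
    (X : Scheme.{u}) [X.Over (Spec (CommRingCat.of A))] [IsProper (X ↘ Spec (CommRingCat.of A))]
    (M : X.Modules) (hM : Coh.IsCoh M) (n : ℕ) : Module.Finite A (Coh.HH X M n) := by
  classical
  haveI : CompactSpace X :=
    QuasiCompact.compactSpace_of_compactSpace (X ↘ Spec (CommRingCat.of A))
  haveI : IsLocallyNoetherian X :=
    LocallyOfFiniteType.isLocallyNoetherian (X ↘ Spec (CommRingCat.of A))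
  haveI : IsNoetherian X := {}
  rcases isEmpty_or_nonempty X with hX | hX
  · have hz : IsZero M := by
      rw [Groth.Agent.S1704.result X M hM.1]
      intro x
      exact (hX.false x).elim
    haveI := Groth.Agent.Lib.Helper1.subsingleton_HH_of_isZero hz n
    infer_instance
  · let K : ObjectProperty X.Modules := fun M => ∀ n : ℕ, Module.Finite A (Coh.HH X M n)
    haveI : K.IsClosedUnderIsomorphisms :=
      ⟨fun e h n => finite_HH_of_iso A e n (h n)⟩
    refine Groth.Agent.S10865.result X K ?_ ?_ ?_ M hM n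
    · intro S hS _ _ _
      refine ⟨fun h2 h3 n => ?_, fun h1 h3 n => finite_X₂ A hS n (h1 n) (h3 n)⟩
      cases n with
      | zero => exact finite_X₁_zero A hS (h2 0)
      | succ n => exact finite_X₁_succ A hS n (h3 n) (h2 (n + 1))
    · intro F d hd _ hK n
      have hfac : Sigma.ι (fun _ : Fin d => F) ⟨0, hd⟩ ≫ Sigma.desc (fun _ => 𝟙 F) = 𝟙 F := by
        simp
      have hinj : Function.Injective
          (Canon.HHlin A (Sigma.ι (fun _ : Fin d => F) ⟨0, hd⟩) n) := by
        intro a b hab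
        have h1 := congrArg (Canon.HHlin A (Sigma.desc (fun _ : Fin d => 𝟙 F)) n) hab
        have h2 := Groth.Agent.Lib.Helper17.HHLinLES.HHlin_comp A
          (Sigma.ι (fun _ : Fin d => F) ⟨0, hd⟩) (Sigma.desc (fun _ => 𝟙 F)) n
        rw [hfac, Groth.Agent.Lib.Helper17.HHLinLES.HHlin_id] at h2
        have h3 := fun x => congrArg (fun φ => φ x) h2
        simp only [LinearMap.id_apply, LinearMap.comp_apply] at h3
        rw [h3 a, h3 b]
        exact h1
      haveI := hK n
      haveI : IsNoetherian A (Coh.HH X (∐ fun _ : Fin d => F) n) :=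
        isNoetherian_of_isNoetherianRing_of_finite A _
      exact Module.Finite.of_injective _ hinj
    · intro Z i _ _
      obtain ⟨H, hH, hnt, hfin⟩ := exists_generic_piece hP2 A (X ↘ Spec (CommRingCat.of A)) i
      exact ⟨H, hH, hnt, hfin⟩

end Groth.Agent.Lib.Helper38.PropFinMain
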