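import Mathlib

/-!
# Flat base change of global sections along a flat affine base change (helper38)

For a qcqs scheme `X` over an affine scheme `Spec R` and a flat ring map `R → R'`, the global
sections of `X ×_R R'` are the pushout `Γ(X) ⊗_R R'`, and the square
`X_{R'} → Spec Γ(X_{R'})`, `X → Spec Γ(X)` is a pullback.
-/

universe u

open AlgebraicGeometry CategoryTheory Limits

namespace Groth.Agent.Lib.Helper38.GammaBC

variable {X : Scheme.{u}} {R R' : CommRingCat.{u}} (f : X ⟶ Spec R) (φ : R ⟶ R')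

theorem appLE_top_top {X Y : Scheme.{u}} (g : X ⟶ Y) (h : (⊤ : X.Opens) ≤ g ⁻¹ᵁ ⊤) :
    g.appLE ⊤ ⊤ h = g.appTop := by
  rw [Scheme.Hom.appTop, Scheme.Hom.app_eq_appLE]
  rfl

/-- Flat base change for global sections. -/
theorem isPushout_appTop [CompactSpace X] [QuasiSeparatedSpace X] [Flat (Spec.map φ)] :
    IsPushout f.appTop (Spec.map φ).appTop (pullback.fst f (Spec.map φ)).appTop
      (pullback.snd f (Spec.map φ)).appTop := by
  have H : IsPullback (pullback.fst f (Spec.map φ)) (pullback.snd f (Spec.map φ)) f (Spec.map φ) :=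
    IsPullback.of_hasPullback _ _
  have hUST : (⊤ : (Spec R').Opens) ≤ (Spec.map φ) ⁻¹ᵁ ⊤ := le_rfl
  have hUSX : (⊤ : X.Opens) ≤ f ⁻¹ᵁ ⊤ := le_rfl
  have hUY : (⊤ : (pullback f (Spec.map φ)).Opens) =
      (pullback.fst f (Spec.map φ)) ⁻¹ᵁ ⊤ ⊓ (pullback.snd f (Spec.map φ)) ⁻¹ᵁ ⊤ := by simp
  have hiso := isIso_pushoutSection_of_isQuasiSeparated_of_flat_right H hUST hUSX hUY
    (isAffineOpen_top _) (isAffineOpen_top _) isCompact_univ isQuasiSeparated_univ
  rw [isIso_pushoutSection_iff] at hiso
  simpa only [appLE_top_top] using hiso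

/-- The right-hand pullback square of spectra of global sections. -/
theorem isPullback_SpecMap_appTop [CompactSpace X] [QuasiSeparatedSpace X] [Flat (Spec.map φ)] :
    IsPullback (Spec.map (pullback.snd f (Spec.map φ)).appTop)
      (Spec.map (pullback.fst f (Spec.map φ)).appTop)
      (Spec.map (Spec.map φ).appTop) (Spec.map f.appTop) :=
  (isPullback_SpecMap_of_isPushout _ _ _ _ (isPushout_appTop f φ)).flip

/-- `X_{R'} → Spec Γ(X_{R'})` is the base change of `X → Spec Γ(X)`. -/
theorem isPullback_toSpecΓ [CompactSpace X] [QuasiSeparatedSpace X] [Flat (Spec.map φ)] :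
    IsPullback (pullback f (Spec.map φ)).toSpecΓ (pullback.fst f (Spec.map φ))
      (Spec.map (pullback.fst f (Spec.map φ)).appTop) X.toSpecΓ := by
  have H : IsPullback (pullback.snd f (Spec.map φ)) (pullback.fst f (Spec.map φ)) (Spec.map φ) f :=
    (IsPullback.of_hasPullback _ _).flip
  have hiso : IsPullback (Spec R').toSpecΓ (Spec.map φ) (Spec.map (Spec.map φ).appTop)
      (Spec R).toSpecΓ :=
    IsPullback.of_horiz_isIso ⟨(Scheme.toSpecΓ_naturality (Spec.map φ)).symm⟩
  have s := H.paste_horiz hiso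
  rw [Scheme.toSpecΓ_naturality, Scheme.toSpecΓ_naturality] at s
  exact IsPullback.of_right s (Scheme.toSpecΓ_naturality _).symm (isPullback_SpecMap_appTop f φ)

theorem fpqc_SpecMap_appTop [CompactSpace X] [QuasiSeparatedSpace X] [Flat (Spec.map φ)]
    [Surjective (Spec.map φ)] :
    (@Surjective ⊓ @Flat ⊓ @QuasiCompact : MorphismProperty Scheme.{u})
      (Spec.map (pullback.fst f (Spec.map φ)).appTop) := by
  have hv : Spec.map (Spec.map φ).appTop =
      inv (Spec R').toSpecΓ ≫ Spec.map φ ≫ (Spec R).toSpecΓ := by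
    rw [IsIso.eq_inv_comp, ← Scheme.toSpecΓ_naturality]
  have h1 : Surjective (Spec.map (Spec.map φ).appTop) := by rw [hv]; infer_instance
  have h2 : Flat (Spec.map (Spec.map φ).appTop) := by rw [hv]; infer_instance
  have t := isPullback_SpecMap_appTop f φ
  refine ⟨⟨?_, ?_⟩, inferInstance⟩
  · exact MorphismProperty.of_isPullback (P := @Surjective) t h1
  · exact MorphismProperty.of_isPullback (P := @Flat) t h2

/-- Descent of quasi-affineness of the canonical map along a faithfully flat base change. -/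
theorem isOpenImmersion_toSpecΓ_of_bc [CompactSpace X] [QuasiSeparatedSpace X]
    [Flat (Spec.map φ)] [Surjective (Spec.map φ)]
    (h : IsOpenImmersion (pullback f (Spec.map φ)).toSpecΓ) : IsOpenImmersion X.toSpecΓ :=
  MorphismProperty.of_isPullback_of_descendsAlong (P := @IsOpenImmersion)
    (Q := @Surjective ⊓ @Flat ⊓ @QuasiCompact) (isPullback_toSpecΓ f φ)
    (fpqc_SpecMap_appTop f φ) h

end Groth.Agent.Lib.Helper38.GammaBC
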