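import Groth.Prelude.Def_Coh
import Groth.Agent.Lib.Helper38.GammaBC
import Groth.Agent.Lib.Helper17.HZero
import Groth.Agent.Lib.Helper50.IrredCompBC

/-!
# Global functions on a proper, geometrically reduced, geometrically connected scheme (helper38)

`H⁰(X, O_X) = k` for `X` proper over a field `k`, geometrically reduced and geometrically
connected: base change to the algebraic closure (flat base change of global sections), where a
reduced connected proper scheme only has constant global functions.
-/

set_option autoImplicit false
universe u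

open AlgebraicGeometry CategoryTheory Limits Polynomial

namespace Groth.Agent.Lib.Helper38.H0Const


/-- A reduced algebra with only trivial idempotents that is integral over an algebraically closed
field consists of constants. -/
theorem algebraMap_surjective_of_idem {K B : Type*} [Field K] [IsAlgClosed K] [CommRing B]
    [Algebra K B] [IsReduced B] [Algebra.IsIntegral K B]
    (hidem : ∀ e : B, IsIdempotentElem e → e = 0 ∨ e = 1) :
    Function.Surjective (algebraMap K B) := by
  intro b
  rcases subsingleton_or_nontrivial B with hB | hB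
  · exact ⟨0, Subsingleton.elim _ _⟩
  have hint : IsIntegral K b := Algebra.IsIntegral.isIntegral b
  set p := minpoly K b with hp
  have hp0 : p ≠ 0 := minpoly.ne_zero hint
  have hdeg : p.degree ≠ 0 := (minpoly.degree_pos hint).ne'
  obtain ⟨a, ha⟩ := IsAlgClosed.exists_root p hdeg
  obtain ⟨q, hq⟩ : (X - C a) ∣ p := Polynomial.dvd_iff_isRoot.mpr ha
  have hq0 : q ≠ 0 := by rintro rfl; simp [hq] at hp0
  have hdegq : q.degree < p.degree := by
    apply Polynomial.degree_lt_degree
    rw [hq, Polynomial.natDegree_mul (Polynomial.X_sub_C_ne_zero a) hq0,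
      Polynomial.natDegree_X_sub_C]
    omega
  have hqb : aeval b q ≠ 0 := fun h =>
    absurd (minpoly.degree_le_of_ne_zero K b hq0 h) (not_le.mpr hdegq)
  have hprod : (b - algebraMap K B a) * aeval b q = 0 := by
    have := minpoly.aeval K b
    rw [← hp, hq, map_mul] at this
    simpa using this
  rcases (dvd_or_isCoprime (X - C a) q (Polynomial.irreducible_X_sub_C a)).symm with hco | ⟨q', hq'⟩
  · obtain ⟨u, v, huv⟩ := hco
    have h1 : aeval b u * (b - algebraMap K B a) + aeval b v * aeval b q = 1 := by
      have := congrArg (aeval b) huv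
      simpa using this
    set e := aeval b v * aeval b q with he
    have hidem_e : IsIdempotentElem e := by
      have h2 : e * (1 - e) = 0 := by
        have : 1 - e = aeval b u * (b - algebraMap K B a) := by rw [← h1]; ring
        rw [this, he]
        calc aeval b v * aeval b q * (aeval b u * (b - algebraMap K B a))
            = aeval b v * aeval b u * ((b - algebraMap K B a) * aeval b q) := by ring
          _ = 0 := by rw [hprod, mul_zero]
      change e * e = e
      have : e * e = e - e * (1 - e) := by ring
      rw [this, h2, sub_zero]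
    rcases hidem e hidem_e with h0 | h1'
    · exfalso
      apply hqb
      have hu : aeval b u * (b - algebraMap K B a) = 1 := by rw [← h1, h0, add_zero]
      calc aeval b q = (aeval b u * (b - algebraMap K B a)) * aeval b q := by rw [hu, one_mul]
        _ = aeval b u * ((b - algebraMap K B a) * aeval b q) := by ring
        _ = 0 := by rw [hprod, mul_zero]
    · refine ⟨a, ?_⟩
      have : b - algebraMap K B a = 0 := by
        calc b - algebraMap K B a = (b - algebraMap K B a) * e := by rw [h1', mul_one]
          _ = aeval b v * ((b - algebraMap K B a) * aeval b q) := by rw [he]; ring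
          _ = 0 := by rw [hprod, mul_zero]
      exact (sub_eq_zero.mp this).symm
  · exfalso
    -- q = (X - C a) * q'; r = (X - C a) * q' = q. then q(b)^2 = p(b) q'(b) = 0
    have hsq : aeval b q * aeval b q = 0 := by
      have h3 : aeval b q = (b - algebraMap K B a) * aeval b q' := by
        rw [hq', map_mul]; simp
      calc aeval b q * aeval b q = ((b - algebraMap K B a) * aeval b q) * aeval b q' := by
            rw [h3]; ring
        _ = 0 := by rw [hprod, zero_mul]
    exact hqb (IsReduced.eq_zero _ ⟨2, by rw [pow_two, hsq]⟩)



/-- On a connected reduced scheme the only idempotent global functions are `0` and `1`. -/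
theorem eq_zero_or_eq_one_of_isIdempotentElem {Y : Scheme.{u}} [IsReduced Y] [PreconnectedSpace Y]
    (e : Γ(Y, ⊤)) (he : IsIdempotentElem e) : e = 0 ∨ e = 1 := by
  have hdisj : Y.basicOpen e ⊓ Y.basicOpen (1 - e) = ⊥ := by
    rw [← Scheme.basicOpen_mul]
    have : e * (1 - e) = 0 := by rw [mul_sub, mul_one, he.eq, sub_self]
    rw [this, Scheme.basicOpen_zero]
  have hcov : ∀ y : Y, y ∈ Y.basicOpen e ∨ y ∈ Y.basicOpen (1 - e) := by
    intro y
    rw [Scheme.mem_basicOpen _ _ _ (Set.mem_univ y), Scheme.mem_basicOpen _ _ _ (Set.mem_univ y)]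
    apply IsLocalRing.isUnit_or_isUnit_of_add_one
    rw [← map_add, add_sub_cancel, map_one]
  have hcompl : ((Y.basicOpen e : Y.Opens) : Set Y)ᶜ = (Y.basicOpen (1 - e) : Set Y) := by
    ext y
    constructor
    · intro hy
      exact (hcov y).resolve_left hy
    · intro hy hy'
      have : y ∈ Y.basicOpen e ⊓ Y.basicOpen (1 - e) := ⟨hy', hy⟩
      rw [hdisj] at this
      exact this
  have hclopen : IsClopen ((Y.basicOpen e : Y.Opens) : Set Y) :=
    ⟨by rw [← isOpen_compl_iff, hcompl]; exact (Y.basicOpen (1 - e)).isOpen,
      (Y.basicOpen e).isOpen⟩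
  rcases isClopen_iff.mp hclopen with h | h
  · left
    have : Y.basicOpen e = ⊥ := by ext1; simpa using h
    exact (basicOpen_eq_bot_iff e).mp this
  · right
    have h' : ((Y.basicOpen (1 - e) : Y.Opens) : Set Y) = ∅ := by
      rw [← hcompl, h, Set.compl_univ]
    have : Y.basicOpen (1 - e) = ⊥ := by ext1; simpa using h'
    have := (basicOpen_eq_bot_iff (1 - e)).mp this
    exact (sub_eq_zero.mp this).symm





/-- Global functions on a connected reduced scheme that is universally closed over an
algebraically closed field are constant. -/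
theorem bijective_of_connected_reduced {K : Type u} [Field K] [IsAlgClosed K] {Y : Scheme.{u}}
    (g : Y ⟶ Spec (.of K)) [UniversallyClosed g] [IsReduced Y] [ConnectedSpace Y] :
    Function.Bijective ((Scheme.ΓSpecIso (.of K)).inv ≫ g.appTop).hom := by
  let F := (Scheme.ΓSpecIso (.of K)).inv ≫ g.appTop
  have hF : F.hom.IsIntegral := by
    apply RingHom.isIntegral_respectsIso.2 (e := (Scheme.ΓSpecIso _).symm.commRingCatIsoToRingEquiv)
    exact isIntegral_appTop_of_universallyClosed g
  change Function.Bijective F.hom
  algebraize [F.hom]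
  have : Nonempty (⊤ : Y.Opens) := ⟨⟨Nonempty.some inferInstance, trivial⟩⟩
  have : Nontrivial Γ(Y, ⊤) := inferInstance
  refine ⟨(algebraMap K Γ(Y, ⊤)).injective, ?_⟩
  exact algebraMap_surjective_of_idem (K := K) (B := Γ(Y, ⊤))
    (fun e he => eq_zero_or_eq_one_of_isIdempotentElem e he)

/-- Dimension of global sections is invariant under field extension (pushout form). -/
theorem finrank_eq_of_isPushout {k K A B : Type u} [Field k] [Field K] [CommRing A] [CommRing B]
    (f : k →+* A) (g : k →+* K) (inl : A →+* B) (inr : K →+* B)
    (h : IsPushout (CommRingCat.ofHom f) (CommRingCat.ofHom g) (CommRingCat.ofHom inl)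
      (CommRingCat.ofHom inr)) :
    letI := f.toAlgebra
    letI := inr.toAlgebra
    Module.finrank K B = Module.finrank k A := by
  algebraize [f, g, inl, inr, inl.comp f]
  have : IsScalarTower k K B := .of_algebraMap_eq' <| congr($(h.1.1).hom)
  have h' : Algebra.IsPushout k A K B := CommRingCat.isPushout_iff_isPushout.mp h
  have h'' : Algebra.IsPushout k K A B := h'.symm
  have e := (Algebra.IsPushout.equiv k K A B).toLinearEquiv
  rw [← e.finrank_eq, Module.finrank_baseChange]





/-- The structure map `k → Γ(X, ⊤)` (the commutative-ring form of `Coh.toGlobal`). -/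
noncomputable def tg {A : Type u} [CommRing A] {X : Scheme.{u}} (f : X ⟶ Spec (CommRingCat.of A)) :
    A →+* Γ(X, ⊤) :=
  ((Scheme.ΓSpecIso (CommRingCat.of A)).inv ≫ f.appTop).hom

/-- `H⁰(X, O_X)` and `Γ(X, ⊤)` have the same dimension over `k`. -/
theorem finrank_HH_zero (k : Type u) [Field k] (X : Scheme.{u}) [X.Over (Spec (CommRingCat.of k))] :
    letI := (tg (X ↘ Spec (CommRingCat.of k))).toAlgebra
    Module.finrank k (Coh.HH X (Coh.structureModule X) 0) = Module.finrank k Γ(X, ⊤) := by
  letI := (tg (X ↘ Spec (CommRingCat.of k))).toAlgebra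
  let e0 := Groth.Agent.Lib.Helper17.HZero.hh0Equiv (Coh.structureModule X)
  let e : Coh.HH X (Coh.structureModule X) 0 ≃ₗ[k] Γ(X, ⊤) :=
    { toFun := fun x => e0 x
      invFun := fun y => e0.symm y
      left_inv := e0.left_inv
      right_inv := e0.right_inv
      map_add' := e0.map_add
      map_smul' := by
        intro c x
        have h1 : c • x = (Coh.toGlobal (X ↘ Spec (CommRingCat.of k)) c) • x := rfl
        rw [h1]
        exact Groth.Agent.Lib.Helper17.HZero.hh0Equiv_smul (Coh.structureModule X) _ x }
  exact e.finrank_eq


theorem main (k : Type u) [Field k] (X : Scheme.{u}) [X.Over (Spec (CommRingCat.of k))]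
    [IsProper (X ↘ (Spec (CommRingCat.of k)))]
    [GeometricallyReduced (X ↘ (Spec (CommRingCat.of k)))]
    [GeometricallyConnected (X ↘ (Spec (CommRingCat.of k)))] :
    Module.finrank k (Coh.HH X (Coh.structureModule X) 0) = 1 := by
  rw [finrank_HH_zero]
  set f := X ↘ Spec (CommRingCat.of k) with hf
  let K := AlgebraicClosure k
  let φ : CommRingCat.of k ⟶ CommRingCat.of K := CommRingCat.ofHom (algebraMap k K)
  let g : pullback f (Spec.map φ) ⟶ Spec (CommRingCat.of K) := pullback.snd f (Spec.map φ)
  have hred : IsReduced (pullback f (Spec.map φ)) :=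
    pullback_of_geometrically
      (GeometricallyReduced.geometrically_isReduced (f := f)) K (Spec.map φ)
  have hconn : ConnectedSpace ↥(pullback f (Spec.map φ) : Scheme.{u}) :=
    pullback_of_geometrically
      (GeometricallyConnected.geometrically_connectedSpace (f := f)) K (Spec.map φ)
  have hbij := bijective_of_connected_reduced g
  have : CompactSpace X := (quasiCompact_iff_compactSpace f).mp inferInstance
  have : QuasiSeparatedSpace X := (quasiSeparated_iff_quasiSeparatedSpace f).mp inferInstance
  have : Flat (Spec.map φ) := Groth.Agent.Lib.Helper50.flat_specMap_field k K _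
  have hpo := GammaBC.isPushout_appTop f φ
  have hpo' : IsPushout (CommRingCat.ofHom (tg f)) (CommRingCat.ofHom (algebraMap k K))
      (CommRingCat.ofHom (pullback.fst f (Spec.map φ)).appTop.hom) (CommRingCat.ofHom (tg g)) := by
    refine hpo.of_iso (Scheme.ΓSpecIso (CommRingCat.of k)) (Iso.refl _)
      (Scheme.ΓSpecIso (CommRingCat.of K)) (Iso.refl _) ?_ ?_ ?_ ?_
    · simp [tg]
    · simp [φ]
    · simp
    · simp [tg, g]
  have hfr := finrank_eq_of_isPushout _ _ _ _ hpo'
  rw [← hfr]
  letI := (tg g).toAlgebra
  exact (LinearEquiv.ofBijective (Algebra.linearMap K Γ(pullback f (Spec.map φ), ⊤)) hbij).finrank_eq.symm.trans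
    (Module.finrank_self K)

end Groth.Agent.Lib.Helper38.H0Const
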