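import Groth.Agent.Lib.Helper38.Constr
import Mathlib.Topology.Spectral.Prespectral

set_option autoImplicit false
universe u

namespace Groth.Agent.Lib.Helper38

open Set Topology TopologicalSpace

variable {X T : Type*} [TopologicalSpace X] [TopologicalSpace T]

/-- Induction principle for constructible sets: differences of retrocompact opens, and unions. -/
theorem IsConstructible.sdiff_union_induction {p : ∀ s : Set X, IsConstructible s → Prop}
    (sdiff : ∀ U V (hU : IsOpen U) (hU' : IsRetrocompact U) (hV : IsOpen V) (hV' : IsRetrocompact V),
      p (U \ V) ((hU'.isConstructible hU).sdiff (hV'.isConstructible hV)))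
    (union : ∀ s hs t ht, p s hs → p t ht → p (s ∪ t) (hs.union ht))
    {s : Set X} (hs : IsConstructible s) : p s hs := by
  induction s, hs using BooleanSubalgebra.closure_sdiff_sup_induction with
  | isSublattice =>
    exact ⟨fun s hs t ht ↦ ⟨hs.1.union ht.1, hs.2.union ht.2⟩,
      fun s hs t ht ↦ ⟨hs.1.inter ht.1, hs.2.inter_isOpen ht.2 ht.1⟩⟩
  | bot_mem => exact ⟨isOpen_empty, .empty⟩
  | top_mem => exact ⟨isOpen_univ, .univ⟩
  | sdiff U hU V hV => exact sdiff U V hU.1 hU.2 hV.1 hV.2
  | sup s _ t _ hs' ht' => exact union _ _ _ _ hs' ht'

/-- Stacks 09YC: a constructible set is retrocompact. -/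
theorem IsConstructible.isRetrocompact {s : Set X} (hs : IsConstructible s) :
    IsRetrocompact s := by
  induction hs using IsConstructible.sdiff_union_induction with
  | sdiff U V hU hU' hV hV' =>
    intro W hWc hWo
    have : U \ V ∩ W = (U ∩ W) ∩ Vᶜ := by
      ext x; simp only [mem_inter_iff, mem_sdiff, mem_compl_iff]; tauto
    rw [this]
    exact (hU' hWc hWo).inter_right hV.isClosed_compl
  | union s hs t ht hs' ht' => exact hs'.union ht'

/-- In a prespectral space, the preimage of a retrocompact open under an embedding with retrocompact
range is retrocompact. -/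
theorem isRetrocompact_preimage_of_isEmbedding [PrespectralSpace X] {g : T → X}
    (hg : IsEmbedding g) (hr : IsRetrocompact (range g)) {s : Set X} (hs : IsOpen s)
    (hsr : IsRetrocompact s) : IsRetrocompact (g ⁻¹' s) := by
  intro W hWc hWo
  obtain ⟨V, hV, rfl⟩ := hg.isInducing.isOpen_iff.mp hWo
  obtain ⟨V', hV'c, hV'o, hWV', hV'V⟩ :=
    PrespectralSpace.exists_isCompact_and_isOpen_between (hWc.image hg.continuous) hV
      (image_preimage_subset g V)
  have hW : g ⁻¹' V = g ⁻¹' V' := by
    apply subset_antisymm
    · intro x hx; exact hWV' ⟨x, hx, rfl⟩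
    · exact preimage_mono hV'V
  rw [hW, ← preimage_inter, hg.isCompact_iff, image_preimage_eq_inter_range, inter_comm]
  exact hr (hsr hV'c hV'o) (hs.inter hV'o)

/-- Stacks 005K, for embeddings: in a prespectral space, the preimage of a constructible set under
an embedding with retrocompact range is constructible. -/
theorem isConstructible_preimage_of_isEmbedding [PrespectralSpace X] {g : T → X}
    (hg : IsEmbedding g) (hr : IsRetrocompact (range g)) {E : Set X} (hE : IsConstructible E) :
    IsConstructible (g ⁻¹' E) :=
  hE.preimage hg.continuous fun _ hs hsr => isRetrocompact_preimage_of_isEmbedding hg hr hs hsr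

/-- A retrocompact subset of a prespectral space is prespectral. -/
theorem prespectralSpace_of_isRetrocompact [PrespectralSpace X] {S : Set X}
    (hS : IsRetrocompact S) : PrespectralSpace S :=
  .of_isInducing _ IsInducing.subtypeVal (IsRetrocompact_iff_isSpectralMap_subtypeVal.mp hS)

/-- Stacks 09YH: a constructible subset of a constructible subspace is constructible (in a
prespectral space). -/
theorem isConstructible_image_val_of_isConstructible [PrespectralSpace X] {E : Set X}
    (hE : IsConstructible E) :
    ∀ F : Set E, IsConstructible F → IsConstructible ((Subtype.val : E → X) '' F) := by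
  induction hE using IsConstructible.sdiff_union_induction with
  | sdiff U V hU hU' hV hV' =>
    intro F hF
    -- factor `U \ V → U → X`
    let j : ↥(U \ V) → U := Set.inclusion sdiff_subset
    have hj : IsClosedEmbedding j := by
      refine ⟨IsEmbedding.inclusion sdiff_subset, ?_⟩
      have : range j = (Subtype.val : U → X) ⁻¹' Vᶜ := by
        ext ⟨x, hx⟩
        simp only [j, range_inclusion, mem_sdiff, mem_ofPred_eq, mem_preimage, mem_compl_iff]
        tauto
      rw [this]
      exact hV.isClosed_compl.preimage continuous_subtype_val
    have hjr : IsRetrocompact (range j)ᶜ := by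
      have : (range j)ᶜ = (Subtype.val : U → X) ⁻¹' V := by
        ext ⟨x, hx⟩
        simp only [j, range_inclusion, mem_sdiff, mem_ofPred_eq, mem_preimage, mem_compl_iff]
        tauto
      rw [this]
      exact hV'.preimage_of_isOpenEmbedding hU.isOpenEmbedding_subtypeVal
    have h1 := hF.image_of_isClosedEmbedding hj hjr
    have h2 := h1.image_of_isOpenEmbedding hU.isOpenEmbedding_subtypeVal
      (by rw [Subtype.range_coe]; exact hU')
    rw [← image_comp] at h2
    exact h2
  | union s hs t ht hs' ht' =>
    intro F hF
    have hst : IsConstructible (s ∪ t) := hs.union ht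
    have : PrespectralSpace ↥(s ∪ t) :=
      prespectralSpace_of_isRetrocompact (IsConstructible.isRetrocompact hst)
    have hemb : IsEmbedding (Subtype.val : ↥(s ∪ t) → X) := IsEmbedding.subtypeVal
    have hrange : IsRetrocompact (range (Subtype.val : ↥(s ∪ t) → X)) := by
      rw [Subtype.range_coe]; exact IsConstructible.isRetrocompact hst
    -- the two pieces
    have key : ∀ (r : Set X) (hr : IsConstructible r) (hsub : r ⊆ s ∪ t),
        (∀ F : Set r, IsConstructible F → IsConstructible ((Subtype.val : r → X) '' F)) →
        IsConstructible ((Subtype.val : ↥(s ∪ t) → X) '' F ∩ r) := by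
      intro r hr hsub ih
      have hri : IsRetrocompact (range (Set.inclusion hsub)) := by
        have : range (Set.inclusion hsub) = (Subtype.val : ↥(s ∪ t) → X) ⁻¹' r := by
          ext ⟨x, hx⟩
          simp [range_inclusion]
        rw [this]
        exact IsConstructible.isRetrocompact
          (isConstructible_preimage_of_isEmbedding hemb hrange hr)
      have h1 := isConstructible_preimage_of_isEmbedding (IsEmbedding.inclusion hsub) hri hF
      have h2 := ih _ h1
      convert h2 using 1
      ext x
      simp only [mem_inter_iff, mem_image, mem_preimage, Subtype.exists, exists_and_right,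
        exists_eq_right]
      constructor
      · rintro ⟨⟨hx, hxF⟩, hxr⟩
        exact ⟨hxr, hxF⟩
      · rintro ⟨hxr, hxF⟩
        exact ⟨⟨hsub hxr, hxF⟩, hxr⟩
    have h1 := key s hs subset_union_left hs'
    have h2 := key t ht subset_union_right ht'
    have : (Subtype.val : ↥(s ∪ t) → X) '' F =
        ((Subtype.val : ↥(s ∪ t) → X) '' F ∩ s) ∪ ((Subtype.val : ↥(s ∪ t) → X) '' F ∩ t) := by
      rw [← inter_union_distrib_left]
      refine (inter_eq_left.mpr ?_).symm
      rintro _ ⟨x, _, rfl⟩
      exact x.2
    rw [this]
    exact h1.union h2

end Groth.Agent.Lib.Helper38
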