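import Mathlib.Topology.LocallyClosed
import Mathlib.Topology.Constructible
import Mathlib.Data.Fintype.Powerset
import Mathlib.Data.Fintype.Sum
import Mathlib.Data.Fintype.Sigma
import Mathlib.Order.Interval.Set.Basic

set_option autoImplicit false
universe u

namespace Groth.Agent.Lib.Helper38

open Set Topology TopologicalSpace

variable {X : Type*} [TopologicalSpace X] {ι : Type*}

set_option linter.unusedSectionVars false

/-- The "type" of a point with respect to a family of subsets: the set of indices of members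
containing it. -/
def typeOf (Z : ι → Set X) (x : X) : Set ι := {l | x ∈ Z l}

/-- The stratum of points of a given type. -/
def stratum (Z : ι → Set X) (A : Set ι) : Set X := {x | typeOf Z x = A}

theorem stratum_eq (Z : ι → Set X) (A : Set ι) :
    stratum Z A = (⋂ l ∈ A, Z l) ∩ (⋂ l ∈ Aᶜ, (Z l)ᶜ) := by
  ext x
  simp only [stratum, typeOf, mem_ofPred_eq, mem_inter_iff, mem_iInter, mem_compl_iff]
  constructor
  · intro h
    subst h
    exact ⟨fun l hl => hl, fun l hl => hl⟩
  · rintro ⟨h1, h2⟩
    ext l
    exact ⟨fun hl => by_contra fun hlA => h2 l hlA hl, fun hl => h1 l hl⟩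

theorem isLocallyClosed_stratum [Finite ι] (Z : ι → Set X) (hZ : ∀ l, IsClosed (Z l))
    (A : Set ι) : IsLocallyClosed (stratum Z A) := by
  rw [stratum_eq]
  refine IsLocallyClosed.inter (IsClosed.isLocallyClosed ?_) (IsOpen.isLocallyClosed ?_)
  · exact isClosed_biInter fun l _ => hZ l
  · exact (Set.toFinite Aᶜ).isOpen_biInter fun l _ => (hZ l).isOpen_compl

theorem iUnion_stratum (Z : ι → Set X) : ⋃ A, stratum Z A = univ :=
  eq_univ_of_forall fun x => mem_iUnion.mpr ⟨typeOf Z x, rfl⟩

theorem disjoint_stratum (Z : ι → Set X) {A B : Set ι} (h : A ≠ B) :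
    Disjoint (stratum Z A) (stratum Z B) := by
  rw [disjoint_left]
  intro x hA hB
  exact h (hA.symm.trans hB)

theorem closure_stratum_subset (Z : ι → Set X) (hZ : ∀ l, IsClosed (Z l)) (A : Set ι) :
    closure (stratum Z A) ⊆ ⋃ B ∈ {B : Set ι | A ⊆ B}, stratum Z B := by
  have h1 : closure (stratum Z A) ⊆ ⋂ l ∈ A, Z l := by
    apply closure_minimal _ (isClosed_biInter fun l _ => hZ l)
    rw [stratum_eq]
    exact inter_subset_left
  intro x hx
  have hx' := h1 hx
  rw [mem_iInter₂] at hx'
  exact mem_iUnion₂.mpr ⟨typeOf Z x, fun l hl => hx' l hl, rfl⟩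

/-- A set determined by the types of its points is a union of strata. -/
theorem stratum_subset_of_nonempty_inter (Z : ι → Set X) (q : Set ι → Prop) (A : Set ι)
    (h : (stratum Z A ∩ {x | q (typeOf Z x)}).Nonempty) : stratum Z A ⊆ {x | q (typeOf Z x)} := by
  obtain ⟨x, hxA, hxq⟩ := h
  intro y hy
  have : typeOf Z y = typeOf Z x := hy.trans hxA.symm
  change q (typeOf Z y)
  rw [this]
  exact hxq

end Groth.Agent.Lib.Helper38
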