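import Groth.Agent.Lib.Helper38.AcycShift
import Groth.Agent.Lib.Lead.SectCmp
import Groth.Agent.Lib.Helper1.QcqsLoc.GlobalSec
import Groth.Agent.Lib.Helper49.FiniteTypeLocal
import Groth.Agent.S0864
import Groth.Agent.S0463
import Groth.Agent.S0002

/-!
# Higher direct images along a proper morphism are coherent (helper38)

`isCoh_rightDerived_pushforward`: `f : X ⟶ S` proper, `S` locally Noetherian, `M` coherent ⟹
`R^i f_* M` coherent.  Quasi-coherence is helper1's `isQuasicoherent_rightDerived_pushforward`.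
For finite type: over an affine open `T` of `S`, the sections `Γ(T, H^q(f_* I))` (`I` an injective
resolution of `M`) are a linear quotient of `Γ(f⁻¹T, Z^q(I))` killing the image of
`Γ(f⁻¹T, I^{q-1})` (helper1's comparison `kap` is surjective over affines), and such quotients are
finite by dimension shifting along the restricted resolution (`AcycShift`) and finiteness of
coherent cohomology of `f⁻¹T` over `Γ(S, T)` (`S0002`).
-/

set_option autoImplicit false
universe u
open CategoryTheory CategoryTheory.Limits AlgebraicGeometry TopologicalSpace Opposite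

namespace Groth.Agent.Lib.Helper38.RpushFin

open Groth.Agent.Lib.Helper1.QcqsLoc Groth.Agent.Lib.Helper17.AbHomology
  AlgebraicGeometry.Scheme.Modules

section cycles

variable {C : Type*} [Category C] [Abelian C] (K : CochainComplex C ℕ)

/-- `0 → Z^n → K^n → Z^{n+1}`. -/
noncomputable abbrev cycSES (n : ℕ) : ShortComplex C :=
  ShortComplex.mk (K.iCycles n) (K.toCycles n (n + 1)) (by
    rw [← cancel_mono (K.iCycles (n + 1))]
    simp)

lemma cycSES_exact (n : ℕ) : (cycSES K n).Exact := by
  let α : cycSES K n ⟶ ShortComplex.mk (K.iCycles n) (K.d n (n + 1)) (by simp) :=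
    { τ₁ := 𝟙 _, τ₂ := 𝟙 _, τ₃ := K.iCycles (n + 1)
      comm₁₂ := by simp
      comm₂₃ := by simp }
  have : Epi α.τ₁ := by dsimp [α]; infer_instance
  have : IsIso α.τ₂ := by dsimp [α]; infer_instance
  have : Mono α.τ₃ := by dsimp [α]; infer_instance
  rw [ShortComplex.exact_iff_of_epi_of_isIso_of_mono α]
  exact ShortComplex.exact_of_f_is_kernel _ (K.cyclesIsKernel n (n + 1) (by simp))

lemma cycSES_shortExact (n : ℕ) (h : K.ExactAt (n + 1)) : (cycSES K n).ShortExact where
  exact := cycSES_exact K n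
  mono_f := by dsimp [cycSES]; infer_instance
  epi_g := by
    rw [HomologicalComplex.exactAt_iff_isZero_homology] at h
    exact Preadditive.epi_of_isZero_cokernel' _ (K.homologyIsCokernel n (n + 1) (by simp)) h

end cycles

section acyclic

variable {X : Scheme.{u}}

/-- the restriction of an injective module to an open subscheme is acyclic. -/
theorem subsingleton_HH_restrict_of_injective (J : X.Modules) [hJ : Injective J] (W : X.Opens)
    (k : ℕ) : Subsingleton (Coh.HH W.toScheme (J.restrict W.ι) (k + 1)) := by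
  obtain ⟨e⟩ := Groth.Agent.S0463.result (X := X.toTopCat) (Coh.toAb J) W (k + 1)
  have hJ' : Injective (C := SheafOfModules.{u} X.ringCatSheaf) J := hJ
  have hac := @Groth.Agent.Lib.Helper83.ModAcyclic.isTotallyAcyclic_toSheaf_of_injective
    _ _ _ X.ringCatSheaf J hJ'
  have h : Subsingleton (CohTop.HU (X := X.toTopCat) (Coh.toAb J) (k + 1) W) :=
    Groth.Agent.S0864.result _ hac W k
  exact @Equiv.subsingleton _ _ e.symm.toEquiv h

end acyclic

section main

variable {X S : Scheme.{u}} (f : X ⟶ S) {M : X.Modules} (I : InjectiveResolution M)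

/-- the comparison `f_* Z^q(I) ⟶ Z^q(f_* I)`. -/
noncomputable def cmpCycles (q : ℕ) :
    (pushforward f).obj (I.cocomplex.cycles q) ⟶ (pushC f I.cocomplex).cycles q :=
  (pushC f I.cocomplex).liftCycles ((pushforward f).map (I.cocomplex.iCycles q)) (q + 1)
    (by simp) (by
      change (pushforward f).map (I.cocomplex.iCycles q) ≫
        (pushforward f).map (I.cocomplex.d q (q + 1)) = 0
      rw [← Functor.map_comp, I.cocomplex.iCycles_d, Functor.map_zero])

@[reassoc]
lemma cmpCycles_i (q : ℕ) :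
    cmpCycles f I q ≫ (pushC f I.cocomplex).iCycles q =
      (pushforward f).map (I.cocomplex.iCycles q) :=
  (pushC f I.cocomplex).liftCycles_i _ _ _ _

/-- the map `f_* Z^q(I) ⟶ H^q(f_* I)`. -/
noncomputable def psiMod (q : ℕ) :
    (pushforward f).obj (I.cocomplex.cycles q) ⟶ (pushC f I.cocomplex).homology q :=
  cmpCycles f I q ≫ (pushC f I.cocomplex).homologyπ q

lemma toCycles_cmpCycles (q : ℕ) :
    (pushC f I.cocomplex).toCycles q (q + 1) =
      (pushforward f).map (I.cocomplex.toCycles q (q + 1)) ≫ cmpCycles f I (q + 1) := by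
  have h1 : (pushC f I.cocomplex).toCycles q (q + 1) ≫ (pushC f I.cocomplex).iCycles (q + 1) =
      (pushforward f).map (I.cocomplex.d q (q + 1)) :=
    (pushC f I.cocomplex).toCycles_i q (q + 1)
  have h2 : ((pushforward f).map (I.cocomplex.toCycles q (q + 1)) ≫ cmpCycles f I (q + 1)) ≫
      (pushC f I.cocomplex).iCycles (q + 1) = (pushforward f).map (I.cocomplex.d q (q + 1)) := by
    rw [Category.assoc, cmpCycles_i]
    change (pushforward f).map (I.cocomplex.toCycles q (q + 1)) ≫
      (pushforward f).map (I.cocomplex.iCycles (q + 1)) = _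
    rw [← Functor.map_comp, I.cocomplex.toCycles_i]
  exact (cancel_mono ((pushC f I.cocomplex).iCycles (q + 1))).1 (h1.trans h2.symm)

lemma toCycles_psiMod (q : ℕ) :
    (pushforward f).map (I.cocomplex.toCycles q (q + 1)) ≫ psiMod f I (q + 1) = 0 := by
  have h := (pushC f I.cocomplex).toCycles_comp_homologyπ q (q + 1)
  rw [toCycles_cmpCycles] at h
  exact (Category.assoc _ _ _).symm.trans h


section surj

lemma app_injective_of_mono {P P' : S.Modules} (φ : P ⟶ P') [Mono φ] (T : S.Opens) :
    Function.Injective (φ.app T) := by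
  have h : Mono ((secF T).map φ) := inferInstance
  exact (AddCommGrpCat.mono_iff_injective _).1 h

theorem cmpCycles_app_surjective (q : ℕ) (T : S.Opens) :
    Function.Surjective ((cmpCycles f I q).app T) := by
  intro z'
  let c : Γ(I.cocomplex.X q, f ⁻¹ᵁ T) := ((pushC f I.cocomplex).iCycles q).app T z'
  have hc : (GC I.cocomplex (secF (f ⁻¹ᵁ T))).d q (q + 1) c = 0 := by
    have h0 : ((pushC f I.cocomplex).iCycles q ≫ (pushC f I.cocomplex).d q (q + 1)).app T z' = 0 := by
      rw [(pushC f I.cocomplex).iCycles_d]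
      rfl
    exact h0
  obtain ⟨zK, hzK⟩ := exists_cycle (GC I.cocomplex (secF (f ⁻¹ᵁ T))) q c hc
  obtain ⟨z'', rfl⟩ := (cycCmp_bijective I.cocomplex (secF (f ⁻¹ᵁ T)) q).2 zK
  have h1 : (I.cocomplex.iCycles q).app (f ⁻¹ᵁ T) z'' = c :=
    (ConcreteCategory.congr_hom (cycCmp_i I.cocomplex (secF (f ⁻¹ᵁ T)) q) z'').symm.trans hzK
  refine ⟨z'', ?_⟩
  apply app_injective_of_mono ((pushC f I.cocomplex).iCycles q) T
  have h2 : ((pushC f I.cocomplex).iCycles q).app T ((cmpCycles f I q).app T z'') =
      ((pushforward f).map (I.cocomplex.iCycles q)).app T z'' :=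
    congrArg (fun φ : (pushforward f).obj (I.cocomplex.cycles q) ⟶ (pushC f I.cocomplex).X q =>
      φ.app T z'') (cmpCycles_i f I q)
  exact h2.trans h1

theorem psiMod_app_surjective [HasInjectiveResolutions X.Modules] [QuasiCompact f]
    [QuasiSeparated f] [M.IsQuasicoherent] (q : ℕ) {T : S.Opens} (hT : IsAffineOpen T) :
    Function.Surjective ((psiMod f I q).app T) := by
  intro y
  obtain ⟨x, hx⟩ := kap_surjective_of_isAffineOpen (pushC f I.cocomplex) q (hl_pushC f M I q) hT y
  obtain ⟨z, rfl⟩ := homologyπ_surjective (GC (pushC f I.cocomplex) (secF T)) q x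
  obtain ⟨z', rfl⟩ := (cycCmp_bijective (pushC f I.cocomplex) (secF T) q).2 z
  rw [kap_apply] at hx
  obtain ⟨z'', rfl⟩ := cmpCycles_app_surjective f I q T z'
  exact ⟨z'', hx⟩

end surj


section fin

open Groth.Agent.Lib.Helper38.PropFinSec Groth.Agent.Lib.Helper38.SecMod
  Groth.Agent.Lib.Helper38.AcycShift Groth.Agent.Lib.Helper38.PropFinProj
  Groth.Agent.Lib.Helper49

variable [HasInjectiveResolutions X.Modules]

/-- sections over `T` of `psiMod`, as a linear map. -/
noncomputable def psiLin (q : ℕ) (T : S.Opens) :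
    Γ((pushforward f).obj (I.cocomplex.cycles q), T) →ₗ[Γ(S, T)]
      Γ((pushC f I.cocomplex).homology q, T) where
  toFun := (psiMod f I q).app T
  map_add' := map_add _
  map_smul' r x := Hom.app_smul _ r x

theorem finite_sections_homology [IsProper f] [IsLocallyNoetherian S] (hM : Coh.IsCoh M) (q : ℕ)
    {T : S.Opens} (hT : IsAffineOpen T) :
    Module.Finite Γ(S, T) Γ((pushC f I.cocomplex).homology q, T) := by
  haveI : IsNoetherianRing Γ(S, T) := IsLocallyNoetherian.component_noetherian ⟨T, hT⟩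
  haveI := hM.1
  letI : ((f ⁻¹ᵁ T : X.Opens) : Scheme.{u}).Over (Spec (CommRingCat.of Γ(S, T))) :=
    ⟨fW f T hT⟩
  haveI : IsProper (((f ⁻¹ᵁ T : X.Opens) : Scheme.{u}) ↘ Spec (CommRingCat.of Γ(S, T))) :=
    isProper_fW f T hT
  have hcoh : Coh.IsCoh (M.restrict (f ⁻¹ᵁ T).ι) :=
    ⟨isQuasicoherent_restrictFunctor _ _, isFiniteType_restrict M (f ⁻¹ᵁ T).ι hM.2⟩
  have hfin0 : ∀ k, Module.Finite Γ(S, T)
      (Coh.HH ((f ⁻¹ᵁ T : X.Opens) : Scheme.{u}) (M.restrict (f ⁻¹ᵁ T).ι) k) :=
    fun k => Groth.Agent.S0002.result Γ(S, T) _ _ hcoh k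
  let e0 : M ≅ I.cocomplex.cycles 0 :=
    IsLimit.conePointUniqueUpToIso I.isLimitKernelFork
      (I.cocomplex.cyclesIsKernel 0 1 (by simp))
  have hfin : ∀ k, Module.Finite Γ(S, T) (Coh.HH ((f ⁻¹ᵁ T : X.Opens) : Scheme.{u})
      ((I.cocomplex.cycles 0).restrict (f ⁻¹ᵁ T).ι) k) := fun k =>
    Groth.Agent.Lib.Helper38.PropFinDev.finite_HH_of_iso Γ(S, T)
      ((restrictFunctor (f ⁻¹ᵁ T).ι).mapIso e0) k (hfin0 k)
  cases q with
  | zero =>
    refine finite_of_surjective_zero Γ(S, T) ((I.cocomplex.cycles 0).restrict (f ⁻¹ᵁ T).ι)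
      (hfin 0) ((psiLin f I 0 T) ∘ₗ
        (secTopEquiv f T hT (I.cocomplex.cycles 0)).toLinearMap) ?_
    exact (psiMod_app_surjective f I 0 hT).comp
      (secTopEquiv f T hT (I.cocomplex.cycles 0)).surjective
  | succ n =>
    refine finite_of_surjective_succ Γ(S, T)
      (fun n => (I.cocomplex.cycles n).restrict (f ⁻¹ᵁ T).ι)
      (fun n => (I.cocomplex.X n).restrict (f ⁻¹ᵁ T).ι)
      (fun n => (restrictFunctor (f ⁻¹ᵁ T).ι).map (I.cocomplex.iCycles n))
      (fun n => (restrictFunctor (f ⁻¹ᵁ T).ι).map (I.cocomplex.toCycles n (n + 1)))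
      (fun n => ((cycSES I.cocomplex n).map (restrictFunctor (f ⁻¹ᵁ T).ι)).zero)
      (fun n => (cycSES_shortExact I.cocomplex n (I.cocomplex_exactAt_succ n)).map_of_exact
        (restrictFunctor (f ⁻¹ᵁ T).ι))
      (fun n k => ?_) hfin n
      ((psiLin f I (n + 1) T) ∘ₗ
        (secTopEquiv f T hT (I.cocomplex.cycles (n + 1))).toLinearMap) ?_ ?_
    · haveI : Injective (I.cocomplex.X n) := I.injective n
      exact subsingleton_HH_restrict_of_injective (I.cocomplex.X n) (f ⁻¹ᵁ T) k
    · exact (psiMod_app_surjective f I (n + 1) hT).comp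
        (secTopEquiv f T hT (I.cocomplex.cycles (n + 1))).surjective
    · intro b
      change (psiMod f I (n + 1)).app T
        (mres (I.cocomplex.cycles (n + 1)) (f ⁻¹ᵁ T).ι_image_top.ge
          ((I.cocomplex.toCycles n (n + 1)).app ((f ⁻¹ᵁ T).ι ''ᵁ ⊤) b)) = 0
      rw [mres_apply, Groth.Agent.Lib.Helper1.hom_app_naturality]
      exact congrArg (fun φ : (pushforward f).obj (I.cocomplex.X n) ⟶
          (pushC f I.cocomplex).homology (n + 1) =>
        φ.app T ((I.cocomplex.X n).presheaf.map (homOfLE (f ⁻¹ᵁ T).ι_image_top.ge).op b))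
        (toCycles_psiMod f I n)

end fin

section coh

open Groth.Agent.Lib.Helper49

theorem finite_sections_of_iso {P P' : S.Modules} (e : P ≅ P') (T : S.Opens)
    (h : Module.Finite Γ(S, T) Γ(P, T)) : Module.Finite Γ(S, T) Γ(P', T) := by
  let l : Γ(P, T) →ₗ[Γ(S, T)] Γ(P', T) :=
    { toFun := e.hom.app T
      map_add' := map_add _
      map_smul' := fun r x => Hom.app_smul _ r x }
  refine Module.Finite.of_surjective l ?_
  intro y
  refine ⟨e.inv.app T y, ?_⟩
  change (e.inv ≫ e.hom).app T y = y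
  rw [e.inv_hom_id]
  rfl

/-- **Higher direct images of a coherent module along a proper morphism to a locally Noetherian
scheme are coherent.** -/
theorem isCoh_rightDerived_pushforward [HasInjectiveResolutions X.Modules] [IsProper f]
    [IsLocallyNoetherian S] (M : X.Modules) (hM : Coh.IsCoh M) (i : ℕ) :
    Coh.IsCoh (((pushforward f).rightDerived i).obj M) := by
  haveI := hM.1
  have hq : (((pushforward f).rightDerived i).obj M).IsQuasicoherent :=
    isQuasicoherent_rightDerived_pushforward f M i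
  refine ⟨hq, ?_⟩
  let I := injectiveResolution M
  have e := I.isoRightDerivedObj (pushforward f) i
  refine isFiniteType_of_finite_sections_cover _ (fun T : S.affineOpens => T.1) (fun T => T.2)
    (fun x => ?_) (fun T => ?_)
  · obtain ⟨U, hU, hxU, -⟩ := (Opens.isBasis_iff_nbhd.mp S.isBasis_affineOpens)
      (show x ∈ (⊤ : S.Opens) from trivial)
    exact ⟨⟨U, hU⟩, hxU⟩
  · exact finite_sections_of_iso e.symm T.1 (finite_sections_homology f I hM i T.2)

end coh


end main

end Groth.Agent.Lib.Helper38.RpushFin
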