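import Groth.Agent.Lib.Helper38.PropFinSec
import Groth.Agent.Lib.Helper38.PropFinDev

/-!
# Dimension shifting along a spliced acyclic resolution, linearly over the base (helper38)

`Y` a scheme over `Spec A`, short exact sequences `0 → Z n → J n → Z (n+1) → 0` of `O_Y`-modules
with all `J n` acyclic.  If all `H^k(Y, Z 0)` are finite `A`-modules (`A` Noetherian), then every
`A`-linear quotient of `Γ(Y, Z (n+1))` killing the image of `Γ(Y, J n)` is a finite `A`-module.
-/

set_option autoImplicit false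
universe u
open CategoryTheory CategoryTheory.Limits AlgebraicGeometry TopologicalSpace Opposite

namespace Groth.Agent.Lib.Helper38.AcycShift

open Groth.Agent.Lib.Helper17 Groth.Agent.Lib.Helper17.HHLinLES Groth.Agent.Lib.Helper67.HHLES
  Groth.Agent.Lib.Helper38.SecMod Groth.Agent.Lib.Helper38.PropFinSec

variable (A : Type u) [CommRing A] {Y : Scheme.{u}} [Y.Over (Spec (CommRingCat.of A))]

section one

variable {S : ShortComplex Y.Modules} (hS : S.ShortExact)

include hS in
/-- the connecting map is injective in positive degrees when the middle term is acyclic. -/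
theorem deltaLin_injective (k : ℕ) (h2 : Subsingleton (Coh.HH Y S.X₂ (k + 1))) :
    Function.Injective (deltaLin A hS (k + 1)) := by
  rw [← LinearMap.ker_eq_bot, ← range_eq_ker A hS (k + 1), LinearMap.range_eq_bot]
  ext x
  have : x = 0 := Subsingleton.elim _ _
  subst this
  simp

/-- naturality of `H^0 = Γ`. -/
theorem hh0Equiv_map {M N : Y.Modules} (φ : M ⟶ N) (x : Coh.HH Y M 0) :
    HZero.hh0Equiv N (Canon.HHlin A φ 0 x) = φ.app ⊤ (HZero.hh0Equiv M x) :=
  (CategoryTheory.Sheaf.H.equiv₀_naturality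
    (f := (SheafOfModules.toSheaf Y.ringCatSheaf).map φ)
    (CategoryTheory.Limits.isTerminalTop (α := TopologicalSpace.Opens Y)) x).symm

/-- the degree zero connecting map on sections. -/
noncomputable def theta : Sec (Y ↘ Spec (CommRingCat.of A)) S.X₃ ⊤ →ₗ[A] Coh.HH Y S.X₁ 1 :=
  (deltaLin A hS 0) ∘ₗ (hh0Lin (Y ↘ Spec (CommRingCat.of A)) S.X₃).symm.toLinearMap

theorem exists_of_theta_eq_zero (z : Sec (Y ↘ Spec (CommRingCat.of A)) S.X₃ ⊤)
    (hz : theta A hS z = 0) :
    ∃ b : Γ(S.X₂, ⊤), toSec (Y ↘ Spec (CommRingCat.of A)) S.X₃ ⊤ (S.g.app ⊤ b) = z := by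
  obtain ⟨y, hy⟩ := exists_of_deltaLin_eq_zero A hS 0
    ((hh0Lin (Y ↘ Spec (CommRingCat.of A)) S.X₃).symm z) hz
  refine ⟨HZero.hh0Equiv S.X₂ y, ?_⟩
  have h1 := hh0Equiv_map A S.g y
  rw [hy] at h1
  rw [← h1]
  exact (hh0Lin (Y ↘ Spec (CommRingCat.of A)) S.X₃).apply_symm_apply z

end one

section splice

variable (Z J : ℕ → Y.Modules) (i : ∀ n, Z n ⟶ J n) (p : ∀ n, J n ⟶ Z (n + 1))
  (w : ∀ n, i n ≫ p n = 0) (hS : ∀ n, (ShortComplex.mk (i n) (p n) (w n)).ShortExact)
  (hJ : ∀ n k, Subsingleton (Coh.HH Y (J n) (k + 1)))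

include hS hJ in
theorem finite_shift [IsNoetherianRing A] (hfin : ∀ k, Module.Finite A (Coh.HH Y (Z 0) k)) :
    ∀ n k, Module.Finite A (Coh.HH Y (Z n) (k + 1)) := by
  intro n
  induction n with
  | zero => exact fun k => hfin (k + 1)
  | succ n ih =>
    intro k
    have hinj := deltaLin_injective A (hS n) k (hJ n k)
    have := ih (k + 1)
    have hN : IsNoetherian A (Coh.HH Y (Z n) (k + 1 + 1)) :=
      isNoetherian_of_isNoetherianRing_of_finite A _
    have : IsNoetherian A (Coh.HH Y (Z (n + 1)) (k + 1)) :=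
      isNoetherian_of_injective (deltaLin A (hS n) (k + 1)) hinj
    exact Module.IsNoetherian.finite A _

include hS hJ in
/-- every linear quotient of `Γ(Y, Z (n+1))` killing the image of `Γ(Y, J n)` is finite. -/
theorem finite_of_surjective_succ [IsNoetherianRing A]
    (hfin : ∀ k, Module.Finite A (Coh.HH Y (Z 0) k)) (n : ℕ)
    {Q : Type*} [AddCommGroup Q] [Module A Q]
    (ψ : Sec (Y ↘ Spec (CommRingCat.of A)) (Z (n + 1)) ⊤ →ₗ[A] Q) (hψ : Function.Surjective ψ)
    (hb : ∀ b : Γ(J n, ⊤),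
      ψ (toSec (Y ↘ Spec (CommRingCat.of A)) (Z (n + 1)) ⊤ ((p n).app ⊤ b)) = 0) :
    Module.Finite A Q := by
  have hP : Module.Finite A (Coh.HH Y (Z n) 1) := finite_shift A Z J i p w hS hJ hfin n 0
  have hN : IsNoetherian A (Coh.HH Y (Z n) 1) := isNoetherian_of_isNoetherianRing_of_finite A _
  let θ := theta A (hS n)
  have hker : LinearMap.ker θ ≤ LinearMap.ker ψ := by
    intro z hz
    obtain ⟨b, rfl⟩ := exists_of_theta_eq_zero A (hS n) z hz
    exact hb b
  have hfinR : Module.Finite A (LinearMap.range θ) := Module.IsNoetherian.finite A _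
  have hfinQ : Module.Finite A (_ ⧸ LinearMap.ker θ) :=
    Module.Finite.equiv θ.quotKerEquivRange.symm
  refine Module.Finite.of_surjective ((LinearMap.ker θ).liftQ ψ hker) ?_
  intro y
  obtain ⟨z, rfl⟩ := hψ y
  exact ⟨Submodule.Quotient.mk z, by simp⟩

/-- every linear quotient of `Γ(Y, M)` is finite when `H^0(Y, M)` is. -/
theorem finite_of_surjective_zero (M : Y.Modules) (hfin : Module.Finite A (Coh.HH Y M 0))
    {Q : Type*} [AddCommGroup Q] [Module A Q]
    (ψ : Sec (Y ↘ Spec (CommRingCat.of A)) M ⊤ →ₗ[A] Q) (hψ : Function.Surjective ψ) :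
    Module.Finite A Q := by
  refine Module.Finite.of_surjective
    (ψ ∘ₗ (hh0Lin (Y ↘ Spec (CommRingCat.of A)) M).toLinearMap) ?_
  exact hψ.comp (hh0Lin (Y ↘ Spec (CommRingCat.of A)) M).surjective

end splice

end Groth.Agent.Lib.Helper38.AcycShift
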