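import Mathlib

/-!
# Linear algebra of base change (helper38)

* `isBaseChange_of_isPushout`: a base change along `R → K ⊗[k] R` is a base change along `k → K`.
* `isBaseChange_pi`: finite products of base changes.
* `exists_isBaseChange_homology`: homology of a complex commutes with flat base change
  (elementwise form, with cocycle-class maps `cl`).
* `finrank_eq_of_isBaseChange`, `subsingleton_iff_of_isBaseChange` for field extensions.
-/

set_option autoImplicit false
open TensorProduct

namespace Groth.Agent.Lib.Helper38.BCAlg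

/-- If `R' = K ⊗[k] R` and `f : M → N` is a base change along `R → R'`, then it is a base change
along `k → K`. -/
theorem isBaseChange_of_isPushout (k K R R' : Type*) [CommRing k] [CommRing K] [CommRing R]
    [CommRing R'] [Algebra k K] [Algebra k R] [Algebra k R'] [Algebra K R'] [Algebra R R']
    [IsScalarTower k K R'] [IsScalarTower k R R'] [Algebra.IsPushout k K R R']
    {M N : Type*} [AddCommGroup M] [AddCommGroup N] [Module k M] [Module R M] [IsScalarTower k R M]
    [Module k N] [Module K N] [Module R N] [Module R' N] [IsScalarTower R R' N]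
    [IsScalarTower K R' N] [IsScalarTower k K N] [IsScalarTower k R N]
    (f : M →ₗ[R] N) (hf : IsBaseChange R' f) :
    IsBaseChange K (f.restrictScalars k) := by
  refine IsBaseChange.of_equiv
    ((Algebra.IsPushout.cancelBaseChange k K R R' M).symm ≪≫ₗ (hf.equiv.restrictScalars K))
    (fun m => ?_)
  rw [LinearEquiv.trans_apply, Algebra.IsPushout.cancelBaseChange_symm_tmul, map_one]
  simp

/-- A finite product of base changes is a base change. -/
theorem isBaseChange_pi {k K : Type*} [CommRing k] [CommRing K] [Algebra k K]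
    {ι : Type*} [Fintype ι] [DecidableEq ι] {M N : ι → Type*} [∀ i, AddCommGroup (M i)]
    [∀ i, AddCommGroup (N i)]
    [∀ i, Module k (M i)] [∀ i, Module k (N i)] [∀ i, Module K (N i)]
    [∀ i, IsScalarTower k K (N i)] (f : ∀ i, M i →ₗ[k] N i) (hf : ∀ i, IsBaseChange K (f i)) :
    IsBaseChange K (LinearMap.pi (fun i => (f i).comp (LinearMap.proj i)) :
      (∀ i, M i) →ₗ[k] (∀ i, N i)) := by
  refine IsBaseChange.of_equiv
    ((TensorProduct.piRight k K K M) ≪≫ₗ LinearEquiv.piCongrRight (fun i => (hf i).equiv))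
    (fun m => ?_)
  ext i
  simp

section homology

variable {k K : Type*} [CommRing k] [CommRing K] [Algebra k K] [Module.Flat k K]
  {C0 C1 C2 H C0' C1' C2' H' : Type*}
  [AddCommGroup C0] [AddCommGroup C1] [AddCommGroup C2] [AddCommGroup H]
  [AddCommGroup C0'] [AddCommGroup C1'] [AddCommGroup C2'] [AddCommGroup H']
  [Module k C0] [Module k C1] [Module k C2] [Module k H]
  [Module k C0'] [Module k C1'] [Module k C2'] [Module k H']
  [Module K C0'] [Module K C1'] [Module K C2'] [Module K H']
  [IsScalarTower k K C0'] [IsScalarTower k K C1'] [IsScalarTower k K C2'] [IsScalarTower k K H']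

/-- **Homology commutes with flat base change**, in elementwise form. -/
theorem exists_isBaseChange_homology
    (d0 : C0 →ₗ[k] C1) (d1 : C1 →ₗ[k] C2) (d0' : C0' →ₗ[K] C1') (d1' : C1' →ₗ[K] C2')
    (φ0 : C0 →ₗ[k] C0') (φ1 : C1 →ₗ[k] C1') (φ2 : C2 →ₗ[k] C2')
    (h0 : IsBaseChange K φ0) (h1 : IsBaseChange K φ1) (h2 : IsBaseChange K φ2)
    (hdd : ∀ b, d0 b ∈ LinearMap.ker d1) (hdd' : ∀ b, d0' b ∈ LinearMap.ker d1')
    (c0 : ∀ x, φ1 (d0 x) = d0' (φ0 x)) (c1 : ∀ x, φ2 (d1 x) = d1' (φ1 x))
    (cl : LinearMap.ker d1 →ₗ[k] H) (cl' : LinearMap.ker d1' →ₗ[K] H')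
    (hs : Function.Surjective cl) (hs' : Function.Surjective cl')
    (hk : ∀ z : LinearMap.ker d1, cl z = 0 ↔ ∃ b, d0 b = z)
    (hk' : ∀ z : LinearMap.ker d1', cl' z = 0 ↔ ∃ b, d0' b = z) :
    ∃ ψ : H →ₗ[k] H', IsBaseChange K ψ ∧
      ∀ (z : LinearMap.ker d1) (z' : LinearMap.ker d1'), (z' : C1') = φ1 z → ψ (cl z) = cl' z' := by
  -- the map on cocycles
  let φZ : LinearMap.ker d1 →ₗ[k] LinearMap.ker d1' :=
    (φ1.comp (LinearMap.ker d1).subtype).codRestrict ((LinearMap.ker d1').restrictScalars k)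
      (fun z => by
        change d1' (φ1 z) = 0
        rw [← c1, z.2, map_zero])
  have hZ : IsBaseChange K φZ := by
    refine IsBaseChange.of_left_exact K φZ φ1 φ2 (f := (LinearMap.ker d1).subtype) (g := d1)
      (f' := (LinearMap.ker d1').subtype) (g' := d1') ?_ ?_ h1 h2 ?_ ?_ ?_ ?_
    · ext z; rfl
    · ext x; exact c1 x
    · exact LinearMap.exact_subtype_ker_map d1
    · exact Subtype.val_injective
    · exact LinearMap.exact_subtype_ker_map d1'
    · exact Subtype.val_injective
  have hφZ : ∀ z : LinearMap.ker d1, ((φZ z : LinearMap.ker d1') : C1') = φ1 z := fun z => rfl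
  -- coboundaries
  let b0 : C0 →ₗ[k] LinearMap.ker d1 := d0.codRestrict (LinearMap.ker d1) hdd
  let b0' : C0' →ₗ[K] LinearMap.ker d1' := d0'.codRestrict (LinearMap.ker d1') hdd'
  have hb : ∀ b, φZ (b0 b) = b0' (φ0 b) := fun b => Subtype.ext (c0 b)
  have hex : Function.Exact b0 cl := by
    intro z
    rw [hk z]
    constructor
    · rintro ⟨b, hb⟩; exact ⟨b, Subtype.ext hb⟩
    · rintro ⟨b, hb⟩; exact ⟨b, congrArg Subtype.val hb⟩
  have hex' : Function.Exact b0' cl' := by
    intro z
    rw [hk' z]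
    constructor
    · rintro ⟨b, hb⟩; exact ⟨b, Subtype.ext hb⟩
    · rintro ⟨b, hb⟩; exact ⟨b, congrArg Subtype.val hb⟩
  have hle : LinearMap.ker cl ≤ LinearMap.ker ((cl'.restrictScalars k).comp φZ) := by
    intro z hz
    obtain ⟨b, rfl⟩ := (hex z).mp hz
    change cl' (φZ (b0 b)) = 0
    rw [hb]
    exact (hex' _).mpr ⟨_, rfl⟩
  let e : (LinearMap.ker d1 ⧸ LinearMap.ker cl) ≃ₗ[k] H := cl.quotKerEquivOfSurjective hs
  let ψ : H →ₗ[k] H' :=
    ((LinearMap.ker cl).liftQ ((cl'.restrictScalars k).comp φZ) hle).comp e.symm.toLinearMap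
  have hψ : ∀ z, ψ (cl z) = cl' (φZ z) := by
    intro z
    have : e.symm (cl z) = Submodule.Quotient.mk z := by
      rw [LinearEquiv.symm_apply_eq]
      rfl
    change (LinearMap.ker cl).liftQ _ hle (e.symm (cl z)) = _
    rw [this, Submodule.liftQ_apply]
    rfl
  refine ⟨ψ, ?_, ?_⟩
  · refine IsBaseChange.of_right_exact K φ0 φZ ψ (f := b0) (g := cl) (f' := b0') (g' := cl')
      ?_ ?_ h0 hZ hex hs hex' hs'
    · ext b; exact congrArg Subtype.val (hb b)
    · ext z; exact hψ z
  · intro z z' hz
    rw [hψ]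
    congr 1
    exact Subtype.ext hz.symm

end homology

theorem finrank_eq_of_isBaseChange {k K H H' : Type*} [Field k] [Field K] [Algebra k K]
    [AddCommGroup H] [AddCommGroup H'] [Module k H] [Module k H'] [Module K H']
    [IsScalarTower k K H'] (ψ : H →ₗ[k] H') (h : IsBaseChange K ψ) :
    Module.finrank K H' = Module.finrank k H := by
  rw [← h.equiv.finrank_eq, Module.finrank_baseChange]

theorem subsingleton_iff_of_isBaseChange {k K H H' : Type*} [Field k] [Field K] [Algebra k K]
    [AddCommGroup H] [AddCommGroup H'] [Module k H] [Module k H'] [Module K H']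
    [IsScalarTower k K H'] (ψ : H →ₗ[k] H') (h : IsBaseChange K ψ) :
    Subsingleton H' ↔ Subsingleton H := by
  constructor
  · intro hs
    have : Subsingleton (K ⊗[k] H) := h.equiv.toEquiv.subsingleton
    exact Module.FaithfullyFlat.lTensor_reflects_triviality k K H
  · intro hs
    have : Subsingleton (K ⊗[k] H) := inferInstance
    exact h.equiv.symm.toEquiv.subsingleton

end Groth.Agent.Lib.Helper38.BCAlg
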