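import Mathlib.RingTheory.Length
import Mathlib.RingTheory.FiniteLength
import Mathlib.LinearAlgebra.LinearIndependent.Basic
import Mathlib.LinearAlgebra.Dimension.Finrank
import Mathlib.LinearAlgebra.Dimension.Constructions
import Mathlib.LinearAlgebra.Dimension.StrongRankCondition
import Mathlib.LinearAlgebra.Dimension.Free
import Mathlib.SetTheory.Cardinal.Finite
import Mathlib.LinearAlgebra.Dimension.Finite

/-! Generators of finite length modules; counting ring homomorphisms into a domain (helper38). -/

set_option autoImplicit false

namespace Groth.Agent.Lib.Helper38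

universe u v

section Gen

variable {R : Type u} [Ring R]

/-- A module of finite length `n` is generated by at most `n` elements. -/
theorem exists_finset_card_le_of_length_eq (n : ℕ) :
    ∀ (M : Type v) [AddCommGroup M] [Module R M], Module.length R M = n →
      ∃ s : Finset M, s.card ≤ n ∧ Submodule.span R (s : Set M) = ⊤ := by
  classical
  induction n using Nat.strong_induction_on with
  | _ n ih =>
    intro M _ _ hlen
    by_cases hM : Subsingleton M
    · refine ⟨∅, by simp, ?_⟩
      exact Subsingleton.elim _ _
    rw [not_subsingleton_iff_nontrivial] at hM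
    obtain ⟨x, hx⟩ := exists_ne (0 : M)
    have hfl : IsFiniteLength R M := by
      rw [← Module.length_ne_top_iff, hlen]
      exact ENat.natCast_ne_top n
    obtain ⟨hNoeth, hArt⟩ := isFiniteLength_iff_isNoetherian_isArtinian.mp hfl
    let p : Submodule R M := Submodule.span R {x}
    have hp : p ≠ ⊥ := by
      intro h
      apply hx
      have : x ∈ p := Submodule.subset_span (Set.mem_singleton x)
      rw [h] at this
      exact (Submodule.mem_bot R).mp this
    have hlt : Module.length R (M ⧸ p) < n := by
      have := Submodule.length_quotient_lt p hp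
      rwa [hlen] at this
    obtain ⟨k, hk⟩ : ∃ k : ℕ, Module.length R (M ⧸ p) = k := by
      have : Module.length R (M ⧸ p) ≠ ⊤ := ne_top_of_lt hlt
      exact ⟨(Module.length R (M ⧸ p)).toNat, (ENat.natCast_toNat this).symm⟩
    have hkn : k < n := by
      rw [hk] at hlt
      exact_mod_cast hlt
    obtain ⟨s', hs'card, hs'span⟩ := ih k hkn (M ⧸ p) hk
    let g : M ⧸ p → M := Function.surjInv p.mkQ_surjective
    have hg : ∀ y, p.mkQ (g y) = y := Function.surjInv_eq p.mkQ_surjective
    let s'' : Finset M := s'.image g
    refine ⟨insert x s'', ?_, ?_⟩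
    · calc (insert x s'').card ≤ s''.card + 1 := Finset.card_insert_le _ _
        _ ≤ s'.card + 1 := by
            have : s''.card ≤ s'.card := Finset.card_image_le (s := s') (f := g)
            omega
        _ ≤ n := by omega
    · have himg : p.mkQ '' (s'' : Set M) = (s' : Set (M ⧸ p)) := by
        ext y
        simp only [Set.mem_image, Finset.mem_coe, s'', Finset.mem_image]
        constructor
        · rintro ⟨z, ⟨w, hw, rfl⟩, rfl⟩
          rwa [hg]
        · intro hy
          exact ⟨g y, ⟨y, hy, rfl⟩, hg y⟩
      have h1 : (Submodule.span R (s'' : Set M)).map p.mkQ = ⊤ := by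
        rw [Submodule.map_span, himg, hs'span]
      have h2 : Submodule.span R (s'' : Set M) ⊔ p = ⊤ := by
        have := congrArg (Submodule.comap p.mkQ) h1
        rwa [Submodule.comap_map_eq, Submodule.ker_mkQ, Submodule.comap_top] at this
      rw [Finset.coe_insert, Submodule.span_insert, sup_comm]
      exact h2

end Gen

section Count

variable {A B L : Type*} [CommRing A] [CommRing B] [Field L]

/-- Ring homomorphisms `B → L` with prescribed restriction `θ` to `A`, for `B` generated as an
`A`-module by a family `b`, are linearly independent when evaluated on `b`. -/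
theorem linearIndependent_eval_of_span (f : A →+* B) (θ : A →+* L) {ι : Type*} [Fintype ι]
    (b : ι → B) (hb : ∀ y : B, ∃ c : ι → A, y = ∑ i, f (c i) * b i) :
    LinearIndependent L
      (fun τ : {τ : B →+* L // τ.comp f = θ} => fun i : ι => τ.1 (b i)) := by
  classical
  have hmon := linearIndependent_monoidHom B L
  have hinj : Function.Injective
      (fun τ : {τ : B →+* L // τ.comp f = θ} => (τ.1 : B →* L)) := by
    intro τ τ' h
    apply Subtype.ext
    ext y
    exact DFunLike.congr_fun h y
  have hmon' := hmon.comp _ hinj
  rw [linearIndependent_iff'] at hmon' ⊢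
  intro s g hg τ hτ
  apply hmon' s g _ τ hτ
  funext y
  obtain ⟨c, rfl⟩ := hb y
  have hθ : ∀ (σ : {τ : B →+* L // τ.comp f = θ}) (a : A), σ.1 (f a) = θ a := by
    intro σ a
    exact DFunLike.congr_fun σ.2 a
  have hgi : ∀ i : ι, ∑ σ ∈ s, g σ * σ.1 (b i) = 0 := by
    intro i
    have := congrFun hg i
    simpa [Finset.sum_apply] using this
  simp only [Function.comp_apply, Finset.sum_apply, Pi.smul_apply, smul_eq_mul, Pi.zero_apply]
  calc ∑ σ ∈ s, g σ * (σ.1 : B →* L) (∑ i, f (c i) * b i)
      = ∑ σ ∈ s, ∑ i, θ (c i) * (g σ * σ.1 (b i)) := by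
        refine Finset.sum_congr rfl fun σ _ => ?_
        have : (σ.1 : B →* L) (∑ i, f (c i) * b i) = ∑ i, θ (c i) * σ.1 (b i) := by
          change σ.1 (∑ i, f (c i) * b i) = _
          rw [map_sum]
          refine Finset.sum_congr rfl fun i _ => ?_
          rw [map_mul, hθ]
        rw [this, Finset.mul_sum]
        refine Finset.sum_congr rfl fun i _ => ?_
        ring
    _ = ∑ i, θ (c i) * ∑ σ ∈ s, g σ * σ.1 (b i) := by
        rw [Finset.sum_comm]
        refine Finset.sum_congr rfl fun i _ => ?_
        rw [Finset.mul_sum]
    _ = 0 := by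
        refine Finset.sum_eq_zero fun i _ => ?_
        rw [hgi, mul_zero]

/-- There are at most `card ι` ring homomorphisms `B → L` with prescribed restriction to `A`,
when `B` is generated as an `A`-module by a family indexed by `ι`. -/
theorem card_ringHom_le (f : A →+* B) (θ : A →+* L) {ι : Type*} [Fintype ι]
    (b : ι → B) (hb : ∀ y : B, ∃ c : ι → A, y = ∑ i, f (c i) * b i) :
    Finite {τ : B →+* L // τ.comp f = θ} ∧
      Nat.card {τ : B →+* L // τ.comp f = θ} ≤ Fintype.card ι := by
  have hli := linearIndependent_eval_of_span f θ b hb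
  haveI : Finite {τ : B →+* L // τ.comp f = θ} := hli.finite
  refine ⟨inferInstance, ?_⟩
  haveI := Fintype.ofFinite {τ : B →+* L // τ.comp f = θ}
  rw [Nat.card_eq_fintype_card]
  have := hli.fintype_card_le_finrank
  rwa [Module.finrank_fintype_fun_eq_card] at this

end Count

end Groth.Agent.Lib.Helper38
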