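import Groth.Agent.Lib.Helper38.Branch
import Mathlib.RingTheory.Localization.FractionRing
import Mathlib.RingTheory.IntegralClosure.IsIntegralClosure.Basic

/-! Transport of integral closures in total rings of fractions along ring isomorphisms; generators
of an algebra whose cokernel has finite length (helper38). -/

set_option autoImplicit false

namespace Groth.Agent.Lib.Helper38

universe u

section Transport

variable {A R : Type u} [CommRing A] [CommRing R]

theorem isIntegral_ringEquivOfRingEquiv (e : A ≃+* R) (x : FractionRing A) (hx : IsIntegral A x) :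
    IsIntegral R
      ((IsFractionRing.ringEquivOfRingEquiv e : FractionRing A ≃+* FractionRing R) x) := by
  refine IsIntegral.map_of_comp_eq (e : A →+* R)
    ((IsFractionRing.ringEquivOfRingEquiv e : FractionRing A ≃+* FractionRing R) :
      FractionRing A →+* FractionRing R) ?_ hx
  ext a
  simp

/-- A ring isomorphism induces a surjective ring map between the integral closures in the total
rings of fractions, compatible with the structure maps. -/
theorem exists_ringHom_integralClosure_of_ringEquiv (e : A ≃+* R) :
    ∃ ψ : integralClosure A (FractionRing A) →+* integralClosure R (FractionRing R),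
      Function.Surjective ψ ∧
        ∀ a : A, ψ (algebraMap A (integralClosure A (FractionRing A)) a) =
          algebraMap R (integralClosure R (FractionRing R)) (e a) := by
  let Φ : FractionRing A ≃+* FractionRing R := IsFractionRing.ringEquivOfRingEquiv e
  let ψ : integralClosure A (FractionRing A) →+* integralClosure R (FractionRing R) :=
    ((Φ : FractionRing A →+* FractionRing R).comp
      (integralClosure A (FractionRing A)).val.toRingHom).codRestrict
        (integralClosure R (FractionRing R))
        (fun x => isIntegral_ringEquivOfRingEquiv e x.1 x.2)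
  refine ⟨ψ, ?_, ?_⟩
  · rintro ⟨y, hy⟩
    have hx : IsIntegral A (Φ.symm y) := isIntegral_ringEquivOfRingEquiv e.symm y hy
    refine ⟨⟨Φ.symm y, hx⟩, ?_⟩
    apply Subtype.ext
    change Φ (Φ.symm y) = y
    exact Φ.apply_symm_apply y
  · intro a
    apply Subtype.ext
    change Φ (algebraMap A (FractionRing A) a) = algebraMap R (FractionRing R) (e a)
    exact IsFractionRing.ringEquivOfRingEquiv_algebraMap e a

end Transport

section Gens

variable {A : Type u} [CommRing A] {S : Type u} [CommRing S] [Algebra A S]

/-- If the cokernel of `A → S` has length `n`, then `S` is generated as an `A`-module by `1`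
together with at most `n` further elements. -/
theorem exists_gens_of_length_quotient_range (n : ℕ)
    (h : Module.length A (S ⧸ LinearMap.range (Algebra.linearMap A S)) = n) :
    ∃ (m : ℕ) (_ : m ≤ n) (b : Option (Fin m) → S), b none = 1 ∧
      ∀ y : S, ∃ c : Option (Fin m) → A, y = ∑ i, algebraMap A S (c i) * b i := by
  classical
  obtain ⟨s, hcard, hspan⟩ := exists_finset_card_le_of_length_eq n _ h
  let p : Submodule A S := LinearMap.range (Algebra.linearMap A S)
  let g : S ⧸ p → S := Function.surjInv p.mkQ_surjective
  have hg : ∀ y, p.mkQ (g y) = y := Function.surjInv_eq p.mkQ_surjective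
  let eq : Fin s.card ≃ s := s.equivFin.symm
  refine ⟨s.card, hcard, fun i => i.elim 1 (fun j => g (eq j).1), rfl, ?_⟩
  intro y
  have hy : p.mkQ y ∈ Submodule.span A (s : Set (S ⧸ p)) := by rw [hspan]; trivial
  obtain ⟨c, hc⟩ := (Submodule.mem_span_finset' (R := A)).mp hy
  -- `hc : ∑ a : s, c a • a = mkQ y`
  have hker : y - ∑ a : s, c a • g a.1 ∈ p := by
    rw [← Submodule.ker_mkQ p, LinearMap.mem_ker, map_sub, map_sum]
    simp only [map_smul, hg]
    rw [hc, sub_self]
  obtain ⟨a0, ha0⟩ := hker
  refine ⟨fun i => i.elim a0 (fun j => c (eq j)), ?_⟩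
  rw [Fintype.sum_option]
  simp only [Option.elim_none, Option.elim_some, mul_one]
  have h1 : algebraMap A S a0 = y - ∑ a : s, c a • g a.1 := ha0
  have h2 : ∑ j : Fin s.card, algebraMap A S (c (eq j)) * g (eq j).1 = ∑ a : s, c a • g a.1 := by
    rw [← Equiv.sum_comp eq (fun a : s => c a • g a.1)]
    refine Finset.sum_congr rfl fun j _ => ?_
    rw [Algebra.smul_def]
  rw [h1, h2]
  ring

end Gens

end Groth.Agent.Lib.Helper38
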