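import Mathlib
import Groth.Prelude.Def_Brnch

set_option autoImplicit false

universe u

namespace Groth.Agent.Lib.Helper38

theorem ENat_card_sigma {ι : Type*} (f : ι → Type*) :
    ENat.card (Σ i, f i) = ∑' i, ENat.card (f i) := by
  apply ENat.toENNReal_strictMono.injective
  have hce : Topology.IsClosedEmbedding (ENat.toENNRealRingHom) := ENat.isClosedEmbedding_toENNReal
  have h1 := hce.map_tsum (fun i => ENat.card (f i)) (L := .unconditional ι)
  have h2 : ((∑' i, ENat.card (f i) : ℕ∞) : ENNReal) = ∑' i, ((ENat.card (f i) : ℕ∞) : ENNReal) := h1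
  rw [h2, ← ENNReal.tsum_one]
  have h3 := ENNReal.tsum_sigma (β := f) (fun _ _ => (1 : ENNReal))
  rw [h3]
  congr 1
  ext i
  rw [ENNReal.tsum_one]

namespace BrnchEmb

variable {R : Type u} [CommRing R] [IsLocalRing R] (m' : MaximalSpectrum (CAlg2.normRed R))

theorem toResidue_isIntegral : (Brnch.toResidue R m').IsIntegral := by
  have h1 : (Ideal.Quotient.mk (nilradical R)).IsIntegral :=
    RingHom.isIntegral_of_surjective _ Ideal.Quotient.mk_surjective
  have h2 : (algebraMap (CAlg2.red R) (CAlg2.normRed R)).IsIntegral :=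
    algebraMap_isIntegral_iff.mpr inferInstance
  have h3 : (Ideal.Quotient.mk m'.asIdeal).IsIntegral :=
    RingHom.isIntegral_of_surjective _ Ideal.Quotient.mk_surjective
  exact RingHom.IsIntegral.trans (T := CAlg2.normRed R ⧸ m'.asIdeal) _ _
    (RingHom.IsIntegral.trans _ _ h1 h2) h3

variable {L : Type u} [Field L] [Algebra (IsLocalRing.ResidueField R) L]
  (Φ : (CAlg2.normRed R ⧸ m'.asIdeal) ≃+* L)
  (hΦ : ∀ r : R, Φ (Brnch.toResidue R m' r) =
    algebraMap (IsLocalRing.ResidueField R) L (IsLocalRing.residue R r))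

include Φ hΦ in
theorem isAlgebraic : Algebra.IsAlgebraic (IsLocalRing.ResidueField R) L := by
  letI : Algebra R L :=
    ((algebraMap (IsLocalRing.ResidueField R) L).comp (IsLocalRing.residue R)).toAlgebra
  haveI : IsScalarTower R (IsLocalRing.ResidueField R) L := IsScalarTower.of_algebraMap_eq' rfl
  refine ⟨fun l => ?_⟩
  apply IsIntegral.isAlgebraic
  obtain ⟨z, rfl⟩ := Φ.surjective l
  have hz := toResidue_isIntegral m' z
  have h2 : IsIntegral R (Φ z) := by
    obtain ⟨p, hp, hpz⟩ := hz
    refine ⟨p, hp, ?_⟩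
    have h3 : (algebraMap R L) = (Φ : (CAlg2.normRed R ⧸ m'.asIdeal) →+* L).comp
        (Brnch.toResidue R m') := by
      ext r
      exact (hΦ r).symm
    rw [h3]
    have h4 := Polynomial.hom_eval₂ p (Brnch.toResidue R m')
      (Φ : (CAlg2.normRed R ⧸ m'.asIdeal) →+* L) z
    rw [hpz, map_zero] at h4
    exact h4.symm
  exact h2.tower_top

/-- Embeddings in the sense of `Brnch.Emb` versus algebra maps into the algebraic closure. -/
noncomputable def embEquiv :
    Brnch.Emb R m' ≃ (L →ₐ[IsLocalRing.ResidueField R]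
      AlgebraicClosure (IsLocalRing.ResidueField R)) where
  toFun σ :=
    { toRingHom := σ.1.comp (Φ.symm : L →+* (CAlg2.normRed R ⧸ m'.asIdeal))
      commutes' := by
        intro k
        obtain ⟨r, rfl⟩ := IsLocalRing.residue_surjective k
        have h1 := congrArg (fun f => f r) σ.2
        simp only [RingHom.comp_apply] at h1
        show σ.1 (Φ.symm (algebraMap (IsLocalRing.ResidueField R) L (IsLocalRing.residue R r))) = _
        rw [← hΦ r, RingEquiv.symm_apply_apply, h1]
        rfl }
  invFun τ := ⟨(τ : L →+* AlgebraicClosure (IsLocalRing.ResidueField R)).comp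
      (Φ : (CAlg2.normRed R ⧸ m'.asIdeal) →+* L), by
    ext r
    simp only [RingHom.comp_apply]
    show τ (Φ (Brnch.toResidue R m' r)) = _
    rw [hΦ r, τ.commutes]
    rfl⟩
  left_inv σ := by
    apply Subtype.ext
    ext z
    simp
  right_inv τ := by
    ext l
    simp

include hΦ in
theorem card_emb_eq :
    ENat.card (Brnch.Emb R m') = ENat.card (Field.Emb (IsLocalRing.ResidueField R) L) := by
  haveI := isAlgebraic m' Φ hΦ
  exact ENat.card_congr ((embEquiv m' Φ hΦ).trans
    (Field.embEquivOfIsAlgClosed (IsLocalRing.ResidueField R) L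
      (AlgebraicClosure (IsLocalRing.ResidueField R))).symm)

end BrnchEmb

end Groth.Agent.Lib.Helper38
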