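import Mathlib

/-!
# Cohomology and base change: the algebra (helper38)

Pure algebra (Mathlib only).  A complex `C^0 → C^1 → ⋯` of flat `A`-modules, given as a family of
modules and linear maps, which is *universally exact* in high degrees and has flat cohomology in
every degree, has cohomology commuting with arbitrary base change.

* `UE d i` : universal exactness of `C^i → C^{i+1} → C^{i+2}` at the middle spot.
* `UE_of_algebra` : it is enough to test on `A`-algebras (trivial square zero extensions).
* `flat_ker_of_UE` : cycles are flat two steps into the universally exact range.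
* `flat_data` : all cycles and boundaries are flat, and boundaries are universally injective.
* `exists_isBaseChange_homology` : the base change statement at one spot.
-/

set_option autoImplicit false
universe u

open TensorProduct Function

namespace Groth.Agent.Lib.Helper38.CBAlg

section flat

variable {R : Type u} [CommRing R] {K Q B : Type u} [AddCommGroup K] [Module R K]
  [AddCommGroup Q] [Module R Q] [AddCommGroup B] [Module R B]

/-- A universally injective map into a flat module has flat source. -/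
theorem flat_of_lTensor_injective [Module.Flat R Q] (f : K →ₗ[R] Q)
    (hf : ∀ (M : Type u) [AddCommGroup M] [Module R M], Injective (f.lTensor M)) :
    Module.Flat R K := by
  rw [Module.Flat.iff_rTensor_injective]
  intro I _
  have h1 : Injective ((I.subtype.rTensor Q) ∘ₗ (f.lTensor I)) :=
    (Module.Flat.rTensor_preserves_injective_linearMap _ Subtype.val_injective).comp (hf I)
  have h2 : (I.subtype.rTensor Q) ∘ₗ (f.lTensor I) = (f.lTensor R) ∘ₗ (I.subtype.rTensor K) := by
    rw [LinearMap.rTensor_comp_lTensor, LinearMap.lTensor_comp_rTensor]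
  rw [h2] at h1
  exact Function.Injective.of_comp h1

/-- The kernel of a surjection of flat modules is flat. -/
theorem flat_of_exact [Module.Flat R Q] [Module.Flat R B] (f : K →ₗ[R] Q) (g : Q →ₗ[R] B)
    (hf : Injective f) (hg : Surjective g) (H : Exact f g) : Module.Flat R K :=
  flat_of_lTensor_injective f
    (fun M _ _ => LinearMap.lTensor_injective_of_exact_of_flat g hg f hf H M)

end flat

section complex

variable {A : Type u} [CommRing A] {C : ℕ → Type u} [∀ q, AddCommGroup (C q)]
  [∀ q, Module A (C q)] (d : ∀ q, C q →ₗ[A] C (q + 1))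

/-- universal exactness at the spot `i + 1`. -/
def UE (i : ℕ) : Prop :=
  ∀ (M : Type u) [AddCommGroup M] [Module A M],
    Exact ((d i).lTensor M) ((d (i + 1)).lTensor M)

variable {d}

theorem lid_lTensor {M N : Type u} [AddCommGroup M] [Module A M] [AddCommGroup N] [Module A N]
    (f : M →ₗ[A] N) (y : A ⊗[A] M) :
    TensorProduct.lid A N (f.lTensor A y) = f (TensorProduct.lid A M y) := by
  induction y using TensorProduct.induction_on with
  | zero => simp
  | tmul a m => simp
  | add x y hx hy => simp only [map_add, hx, hy]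

theorem exact_of_UE {i : ℕ} (h : UE d i) : Exact (d i) (d (i + 1)) := by
  intro x
  constructor
  · intro hx
    have h1 : (d (i + 1)).lTensor A ((1 : A) ⊗ₜ[A] x) = 0 := by
      rw [LinearMap.lTensor_tmul, hx, TensorProduct.tmul_zero]
    obtain ⟨y, hy⟩ := (h A _).mp h1
    refine ⟨TensorProduct.lid A _ y, ?_⟩
    rw [← lid_lTensor, hy, TensorProduct.lid_tmul, one_smul]
  · rintro ⟨y, rfl⟩
    have h1 := (h A ((d i).lTensor A ((1 : A) ⊗ₜ[A] y))).mpr ⟨_, rfl⟩
    rw [LinearMap.lTensor_tmul, LinearMap.lTensor_tmul] at h1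
    have h2 := congrArg (TensorProduct.lid A _) h1
    rwa [TensorProduct.lid_tmul, one_smul, map_zero] at h2

/-- It suffices to test universal exactness on `A`-algebras. -/
theorem UE_of_algebra {i : ℕ}
    (h : ∀ (B : Type u) [CommRing B] [Algebra A B],
      Exact ((d i).lTensor B) ((d (i + 1)).lTensor B)) : UE d i := by
  intro M _ _
  letI : Module Aᵐᵒᵖ M := Module.compHom _ ((RingHom.id A).fromOpposite mul_comm)
  haveI : IsCentralScalar A M := ⟨fun r m => rfl⟩
  let inr : M →ₗ[A] TrivSqZeroExt A M := TrivSqZeroExt.inrHom A M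
  let snd : TrivSqZeroExt A M →ₗ[A] M := TrivSqZeroExt.sndHom A M
  have hsi : snd ∘ₗ inr = LinearMap.id := by
    ext m
    exact TrivSqZeroExt.snd_inr A m
  have hB := h (TrivSqZeroExt A M)
  intro z
  constructor
  · intro hz
    have h1 : (d (i + 1)).lTensor (TrivSqZeroExt A M) (inr.rTensor (C (i + 1)) z) = 0 := by
      rw [← LinearMap.comp_apply, LinearMap.lTensor_comp_rTensor, ← LinearMap.rTensor_comp_lTensor,
        LinearMap.comp_apply, hz, map_zero]
    obtain ⟨b, hb⟩ := (hB _).mp h1
    refine ⟨snd.rTensor (C i) b, ?_⟩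
    rw [← LinearMap.comp_apply, LinearMap.lTensor_comp_rTensor, ← LinearMap.rTensor_comp_lTensor,
      LinearMap.comp_apply, hb, ← LinearMap.comp_apply, ← LinearMap.rTensor_comp, hsi,
      LinearMap.rTensor_id, LinearMap.id_apply]
  · rintro ⟨b, rfl⟩
    have h1 : (d (i + 1)).lTensor (TrivSqZeroExt A M)
        ((d i).lTensor (TrivSqZeroExt A M) (inr.rTensor (C i) b)) = 0 :=
      (hB _).mpr ⟨_, rfl⟩
    have h2 : (d (i + 1)).lTensor M ((d i).lTensor M b) =
        snd.rTensor (C (i + 1 + 1))
          ((d (i + 1)).lTensor (TrivSqZeroExt A M)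
            ((d i).lTensor (TrivSqZeroExt A M) (inr.rTensor (C i) b))) := by
      rw [← LinearMap.comp_apply (f := (d i).lTensor (TrivSqZeroExt A M)),
        LinearMap.lTensor_comp_rTensor,
        ← LinearMap.rTensor_comp_lTensor, LinearMap.comp_apply,
        ← LinearMap.comp_apply (f := (d (i + 1)).lTensor (TrivSqZeroExt A M)),
        LinearMap.lTensor_comp_rTensor,
        ← LinearMap.rTensor_comp_lTensor, LinearMap.comp_apply, ← LinearMap.comp_apply
          (f := snd.rTensor _), ← LinearMap.rTensor_comp, hsi, LinearMap.rTensor_id,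
        LinearMap.id_apply]
    rw [h2, h1, map_zero]

variable (hd : ∀ q x, d (q + 1) (d q x) = 0)

include hd in
/-- Two steps into the universally exact range the cycles are universally injective. -/
theorem lTensor_subtype_ker_injective {i : ℕ} (h0 : UE d i) (h1 : UE d (i + 1))
    (M : Type u) [AddCommGroup M] [Module A M] :
    Injective ((LinearMap.ker (d (i + 1 + 1))).subtype.lTensor M) := by
  let Z := LinearMap.ker (d (i + 1 + 1))
  let π : C (i + 1) →ₗ[A] Z := (d (i + 1)).codRestrict Z (fun x => hd (i + 1) x)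
  have hπ : Surjective π := by
    intro z
    obtain ⟨x, hx⟩ := ((exact_of_UE h1) z.1).mp z.2
    exact ⟨x, Subtype.ext hx⟩
  have hπd : π ∘ₗ d i = 0 := by
    ext x
    exact hd i x
  have hsub : Z.subtype ∘ₗ π = d (i + 1) := by
    ext x
    rfl
  rw [injective_iff_map_eq_zero]
  intro x hx
  obtain ⟨y, rfl⟩ := LinearMap.lTensor_surjective M hπ x
  have h2 : (d (i + 1)).lTensor M y = 0 := by
    rw [← hsub, LinearMap.lTensor_comp, LinearMap.comp_apply]
    exact hx
  obtain ⟨w, rfl⟩ := (h0 M _).mp h2
  rw [← LinearMap.comp_apply, ← LinearMap.lTensor_comp, hπd, LinearMap.lTensor_zero,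
    LinearMap.zero_apply]

include hd in
theorem flat_ker_of_UE {i : ℕ} (h0 : UE d i) (h1 : UE d (i + 1))
    [Module.Flat A (C (i + 1 + 1))] : Module.Flat A (LinearMap.ker (d (i + 1 + 1))) :=
  flat_of_lTensor_injective _ (fun M _ _ => lTensor_subtype_ker_injective hd h0 h1 M)

/-- inclusion of the boundaries in the cycles. -/
def bz (q : ℕ) : LinearMap.range (d q) →ₗ[A] LinearMap.ker (d (q + 1)) :=
  (LinearMap.range (d q)).subtype.codRestrict (LinearMap.ker (d (q + 1)))
    (fun x => by
      obtain ⟨y, hy⟩ := x.2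
      change d (q + 1) x.1 = 0
      rw [← hy]
      exact hd q y)

theorem bz_injective (q : ℕ) : Injective (bz hd q) := by
  intro x y hxy
  have h := congrArg Subtype.val hxy
  exact Subtype.ext h

section presentation

variable {H : ℕ → Type u} [∀ p, AddCommGroup (H p)] [∀ p, Module A (H p)]
  (cl : ∀ p, LinearMap.ker (d p) →ₗ[A] H p)
  (hk : ∀ (p : ℕ) (z : LinearMap.ker (d (p + 1))), cl (p + 1) z = 0 ↔ ∃ b, d p b = z)

include hk in
theorem exact_bz_cl (q : ℕ) : Exact (bz hd q) (cl (q + 1)) := by
  intro z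
  rw [hk q z]
  constructor
  · rintro ⟨b, hb⟩
    exact ⟨⟨z.1, ⟨b, hb⟩⟩, Subtype.ext rfl⟩
  · rintro ⟨x, rfl⟩
    obtain ⟨b, hb⟩ := x.2
    exact ⟨b, hb⟩

theorem exact_ker_rangeRestrict (q : ℕ) :
    Exact (LinearMap.ker (d q)).subtype (d q).rangeRestrict := by
  intro x
  constructor
  · intro hx
    exact ⟨⟨x, congrArg Subtype.val hx⟩, rfl⟩
  · rintro ⟨z, rfl⟩
    exact Subtype.ext z.2

variable (hs : ∀ p, Surjective (cl p))

include hd hk hs in
/-- descending step. -/
theorem flat_range_of_flat_ker (q : ℕ) [Module.Flat A (LinearMap.ker (d (q + 1)))]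
    [Module.Flat A (H (q + 1))] : Module.Flat A (LinearMap.range (d q)) :=
  flat_of_exact (bz hd q) (cl (q + 1)) (bz_injective hd q) (hs (q + 1)) (exact_bz_cl hd cl hk q)

include hd hk hs in
theorem flat_ker_of_flat_ker (q : ℕ) [Module.Flat A (C q)]
    [Module.Flat A (LinearMap.ker (d (q + 1)))]
    [Module.Flat A (H (q + 1))] : Module.Flat A (LinearMap.ker (d q)) := by
  haveI := flat_range_of_flat_ker hd cl hk hs q
  exact flat_of_exact (LinearMap.ker (d q)).subtype (d q).rangeRestrict Subtype.val_injective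
    (LinearMap.surjective_rangeRestrict _) (exact_ker_rangeRestrict q)

variable (hC : ∀ q, Module.Flat A (C q)) (hH : ∀ p, Module.Flat A (H p))
  (N : ℕ) (hN : ∀ i, N ≤ i → UE d i)

include hd hk hs hC hH hN in
theorem flat_ker (q : ℕ) : Module.Flat A (LinearMap.ker (d q)) := by
  have key : ∀ (m q : ℕ), N + 2 ≤ q + m → Module.Flat A (LinearMap.ker (d q)) := by
    intro m
    induction m with
    | zero =>
      intro q hq
      obtain ⟨i, rfl⟩ : ∃ i, q = i + 1 + 1 := ⟨q - 2, by omega⟩
      haveI := hC (i + 1 + 1)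
      exact flat_ker_of_UE hd (hN i (by omega)) (hN (i + 1) (by omega))
    | succ m ih =>
      intro q hq
      haveI := ih (q + 1) (by omega)
      haveI := hC q
      haveI := hH (q + 1)
      exact flat_ker_of_flat_ker hd cl hk hs q
  exact key (N + 2) q (by omega)

include hd hk hs hC hH hN in
theorem flat_range (q : ℕ) : Module.Flat A (LinearMap.range (d q)) := by
  haveI := flat_ker hd cl hk hs hC hH N hN (q + 1)
  haveI := hH (q + 1)
  exact flat_range_of_flat_ker hd cl hk hs q

include hd hk hs hC hH hN in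
/-- boundaries are universally injective in the terms. -/
theorem lTensor_subtype_range_injective (q : ℕ) (M : Type u) [AddCommGroup M] [Module A M] :
    Injective ((LinearMap.range (d q)).subtype.lTensor M) := by
  haveI := hH (q + 1)
  haveI := flat_range hd cl hk hs hC hH N hN (q + 1)
  have h1 : Injective ((bz hd q).lTensor M) :=
    LinearMap.lTensor_injective_of_exact_of_flat (cl (q + 1)) (hs (q + 1)) (bz hd q)
      (bz_injective hd q) (exact_bz_cl hd cl hk q) M
  have h2 : Injective ((LinearMap.ker (d (q + 1))).subtype.lTensor M) :=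
    LinearMap.lTensor_injective_of_exact_of_flat (d (q + 1)).rangeRestrict
      (LinearMap.surjective_rangeRestrict _) (LinearMap.ker (d (q + 1))).subtype
      Subtype.val_injective (exact_ker_rangeRestrict (q + 1)) M
  have h3 : (LinearMap.range (d q)).subtype =
      (LinearMap.ker (d (q + 1))).subtype ∘ₗ bz hd q := by
    ext x
    rfl
  rw [h3, LinearMap.lTensor_comp]
  exact h2.comp h1

end presentation

end complex

section spot

variable {k K : Type u} [CommRing k] [CommRing K] [Algebra k K]
  {C0 C1 C2 H C0' C1' C2' H' : Type u}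
  [AddCommGroup C0] [AddCommGroup C1] [AddCommGroup C2] [AddCommGroup H]
  [AddCommGroup C0'] [AddCommGroup C1'] [AddCommGroup C2'] [AddCommGroup H']
  [Module k C0] [Module k C1] [Module k C2] [Module k H]
  [Module k C0'] [Module k C1'] [Module k C2'] [Module k H']
  [Module K C0'] [Module K C1'] [Module K C2'] [Module K H']
  [IsScalarTower k K C0'] [IsScalarTower k K C1'] [IsScalarTower k K C2'] [IsScalarTower k K H']

/-- variant of `IsBaseChange.of_left_exact` with the flatness of `K` replaced by what is used. -/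
theorem isBaseChange_of_left_exact {f : C0 →ₗ[k] C1} {g : C1 →ₗ[k] C2} {f' : C0' →ₗ[K] C1'}
    {g' : C1' →ₗ[K] C2'} (h₁ : C0 →ₗ[k] C0') (h₂ : C1 →ₗ[k] C1') (h₃ : C2 →ₗ[k] C2')
    (comm₁ : h₂.comp f = (f'.restrictScalars k).comp h₁)
    (comm₂ : h₃.comp g = (g'.restrictScalars k).comp h₂)
    (isb₂ : IsBaseChange K h₂) (isb₃ : IsBaseChange K h₃)
    (exS : Exact (f.lTensor K) (g.lTensor K)) (injS : Injective (f.lTensor K))
    (exact₂ : Exact f' g') (inj₂ : Injective f') : IsBaseChange K h₁ := by
  simp only [IsBaseChange, IsTensorProduct] at isb₂ isb₃ ⊢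
  refine LinearMap.bijective_of_bijective_of_injective_of_left_exact
    ((f.baseChange K).restrictScalars k) ((g.baseChange K).restrictScalars k)
    (f'.restrictScalars k) (g'.restrictScalars k) _ _ _ ?_ ?_ ?_ exact₂ isb₂ isb₃.1 ?_ inj₂
  · ext s m
    simpa using congr(s • ($comm₁ m)).symm
  · ext s m
    simpa using congr(s • ($comm₂ m)).symm
  · exact exS
  · exact injS

/-- cycles commute with base change when the boundaries are flat and universally injective. -/
theorem isBaseChange_ker (d1 : C1 →ₗ[k] C2) (d1' : C1' →ₗ[K] C2')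
    (φ1 : C1 →ₗ[k] C1') (φ2 : C2 →ₗ[k] C2') (h1 : IsBaseChange K φ1) (h2 : IsBaseChange K φ2)
    (c1 : ∀ x, φ2 (d1 x) = d1' (φ1 x))
    [Module.Flat k (LinearMap.range d1)]
    (hinj : Injective ((LinearMap.range d1).subtype.lTensor K))
    (φZ : LinearMap.ker d1 →ₗ[k] LinearMap.ker d1') (hφZ : ∀ z, (φZ z : C1') = φ1 z) :
    IsBaseChange K φZ := by
  have hex : Exact (LinearMap.ker d1).subtype d1.rangeRestrict := by
    intro x
    constructor
    · intro hx
      exact ⟨⟨x, congrArg Subtype.val hx⟩, rfl⟩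
    · rintro ⟨z, rfl⟩
      exact Subtype.ext z.2
  have hcomp : d1 = (LinearMap.range d1).subtype ∘ₗ d1.rangeRestrict := by
    ext x
    rfl
  refine isBaseChange_of_left_exact (f := (LinearMap.ker d1).subtype) (g := d1)
    (f' := (LinearMap.ker d1').subtype) (g' := d1') φZ φ1 φ2 ?_ ?_ h1 h2 ?_ ?_ ?_ ?_
  · ext z
    exact (hφZ z).symm
  · ext x
    exact c1 x
  · have h3 : Exact ((LinearMap.ker d1).subtype.lTensor K) (d1.rangeRestrict.lTensor K) :=
      lTensor_exact K hex (LinearMap.surjective_rangeRestrict _)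
    have h4 : (d1.lTensor K : K ⊗[k] C1 → K ⊗[k] C2) =
        ((LinearMap.range d1).subtype.lTensor K) ∘ (d1.rangeRestrict.lTensor K) := by
      conv_lhs => rw [hcomp, LinearMap.lTensor_comp]
      rfl
    rw [h4]
    exact h3.comp_injective _ hinj (map_zero _)
  · exact LinearMap.lTensor_injective_of_exact_of_flat d1.rangeRestrict
      (LinearMap.surjective_rangeRestrict _) (LinearMap.ker d1).subtype Subtype.val_injective hex K
  · exact LinearMap.exact_subtype_ker_map d1'
  · exact Subtype.val_injective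

/-- **Homology commutes with base change** at a spot where the outgoing boundaries are flat and
universally injective. -/
theorem exists_isBaseChange_homology
    (d0 : C0 →ₗ[k] C1) (d1 : C1 →ₗ[k] C2) (d0' : C0' →ₗ[K] C1') (d1' : C1' →ₗ[K] C2')
    (φ0 : C0 →ₗ[k] C0') (φ1 : C1 →ₗ[k] C1') (φ2 : C2 →ₗ[k] C2')
    (h0 : IsBaseChange K φ0) (h1 : IsBaseChange K φ1) (h2 : IsBaseChange K φ2)
    (hdd : ∀ b, d0 b ∈ LinearMap.ker d1) (hdd' : ∀ b, d0' b ∈ LinearMap.ker d1')
    (c0 : ∀ x, φ1 (d0 x) = d0' (φ0 x)) (c1 : ∀ x, φ2 (d1 x) = d1' (φ1 x))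
    [Module.Flat k (LinearMap.range d1)]
    (hinj : Injective ((LinearMap.range d1).subtype.lTensor K))
    (cl : LinearMap.ker d1 →ₗ[k] H) (cl' : LinearMap.ker d1' →ₗ[K] H')
    (hs : Function.Surjective cl) (hs' : Function.Surjective cl')
    (hk : ∀ z : LinearMap.ker d1, cl z = 0 ↔ ∃ b, d0 b = z)
    (hk' : ∀ z : LinearMap.ker d1', cl' z = 0 ↔ ∃ b, d0' b = z) :
    ∃ ψ : H →ₗ[k] H', IsBaseChange K ψ ∧
      ∀ (z : LinearMap.ker d1) (z' : LinearMap.ker d1'), (z' : C1') = φ1 z → ψ (cl z) = cl' z' := by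
  -- the map on cocycles
  let φZ : LinearMap.ker d1 →ₗ[k] LinearMap.ker d1' :=
    (φ1.comp (LinearMap.ker d1).subtype).codRestrict ((LinearMap.ker d1').restrictScalars k)
      (fun z => by
        change d1' (φ1 z) = 0
        rw [← c1, z.2, map_zero])
  have hφZ : ∀ z : LinearMap.ker d1, ((φZ z : LinearMap.ker d1') : C1') = φ1 z := fun z => rfl
  have hZ : IsBaseChange K φZ := isBaseChange_ker d1 d1' φ1 φ2 h1 h2 c1 hinj φZ hφZ
  -- coboundaries
  let b0 : C0 →ₗ[k] LinearMap.ker d1 := d0.codRestrict (LinearMap.ker d1) hdd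
  let b0' : C0' →ₗ[K] LinearMap.ker d1' := d0'.codRestrict (LinearMap.ker d1') hdd'
  have hb : ∀ b, φZ (b0 b) = b0' (φ0 b) := fun b => Subtype.ext (c0 b)
  have hex : Function.Exact b0 cl := by
    intro z
    rw [hk z]
    constructor
    · rintro ⟨b, hb⟩; exact ⟨b, Subtype.ext hb⟩
    · rintro ⟨b, hb⟩; exact ⟨b, congrArg Subtype.val hb⟩
  have hex' : Function.Exact b0' cl' := by
    intro z
    rw [hk' z]
    constructor
    · rintro ⟨b, hb⟩; exact ⟨b, Subtype.ext hb⟩
    · rintro ⟨b, hb⟩; exact ⟨b, congrArg Subtype.val hb⟩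
  have hle : LinearMap.ker cl ≤ LinearMap.ker ((cl'.restrictScalars k).comp φZ) := by
    intro z hz
    obtain ⟨b, rfl⟩ := (hex z).mp hz
    change cl' (φZ (b0 b)) = 0
    rw [hb]
    exact (hex' _).mpr ⟨_, rfl⟩
  let e : (LinearMap.ker d1 ⧸ LinearMap.ker cl) ≃ₗ[k] H := cl.quotKerEquivOfSurjective hs
  let ψ : H →ₗ[k] H' :=
    ((LinearMap.ker cl).liftQ ((cl'.restrictScalars k).comp φZ) hle).comp e.symm.toLinearMap
  have hψ : ∀ z, ψ (cl z) = cl' (φZ z) := by
    intro z
    have : e.symm (cl z) = Submodule.Quotient.mk z := by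
      rw [LinearEquiv.symm_apply_eq]
      rfl
    change (LinearMap.ker cl).liftQ _ hle (e.symm (cl z)) = _
    rw [this, Submodule.liftQ_apply]
    rfl
  refine ⟨ψ, ?_, ?_⟩
  · refine IsBaseChange.of_right_exact K φ0 φZ ψ (f := b0) (g := cl) (f' := b0') (g' := cl')
      ?_ ?_ h0 hZ hex hs hex' hs'
    · ext b; exact congrArg Subtype.val (hb b)
    · ext z; exact hψ z
  · intro z z' hz
    rw [hψ]
    congr 1
    exact Subtype.ext hz.symm

end spot

end Groth.Agent.Lib.Helper38.CBAlg
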