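import Mathlib
import Groth.Agent.Lib.Helper74.LocalCriterion

/-!
# Maps of finite modules which are injective modulo every maximal ideal (helper38)

* `subsingleton_of_forall_maximal` : a finite module `K` with `(A ⧸ m) ⊗ K = 0` for all maximal
  ideals `m` is zero.
* `injective_of_forall_maximal_lTensor_quotient_injective` : a map `N → P` of finite modules over a
  Noetherian ring with `P` projective which is injective modulo every maximal ideal is injective
  (and its cokernel is projective, by helper74's criterion).
-/

set_option autoImplicit false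
universe u

open TensorProduct Function

namespace Groth.Agent.Lib.Helper38.CBProj

variable {A : Type u} [CommRing A]

theorem subsingleton_of_forall_maximal {K : Type u} [AddCommGroup K] [Module A K]
    [Module.Finite A K]
    (h : ∀ (m : Ideal A) [m.IsMaximal], Subsingleton ((A ⧸ m) ⊗[A] K)) : Subsingleton K := by
  rw [← Module.support_eq_empty_iff (R := A)]
  by_contra hne
  obtain ⟨p, hp⟩ := Set.nonempty_iff_ne_empty.mpr hne
  obtain ⟨m, hm, hpm⟩ := Ideal.exists_le_maximal p.asIdeal p.2.ne_top
  have hq : (⟨m, hm.isPrime⟩ : PrimeSpectrum A) ∈ Module.support A K :=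
    Module.mem_support_mono (p := p) (q := ⟨m, hm.isPrime⟩) hpm hp
  rw [Module.mem_support_iff_nontrivial_residueField_tensorProduct] at hq
  have hbij := Ideal.bijective_algebraMap_quotient_residueField m
  let e : (A ⧸ m) ≃ₗ[A] m.ResidueField :=
    LinearEquiv.ofBijective
      ((IsScalarTower.toAlgHom A (A ⧸ m) m.ResidueField).toLinearMap) hbij
  haveI := h m
  haveI : Subsingleton (m.ResidueField ⊗[A] K) := (e.rTensor K).symm.injective.subsingleton
  exact not_subsingleton _ ‹_›

variable [IsNoetherianRing A] {N P : Type u} [AddCommGroup N] [Module A N]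
  [AddCommGroup P] [Module A P] [Module.Finite A N] [Module.Finite A P] [Module.Projective A P]

/-- the cokernel is projective. -/
theorem projective_quotient_range (f : N →ₗ[A] P)
    (hf : ∀ (m : Ideal A) [m.IsMaximal], Injective (f.lTensor (A ⧸ m))) :
    Module.Projective A (P ⧸ LinearMap.range f) :=
  Groth.Agent.Lib.Helper74.projective_of_forall_maximal_lTensor_quotient_injective f
    (LinearMap.range f).mkQ (Submodule.mkQ_surjective _)
    (by
      rw [LinearMap.exact_iff, Submodule.ker_mkQ])
    hf

/-- **Injectivity can be tested modulo the maximal ideals.** -/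
theorem injective_of_forall_maximal_lTensor_quotient_injective (f : N →ₗ[A] P)
    (hf : ∀ (m : Ideal A) [m.IsMaximal], Injective (f.lTensor (A ⧸ m))) : Injective f := by
  haveI hC := projective_quotient_range f hf
  -- the range is a direct summand of `P`, hence projective
  obtain ⟨s, hs⟩ := Module.projective_lifting_property (LinearMap.range f).mkQ
    (LinearMap.id : (P ⧸ LinearMap.range f) →ₗ[A] _) (Submodule.mkQ_surjective _)
  -- retraction of `P` onto the range
  have hmem : ∀ x : P, x - s ((LinearMap.range f).mkQ x) ∈ LinearMap.range f := by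
    intro x
    have h0 : (LinearMap.range f).mkQ (x - s ((LinearMap.range f).mkQ x)) = 0 := by
      rw [map_sub]
      have := LinearMap.congr_fun hs ((LinearMap.range f).mkQ x)
      rw [LinearMap.comp_apply, LinearMap.id_apply] at this
      rw [this, sub_self]
    exact (Submodule.Quotient.mk_eq_zero _).mp h0
  let r : P →ₗ[A] LinearMap.range f :=
    (LinearMap.id - s ∘ₗ (LinearMap.range f).mkQ).codRestrict (LinearMap.range f) hmem
  have hr : ∀ y : LinearMap.range f, r y = y := by
    intro y
    apply Subtype.ext
    change (y : P) - s ((LinearMap.range f).mkQ y) = y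
    have : (LinearMap.range f).mkQ (y : P) = 0 := by
      rw [← LinearMap.mem_ker, Submodule.ker_mkQ]
      exact y.2
    rw [this, map_zero, sub_zero]
  -- a section of `N → range f`
  have hsurj : Surjective f.rangeRestrict := LinearMap.surjective_rangeRestrict f
  haveI : Module.Projective A (LinearMap.range f) :=
    Module.Projective.of_split (LinearMap.range f).subtype r (by
      ext y
      exact congrArg Subtype.val (hr y))
  obtain ⟨t, ht⟩ := Module.projective_lifting_property f.rangeRestrict
    (LinearMap.id : LinearMap.range f →ₗ[A] _) hsurj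
  -- the kernel is a direct summand of `N`
  let K := LinearMap.ker f
  have hmemK : ∀ x : N, x - t (f.rangeRestrict x) ∈ K := by
    intro x
    rw [LinearMap.mem_ker, map_sub]
    have h1 := LinearMap.congr_fun ht (f.rangeRestrict x)
    rw [LinearMap.comp_apply, LinearMap.id_apply] at h1
    have h2 := congrArg Subtype.val h1
    change f (t (f.rangeRestrict x)) = f x at h2
    rw [h2, sub_self]
  let ρ : N →ₗ[A] K := (LinearMap.id - t ∘ₗ f.rangeRestrict).codRestrict K hmemK
  have hρ : ρ ∘ₗ K.subtype = LinearMap.id := by
    ext y
    change (y : N) - t (f.rangeRestrict y) = y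
    have : f.rangeRestrict (y : N) = 0 := Subtype.ext y.2
    rw [this, map_zero, sub_zero]
  -- `K ⊗ A/m = 0`
  haveI : IsNoetherian A N := isNoetherian_of_isNoetherianRing_of_finite A N
  haveI : Module.Finite A K := Module.Finite.of_fg (IsNoetherian.noetherian _)
  haveI : Subsingleton K := by
    refine subsingleton_of_forall_maximal (A := A) (fun m hm => ?_)
    have hinj : Injective (K.subtype.lTensor (A ⧸ m)) := by
      have h1 : (ρ.lTensor (A ⧸ m)) ∘ₗ (K.subtype.lTensor (A ⧸ m)) = LinearMap.id := by
        rw [← LinearMap.lTensor_comp, hρ, LinearMap.lTensor_id]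
      exact Function.LeftInverse.injective (g := ρ.lTensor (A ⧸ m))
        (fun x => LinearMap.congr_fun h1 x)
    have hzero : ∀ x, K.subtype.lTensor (A ⧸ m) x = 0 := by
      intro x
      apply hf m
      rw [map_zero, ← LinearMap.comp_apply, ← LinearMap.lTensor_comp]
      have : f ∘ₗ K.subtype = 0 := by
        ext y
        exact y.2
      rw [this, LinearMap.lTensor_zero, LinearMap.zero_apply]
    exact ⟨fun x y => hinj ((hzero x).trans (hzero y).symm)⟩
  rw [← LinearMap.ker_eq_bot]
  exact Submodule.eq_bot_of_subsingleton

end Groth.Agent.Lib.Helper38.CBProj
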