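import Groth.Agent.Lib.Helper38.CBRes
import Groth.Agent.Lib.Helper38.CBProj
import Groth.Agent.S14611
import Groth.Agent.S14612

/-!
# Amplitude of the Grothendieck complex (helper38)

Categorical part of "cohomology and base change".  `UQI L K` says that two cochain complexes of
`A`-modules have isomorphic cohomology after tensoring with any module (and before tensoring).

* `UQI.of_quasiIso` : a quasi-isomorphism between bounded above complexes of flat modules.
* `exists_truncGE` : bottom canonical truncation of a complex of finite projective modules.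
* `exists_truncLE` : top canonical truncation.
* `exists_amplitude` : the main theorem: `K` flat, concentrated in `[0, b]`, finite cohomology over a
  Noetherian ring, cohomology vanishing above `d` and fibrewise below `d'`: then `K` is universally
  quasi-isomorphic to a complex of finite projective modules concentrated in `[d', d]`.
-/

set_option autoImplicit false
universe u

open CategoryTheory Limits

namespace Groth.Agent.Lib.Helper38.CBAmp

open Groth.Agent.Lib.Helper38.CBRes

variable {A : Type u} [CommRing A]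

/-- "universally quasi-isomorphic" (existence of isomorphisms on all tensored cohomologies). -/
def UQI (L K : CochainComplex (ModuleCat.{u} A) ℤ) : Prop :=
  (∀ i, Nonempty (L.homology i ≅ K.homology i)) ∧
    ∀ (M : ModuleCat.{u} A) (i : ℤ),
      Nonempty ((CohIII.tensorObj L M).homology i ≅ (CohIII.tensorObj K M).homology i)

theorem UQI.refl (K : CochainComplex (ModuleCat.{u} A) ℤ) : UQI K K :=
  ⟨fun _ => ⟨Iso.refl _⟩, fun _ _ => ⟨Iso.refl _⟩⟩

theorem UQI.symm {L K : CochainComplex (ModuleCat.{u} A) ℤ} (h : UQI L K) : UQI K L :=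
  ⟨fun i => ⟨(h.1 i).some.symm⟩, fun M i => ⟨(h.2 M i).some.symm⟩⟩

theorem UQI.trans {L K N : CochainComplex (ModuleCat.{u} A) ℤ} (h : UQI L K) (h' : UQI K N) :
    UQI L N :=
  ⟨fun i => ⟨(h.1 i).some ≪≫ (h'.1 i).some⟩, fun M i => ⟨(h.2 M i).some ≪≫ (h'.2 M i).some⟩⟩

theorem UQI.of_quasiIso {L K : CochainComplex (ModuleCat.{u} A) ℤ}
    (hL : ∀ i, Module.Flat A (L.X i)) (hK : ∀ i, Module.Flat A (K.X i))
    (bL : ∃ b : ℤ, ∀ i, b < i → IsZero (L.X i)) (bK : ∃ b : ℤ, ∀ i, b < i → IsZero (K.X i))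
    (φ : L ⟶ K) [QuasiIso φ] : UQI L K :=
  ⟨fun i => ⟨isoOfQuasiIsoAt φ i⟩,
    fun M i => nonempty_homology_tensor_iso L K hL hK bL bK φ M i⟩

/-- complexes of finite projective modules. -/
def IsFinProj (Q : CochainComplex (ModuleCat.{u} A) ℤ) : Prop :=
  ∀ i, Module.Finite A (Q.X i) ∧ Module.Projective A (Q.X i)

theorem IsFinProj.flat {Q : CochainComplex (ModuleCat.{u} A) ℤ} (h : IsFinProj Q) (i : ℤ) :
    Module.Flat A (Q.X i) := by
  haveI := (h i).2
  infer_instance

theorem finProj_of_isZero {M : ModuleCat.{u} A} (h : IsZero M) :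
    Module.Finite A M ∧ Module.Projective A M := by
  haveI : Subsingleton M := ModuleCat.subsingleton_of_isZero h
  exact ⟨inferInstance, inferInstance⟩

theorem finProj_of_iso {M N : ModuleCat.{u} A} (e : M ≅ N)
    (h : Module.Finite A M ∧ Module.Projective A M) :
    Module.Finite A N ∧ Module.Projective A N := by
  haveI := h.1
  haveI := h.2
  exact ⟨Module.Finite.equiv e.toLinearEquiv, Module.Projective.of_equiv e.toLinearEquiv⟩

section truncGE

variable [IsNoetherianRing A]

/-- **Bottom truncation.** -/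
theorem exists_truncGE (Q : CochainComplex (ModuleCat.{u} A) ℤ) (hQ : IsFinProj Q) (b : ℤ)
    (hb : ∀ i, b < i → IsZero (Q.X i)) (n : ℤ)
    (h1 : ∀ p < n, IsZero (Q.homology p))
    (h2 : ∀ (m : Ideal A) [m.IsMaximal], ∀ p < n,
      IsZero ((CohIII.tensorObj Q (ModuleCat.of A (A ⧸ m))).homology p)) :
    ∃ Q' : CochainComplex (ModuleCat.{u} A) ℤ, IsFinProj Q' ∧ (∀ i, b < i → IsZero (Q'.X i)) ∧
      (∀ i, i < n → IsZero (Q'.X i)) ∧ UQI Q Q' := by
  have hproj : Module.Projective A (Q.opcycles n) := Groth.Agent.S14611.result A Q hQ n h1 h2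
  have hfin : Module.Finite A (Q.opcycles n) := by
    haveI := (hQ n).1
    exact Module.Finite.of_surjective (Q.pOpcycles n).hom
      ((ModuleCat.epi_iff_surjective _).mp inferInstance)
  have hX : ∀ i, n < i → Nonempty ((Q.truncGE n).X i ≅ Q.X i) := fun i hi =>
    ⟨Q.truncGEXIso n i hi⟩
  have hFP : IsFinProj (Q.truncGE n) := by
    intro i
    rcases lt_trichotomy i n with hi | hi | hi
    · exact finProj_of_isZero ((Q.truncGE n).isZero_of_isStrictlyGE n i hi)
    · subst hi
      exact finProj_of_iso (Q.truncGEXIsoOpcycles i).symm ⟨hfin, hproj⟩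
    · exact finProj_of_iso (hX i hi).some.symm (hQ i)
  have hbd : ∀ i, b < i → IsZero ((Q.truncGE n).X i) := by
    intro i hi
    rcases lt_trichotomy i n with hi' | hi' | hi'
    · exact (Q.truncGE n).isZero_of_isStrictlyGE n i hi'
    · subst hi'
      refine IsZero.of_iso ?_ (Q.truncGEXIsoOpcycles i)
      haveI : Subsingleton (Q.X i) := ModuleCat.subsingleton_of_isZero (hb i hi)
      have hs : Function.Surjective (Q.pOpcycles i).hom :=
        (ModuleCat.epi_iff_surjective _).mp inferInstance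
      haveI : Subsingleton (Q.opcycles i) := hs.subsingleton
      exact ModuleCat.isZero_of_subsingleton _
    · exact IsZero.of_iso (hb i hi) (hX i hi').some
  haveI : Q.IsGE n := (Q.isGE_iff n).mpr (fun i hi =>
    (Q.exactAt_iff_isZero_homology i).mpr (h1 i hi))
  exact ⟨Q.truncGE n, hFP, hbd, fun i hi => (Q.truncGE n).isZero_of_isStrictlyGE n i hi,
    UQI.of_quasiIso hQ.flat hFP.flat ⟨b, hb⟩ ⟨b, hbd⟩ (Q.πTruncGE n)⟩

/-- **Top truncation.** -/
theorem exists_truncLE (Q : CochainComplex (ModuleCat.{u} A) ℤ) (hQ : IsFinProj Q) (b : ℤ)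
    (hb : ∀ i, b < i → IsZero (Q.X i)) (n : ℤ) (hn : ∀ i, i < n → IsZero (Q.X i)) (d : ℤ)
    (h1 : ∀ p, d < p → IsZero (Q.homology p)) :
    ∃ Q' : CochainComplex (ModuleCat.{u} A) ℤ, IsFinProj Q' ∧ (∀ i, d < i → IsZero (Q'.X i)) ∧
      (∀ i, i < n → IsZero (Q'.X i)) ∧ UQI Q' Q := by
  have hflat : Module.Flat A (Q.cycles d) :=
    Groth.Agent.S14612.result A Q hQ.flat ⟨b, hb⟩ d h1
  have hinj : Function.Injective (Q.iCycles d).hom :=
    (ModuleCat.mono_iff_injective _).mp inferInstance
  have hfin : Module.Finite A (Q.cycles d) := by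
    haveI := (hQ d).1
    haveI : IsNoetherian A (Q.X d) := isNoetherian_of_isNoetherianRing_of_finite A (Q.X d)
    exact Module.Finite.of_injective (Q.iCycles d).hom hinj
  have hproj : Module.Projective A (Q.cycles d) := by
    haveI := hfin
    haveI : Module.FinitePresentation A (Q.cycles d) := Module.finitePresentation_of_finite A _
    exact Module.Flat.projective_of_finitePresentation
  have hX : ∀ i, i < d → Nonempty ((Q.truncLE d).X i ≅ Q.X i) := fun i hi =>
    ⟨Q.truncLEXIso d i hi⟩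
  have hFP : IsFinProj (Q.truncLE d) := by
    intro i
    rcases lt_trichotomy i d with hi | hi | hi
    · exact finProj_of_iso (hX i hi).some.symm (hQ i)
    · subst hi
      exact finProj_of_iso (Q.truncLEXIsoCycles i).symm ⟨hfin, hproj⟩
    · exact finProj_of_isZero ((Q.truncLE d).isZero_of_isStrictlyLE d i hi)
  have hlow : ∀ i, i < n → IsZero ((Q.truncLE d).X i) := by
    intro i hi
    rcases lt_trichotomy i d with hi' | hi' | hi'
    · exact IsZero.of_iso (hn i hi) (hX i hi').some
    · subst hi'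
      refine IsZero.of_iso ?_ (Q.truncLEXIsoCycles i)
      haveI : Subsingleton (Q.X i) := ModuleCat.subsingleton_of_isZero (hn i hi)
      haveI : Subsingleton (Q.cycles i) := hinj.subsingleton
      exact ModuleCat.isZero_of_subsingleton _
    · exact (Q.truncLE d).isZero_of_isStrictlyLE d i hi'
  haveI : Q.IsLE d := (Q.isLE_iff d).mpr (fun i hi =>
    (Q.exactAt_iff_isZero_homology i).mpr (h1 i hi))
  exact ⟨Q.truncLE d, hFP, fun i hi => (Q.truncLE d).isZero_of_isStrictlyLE d i hi, hlow,
    UQI.of_quasiIso hFP.flat hQ.flat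
      ⟨d, fun i hi => (Q.truncLE d).isZero_of_isStrictlyLE d i hi⟩ ⟨b, hb⟩ (Q.ιTruncLE d)⟩

omit [IsNoetherianRing A] in
theorem isZero_homology_of_isZero_X (Q : CochainComplex (ModuleCat.{u} A) ℤ) (i : ℤ)
    (h : IsZero (Q.X i)) : IsZero (Q.homology i) :=
  (HomologicalComplex.ExactAt.of_isZero h).isZero_homology

omit [IsNoetherianRing A] in
theorem isZero_tensorObj_X (Q : CochainComplex (ModuleCat.{u} A) ℤ) (M : ModuleCat.{u} A) (i : ℤ)
    (h : IsZero (Q.X i)) : IsZero ((CohIII.tensorObj Q M).X i) :=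
  Functor.map_isZero (MonoidalCategory.tensorRight M) h

/-- **Inductive step**: raising the lower bound by one. -/
theorem exists_step (Q : CochainComplex (ModuleCat.{u} A) ℤ) (hQ : IsFinProj Q) (b : ℤ)
    (hb : ∀ i, b < i → IsZero (Q.X i)) (n : ℤ) (hn : ∀ i, i < n → IsZero (Q.X i))
    (hm : ∀ (m : Ideal A) [m.IsMaximal],
      IsZero ((CohIII.tensorObj Q (ModuleCat.of A (A ⧸ m))).homology n)) :
    ∃ Q' : CochainComplex (ModuleCat.{u} A) ℤ, IsFinProj Q' ∧ (∀ i, b < i → IsZero (Q'.X i)) ∧
      (∀ i, i < n + 1 → IsZero (Q'.X i)) ∧ UQI Q Q' := by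
  have hnn : n + 1 - 1 = n := by ring
  -- injectivity modulo the maximal ideals
  have ha : ∀ (m : Ideal A) [m.IsMaximal],
      Function.Injective ((Q.d n (n + 1)).hom.rTensor (A ⧸ m)) := by
    intro m _
    have hex := (Groth.Agent.S14613.exactAt_iff_function_exact
      (CohIII.tensorObj Q (ModuleCat.of A (A ⧸ m))) n).mp
      ((HomologicalComplex.exactAt_iff_isZero_homology _ _).mpr (hm m))
    haveI : Subsingleton ((CohIII.tensorObj Q (ModuleCat.of A (A ⧸ m))).X (n - 1)) :=
      ModuleCat.subsingleton_of_isZero (isZero_tensorObj_X Q _ _ (hn (n - 1) (by omega)))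
    rw [injective_iff_map_eq_zero]
    intro x hx
    have hx' : ((CohIII.tensorObj Q (ModuleCat.of A (A ⧸ m))).d n (n + 1)).hom x = 0 := hx
    obtain ⟨y, hy⟩ := (hex x).mp hx'
    exact hy.symm.trans ((congrArg _ (Subsingleton.elim y 0)).trans (map_zero _))
  -- injectivity
  haveI := (hQ n).1
  haveI := (hQ (n + 1)).1
  haveI := (hQ (n + 1)).2
  have hinj : Function.Injective (Q.d n (n + 1)).hom :=
    CBProj.injective_of_forall_maximal_lTensor_quotient_injective _ (fun m _ => by
      rw [LinearMap.lTensor_inj_iff_rTensor_inj]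
      exact ha m)
  have hc : IsZero (Q.homology n) := by
    rw [← HomologicalComplex.exactAt_iff_isZero_homology,
      Groth.Agent.S14613.exactAt_iff_function_exact]
    intro x
    constructor
    · intro hx
      rw [hinj (hx.trans (map_zero _).symm)]
      exact ⟨0, map_zero _⟩
    · rintro ⟨y, rfl⟩
      exact congrArg (fun f => f.hom y) (Q.d_comp_d (n - 1) n (n + 1))
  refine exists_truncGE Q hQ b hb (n + 1) (fun p hp => ?_) (fun m _ p hp => ?_)
  · rcases lt_or_eq_of_le (show p ≤ n by omega) with h | h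
    · exact isZero_homology_of_isZero_X Q p (hn p h)
    · subst h
      exact hc
  · rcases lt_or_eq_of_le (show p ≤ n by omega) with h | h
    · exact isZero_homology_of_isZero_X _ p (isZero_tensorObj_X Q _ p (hn p h))
    · subst h
      exact hm m

/-- **The Grothendieck complex with amplitude** (categorical form). -/
theorem exists_amplitude (K : CochainComplex (ModuleCat.{u} A) ℤ)
    (hK : ∀ i, Module.Flat A (K.X i)) (hK0 : ∀ i, i < 0 → IsZero (K.X i)) (b : ℤ)
    (hKb : ∀ i, b < i → IsZero (K.X i)) (hfin : ∀ i, Module.Finite A (K.homology i))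
    (d' : ℕ) (d : ℤ) (hd : ∀ p, d < p → IsZero (K.homology p))
    (hd' : ∀ (m : Ideal A) [m.IsMaximal], ∀ p : ℤ, p < d' →
      IsZero ((CohIII.tensorObj K (ModuleCat.of A (A ⧸ m))).homology p)) :
    ∃ L : CochainComplex (ModuleCat.{u} A) ℤ, IsFinProj L ∧
      (∀ i : ℤ, i < (d' : ℤ) ∨ d < i → IsZero (L.X i)) ∧ UQI L K := by
  -- the resolution
  obtain ⟨L₀, φ, hL₀, hL₀b, hφ⟩ := exists_resolution K hfin b
    (fun i hi => isZero_homology_of_isZero_X K i (hKb i hi))
  have hFP₀ : IsFinProj L₀ := fun i => by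
    haveI := (hL₀ i).1
    haveI := (hL₀ i).2
    exact ⟨inferInstance, inferInstance⟩
  have hU₀ : UQI L₀ K := UQI.of_quasiIso hFP₀.flat hK ⟨b, hL₀b⟩ ⟨b, hKb⟩ φ
  -- truncation at zero
  obtain ⟨L₁, hFP₁, hb₁, hz₁, hU₁⟩ := exists_truncGE L₀ hFP₀ b hL₀b 0
    (fun p hp => IsZero.of_iso (isZero_homology_of_isZero_X K p (hK0 p hp)) (hU₀.1 p).some)
    (fun m _ p hp => IsZero.of_iso
      (isZero_homology_of_isZero_X _ p (isZero_tensorObj_X K _ p (hK0 p hp))) (hU₀.2 _ p).some)
  -- raising the lower bound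
  have key : ∀ k : ℕ, k ≤ d' → ∃ L : CochainComplex (ModuleCat.{u} A) ℤ, IsFinProj L ∧
      (∀ i, b < i → IsZero (L.X i)) ∧ (∀ i : ℤ, i < (k : ℤ) → IsZero (L.X i)) ∧ UQI L K := by
    intro k
    induction k with
    | zero =>
      intro _
      exact ⟨L₁, hFP₁, hb₁, fun i hi => hz₁ i (by simpa using hi), hU₁.symm.trans hU₀⟩
    | succ k ih =>
      intro hk
      obtain ⟨L, hFP, hb, hz, hU⟩ := ih (by omega)
      obtain ⟨L', hFP', hb', hz', hU'⟩ := exists_step L hFP b hb (k : ℤ) hz
        (fun m _ => IsZero.of_iso (hd' m (k : ℤ) (by exact_mod_cast hk)) (hU.2 _ _).some)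
      exact ⟨L', hFP', hb', fun i hi => hz' i (by push_cast at hi; omega), hU'.symm.trans hU⟩
  obtain ⟨L, hFP, hb, hz, hU⟩ := key d' le_rfl
  -- top truncation
  obtain ⟨L', hFP', hd₁, hz', hU'⟩ := exists_truncLE L hFP b hb (d' : ℤ) hz d
    (fun p hp => IsZero.of_iso (hd p hp) (hU.1 p).some)
  refine ⟨L', hFP', fun i hi => ?_, hU'.trans hU⟩
  rcases hi with hi | hi
  · exact hz' i hi
  · exact hd₁ i hi

end truncGE

end Groth.Agent.Lib.Helper38.CBAmp
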