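import Groth.Agent.Lib.Helper38.CechLin

/-!
# Flat base change of cohomology for separated quasi-compact schemes over a ring (helper38)

`exists_isBaseChange_HH_sq`: for a pullback square `X' = X ×_k K` with `K` flat over `k` and
`X ⟶ Spec k` separated and quasi-compact, and `F` quasi-coherent on `X`, there is a `k`-linear map
`H^p(X, F) → H^p(X', h^* F)` which is a base change along `k → K`.  Consequences over fields:
`finrank_HH_eq`, `subsingleton_HH_iff`.
-/

set_option autoImplicit false
universe u
open AlgebraicGeometry CategoryTheory Limits TopologicalSpace Opposite TensorProduct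

namespace Groth.Agent.Lib.Helper38.FlatBCField

open Groth.Agent.Lib.Helper38.CechLin

theorem exists_cover (X : Scheme.{u}) [CompactSpace X]
    (hinf : ∀ U V : X.Opens, IsAffineOpen U → IsAffineOpen V → IsAffineOpen (U ⊓ V)) :
    ∃ (ι : Type u) (_ : Finite ι) (U : ι → X.Opens), iSup U = ⊤ ∧ (∀ i, IsAffineOpen (U i)) ∧
      ∀ (p : ℕ) (a : Fin (p + 1) → ι), IsAffineOpen (⨅ j, U (a j)) := by
  let 𝒰 := X.affineCover.finiteSubcover
  refine ⟨𝒰.I₀, inferInstance, fun i => (𝒰.f i).opensRange, 𝒰.iSup_opensRange,
    fun i => isAffineOpen_opensRange _, fun p a => ?_⟩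
  exact InfClosed.iInf_mem_of_nonempty (s := Set.ofPred IsAffineOpen)
    (fun _ h _ h' ↦ hinf _ _ h h') (fun j => isAffineOpen_opensRange _)

theorem isAffineOpen_inf_of_isSeparated {X Y : Scheme.{u}} (f : X ⟶ Y) [IsAffine Y]
    [IsSeparated f] (U V : X.Opens) (hU : IsAffineOpen U) (hV : IsAffineOpen V) :
    IsAffineOpen (U ⊓ V) :=
  isAffineHom_diagonal_iff.mp (inferInstance : IsAffineHom (pullback.diagonal f)) ⊤
    (isAffineOpen_top _) U (by simp) V (by simp) hU hV

section ring

variable {k K : Type u} [CommRing k] [CommRing K] [Algebra k K] [Module.Flat k K]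
  {X X' : Scheme.{u}} (h : X' ⟶ X) (f : X ⟶ Spec (CommRingCat.of k))
  (g' : X' ⟶ Spec (CommRingCat.of K))
  (sq : IsPullback h g' f (Spec.map (CommRingCat.ofHom (algebraMap k K))))
  [IsSeparated f] [QuasiCompact f] (F : X.Modules) [F.IsQuasicoherent]

include sq in
/-- **Flat base change for cohomology** over a separated quasi-compact scheme over a ring. -/
theorem exists_isBaseChange_HH_sq (p : ℕ) :
    letI : Module k (Coh.HH X F p) := Module.compHom _ (Coh.toGlobal f)
    letI : Module K (Coh.HH X' ((Scheme.Modules.pullback h).obj F) p) :=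
      Module.compHom _ (Coh.toGlobal g')
    letI : Module k (Coh.HH X' ((Scheme.Modules.pullback h).obj F) p) :=
      Module.compHom _ (algebraMap k K)
    haveI : IsScalarTower k K (Coh.HH X' ((Scheme.Modules.pullback h).obj F) p) :=
      IsScalarTower.of_compHom _ _ _
    ∃ ψ : Coh.HH X F p →ₗ[k] Coh.HH X' ((Scheme.Modules.pullback h).obj F) p,
      IsBaseChange K ψ := by
  haveI : CompactSpace X := QuasiCompact.compactSpace_of_compactSpace f
  haveI : IsSeparated g' := MorphismProperty.of_isPullback sq inferInstance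
  haveI : IsAffineHom h := MorphismProperty.of_isPullback sq.flip inferInstance
  obtain ⟨ι, hfin, U, hU, hU1, hAff⟩ := exists_cover X (isAffineOpen_inf_of_isSeparated f)
  have hAff' : ∀ (p : ℕ) (a : Fin (p + 1) → ι), IsAffineOpen (⨅ j, h ⁻¹ᵁ U (a j)) := by
    intro p a
    exact InfClosed.iInf_mem_of_nonempty (s := Set.ofPred IsAffineOpen)
      (fun _ h1 _ h2 ↦ isAffineOpen_inf_of_isSeparated g' _ _ h1 h2)
      (fun j => (hU1 (a j)).preimage h)
  exact exists_isBaseChange_HH h f g' sq F U hU hAff hAff' p

end ring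

section field

variable {k K : Type u} [Field k] [Field K] [Algebra k K]
  {X X' : Scheme.{u}} (h : X' ⟶ X) (f : X ⟶ Spec (CommRingCat.of k))
  (g' : X' ⟶ Spec (CommRingCat.of K))
  (sq : IsPullback h g' f (Spec.map (CommRingCat.ofHom (algebraMap k K))))
  [IsSeparated f] [QuasiCompact f] (F : X.Modules) [F.IsQuasicoherent]

include sq in
/-- dimensions of cohomology are invariant under extension of the base field. -/
theorem finrank_HH_eq (p : ℕ) :
    @Module.finrank K (Coh.HH X' ((Scheme.Modules.pullback h).obj F) p) _ _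
      (Module.compHom _ (Coh.toGlobal g')) =
    @Module.finrank k (Coh.HH X F p) _ _ (Module.compHom _ (Coh.toGlobal f)) := by
  letI : Module k (Coh.HH X F p) := Module.compHom _ (Coh.toGlobal f)
  letI : Module K (Coh.HH X' ((Scheme.Modules.pullback h).obj F) p) :=
    Module.compHom _ (Coh.toGlobal g')
  letI : Module k (Coh.HH X' ((Scheme.Modules.pullback h).obj F) p) :=
    Module.compHom _ (algebraMap k K)
  haveI : IsScalarTower k K (Coh.HH X' ((Scheme.Modules.pullback h).obj F) p) :=
    IsScalarTower.of_compHom _ _ _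
  obtain ⟨ψ, hψ⟩ := exists_isBaseChange_HH_sq h f g' sq F p
  exact BCAlg.finrank_eq_of_isBaseChange ψ hψ

include sq in
/-- vanishing of cohomology is invariant under extension of the base field. -/
theorem subsingleton_HH_iff (p : ℕ) :
    Subsingleton (Coh.HH X' ((Scheme.Modules.pullback h).obj F) p) ↔
      Subsingleton (Coh.HH X F p) := by
  letI : Module k (Coh.HH X F p) := Module.compHom _ (Coh.toGlobal f)
  letI : Module K (Coh.HH X' ((Scheme.Modules.pullback h).obj F) p) :=
    Module.compHom _ (Coh.toGlobal g')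
  letI : Module k (Coh.HH X' ((Scheme.Modules.pullback h).obj F) p) :=
    Module.compHom _ (algebraMap k K)
  haveI : IsScalarTower k K (Coh.HH X' ((Scheme.Modules.pullback h).obj F) p) :=
    IsScalarTower.of_compHom _ _ _
  obtain ⟨ψ, hψ⟩ := exists_isBaseChange_HH_sq h f g' sq F p
  exact BCAlg.subsingleton_iff_of_isBaseChange ψ hψ

end field

end Groth.Agent.Lib.Helper38.FlatBCField
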