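import Groth.Agent.Lib.Helper38.PropFinSec
import Groth.Agent.Lib.Helper38.FlatBCField
import Groth.Agent.Lib.Helper38.SerreVanishPn
import Groth.Agent.Lib.Helper11.RestrictTensor
import Groth.Agent.Lib.Helper45.InvRef1
import Groth.Agent.Lib.Helper45.RefHullStalk
import Groth.Agent.Lib.Helper49.PushforwardFinite

/-!
# Direct images of large powers of an ample module along a proper morphism (helper38)

Given Serre's package `SerreP2` (finiteness + vanishing for ample modules on schemes proper over a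
Noetherian ring), for `g : Y ⟶ X` proper, `X` proper over a Noetherian ring `A` and `L` ample on `Y`:
for `m ≫ 0`, `g_* L^m` is coherent and `H^p(X, g_* L^m)` is a finite `A`-module
(`exists_pushforward_good`).
-/

set_option autoImplicit false
universe u
open AlgebraicGeometry CategoryTheory Limits TopologicalSpace Opposite

namespace Groth.Agent.Lib.Helper38.PropFinProj

open Groth.Agent.Lib.Helper49 Groth.Agent.Lib.Helper38.SecMod Groth.Agent.Lib.Helper38.PropFinSec
  Groth.Agent.Lib.Helper11.GenLocus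

/-- Serre's finiteness and vanishing package for ample invertible modules on schemes proper over a
Noetherian ring (hypothesis form). -/
def SerreP2 : Prop :=
  ∀ (B : Type u) [CommRing B] [IsNoetherianRing B] (Y : Scheme.{u})
    (f : Y ⟶ Spec (CommRingCat.of B)) [IsProper f] (L : Y.Modules), CohB1.IsAmple L →
    ∀ (F : Y.Modules), Coh.IsCoh F →
      (∀ p : ℕ, letI : Module B (Coh.HH Y F p) := Module.compHom _ (Coh.toGlobal f)
        Module.Finite B (Coh.HH Y F p)) ∧
      ∃ m₀ : ℕ, ∀ m : ℕ, m₀ ≤ m → ∀ q : ℕ, 0 < q →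
        Subsingleton (Coh.HH Y (CohB1.tensorMod F (CohB1.tensorPow L m)) q)

variable {Y X : Scheme.{u}} (g : Y ⟶ X) [IsProper g] (L : Y.Modules)

/-- the vanishing condition over an open `W` of `X`. -/
def Good (W : X.Opens) (m : ℕ) : Prop :=
  ∀ q : ℕ, Subsingleton (Coh.HH ((g ⁻¹ᵁ W : Y.Opens) : Scheme.{u})
    ((CohB1.tensorPow L m).restrict (g ⁻¹ᵁ W).ι) (q + 1))

instance isProper_fW (W : X.Opens) (hW : IsAffineOpen W) : IsProper (fW g W hW) := by
  unfold fW
  infer_instance

theorem affine_step (hP2 : SerreP2.{u}) [IsLocallyNoetherian X] (hL : CohB1.IsAmple L)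
    (W : X.Opens) (hW : IsAffineOpen W) :
    (∀ m : ℕ, Module.Finite Γ(X, W)
      Γ((Scheme.Modules.pushforward g).obj (CohB1.tensorPow L m), W)) ∧
    ∃ m₀ : ℕ, ∀ m : ℕ, m₀ ≤ m → Good g L W m := by
  haveI : IsNoetherianRing Γ(X, W) := IsLocallyNoetherian.component_noetherian ⟨W, hW⟩
  haveI : CompactSpace ((g ⁻¹ᵁ W : Y.Opens) : Scheme.{u}) :=
    QuasiCompact.compactSpace_of_compactSpace (fW g W hW)
  have hLW : CohB1.IsAmple (L.restrict (g ⁻¹ᵁ W).ι) := isAmple_restrict _ hL
  constructor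
  · intro m
    have hcoh : Coh.IsCoh ((CohB1.tensorPow L m).restrict (g ⁻¹ᵁ W).ι) :=
      Groth.Agent.Lib.Helper45.InvRef1.isCoh_of_isInvertible _
        (isInvertible_restrict' _ (isInvertible_tensorPow hL.1 m))
    exact finite_sections_of_finite_HH g W hW _
      ((hP2 Γ(X, W) _ (fW g W hW) _ hLW _ hcoh).1 0)
  · obtain ⟨m₀, hm₀⟩ := (hP2 Γ(X, W) _ (fW g W hW) _ hLW _
      (Groth.Agent.Lib.Helper45.RefHullStalk.isCoh_structureModule _)).2
    refine ⟨m₀, fun m hm q => ?_⟩
    have h1 := hm₀ m hm (q + 1) (Nat.succ_pos q)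
    letI : ((g ⁻¹ᵁ W : Y.Opens) : Scheme.{u}).Over (Spec (CommRingCat.of Γ(X, W))) :=
      ⟨fW g W hW⟩
    exact Groth.Agent.Lib.Helper38.SerreVanishPn.subsingleton_HH_of_iso Γ(X, W)
      ((unitTensorIso _ ≪≫ restrictTensorPowIso (g ⁻¹ᵁ W).ι L m).symm) (q + 1) h1

omit [IsProper g] in
theorem good_congr {W W' : X.Opens} (h : W = W') (m : ℕ) (hg : Good g L W m) : Good g L W' m := by
  subst h
  exact hg

/-- **The direct image of a large power of an ample module along a proper morphism has finite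
cohomology and is coherent** (given Serre's package). -/
theorem exists_pushforward_good (hP2 : SerreP2.{u}) (A : Type u) [CommRing A] [IsNoetherianRing A]
    (s : X ⟶ Spec (CommRingCat.of A)) [IsProper s] [IsProper (g ≫ s)]
    (hL : CohB1.IsAmple L) :
    ∃ m₀ : ℕ, ∀ m : ℕ, m₀ ≤ m →
      Coh.IsCoh ((Scheme.Modules.pushforward g).obj (CohB1.tensorPow L m)) ∧
      ∀ p : ℕ,
        letI : Module A (Coh.HH X ((Scheme.Modules.pushforward g).obj (CohB1.tensorPow L m)) p) :=
          Module.compHom _ (Coh.toGlobal s)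
        Module.Finite A (Coh.HH X ((Scheme.Modules.pushforward g).obj (CohB1.tensorPow L m)) p) := by
  haveI : CompactSpace X := QuasiCompact.compactSpace_of_compactSpace s
  haveI : IsLocallyNoetherian X := LocallyOfFiniteType.isLocallyNoetherian s
  obtain ⟨ι, hfin, V, hV, hV1, hAff⟩ := Groth.Agent.Lib.Helper38.FlatBCField.exists_cover X
    (Groth.Agent.Lib.Helper38.FlatBCField.isAffineOpen_inf_of_isSeparated s)
  -- uniform bound
  let 𝒲 : Set X.Opens := Set.range (fun T : Set ι => ⨅ t ∈ T, V t)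
  have h𝒲 : 𝒲.Finite := Set.finite_range _
  have hev : ∀ W ∈ 𝒲, ∀ᶠ m in Filter.atTop, (IsAffineOpen W → Good g L W m) := by
    intro W _
    by_cases hW : IsAffineOpen W
    · obtain ⟨m₀, hm₀⟩ := (affine_step g L hP2 hL W hW).2
      exact Filter.eventually_atTop.mpr ⟨m₀, fun m hm _ => hm₀ m hm⟩
    · exact Filter.Eventually.of_forall fun m h => absurd h hW
  obtain ⟨m₀, hm₀⟩ := Filter.eventually_atTop.mp ((Filter.eventually_all_finite h𝒲).mpr hev)
  refine ⟨m₀, fun m hm => ?_⟩
  have hinv : PicF.IsInvertible (CohB1.tensorPow L m) := isInvertible_tensorPow hL.1 m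
  haveI : (CohB1.tensorPow L m).IsQuasicoherent :=
    (Groth.Agent.Lib.Helper45.InvRef1.isCoh_of_isInvertible _ hinv).1
  haveI hqc : ((Scheme.Modules.pushforward g).obj (CohB1.tensorPow L m)).IsQuasicoherent :=
    isQuasicoherent_pushforward _ g
  refine ⟨⟨hqc, ?_⟩, fun p => ?_⟩
  · refine Groth.Agent.Lib.Helper49.isFiniteType_of_finite_sections_cover _ V hV1
      (fun x => ?_) (fun i => (affine_step g L hP2 hL (V i) (hV1 i)).1 m)
    have hx : x ∈ (iSup V : X.Opens) := by rw [hV]; trivial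
    exact Opens.mem_iSup.mp hx
  · have hacyc : ∀ (p : ℕ) (a : Fin (p + 1) → ι) (q : ℕ),
        Subsingleton (Coh.HH ((g ⁻¹ᵁ (⨅ k, V (a k)) : Y.Opens) : Scheme.{u})
          ((CohB1.tensorPow L m).restrict (g ⁻¹ᵁ (⨅ k, V (a k))).ι) (q + 1)) := by
      intro p a q
      have hmem : (⨅ t ∈ Set.range a, V t) ∈ 𝒲 := ⟨Set.range a, rfl⟩
      have h1 := hm₀ m hm _ hmem (by rw [iInf_range]; exact hAff p a)
      exact good_congr g L iInf_range m h1 q
    obtain ⟨e⟩ := Groth.Agent.Lib.Helper38.CechPush.exists_linearEquiv_HH_push g s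
      (CohB1.tensorPow L m) V hV hAff
      (Groth.Agent.Lib.Helper38.CechPush.acyc_of_subsingleton_HH g _ V hacyc) p
    letI : Module A (Coh.HH X ((Scheme.Modules.pushforward g).obj (CohB1.tensorPow L m)) p) :=
      Module.compHom _ (Coh.toGlobal s)
    letI : Module A (Coh.HH Y (CohB1.tensorPow L m) p) := Module.compHom _ (Coh.toGlobal (g ≫ s))
    have hfin : Module.Finite A (Coh.HH Y (CohB1.tensorPow L m) p) :=
      (hP2 A Y (g ≫ s) L hL _ (Groth.Agent.Lib.Helper45.InvRef1.isCoh_of_isInvertible _ hinv)).1 p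
    exact Module.Finite.equiv e.symm

end Groth.Agent.Lib.Helper38.PropFinProj
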