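import Groth.Agent.Lib.Helper38.CBAlg
import Groth.Agent.Lib.Helper38.FlatBCField
import Groth.Agent.Lib.Helper12.FlatOverSections
import Groth.Agent.S0010

/-!
# Cohomology and base change: the geometric input (helper38)

For `f : X ⟶ Spec k` separated and quasi-compact and `F` quasi-coherent and flat over `Spec k`:

* `flat_Sec`, `flat_Cq` : the Čech complex (product form) of a finite affine cover consists of flat
  `k`-modules;
* `exact_dC_of_card_le` : the Čech complex of a cover by `t` affines is exact in degrees `≥ t`;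
* `UE_dC` : the Čech complex is universally exact in degrees `≥ t`;
* `exists_isBaseChange_HH_of_flat` : if all `H^p(X, F)` are flat over `k`, then cohomology commutes
  with every base change `k → K`.
-/

set_option autoImplicit false
universe u
open AlgebraicGeometry CategoryTheory Limits TopologicalSpace Opposite TensorProduct

namespace Groth.Agent.Lib.Helper38.CBGeom

open Groth.Agent.Lib.Helper49 Groth.Agent.Lib.Helper38.SecMod Groth.Agent.Lib.Helper1.Cech
  Groth.Agent.Lib.Helper38.CechLin Groth.Agent.Lib.Helper38.FlatBCField Groth.Agent.Lib.Helper38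

section flat

variable {A : Type u} [CommRing A] {Z : Scheme.{u}} (s : Z ⟶ Spec (CommRingCat.of A))
  (M : Z.Modules) [M.IsQuasicoherent] (hfl : FlatMod.IsFlatOver s M)

include hfl in
theorem flat_Sec {O : Z.Opens} (hO : IsAffineOpen O) : Module.Flat A (Sec s M O) := by
  have e : O ≤ s ⁻¹ᵁ ⊤ := le_top
  letI modSN : Module Γ(Spec (CommRingCat.of A), ⊤) (Sec s M O) :=
    Module.compHom _ (s.appLE ⊤ O e).hom
  have h2 : Module.Flat Γ(Spec (CommRingCat.of A), ⊤) (Sec s M O) :=
    Groth.Agent.Lib.Helper12.FlatOver.flat_sections_of_isFlatOverAt s M (isAffineOpen_top _) hO e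
      (fun x => hfl x)
  letI algA : Algebra A Γ(Spec (CommRingCat.of A), ⊤) :=
    ((Scheme.ΓSpecIso (CommRingCat.of A)).inv.hom).toAlgebra
  have hbij : Function.Bijective (algebraMap A Γ(Spec (CommRingCat.of A), ⊤)) :=
    ConcreteCategory.bijective_of_isIso (Scheme.ΓSpecIso (CommRingCat.of A)).inv
  haveI : IsScalarTower A Γ(Spec (CommRingCat.of A), ⊤) (Sec s M O) := by
    refine IsScalarTower.of_algebraMap_smul fun a n => ?_
    rfl
  exact (Groth.Agent.Lib.Helper12.FlatOver.flat_iff_of_bijective hbij (Sec s M O)).mp h2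

include hfl in
theorem flat_Cq {ι : Type u} [Finite ι] (U : ι → Z.Opens)
    (hAff : ∀ (p : ℕ) (a : Fin (p + 1) → ι), IsAffineOpen (⨅ j, U (a j))) (q : ℕ) :
    Module.Flat A (Cq s M U q) := by
  classical
  haveI := Fintype.ofFinite ι
  haveI : ∀ x : Fin (q + 1) → ι, Module.Flat A (Sec s M (int U x)) := fun x => by
    refine flat_Sec s M hfl ?_
    rw [int, inter_eq_iInf]
    exact hAff q x
  exact Module.Flat.of_linearEquiv
    (DFinsupp.linearEquivFunOnFintype (R := A)
      (M := fun x : Fin (q + 1) → ι => Sec s M (int U x))).symm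

end flat

section vanish

variable {A : Type u} [CommRing A] {Z : Scheme.{u}} (s : Z ⟶ Spec (CommRingCat.of A))
  [IsSeparated s] (M : Z.Modules) [M.IsQuasicoherent] {ι : Type u} [Finite ι] (U : ι → Z.Opens)
  (hU : iSup U = ⊤) (hU1 : ∀ i, IsAffineOpen (U i))
  (hAff : ∀ (p : ℕ) (a : Fin (p + 1) → ι), IsAffineOpen (⨅ j, U (a j)))

include s hU1 hU in
theorem subsingleton_HH_of_card_le (n : ℕ) (hn : Nat.card ι ≤ n) :
    Subsingleton (Coh.HH Z M n) := by
  let e : ι ≃ Fin (Nat.card ι) := Finite.equivFin ι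
  refine Groth.Agent.S0010.result Z (Nat.card ι) (fun j => U (e.symm j))
    (fun j => hU1 _) ?_ (isAffineOpen_inf_of_isSeparated s) M n hn
  rw [← hU]
  exact e.symm.iSup_comp (g := U)

include hU1 hU hAff in
/-- the Čech complex of a cover by `t` affines is exact in degrees `≥ t`. -/
theorem exact_dC_of_card_le (q : ℕ) (hq : Nat.card ι ≤ q + 1) :
    Function.Exact (dC s M U A q) (dC s M U A (q + 1)) := by
  haveI := subsingleton_HH_of_card_le s M U hU hU1 (q + 1) hq
  intro z
  constructor
  · intro hz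
    have h0 : cl s M U hU hAff (q + 1) ⟨z, hz⟩ = 0 := Subsingleton.elim _ _
    obtain ⟨b, hb⟩ := (cl_eq_zero_iff_succ s M U hU hAff q ⟨z, hz⟩).mp h0
    exact ⟨b, hb⟩
  · rintro ⟨b, rfl⟩
    exact dC_dC s M U A q b

end vanish

section alg

variable {k K : Type u} [CommRing k] [CommRing K] [Algebra k K]
  {C0 C1 C2 C0' C1' C2' : Type u}
  [AddCommGroup C0] [AddCommGroup C1] [AddCommGroup C2]
  [AddCommGroup C0'] [AddCommGroup C1'] [AddCommGroup C2']
  [Module k C0] [Module k C1] [Module k C2]
  [Module k C0'] [Module k C1'] [Module k C2']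
  [Module K C0'] [Module K C1'] [Module K C2']
  [IsScalarTower k K C0'] [IsScalarTower k K C1'] [IsScalarTower k K C2']

/-- exactness of a base-changed sequence, read off on a model of the base change. -/
theorem exact_lTensor_of_isBaseChange
    (d0 : C0 →ₗ[k] C1) (d1 : C1 →ₗ[k] C2) (d0' : C0' →ₗ[K] C1') (d1' : C1' →ₗ[K] C2')
    (φ0 : C0 →ₗ[k] C0') (φ1 : C1 →ₗ[k] C1') (φ2 : C2 →ₗ[k] C2')
    (h0 : IsBaseChange K φ0) (h1 : IsBaseChange K φ1) (h2 : IsBaseChange K φ2)
    (c0 : ∀ x, φ1 (d0 x) = d0' (φ0 x)) (c1 : ∀ x, φ2 (d1 x) = d1' (φ1 x))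
    (hex : Function.Exact d0' d1') : Function.Exact (d0.lTensor K) (d1.lTensor K) := by
  have k0 : (d0'.restrictScalars k) ∘ₗ (h0.equiv.restrictScalars k : K ⊗[k] C0 ≃ₗ[k] C0') =
      (h1.equiv.restrictScalars k : K ⊗[k] C1 ≃ₗ[k] C1') ∘ₗ d0.lTensor K := by
    ext a x
    simp only [TensorProduct.AlgebraTensorModule.curry_apply, LinearMap.restrictScalars_comp,
      TensorProduct.curry_apply, LinearMap.coe_comp, LinearMap.coe_restrictScalars,
      LinearEquiv.coe_coe, Function.comp_apply, LinearEquiv.restrictScalars_apply,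
      LinearMap.lTensor_tmul, IsBaseChange.equiv_tmul, map_smul, c0]
  have k1 : (d1'.restrictScalars k) ∘ₗ (h1.equiv.restrictScalars k : K ⊗[k] C1 ≃ₗ[k] C1') =
      (h2.equiv.restrictScalars k : K ⊗[k] C2 ≃ₗ[k] C2') ∘ₗ d1.lTensor K := by
    ext a x
    simp only [TensorProduct.AlgebraTensorModule.curry_apply, LinearMap.restrictScalars_comp,
      TensorProduct.curry_apply, LinearMap.coe_comp, LinearMap.coe_restrictScalars,
      LinearEquiv.coe_coe, Function.comp_apply, LinearEquiv.restrictScalars_apply,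
      LinearMap.lTensor_tmul, IsBaseChange.equiv_tmul, map_smul, c1]
  exact (Function.Exact.iff_of_ladder_linearEquiv k0 k1).mp hex

end alg

section main

variable {k : Type u} [CommRing k] {X : Scheme.{u}} (f : X ⟶ Spec (CommRingCat.of k))
  [IsSeparated f] (F : X.Modules) [F.IsQuasicoherent] {ι : Type u} [Finite ι] (U : ι → X.Opens)
  (hU : iSup U = ⊤) (hU1 : ∀ i, IsAffineOpen (U i))
  (hAff : ∀ (p : ℕ) (a : Fin (p + 1) → ι), IsAffineOpen (⨅ j, U (a j)))

include hU hU1 hAff in
/-- exactness of the base-changed Čech complex in high degrees. -/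
theorem exact_lTensor_dC (K : Type u) [CommRing K] [Algebra k K] (q : ℕ)
    (hq : Nat.card ι ≤ q + 1) :
    Function.Exact ((dC f F U k q).lTensor K) ((dC f F U k (q + 1)).lTensor K) := by
  let h : pullback f (Spec.map (CommRingCat.ofHom (algebraMap k K))) ⟶ X := pullback.fst _ _
  let g' : pullback f (Spec.map (CommRingCat.ofHom (algebraMap k K))) ⟶ Spec (CommRingCat.of K) :=
    pullback.snd _ _
  have sq : IsPullback h g' f (Spec.map (CommRingCat.ofHom (algebraMap k K))) :=
    IsPullback.of_hasPullback _ _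
  haveI : IsSeparated g' := MorphismProperty.of_isPullback sq inferInstance
  haveI : IsAffineHom h := MorphismProperty.of_isPullback sq.flip inferInstance
  haveI : ((Scheme.Modules.pullback h).obj F).IsQuasicoherent :=
    Groth.Agent.Lib.Helper16.FlatPull.isQuasicoherent_pullback h F
  have hU' : iSup (fun i => h ⁻¹ᵁ U i) = ⊤ := by
    rw [← Scheme.Hom.preimage_iSup, hU]
    rfl
  have hU1' : ∀ i, IsAffineOpen (h ⁻¹ᵁ U i) := fun i => (hU1 i).preimage h
  have hAff' : ∀ (p : ℕ) (a : Fin (p + 1) → ι), IsAffineOpen (⨅ j, h ⁻¹ᵁ U (a j)) := by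
    intro p a
    exact InfClosed.iInf_mem_of_nonempty (s := Set.ofPred IsAffineOpen)
      (fun _ h1 _ h2 ↦ isAffineOpen_inf_of_isSeparated g' _ _ h1 h2)
      (fun j => (hU1 (a j)).preimage h)
  have hex := exact_dC_of_card_le g' ((Scheme.Modules.pullback h).obj F) (fun i => h ⁻¹ᵁ U i)
    hU' hU1' hAff' q hq
  exact exact_lTensor_of_isBaseChange (dC f F U k q) (dC f F U k (q + 1))
    (dC g' ((Scheme.Modules.pullback h).obj F) (fun i => h ⁻¹ᵁ U i) K q)
    (dC g' ((Scheme.Modules.pullback h).obj F) (fun i => h ⁻¹ᵁ U i) K (q + 1))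
    (phi h f g' sq.w F U q) (phi h f g' sq.w F U (q + 1)) (phi h f g' sq.w F U (q + 1 + 1))
    (isBaseChange_phi h f g' sq F U hAff q) (isBaseChange_phi h f g' sq F U hAff (q + 1))
    (isBaseChange_phi h f g' sq F U hAff (q + 1 + 1))
    (fun x => phi_dC h f g' sq.w F U q x) (fun x => phi_dC h f g' sq.w F U (q + 1) x) hex

include hU hU1 hAff in
/-- the Čech complex of a cover by `t` affines is universally exact in degrees `≥ t`. -/
theorem UE_dC (i : ℕ) (hi : Nat.card ι ≤ i + 1) : CBAlg.UE (fun q => dC f F U k q) i :=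
  CBAlg.UE_of_algebra (fun B _ _ => exact_lTensor_dC f F U hU hU1 hAff B i hi)

end main

section bc

variable {k K : Type u} [CommRing k] [CommRing K] [Algebra k K]
  {X X' : Scheme.{u}} (h : X' ⟶ X) (f : X ⟶ Spec (CommRingCat.of k))
  (g' : X' ⟶ Spec (CommRingCat.of K))
  (sq : IsPullback h g' f (Spec.map (CommRingCat.ofHom (algebraMap k K))))
  [IsSeparated f] [QuasiCompact f] (F : X.Modules) [F.IsQuasicoherent]

include sq in
/-- **Cohomology and base change, flat cohomology case**: if `F` is flat over `k` and all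
`H^p(X, F)` are flat `k`-modules, then cohomology commutes with every base change `k → K`. -/
theorem exists_isBaseChange_HH_of_flat (hfl : FlatMod.IsFlatOver f F)
    (hH : ∀ p : ℕ, @Module.Flat k (Coh.HH X F p) _ _ (Module.compHom _ (Coh.toGlobal f)))
    (p : ℕ) :
    letI : Module k (Coh.HH X F p) := Module.compHom _ (Coh.toGlobal f)
    letI : Module K (Coh.HH X' ((Scheme.Modules.pullback h).obj F) p) :=
      Module.compHom _ (Coh.toGlobal g')
    letI : Module k (Coh.HH X' ((Scheme.Modules.pullback h).obj F) p) :=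
      Module.compHom _ (algebraMap k K)
    haveI : IsScalarTower k K (Coh.HH X' ((Scheme.Modules.pullback h).obj F) p) :=
      IsScalarTower.of_compHom _ _ _
    ∃ ψ : Coh.HH X F p →ₗ[k] Coh.HH X' ((Scheme.Modules.pullback h).obj F) p,
      IsBaseChange K ψ := by
  letI : ∀ p, Module k (Coh.HH X F p) := fun p => Module.compHom _ (Coh.toGlobal f)
  letI : Module K (Coh.HH X' ((Scheme.Modules.pullback h).obj F) p) :=
    Module.compHom _ (Coh.toGlobal g')
  letI : Module k (Coh.HH X' ((Scheme.Modules.pullback h).obj F) p) :=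
    Module.compHom _ (algebraMap k K)
  haveI : IsScalarTower k K (Coh.HH X' ((Scheme.Modules.pullback h).obj F) p) :=
    IsScalarTower.of_compHom _ _ _
  haveI : CompactSpace X := QuasiCompact.compactSpace_of_compactSpace f
  haveI : IsSeparated g' := MorphismProperty.of_isPullback sq inferInstance
  haveI : IsAffineHom h := MorphismProperty.of_isPullback sq.flip inferInstance
  haveI : ((Scheme.Modules.pullback h).obj F).IsQuasicoherent :=
    Groth.Agent.Lib.Helper16.FlatPull.isQuasicoherent_pullback h F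
  obtain ⟨ι, hfin, U, hU, hU1, hAff⟩ := exists_cover X (isAffineOpen_inf_of_isSeparated f)
  have hAff' : ∀ (p : ℕ) (a : Fin (p + 1) → ι), IsAffineOpen (⨅ j, h ⁻¹ᵁ U (a j)) := by
    intro p a
    exact InfClosed.iInf_mem_of_nonempty (s := Set.ofPred IsAffineOpen)
      (fun _ h1 _ h2 ↦ isAffineOpen_inf_of_isSeparated g' _ _ h1 h2)
      (fun j => (hU1 (a j)).preimage h)
  have hU' : iSup (fun i => h ⁻¹ᵁ U i) = ⊤ := by
    rw [← Scheme.Hom.preimage_iSup, hU]
    rfl
  have hd : ∀ q x, dC f F U k (q + 1) (dC f F U k q x) = 0 := fun q x => dC_dC f F U k q x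
  have hk : ∀ (p : ℕ) (z : LinearMap.ker (dC f F U k (p + 1))),
      cl f F U hU hAff (p + 1) z = 0 ↔ ∃ b, dC f F U k p b = z :=
    fun p z => cl_eq_zero_iff_succ f F U hU hAff p z
  have hs : ∀ p, Function.Surjective (cl f F U hU hAff p) := fun p => cl_surjective f F U hU hAff p
  have hC : ∀ q, Module.Flat k (Cq f F U q) := fun q => flat_Cq f F hfl U hAff q
  have hN : ∀ i, Nat.card ι ≤ i → CBAlg.UE (fun q => dC f F U k q) i :=
    fun i hi => UE_dC f F U hU hU1 hAff i (by omega)
  have hfr : ∀ q, Module.Flat k (LinearMap.range (dC f F U k q)) := fun q =>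
    CBAlg.flat_range (d := fun q => dC f F U k q) hd (cl f F U hU hAff) hk hs hC hH
      (Nat.card ι) hN q
  have hinj : ∀ q, Function.Injective ((LinearMap.range (dC f F U k q)).subtype.lTensor K) :=
    fun q => CBAlg.lTensor_subtype_range_injective (d := fun q => dC f F U k q) hd
      (cl f F U hU hAff) hk hs hC hH (Nat.card ι) hN q K
  cases p with
  | zero =>
    haveI := hfr 0
    obtain ⟨ψ, hψ, -⟩ := CBAlg.exists_isBaseChange_homology (k := k) (K := K)
      (0 : Cq f F U 0 →ₗ[k] Cq f F U 0) (dC f F U k 0)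
      (0 : Cq g' ((Scheme.Modules.pullback h).obj F) (fun i => h ⁻¹ᵁ U i) 0 →ₗ[K] _)
      (dC g' ((Scheme.Modules.pullback h).obj F) (fun i => h ⁻¹ᵁ U i) K 0)
      (phi h f g' sq.w F U 0) (phi h f g' sq.w F U 0) (phi h f g' sq.w F U 1)
      (isBaseChange_phi h f g' sq F U hAff 0) (isBaseChange_phi h f g' sq F U hAff 0)
      (isBaseChange_phi h f g' sq F U hAff 1)
      (fun b => by simp) (fun b => by simp) (fun x => by simp)
      (fun x => phi_dC h f g' sq.w F U 0 x) (hinj 0)
      (cl f F U hU hAff 0)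
      (cl g' ((Scheme.Modules.pullback h).obj F) (fun i => h ⁻¹ᵁ U i) hU' hAff' 0)
      (cl_surjective f F U hU hAff 0)
      (cl_surjective g' ((Scheme.Modules.pullback h).obj F) (fun i => h ⁻¹ᵁ U i) hU' hAff' 0)
      (fun z => by
        rw [cl_eq_zero_iff_zero]
        constructor
        · rintro rfl
          exact ⟨0, rfl⟩
        · rintro ⟨b, hb⟩
          exact Subtype.ext hb.symm)
      (fun z => by
        rw [cl_eq_zero_iff_zero]
        constructor
        · rintro rfl
          exact ⟨0, rfl⟩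
        · rintro ⟨b, hb⟩
          exact Subtype.ext hb.symm)
    exact ⟨ψ, hψ⟩
  | succ q =>
    haveI := hfr (q + 1)
    obtain ⟨ψ, hψ, -⟩ := CBAlg.exists_isBaseChange_homology (k := k) (K := K)
      (dC f F U k q) (dC f F U k (q + 1))
      (dC g' ((Scheme.Modules.pullback h).obj F) (fun i => h ⁻¹ᵁ U i) K q)
      (dC g' ((Scheme.Modules.pullback h).obj F) (fun i => h ⁻¹ᵁ U i) K (q + 1))
      (phi h f g' sq.w F U q) (phi h f g' sq.w F U (q + 1)) (phi h f g' sq.w F U (q + 1 + 1))
      (isBaseChange_phi h f g' sq F U hAff q) (isBaseChange_phi h f g' sq F U hAff (q + 1))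
      (isBaseChange_phi h f g' sq F U hAff (q + 1 + 1))
      (fun b => dC_dC f F U k q b)
      (fun b => dC_dC g' ((Scheme.Modules.pullback h).obj F) (fun i => h ⁻¹ᵁ U i) K q b)
      (fun x => phi_dC h f g' sq.w F U q x)
      (fun x => phi_dC h f g' sq.w F U (q + 1) x) (hinj (q + 1))
      (cl f F U hU hAff (q + 1))
      (cl g' ((Scheme.Modules.pullback h).obj F) (fun i => h ⁻¹ᵁ U i) hU' hAff' (q + 1))
      (cl_surjective f F U hU hAff (q + 1))
      (cl_surjective g' ((Scheme.Modules.pullback h).obj F) (fun i => h ⁻¹ᵁ U i) hU' hAff' (q + 1))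
      (fun z => cl_eq_zero_iff_succ f F U hU hAff q z)
      (fun z => cl_eq_zero_iff_succ g' ((Scheme.Modules.pullback h).obj F)
        (fun i => h ⁻¹ᵁ U i) hU' hAff' q z)
    exact ⟨ψ, hψ⟩

end bc

end Groth.Agent.Lib.Helper38.CBGeom
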