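import Groth.Agent.Lib.Helper38.CBGeom
import Groth.Agent.Lib.Helper38.CBCat
import Groth.Agent.Lib.Helper38.CBAmp
import Groth.Agent.Lib.Helper38.CBFibre
import Groth.Agent.S0002

/-!
# Cohomology and base change: the complex of a flat quasi-coherent module (helper38)

For `f : X ⟶ Spec k` separated and quasi-compact, `F` quasi-coherent and flat over `k`, and a finite
affine cover `U` with affine finite intersections, `Kt f F U` is a bounded complex of flat
`k`-modules (the canonical truncation of the Čech complex) which universally computes cohomology: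
`nonempty_HH_equiv_homology_tensorObj`.
-/

set_option autoImplicit false
universe u
open AlgebraicGeometry CategoryTheory Limits TopologicalSpace Opposite TensorProduct

namespace Groth.Agent.Lib.Helper38.CBMain

open Groth.Agent.Lib.Helper49 Groth.Agent.Lib.Helper38.SecMod Groth.Agent.Lib.Helper1.Cech
  Groth.Agent.Lib.Helper38.CechLin Groth.Agent.Lib.Helper38.FlatBCField Groth.Agent.Lib.Helper38
  Groth.Agent.Lib.Helper38.CBTrunc Groth.Agent.Lib.Helper38.CBCat Groth.Agent.Lib.Helper38.CBGeom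

section

variable {k : Type u} [CommRing k] {X : Scheme.{u}} (f : X ⟶ Spec (CommRingCat.of k))
  (F : X.Modules) {ι : Type u} (U : ι → X.Opens)

/-- the Čech differential as a family. -/
noncomputable abbrev dF (q : ℕ) : Cq f F U q →ₗ[k] Cq f F U (q + 1) := dC f F U k q

theorem dF_dF (q : ℕ) (x : Cq f F U q) : dF f F U (q + 1) (dF f F U q x) = 0 :=
  dC_dC f F U k q x

/-- the truncation level. -/
noncomputable abbrev lvl (ι : Type u) : ℕ := Nat.card ι + 1 + 1

/-- the truncated Čech complex as a cochain complex indexed by `ℤ`. -/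
noncomputable abbrev Kt : CochainComplex (ModuleCat.{u} k) ℤ :=
  cx (dt (dF f F U) (dF_dF f F U) (lvl ι)) (dt_dt (dF f F U) (dF_dF f F U) (lvl ι))

variable [F.IsQuasicoherent] (hU : iSup U = ⊤)
  (hAff : ∀ (p : ℕ) (a : Fin (p + 1) → ι), IsAffineOpen (⨅ j, U (a j)))

/-- the presentation of `H^p(X, F)` by the Čech complex. -/
theorem pres_cl (p : ℕ) :
    letI : Module k (Coh.HH X F p) := Module.compHom _ (Coh.toGlobal f)
    Pres (Bd (dF f F U) p) (dF f F U p) (cl f F U hU hAff p) := by
  letI : Module k (Coh.HH X F p) := Module.compHom _ (Coh.toGlobal f)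
  refine ⟨cl_surjective f F U hU hAff p, fun z => ?_⟩
  cases p with
  | zero =>
    rw [cl_eq_zero_iff_zero, Bd_zero, Submodule.mem_bot]
    exact ⟨fun h => congrArg Subtype.val h, fun h => Subtype.ext h⟩
  | succ q =>
    rw [cl_eq_zero_iff_succ, Bd_succ]
    rfl

variable [IsSeparated f] [Finite ι] (hU1 : ∀ i, IsAffineOpen (U i))

include hU hU1 hAff in
theorem UE_dF (i : ℕ) (hi : Nat.card ι ≤ i) : CBAlg.UE (dF f F U) i :=
  UE_dC f F U hU hU1 hAff i (by omega)

include hU hU1 hAff in
/-- `H^p(X, F)` is the cohomology of the truncated complex. -/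
theorem nonempty_HH_equiv_homology (p : ℕ) :
    letI : Module k (Coh.HH X F p) := Module.compHom _ (Coh.toGlobal f)
    Nonempty (Coh.HH X F p ≃ₗ[k] (Kt f F U).homology (p : ℤ)) := by
  letI : Module k (Coh.HH X F p) := Module.compHom _ (Coh.toGlobal f)
  have h1 := pres_trunc (dF f F U) (dF_dF f F U) (Nat.card ι)
    (fun i hi => UE_dF f F U hU hAff hU1 i hi) p _ (pres_cl f F U hU hAff p)
  obtain ⟨cl', h2⟩ := exists_pres_cx (dt (dF f F U) (dF_dF f F U) (lvl ι))
    (dt_dt (dF f F U) (dF_dF f F U) (lvl ι)) p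
  exact h1.nonempty_equiv h2

end

section alg

variable {k K : Type u} [CommRing k] [CommRing K] [Algebra k K]
  {C C' : ℕ → Type u} [∀ q, AddCommGroup (C q)] [∀ q, Module k (C q)]
  [∀ q, AddCommGroup (C' q)] [∀ q, Module k (C' q)] [∀ q, Module K (C' q)]
  [∀ q, IsScalarTower k K (C' q)]
  (d : ∀ q, C q →ₗ[k] C (q + 1)) (d' : ∀ q, C' q →ₗ[K] C' (q + 1))
  (φ : ∀ q, C q →ₗ[k] C' q) (hφ : ∀ q, IsBaseChange K (φ q))
  (c : ∀ q x, φ (q + 1) (d q x) = d' q (φ q x))
  {H : Type u} [AddCommGroup H] [Module k H] [Module K H] [IsScalarTower k K H]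

include hφ c in
/-- a presentation of the cohomology of a model of the base-changed complex gives a presentation
of the cohomology of the tensored complex. -/
theorem pres_lTensor_of_isBaseChange (p : ℕ) (cl : LinearMap.ker (d' p) →ₗ[K] H)
    (h : Pres (Bd d' p) (d' p) cl) :
    ∃ cl' : LinearMap.ker (dM d K p) →ₗ[k] H,
      Pres (Bd (C := fun q => K ⊗[k] C q) (dM d K) p) (dM d K p) cl' := by
  obtain ⟨cl₁, h₁⟩ := h.restrictScalars (k := k)
  have hB : (Bd d' p).restrictScalars k = Bd (fun q => (d' q).restrictScalars k) p := by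
    cases p with
    | zero => exact Submodule.restrictScalars_bot _ _ _
    | succ q => exact Submodule.ext (fun x => Iff.rfl)
  rw [hB] at h₁
  have hI : ∀ (q : ℕ) (x : K ⊗[k] C q),
      (d' q).restrictScalars k (((hφ q).equiv.restrictScalars k : K ⊗[k] C q ≃ₗ[k] C' q) x) =
        ((hφ (q + 1)).equiv.restrictScalars k : K ⊗[k] C (q + 1) ≃ₗ[k] C' (q + 1))
          (dM d K q x) := by
    intro q x
    induction x using TensorProduct.induction_on with
    | zero => simp
    | tmul a x =>
      simp only [LinearMap.coe_restrictScalars, LinearEquiv.restrictScalars_apply,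
        LinearMap.lTensor_tmul, IsBaseChange.equiv_tmul, map_smul, c]
    | add x y hx hy => simp only [map_add, hx, hy]
  exact ⟨_, pres_of_bijective (E := C') (E' := fun q => K ⊗[k] C q)
    (fun q => (d' q).restrictScalars k) (dM d K)
    (fun q => ((hφ q).equiv.restrictScalars k : K ⊗[k] C q ≃ₗ[k] C' q).toLinearMap) hI
    (fun q => ((hφ q).equiv.restrictScalars k : K ⊗[k] C q ≃ₗ[k] C' q).bijective) p cl₁ h₁⟩

end alg

section bc

variable {k : Type u} [CommRing k] {X : Scheme.{u}} (f : X ⟶ Spec (CommRingCat.of k))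
  [IsSeparated f] (F : X.Modules) [F.IsQuasicoherent] {ι : Type u} [Finite ι] (U : ι → X.Opens)
  (hU : iSup U = ⊤) (hU1 : ∀ i, IsAffineOpen (U i))
  (hAff : ∀ (p : ℕ) (a : Fin (p + 1) → ι), IsAffineOpen (⨅ j, U (a j)))
  {B : Type u} [CommRing B] [Algebra k B] {X' : Scheme.{u}} (h : X' ⟶ X)
  (g' : X' ⟶ Spec (CommRingCat.of B))
  (sq : IsPullback h g' f (Spec.map (CommRingCat.ofHom (algebraMap k B))))

include hU hU1 hAff sq in
/-- **The truncated Čech complex universally computes cohomology.** -/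
theorem nonempty_HH_equiv_homology_tensorObj (p : ℕ) :
    Nonempty (Coh.HH X' ((Scheme.Modules.pullback h).obj F) p ≃+
      (CohIII.tensorObj (Kt f F U) (ModuleCat.of k B)).homology (p : ℤ)) := by
  letI : Module B (Coh.HH X' ((Scheme.Modules.pullback h).obj F) p) :=
    Module.compHom _ (Coh.toGlobal g')
  letI : Module k (Coh.HH X' ((Scheme.Modules.pullback h).obj F) p) :=
    Module.compHom _ (algebraMap k B)
  haveI : IsScalarTower k B (Coh.HH X' ((Scheme.Modules.pullback h).obj F) p) :=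
    IsScalarTower.of_compHom _ _ _
  haveI : IsSeparated g' := MorphismProperty.of_isPullback sq inferInstance
  haveI : IsAffineHom h := MorphismProperty.of_isPullback sq.flip inferInstance
  haveI : ((Scheme.Modules.pullback h).obj F).IsQuasicoherent :=
    Groth.Agent.Lib.Helper16.FlatPull.isQuasicoherent_pullback h F
  have hU' : iSup (fun i => h ⁻¹ᵁ U i) = ⊤ := by
    rw [← Scheme.Hom.preimage_iSup, hU]
    rfl
  have hAff' : ∀ (p : ℕ) (a : Fin (p + 1) → ι), IsAffineOpen (⨅ j, h ⁻¹ᵁ U (a j)) := by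
    intro p a
    exact InfClosed.iInf_mem_of_nonempty (s := Set.ofPred IsAffineOpen)
      (fun _ h1 _ h2 ↦ isAffineOpen_inf_of_isSeparated g' _ _ h1 h2)
      (fun j => (hU1 (a j)).preimage h)
  -- (i) the Čech presentation upstairs
  have h1 := pres_cl g' ((Scheme.Modules.pullback h).obj F) (fun i => h ⁻¹ᵁ U i) hU' hAff' p
  -- (ii)+(iii) the tensored complex
  obtain ⟨cl₂, h2⟩ := pres_lTensor_of_isBaseChange (k := k) (K := B) (dF f F U)
    (dF g' ((Scheme.Modules.pullback h).obj F) (fun i => h ⁻¹ᵁ U i))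
    (fun q => phi h f g' sq.w F U q) (fun q => isBaseChange_phi h f g' sq F U hAff q)
    (fun q x => phi_dC h f g' sq.w F U q x) p _ h1
  -- (iv) truncation
  have h3 := pres_trunc_lTensor (dF f F U) (dF_dF f F U) B (Nat.card ι)
    (fun i hi => UE_dF f F U hU hAff hU1 i hi) p cl₂ h2
  -- (v) left to right
  obtain ⟨cl₄, h4⟩ := pres_rTensor_of_lTensor (dt (dF f F U) (dF_dF f F U) (lvl ι)) B p _ h3
  -- (vi) the categorical complex
  obtain ⟨cl₅, h5⟩ := exists_pres_tensorObj (dt (dF f F U) (dF_dF f F U) (lvl ι))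
    (dt_dt (dF f F U) (dF_dF f F U) (lvl ι)) B p
  obtain ⟨e⟩ := h4.nonempty_equiv h5
  exact ⟨e.toAddEquiv⟩

end bc

section final

open Groth.Agent.Lib.Helper38.CBAmp

variable {A : Type u} [CommRing A] [IsNoetherianRing A] {X : Scheme.{u}}
  (f : X ⟶ Spec (CommRingCat.of A)) [IsProper f] (F : X.Modules) (hF : Coh.IsCoh F)
  (hfl : FlatMod.IsFlatOver f F)

include hF hfl in
/-- **Grothendieck's complex with amplitude**, for a proper morphism to a Noetherian affine base and
a coherent module flat over the base. -/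
theorem exists_grothendieck_complex (d' : ℕ) (dz : ℤ)
    (hd : ∀ p : ℕ, dz < (p : ℤ) → Subsingleton (Coh.HH X F p))
    (hd' : ∀ (y : ↑(Spec (CommRingCat.of A))) (p : ℕ), p < d' →
      Subsingleton (CohIII.fiberH f F y p)) :
    ∃ L : CochainComplex (ModuleCat.{u} A) ℤ, IsFinProj L ∧
      (∀ i : ℤ, i < (d' : ℤ) ∨ dz < i → IsZero (L.X i)) ∧
      ∀ (B : Type u) [CommRing B] [Algebra A B] {X' : Scheme.{u}} (h : X' ⟶ X)
        (g' : X' ⟶ Spec (CommRingCat.of B))
        (_ : IsPullback h g' f (Spec.map (CommRingCat.ofHom (algebraMap A B)))) (p : ℕ),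
        Nonempty (Coh.HH X' ((Scheme.Modules.pullback h).obj F) p ≃+
          (CohIII.tensorObj L (ModuleCat.of A B)).homology (p : ℤ)) := by
  haveI : F.IsQuasicoherent := hF.1
  haveI : CompactSpace X := QuasiCompact.compactSpace_of_compactSpace f
  obtain ⟨ι, hfin, U, hU, hU1, hAff⟩ := exists_cover X (isAffineOpen_inf_of_isSeparated f)
  have hUE : ∀ i, Nat.card ι ≤ i → CBAlg.UE (dF f F U) i :=
    fun i hi => UE_dF f F U hU hAff hU1 i hi
  have hC : ∀ q, Module.Flat A (Cq f F U q) := fun q => flat_Cq f F hfl U hAff q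
  haveI := hC (lvl ι)
  have hZ : Module.Flat A (LinearMap.ker (dF f F U (lvl ι))) :=
    CBAlg.flat_ker_of_UE (dF_dF f F U) (hUE _ le_rfl) (hUE _ (Nat.le_succ _))
  have hKflat : ∀ i, Module.Flat A ((Kt f F U).X i) :=
    flat_cx_X _ _ (flat_Sb (dF f F U) (lvl ι) hC hZ)
  have hK0 : ∀ i : ℤ, i < 0 → IsZero ((Kt f F U).X i) := isZero_cx_X_neg _ _
  have hKb : ∀ i : ℤ, ((lvl ι : ℕ) : ℤ) < i → IsZero ((Kt f F U).X i) := by
    intro i hi
    obtain ⟨q, rfl⟩ := Int.eq_ofNat_of_zero_le (by omega : 0 ≤ i)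
    haveI := subsingleton_Sb (dF f F U) (T := lvl ι) (q := q) (by exact_mod_cast hi)
    exact isZero_cx_X_of_subsingleton _ _ q
  letI : X.Over (Spec (CommRingCat.of A)) := ⟨f⟩
  haveI : IsProper (X ↘ Spec (CommRingCat.of A)) := ‹IsProper f›
  have hfinH : ∀ i, Module.Finite A ((Kt f F U).homology i) := by
    intro i
    rcases lt_or_ge i 0 with hi | hi
    · haveI := ModuleCat.subsingleton_of_isZero
        (isZero_homology_of_isZero_X (Kt f F U) i (hK0 i hi))
      infer_instance
    · obtain ⟨p, rfl⟩ := Int.eq_ofNat_of_zero_le hi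
      obtain ⟨e⟩ := nonempty_HH_equiv_homology f F U hU hAff hU1 p
      letI : Module A (Coh.HH X F p) := Module.compHom _ (Coh.toGlobal f)
      haveI : Module.Finite A (Coh.HH X F p) := Groth.Agent.S0002.result A X F hF p
      exact Module.Finite.equiv e
  have hdK : ∀ p : ℤ, dz < p → IsZero ((Kt f F U).homology p) := by
    intro i hi
    rcases lt_or_ge i 0 with hi0 | hi0
    · exact isZero_homology_of_isZero_X (Kt f F U) i (hK0 i hi0)
    · obtain ⟨p, rfl⟩ := Int.eq_ofNat_of_zero_le hi0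
      obtain ⟨e⟩ := nonempty_HH_equiv_homology f F U hU hAff hU1 p
      haveI := hd p hi
      haveI : Subsingleton ((Kt f F U).homology (p : ℤ)) := e.symm.toEquiv.subsingleton
      exact ModuleCat.isZero_of_subsingleton _
  have hd'K : ∀ (m : Ideal A) [m.IsMaximal], ∀ p : ℤ, p < d' →
      IsZero ((CohIII.tensorObj (Kt f F U) (ModuleCat.of A (A ⧸ m))).homology p) := by
    intro m _ i hi
    rcases lt_or_ge i 0 with hi0 | hi0
    · exact isZero_homology_of_isZero_X _ i (isZero_tensorObj_X (Kt f F U) _ i (hK0 i hi0))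
    · obtain ⟨p, rfl⟩ := Int.eq_ofNat_of_zero_le hi0
      obtain ⟨e⟩ := nonempty_HH_equiv_homology_tensorObj f F U hU hU1 hAff (B := A ⧸ m)
        (pullback.fst f (Spec.map (CommRingCat.ofHom (algebraMap A (A ⧸ m)))))
        (pullback.snd f (Spec.map (CommRingCat.ofHom (algebraMap A (A ⧸ m)))))
        (IsPullback.of_hasPullback _ _) p
      haveI := CBFibre.subsingleton_HH_quotient_of_fiberH f F m p
        (hd' (CBFibre.pt m) p (by exact_mod_cast hi))
      haveI : Subsingleton ((CohIII.tensorObj (Kt f F U)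
          (ModuleCat.of A (A ⧸ m))).homology (p : ℤ)) := e.symm.toEquiv.subsingleton
      exact ModuleCat.isZero_of_subsingleton _
  obtain ⟨L, hFP, hz, hUQ⟩ := exists_amplitude (Kt f F U) hKflat hK0 ((lvl ι : ℕ) : ℤ) hKb hfinH
    d' dz hdK hd'K
  refine ⟨L, hFP, hz, ?_⟩
  intro B _ _ X' h g' sq p
  obtain ⟨e⟩ := nonempty_HH_equiv_homology_tensorObj f F U hU hU1 hAff h g' sq p
  obtain ⟨j⟩ := hUQ.2 (ModuleCat.of A B) (p : ℤ)
  exact ⟨e.trans j.symm.toLinearEquiv.toAddEquiv⟩

end final

end Groth.Agent.Lib.Helper38.CBMain
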