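import Groth.Agent.Lib.Helper38.CBNat2
import Groth.Agent.Lib.Helper20.HomologyElts

/-!
# Natural base change in degree zero through a universal quasi-isomorphism (helper38)

* `exists_pres_nat` : presentations of the homology of two complexes of modules, compatible with a
  morphism of complexes.
* `exists_lift_cycle_of_quasiIso` : if `φ : L ⟶ K` stays a quasi-isomorphism in degree `j` after
  tensoring with `M`, `K` vanishes in degree `j - 1`, and the cokernel of `L^j → L^{j+1}` is flat, then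
  every `j`-cocycle of `K ⊗ M` comes from `Z^j(K) ⊗ M`.
-/

set_option autoImplicit false
universe u
open CategoryTheory Limits TensorProduct Function MonoidalCategory

namespace Groth.Agent.Lib.Helper38.CBNat6

open Groth.Agent.Lib.Helper38.CBTrunc Groth.Agent.Lib.Helper20.HomologyElts

variable {A : Type u} [CommRing A]

section nat

variable {ι : Type*} {c : ComplexShape ι}

/-- compatible presentations of the homology of two complexes related by a morphism. -/
theorem exists_pres_nat (E E' : HomologicalComplex (ModuleCat.{u} A) c) (ψ : E ⟶ E') (i j k : ι)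
    (hi : c.prev j = i) (hk : c.next j = k) :
    ∃ (cl : LinearMap.ker (E.d j k).hom →ₗ[A] E.homology j)
      (cl' : LinearMap.ker (E'.d j k).hom →ₗ[A] E'.homology j),
      Pres (LinearMap.range (E.d i j).hom) (E.d j k).hom cl ∧
      Pres (LinearMap.range (E'.d i j).hom) (E'.d j k).hom cl' ∧
      ∀ (z : LinearMap.ker (E.d j k).hom) (hz : (ψ.f j).hom z ∈ LinearMap.ker (E'.d j k).hom),
        (HomologicalComplex.homologyMap ψ j).hom (cl z) = cl' ⟨(ψ.f j).hom z, hz⟩ := by
  subst hi hk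
  exact ⟨hcls E j, hcls E' j, ⟨hcls_surjective E j, hcls_eq_zero_iff E j⟩,
    ⟨hcls_surjective E' j, hcls_eq_zero_iff E' j⟩, fun z hz => homologyMap_hcls ψ j z hz⟩

end nat

section lift

variable (L K : CochainComplex (ModuleCat.{u} A) ℤ) (φ : L ⟶ K) (M : ModuleCat.{u} A)

theorem hom_tensorObj_d' (P : CochainComplex (ModuleCat.{u} A) ℤ) (i j : ℤ) :
    ((CohIII.tensorObj P M).d i j).hom = (P.d i j).hom.rTensor M := by
  change (P.d i j ▷ M).hom = _
  rw [ModuleCat.hom_whiskerRight]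

theorem hom_tensorMap_f (i : ℤ) :
    ((((tensorRight M).mapHomologicalComplex (ComplexShape.up ℤ)).map φ).f i).hom =
      (φ.f i).hom.rTensor M := by
  change (φ.f i ▷ M).hom = _
  rw [ModuleCat.hom_whiskerRight]

/-- **Lifting cocycles through a universal quasi-isomorphism.** -/
theorem exists_lift_cycle_of_quasiIso (i j k : ℤ) (hi : i + 1 = j) (hk : j + 1 = k)
    (hq : QuasiIsoAt (((tensorRight M).mapHomologicalComplex (ComplexShape.up ℤ)).map φ) j)
    (hK : IsZero (K.X i)) (hL1 : Module.Flat A (L.X k)) (hW : Module.Flat A (L.opcycles k))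
    (z : K.X j ⊗[A] M) (hz : (K.d j k).hom.rTensor M z = 0) :
    ∃ w : LinearMap.ker (K.d j k).hom ⊗[A] M,
      (LinearMap.ker (K.d j k).hom).subtype.rTensor M w = z := by
  have hprev : (ComplexShape.up ℤ).prev j = i := by
    rw [CochainComplex.prev]
    omega
  have hnext : (ComplexShape.up ℤ).next j = k := by
    rw [CochainComplex.next]
    omega
  obtain ⟨clL, clK, presL, presK, hnat⟩ := exists_pres_nat (CohIII.tensorObj L M)
    (CohIII.tensorObj K M) (((tensorRight M).mapHomologicalComplex (ComplexShape.up ℤ)).map φ)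
    i j k hprev hnext
  -- the class of `z`
  have hzK0 : ((CohIII.tensorObj K M).d j k).hom z = 0 := by
    rw [hom_tensorObj_d']
    exact hz
  have hzK : (show (CohIII.tensorObj K M).X j from z) ∈
      LinearMap.ker ((CohIII.tensorObj K M).d j k).hom := LinearMap.mem_ker.mpr hzK0
  -- surjectivity on homology
  haveI : IsIso (HomologicalComplex.homologyMap
      (((tensorRight M).mapHomologicalComplex (ComplexShape.up ℤ)).map φ) j) :=
    (quasiIsoAt_iff_isIso_homologyMap _ _).mp hq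
  have hsurj : Function.Surjective (HomologicalComplex.homologyMap
      (((tensorRight M).mapHomologicalComplex (ComplexShape.up ℤ)).map φ) j).hom :=
    (ConcreteCategory.bijective_of_isIso _).2
  obtain ⟨ξ, hξ⟩ := hsurj (clK ⟨z, hzK⟩)
  obtain ⟨⟨zL0, hzL0⟩, rfl⟩ := presL.1 ξ
  have hmem : ((((tensorRight M).mapHomologicalComplex (ComplexShape.up ℤ)).map φ).f j).hom zL0 ∈
      LinearMap.ker ((CohIII.tensorObj K M).d j k).hom := by
    rw [LinearMap.mem_ker]
    have h := congrArg (fun f => f.hom zL0)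
      ((((tensorRight M).mapHomologicalComplex (ComplexShape.up ℤ)).map φ).comm j k)
    simp only [ModuleCat.hom_comp, LinearMap.comp_apply] at h
    rw [h, LinearMap.mem_ker.mp hzL0, map_zero]
  rw [hnat ⟨zL0, hzL0⟩ hmem] at hξ
  -- no boundaries in degree `j` of `K ⊗ M`
  have hK0 : IsZero ((CohIII.tensorObj K M).X i) := Functor.map_isZero (tensorRight M) hK
  have hdiff : clK (⟨_, hmem⟩ - ⟨z, hzK⟩) = 0 := by
    rw [map_sub, hξ, sub_self]
  have h0 := (presK.2 _).mp hdiff
  rw [hK0.eq_of_src ((CohIII.tensorObj K M).d i j) 0, ModuleCat.hom_zero, LinearMap.range_zero,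
    Submodule.mem_bot] at h0
  have hzeq : z = ((((tensorRight M).mapHomologicalComplex (ComplexShape.up ℤ)).map φ).f j).hom
      zL0 := (sub_eq_zero.mp h0).symm
  rw [hom_tensorMap_f] at hzeq
  -- cocycles of `L ⊗ M` come from `Z(L) ⊗ M`
  have hzLk := LinearMap.mem_ker.mp hzL0
  rw [hom_tensorObj_d'] at hzLk
  have hex1 : Exact (LinearMap.ker (L.d j k).hom).subtype (L.d j k).hom := by
    intro x
    constructor
    · intro hx
      exact ⟨⟨x, hx⟩, rfl⟩
    · rintro ⟨y, rfl⟩
      exact y.2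
  have hex2 : Exact (L.d j k).hom (L.pOpcycles k).hom := by
    intro x
    rw [← LinearMap.mem_ker, ← Groth.Agent.Lib.Helper39.BettiProj.range_d_eq_ker_pOpcycles L j k hk]
    rfl
  have key := Groth.Agent.Lib.Helper20.rTensor_exact_of_flat_coker
    (LinearMap.ker (L.d j k).hom).subtype (L.d j k).hom (L.pOpcycles k).hom
    Subtype.val_injective hex1 hex2
    (Groth.Agent.Lib.Helper39.BettiProj.pOpcycles_surjective L k) M
  obtain ⟨wL, hwL⟩ := (key.2 _).mp hzLk
  -- transport to `K`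
  let φ' : LinearMap.ker (L.d j k).hom →ₗ[A] LinearMap.ker (K.d j k).hom :=
    ((φ.f j).hom ∘ₗ (LinearMap.ker (L.d j k).hom).subtype).codRestrict _ (fun y => by
      rw [LinearMap.mem_ker]
      have h := congrArg (fun f => f.hom (y : L.X j)) (φ.comm j k)
      simp only [ModuleCat.hom_comp, LinearMap.comp_apply] at h
      change (K.d j k).hom ((φ.f j).hom (y : L.X j)) = 0
      rw [h, LinearMap.mem_ker.mp y.2, map_zero])
  have hφ' : (LinearMap.ker (K.d j k).hom).subtype ∘ₗ φ' =
      (φ.f j).hom ∘ₗ (LinearMap.ker (L.d j k).hom).subtype := LinearMap.subtype_comp_codRestrict _ _ _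
  refine ⟨φ'.rTensor M wL, ?_⟩
  rw [← LinearMap.comp_apply, ← LinearMap.rTensor_comp, hφ', LinearMap.rTensor_comp,
    LinearMap.comp_apply, hwL]
  exact hzeq.symm

end lift

section fam

open Groth.Agent.Lib.Helper38.CBAlg Groth.Agent.Lib.Helper38.CBCat

variable {C : ℕ → Type u} [∀ q, AddCommGroup (C q)] [∀ q, Module A (C q)]
  (d : ∀ q, C q →ₗ[A] C (q + 1)) (hd : ∀ q x, d (q + 1) (d q x) = 0)

theorem comm_lTensor {X Y M : Type u} [AddCommGroup X] [Module A X] [AddCommGroup Y] [Module A Y]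
    [AddCommGroup M] [Module A M] (g : X →ₗ[A] Y) (x : M ⊗[A] X) :
    g.rTensor M (TensorProduct.comm A M X x) = TensorProduct.comm A M Y (g.lTensor M x) := by
  induction x using TensorProduct.induction_on with
  | zero => simp
  | tmul m x => simp
  | add x y hx hy => simp only [map_add, hx, hy]

theorem comm_rTensor {X Y M : Type u} [AddCommGroup X] [Module A X] [AddCommGroup Y] [Module A Y]
    [AddCommGroup M] [Module A M] (g : X →ₗ[A] Y) (x : X ⊗[A] M) :
    g.lTensor M (TensorProduct.comm A X M x) = TensorProduct.comm A Y M (g.rTensor M x) := by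
  induction x using TensorProduct.induction_on with
  | zero => simp
  | tmul x m => simp
  | add x y hx hy => simp only [map_add, hx, hy]

/-- transporting the lifting property along a comparison of two-term complexes. -/
theorem exists_lift_of_compare {X0 X1 C0 C1 M : Type u} [AddCommGroup X0] [Module A X0]
    [AddCommGroup X1] [Module A X1] [AddCommGroup C0] [Module A C0] [AddCommGroup C1] [Module A C1]
    [AddCommGroup M] [Module A M] (dK : X0 →ₗ[A] X1) (i0 : X0 →ₗ[A] C0) (i1 : X1 →ₗ[A] C1)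
    (dC : C0 →ₗ[A] C1) (hcomm : ∀ x, dC (i0 x) = i1 (dK x)) (hb0 : Bijective i0)
    (hi1 : Injective (i1.lTensor M))
    (hN1 : ∀ z₂ : X0 ⊗[A] M, dK.rTensor M z₂ = 0 →
      ∃ w₂ : LinearMap.ker dK ⊗[A] M, (LinearMap.ker dK).subtype.rTensor M w₂ = z₂)
    (z : M ⊗[A] C0) (hz : dC.lTensor M z = 0) :
    ∃ w : M ⊗[A] LinearMap.ker dC, (LinearMap.ker dC).subtype.lTensor M w = z := by
  obtain ⟨z₁, hz₁⟩ := (lTensor_bijective _ hb0 M).2 z
  have hc : dC ∘ₗ i0 = i1 ∘ₗ dK := LinearMap.ext hcomm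
  have hz₁d : dK.lTensor M z₁ = 0 := by
    apply hi1
    rw [map_zero, ← LinearMap.comp_apply, ← LinearMap.lTensor_comp, ← hc, LinearMap.lTensor_comp,
      LinearMap.comp_apply, hz₁, hz]
  have hz₂ : dK.rTensor M (TensorProduct.comm A M X0 z₁) = 0 := by
    rw [comm_lTensor, hz₁d, map_zero]
  obtain ⟨w₂, hw₂⟩ := hN1 _ hz₂
  let κ : LinearMap.ker dK →ₗ[A] LinearMap.ker dC :=
    (i0 ∘ₗ (LinearMap.ker dK).subtype).codRestrict _ (fun y => by
      rw [LinearMap.mem_ker]
      change dC (i0 (y : X0)) = 0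
      rw [hcomm, LinearMap.mem_ker.mp y.2, map_zero])
  have hκ : (LinearMap.ker dC).subtype ∘ₗ κ = i0 ∘ₗ (LinearMap.ker dK).subtype :=
    LinearMap.subtype_comp_codRestrict _ _ _
  refine ⟨κ.lTensor M (TensorProduct.comm A _ M w₂), ?_⟩
  rw [← LinearMap.comp_apply, ← LinearMap.lTensor_comp, hκ, LinearMap.lTensor_comp,
    LinearMap.comp_apply, comm_rTensor, hw₂]
  have h3 : (TensorProduct.comm A X0 M) ((TensorProduct.comm A M X0) z₁) = z₁ :=
    (TensorProduct.comm A M X0).symm_apply_apply z₁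
  rw [h3]
  exact hz₁

include hd in
/-- **Lifting cocycles of degree zero**, for the truncation of a family and a resolution of it. -/
theorem exists_lift_cycle_fam (T : ℕ) (hT : 1 < T)
    (L : CochainComplex (ModuleCat.{u} A) ℤ) (φ : L ⟶ cx (dt d hd T) (dt_dt d hd T))
    (M : Type u) [AddCommGroup M] [Module A M]
    (hq : QuasiIsoAt (((tensorRight (ModuleCat.of A M)).mapHomologicalComplex
      (ComplexShape.up ℤ)).map φ) ((0 : ℕ) : ℤ))
    (hL1 : Module.Flat A (L.X (((0 : ℕ) : ℤ) + 1)))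
    (hW : Module.Flat A (L.opcycles (((0 : ℕ) : ℤ) + 1)))
    (z : M ⊗[A] C 0) (hz : dM d M 0 z = 0) :
    ∃ w : M ⊗[A] LinearMap.ker (d 0), (LinearMap.ker (d 0)).subtype.lTensor M w = z := by
  have hb0 : Bijective (incl d T 0) := subtype_bijective_of_eq_top _ (Sb_of_lt d (by omega))
  have hi1 : Injective ((incl d T (0 + 1)).lTensor M) :=
    (lTensor_bijective _ (subtype_bijective_of_eq_top _ (Sb_of_lt d hT)) M).1
  have hK : IsZero ((cx (dt d hd T) (dt_dt d hd T)).X (((0 : ℕ) : ℤ) - 1)) :=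
    isZero_cx_X_neg _ _ _ (by simp)
  have hKd : ((cx (dt d hd T) (dt_dt d hd T)).d ((0 : ℕ) : ℤ) (((0 : ℕ) : ℤ) + 1)).hom =
      dt d hd T 0 := by
    rw [cx_d]
    rfl
  have hcomm : ∀ x : ((cx (dt d hd T) (dt_dt d hd T)).X ((0 : ℕ) : ℤ)),
      d 0 (incl d T 0 x) = incl d T (0 + 1)
        (((cx (dt d hd T) (dt_dt d hd T)).d ((0 : ℕ) : ℤ) (((0 : ℕ) : ℤ) + 1)).hom x) := by
    intro x
    rw [hKd]
    exact d_incl d hd T 0 x
  exact exists_lift_of_compare
    (X0 := ((cx (dt d hd T) (dt_dt d hd T)).X ((0 : ℕ) : ℤ)))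
    (X1 := ((cx (dt d hd T) (dt_dt d hd T)).X (((0 : ℕ) : ℤ) + 1)))
    ((cx (dt d hd T) (dt_dt d hd T)).d ((0 : ℕ) : ℤ) (((0 : ℕ) : ℤ) + 1)).hom
    (incl d T 0) (incl d T (0 + 1)) (d 0) hcomm hb0 hi1
    (fun z₂ hz₂ => exists_lift_cycle_of_quasiIso L (cx (dt d hd T) (dt_dt d hd T)) φ
      (ModuleCat.of A M) (((0 : ℕ) : ℤ) - 1) ((0 : ℕ) : ℤ) (((0 : ℕ) : ℤ) + 1) (by omega) rfl hq hK
      hL1 hW z₂ hz₂) z hz

end fam

end Groth.Agent.Lib.Helper38.CBNat6
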