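import Groth.Agent.Lib.Helper38.CBNat5
import Groth.Agent.Lib.Helper38.CBNat6
import Groth.Agent.Lib.Helper38.CBGrauert

/-!
# Lifting sections from a fibre over a reduced base (helper38)

The variant of `CBNat3.exists_section_lift` in the situation of Grauert's theorem: the base is reduced
and the dimension of `H^0` of the fibres is constant.

* `ConstantRank f F r` : the hypothesis, formulated with arbitrary models of the fibres.
* `exists_cover_lift` : a cover whose Čech complex has the lifting property in degree zero.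
* `exists_section_lift_of_cover`, `exists_section_lift_reduced`.
-/

set_option autoImplicit false
universe u
open AlgebraicGeometry CategoryTheory Limits TopologicalSpace Opposite TensorProduct

namespace Groth.Agent.Lib.Helper38.CBNat7

open Groth.Agent.Lib.Helper49 Groth.Agent.Lib.Helper38.SecMod Groth.Agent.Lib.Helper1.Cech
  Groth.Agent.Lib.Helper38.CechLin Groth.Agent.Lib.Helper38.FlatBCField Groth.Agent.Lib.Helper38
  Groth.Agent.Lib.Helper38.CBTrunc Groth.Agent.Lib.Helper38.CBCat Groth.Agent.Lib.Helper38.CBGeom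
  Groth.Agent.Lib.Helper38.CBMain Groth.Agent.Lib.Helper38.CBAmp Groth.Agent.Lib.Helper38.CBNat1
  Groth.Agent.Lib.Helper38.CBNat2 Groth.Agent.Lib.Helper38.CBGlue Groth.Agent.Lib.Helper38.CBPt
  Groth.Agent.Lib.Helper38.PullSBC Groth.Agent.Lib.Helper11.PullbackBasis
  Groth.Agent.Lib.Helper38.CBRes Groth.Agent.Lib.Helper38.CBLin Groth.Agent.Lib.Helper38.CBGrauert
  Groth.Agent.Lib.Helper38.CBNat6 Groth.Agent.Lib.Helper12.FlatCx

section affine

variable {A : Type u} [CommRing A] [IsNoetherianRing A] {X : Scheme.{u}}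
  (f : X ⟶ Spec (CommRingCat.of A)) [IsProper f] (F : X.Modules) (hF : Coh.IsCoh F)
  (hfl : FlatMod.IsFlatOver f F)

/-- the hypothesis "`H^0` of the fibres has constant dimension `r`", formulated with arbitrary models
of the fibres. -/
def ConstantRank (r : ℕ) : Prop :=
  ∀ x : PrimeSpectrum A, ∃ (K : Type u) (_ : Field K) (_ : Algebra A K), EpiProp A K ∧
    (∀ a : A, algebraMap A K a = 0 ↔ a ∈ x.asIdeal) ∧
      ∃ (X'' : Scheme.{u}) (h'' : X'' ⟶ X) (g'' : X'' ⟶ Spec (CommRingCat.of K)),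
        IsPullback h'' g'' f (Spec.map (CommRingCat.ofHom (algebraMap A K))) ∧
          letI : Module K (Coh.HH X'' ((Scheme.Modules.pullback h'').obj F) 0) :=
            Module.compHom _ (Coh.toGlobal g'')
          Module.finrank K (Coh.HH X'' ((Scheme.Modules.pullback h'').obj F) 0) = r

include hF hfl in
/-- a finite affine cover whose Čech complex is flat and has the lifting property for cocycles of degree
zero, over a reduced base with constant `h^0`. -/
theorem exists_cover_lift [IsReduced A] (r : ℕ) (hr : ConstantRank f F r) :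
    ∃ (ι : Type u) (_ : Finite ι) (U : ι → X.Opens), iSup U = ⊤ ∧ (∀ i, IsAffineOpen (U i)) ∧
      (∀ (p : ℕ) (a : Fin (p + 1) → ι), IsAffineOpen (⨅ j, U (a j))) ∧
      ∀ (M : Type u) [AddCommGroup M] [Module A M] (z : M ⊗[A] Cq f F U 0),
        dM (dF f F U) M 0 z = 0 →
          ∃ w : M ⊗[A] LinearMap.ker (dF f F U 0),
            (LinearMap.ker (dF f F U 0)).subtype.lTensor M w = z := by
  haveI : F.IsQuasicoherent := hF.1
  haveI : CompactSpace X := QuasiCompact.compactSpace_of_compactSpace f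
  obtain ⟨ι, hfin, U, hU, hU1, hAff⟩ := exists_cover X (isAffineOpen_inf_of_isSeparated f)
  have hUE : ∀ i, Nat.card ι ≤ i → CBAlg.UE (dF f F U) i :=
    fun i hi => UE_dF f F U hU hAff hU1 i hi
  have hC : ∀ q, Module.Flat A (Cq f F U q) := fun q => flat_Cq f F hfl U hAff q
  haveI := hC (lvl ι)
  have hZ : Module.Flat A (LinearMap.ker (dF f F U (lvl ι))) :=
    CBAlg.flat_ker_of_UE (dF_dF f F U) (hUE _ le_rfl) (hUE _ (Nat.le_succ _))
  have hKflat : ∀ i, Module.Flat A ((Kt f F U).X i) :=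
    flat_cx_X _ _ (flat_Sb (dF f F U) (lvl ι) hC hZ)
  have hK0 : ∀ i : ℤ, i < 0 → IsZero ((Kt f F U).X i) := isZero_cx_X_neg _ _
  have hKb : ∀ i : ℤ, ((lvl ι : ℕ) : ℤ) < i → IsZero ((Kt f F U).X i) := by
    intro i hi
    obtain ⟨q, rfl⟩ := Int.eq_ofNat_of_zero_le (by omega : 0 ≤ i)
    haveI := subsingleton_Sb (dF f F U) (T := lvl ι) (q := q) (by exact_mod_cast hi)
    exact isZero_cx_X_of_subsingleton _ _ q
  letI : X.Over (Spec (CommRingCat.of A)) := ⟨f⟩
  haveI : IsProper (X ↘ Spec (CommRingCat.of A)) := ‹IsProper f›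
  have hfinH : ∀ i, Module.Finite A ((Kt f F U).homology i) := by
    intro i
    rcases lt_or_ge i 0 with hi | hi
    · haveI := ModuleCat.subsingleton_of_isZero
        (isZero_homology_of_isZero_X (Kt f F U) i (hK0 i hi))
      infer_instance
    · obtain ⟨p, rfl⟩ := Int.eq_ofNat_of_zero_le hi
      obtain ⟨e⟩ := nonempty_HH_equiv_homology f F U hU hAff hU1 p
      letI : Module A (Coh.HH X F p) := Module.compHom _ (Coh.toGlobal f)
      haveI : Module.Finite A (Coh.HH X F p) := Groth.Agent.S0002.result A X F hF p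
      exact Module.Finite.equiv e
  -- the resolution
  obtain ⟨L₀, φ, hL₀, hL₀b, hφ⟩ := exists_resolution (Kt f F U) hfinH ((lvl ι : ℕ) : ℤ)
    (fun i hi => isZero_homology_of_isZero_X (Kt f F U) i (hKb i hi))
  have hP : ∀ i, Module.Finite A (L₀.X i) ∧ Module.Flat A (L₀.X i) := fun i => by
    haveI := (hL₀ i).1
    haveI := (hL₀ i).2
    exact ⟨inferInstance, inferInstance⟩
  have hPfl : ∀ i, Module.Flat A (L₀.X i) := fun i => (hP i).2
  have hUQ : UQI L₀ (Kt f F U) :=
    UQI.of_quasiIso hPfl hKflat ⟨_, hL₀b⟩ ⟨_, hKb⟩ φ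
  -- the rank function is constant
  have hrank : ∀ x : PrimeSpectrum A, CohIII.dRank L₀ ((0 : ℕ) : ℤ) x = r := by
    intro x
    obtain ⟨K, instF, instA, hE, hx, X'', h'', g'', sq'', hfr⟩ := hr x
    letI : Module K (Coh.HH X'' ((Scheme.Modules.pullback h'').obj F) 0) :=
      Module.compHom _ (Coh.toGlobal g'')
    letI : Module A (Coh.HH X'' ((Scheme.Modules.pullback h'').obj F) 0) :=
      Module.compHom _ ((Coh.toGlobal g'').comp (algebraMap A K))
    haveI : IsScalarTower A K (Coh.HH X'' ((Scheme.Modules.pullback h'').obj F) 0) :=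
      ⟨fun a b x => by
        change (Coh.toGlobal g'') (a • b) • x =
          (Coh.toGlobal g'') (algebraMap A K a) • ((Coh.toGlobal g'') b • x)
        rw [Algebra.smul_def, map_mul, mul_smul]⟩
    obtain ⟨e⟩ := nonempty_HH_linearEquiv_homology_tensorObj f F U hU hU1 hAff h'' g'' sq'' 0
    rw [← hfr]
    exact (finrank_eq_dRank_of_linearEquiv hE L₀ ((0 : ℕ) : ℤ) x hx
      (e.trans (hUQ.2 (ModuleCat.of A K) ((0 : ℕ) : ℤ)).some.symm.toLinearEquiv)).symm
  have hlc : IsLocallyConstant (CohIII.dRank L₀ ((0 : ℕ) : ℤ)) :=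
    IsLocallyConstant.of_constant _ (fun x y => by rw [hrank x, hrank y])
  -- the cokernel of the first differential is flat
  obtain ⟨-, he⟩ := (dRank_locallyConstant_iff_exact L₀ hP ((0 : ℕ) : ℤ) (((0 : ℕ) : ℤ) + 1)
    rfl).2 inferInstance hlc
  have hflat : Module.Flat A (L₀.opcycles (((0 : ℕ) : ℤ) + 1)) := by
    rw [← preservesMono_iff_flat_opcycles L₀ (((0 : ℕ) : ℤ) + 1) hPfl,
      ← preservesEpi_iff_preservesMono_of_rel L₀ hPfl ((0 : ℕ) : ℤ) (((0 : ℕ) : ℤ) + 1) rfl]
    exact he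
  refine ⟨ι, hfin, U, hU, hU1, hAff, ?_⟩
  intro M _ _ z hz
  have hq := Groth.Agent.S14613.result A L₀ (Kt f F U) hPfl hKflat ⟨_, hL₀b⟩ ⟨_, hKb⟩ φ
    (ModuleCat.of A M)
  exact exists_lift_cycle_fam (dF f F U) (dF_dF f F U) (lvl ι)
    (show 1 < Nat.card ι + 1 + 1 by omega) L₀ φ M
    (hq.quasiIsoAt _) (hPfl _) hflat z hz

omit [IsNoetherianRing A] [IsProper f] in
/-- **Lifting sections**, from the lifting property of a cover. -/
theorem exists_section_lift_of_cover [IsSeparated f] [F.IsQuasicoherent] {ι : Type u} [Finite ι] (U : ι → X.Opens)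
    (hU : iSup U = ⊤)
    (hAff : ∀ (p : ℕ) (a : Fin (p + 1) → ι), IsAffineOpen (⨅ j, U (a j)))
    {K : Type u} [Field K] [Algebra A K] (hE : EpiProp A K)
    (hlift : ∀ z : K ⊗[A] Cq f F U 0, dM (dF f F U) K 0 z = 0 →
      ∃ w : K ⊗[A] LinearMap.ker (dF f F U 0),
        (LinearMap.ker (dF f F U 0)).subtype.lTensor K w = z)
    {X' : Scheme.{u}} (h : X' ⟶ X) (g' : X' ⟶ Spec (CommRingCat.of K))
    (sq : IsPullback h g' f (Spec.map (CommRingCat.ofHom (algebraMap A K))))
    (t : Γ((Scheme.Modules.pullback h).obj F, ⊤)) :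
    ∃ (s : Γ(F, ⊤)) (a : A), algebraMap A K a ≠ 0 ∧
      kap h (show (⊤ : X'.Opens) ≤ h ⁻¹ᵁ ⊤ from le_rfl) F s =
        secMap g' ⊤ (algebraMap A K a) • t := by
  have hU' : iSup (fun i => h ⁻¹ᵁ U i) = ⊤ := by
    rw [← Scheme.Hom.preimage_iSup, hU]
    rfl
  obtain ⟨w₀, a, hw₀, ha, hφ⟩ := exists_lift_of_epiProp (k := A) (K := K) (dF f F U)
    (dF g' ((Scheme.Modules.pullback h).obj F) (fun i => h ⁻¹ᵁ U i))
    (fun q => phi h f g' sq.w F U q) (fun q => isBaseChange_phi h f g' sq F U hAff q)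
    (fun q x => phi_dC h f g' sq.w F U q x) hE hlift
    (glob g' ((Scheme.Modules.pullback h).obj F) (fun i => h ⁻¹ᵁ U i) t)
    (dC_glob g' ((Scheme.Modules.pullback h).obj F) (fun i => h ⁻¹ᵁ U i) t)
  obtain ⟨s, hs⟩ := exists_glob_eq f F U hU w₀ hw₀
  refine ⟨s, a, ha, ?_⟩
  apply glob_injective g' ((Scheme.Modules.pullback h).obj F) (fun i => h ⁻¹ᵁ U i) hU'
  have h2 : glob g' ((Scheme.Modules.pullback h).obj F) (fun i => h ⁻¹ᵁ U i)
      (kap h (show (⊤ : X'.Opens) ≤ h ⁻¹ᵁ ⊤ from le_rfl) F s) =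
      phi h f g' sq.w F U 0 (glob f F U s) := by
    rw [phi_glob]
    congr 1
    rw [kap_apply]
    exact mres_self _ _
  rw [h2, hs, hφ]
  funext x
  change secMap g' (int (fun i => h ⁻¹ᵁ U i) x) (algebraMap A K a) •
      mres ((Scheme.Modules.pullback h).obj F)
        (le_top : int (fun i => h ⁻¹ᵁ U i) x ≤ ⊤) t =
    mres ((Scheme.Modules.pullback h).obj F) (le_top : int (fun i => h ⁻¹ᵁ U i) x ≤ ⊤)
      (secMap g' ⊤ (algebraMap A K a) • t)
  rw [mres_smul, fres_secMap]

include hF hfl in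
/-- **Lifting sections from a fibre**, over a reduced base with constant `h^0`. -/
theorem exists_section_lift_reduced [IsReduced A] (r : ℕ) (hr : ConstantRank f F r)
    {K : Type u} [Field K] [Algebra A K] (hE : EpiProp A K) {X' : Scheme.{u}} (h : X' ⟶ X)
    (g' : X' ⟶ Spec (CommRingCat.of K))
    (sq : IsPullback h g' f (Spec.map (CommRingCat.ofHom (algebraMap A K))))
    (t : Γ((Scheme.Modules.pullback h).obj F, ⊤)) :
    ∃ (s : Γ(F, ⊤)) (a : A), algebraMap A K a ≠ 0 ∧
      kap h (show (⊤ : X'.Opens) ≤ h ⁻¹ᵁ ⊤ from le_rfl) F s =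
        secMap g' ⊤ (algebraMap A K a) • t := by
  haveI : F.IsQuasicoherent := hF.1
  obtain ⟨ι, hfin, U, hU, hU1, hAff, hlift⟩ := exists_cover_lift f F hF hfl r hr
  exact exists_section_lift_of_cover f F U hU hAff hE (hlift K) h g' sq t

end affine

end Groth.Agent.Lib.Helper38.CBNat7
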