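import Groth.Agent.Lib.Helper38.CBNat7

/-!
# Trivialising an invertible module near a fibre, over a reduced base (helper38)

* `exists_isBasisOn_of_lift` : the geometric half of the argument (a generating section of the fibre
  which lifts gives a basis over the preimage of a neighbourhood).
* `exists_section_lift_chart_reduced` : lifting sections on a chart of a reduced base with constant
  `h^0`.
* `exists_isBasisOn_near_fibre_reduced` : `f` proper, base locally Noetherian and reduced, `N`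
  invertible and flat over the base with `h^0(X_z, N_z)` constant and `N|_{X_y} ≅ O`: then `N` has a basis
  over `f⁻¹ U` for an open `U ∋ y`.
* `fiberRank_zero_of_trivial` : if `N|_{X_z} ≅ O` then `h^0(X_z, N_z) = dim Γ(X_z, O)`.
-/

set_option autoImplicit false
universe u
open AlgebraicGeometry CategoryTheory Limits TopologicalSpace Opposite TensorProduct

namespace Groth.Agent.Lib.Helper38.CBNat8

open Groth.Agent.Lib.Helper49 Groth.Agent.Lib.Helper45 Groth.Agent.Lib.Helper38.CBChart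
  Groth.Agent.Lib.Helper38.CBPt Groth.Agent.Lib.Helper38.CBNat3 Groth.Agent.Lib.Helper38.CBNat4
  Groth.Agent.Lib.Helper38.CBNat5 Groth.Agent.Lib.Helper38.CBNat7
  Groth.Agent.Lib.Helper38.SecMod Groth.Agent.Lib.Helper38.PullSBC
  Groth.Agent.Lib.Helper11.PullbackBasis Groth.Agent.Lib.Helper11.GenLocus
  Groth.Agent.Lib.Helper38.PropFinSec Groth.Agent.Lib.Helper17.HHIso

variable {X Y : Scheme.{u}} (f : X ⟶ Y)

section geom

variable [IsProper f]

/-- **From a lifted generator to a basis near the fibre.** -/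
theorem exists_isBasisOn_of_lift (N : X.Modules) (hN : PicF.IsInvertible N) (y : Y)
    (W : Y.Opens) (hW : IsAffineOpen W) (hyW : y ∈ W)
    (e : CohIII.fiberMod f N y ≅ Coh.structureModule (f.fiber y))
    (hlift : ∀ t : Γ((Scheme.Modules.pullback (fibLift f W hW y hyW)).obj
        (N.restrict (f ⁻¹ᵁ W).ι), ⊤),
      ∃ (s : Γ(N.restrict (f ⁻¹ᵁ W).ι, ⊤)) (u : Γ(f.fiber y, ⊤)), IsUnit u ∧
        pullS (fibLift f W hW y hyW) (N.restrict (f ⁻¹ᵁ W).ι) ⊤ s = u • t) :
    ∃ (U : Y.Opens) (_ : y ∈ U) (τ : Γ(N, f ⁻¹ᵁ U)), IsBasisOn N (f ⁻¹ᵁ U) τ := by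
  have hNW : PicF.IsInvertible (N.restrict (f ⁻¹ᵁ W).ι) := isInvertible_restrict hN _
  let e₀ : (Scheme.Modules.pullback (fibLift f W hW y hyW)).obj (N.restrict (f ⁻¹ᵁ W).ι) ≅
      Coh.structureModule (f.fiber y) := fibModIso f W hW N y hyW ≪≫ e
  have ht : IsBasisOn ((Scheme.Modules.pullback (fibLift f W hW y hyW)).obj
      (N.restrict (f ⁻¹ᵁ W).ι)) ⊤ (e₀.symm.hom.app ⊤ (toO ⊤ 1)) :=
    isBasisOn_map_iso e₀.symm (isBasisOn_one ⊤)
  obtain ⟨s, u, hu, hs⟩ := hlift (e₀.symm.hom.app ⊤ (toO ⊤ 1))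
  have hb := ht.smul_unit u hu
  have hG : (⊤ : (f.fiber y).Opens) ≤ (fibLift f W hW y hyW) ⁻¹ᵁ
      CohB1.genLocus (N.restrict (f ⁻¹ᵁ W).ι) (homOfSection (N.restrict (f ⁻¹ᵁ W).ι) s) := by
    rw [← genLocus_pullSec (fibLift f W hW y hyW) hNW
      (homOfSection (N.restrict (f ⁻¹ᵁ W).ι) s), le_genLocus_iff_isBasisOn]
    have h2 := sec_pullSec (f := fibLift f W hW y hyW)
      (homOfSection (N.restrict (f ⁻¹ᵁ W).ι) s) ⊤
    rw [sec_homOfSection, mres_self, hs] at h2
    rw [show sec (pullSec (fibLift f W hW y hyW) (homOfSection (N.restrict (f ⁻¹ᵁ W).ι) s)) ⊤ =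
      u • (e₀.symm.hom.app ⊤ (toO ⊤ 1)) from h2]
    exact hb
  let G' : X.Opens := (f ⁻¹ᵁ W).ι ''ᵁ
    CohB1.genLocus (N.restrict (f ⁻¹ᵁ W).ι) (homOfSection (N.restrict (f ⁻¹ᵁ W).ι) s)
  have hfib : f.base ⁻¹' {y} ⊆ (G' : Set X) := by
    intro x hx
    rw [← Scheme.Hom.range_fiberι] at hx
    obtain ⟨x₀, rfl⟩ := hx
    refine ⟨(fibLift f W hW y hyW).base x₀, hG (Set.mem_univ x₀), ?_⟩
    have h3 : (fibLift f W hW y hyW ≫ (f ⁻¹ᵁ W).ι).base x₀ = (f.fiberι y).base x₀ := by
      rw [fibLift_ι]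
    exact h3
  have hcl : IsClosed (f.base '' (G' : Set X)ᶜ) :=
    (Scheme.Hom.isClosedMap f) _ G'.isOpen.isClosed_compl
  let U : Y.Opens := W ⊓ ⟨(f.base '' (G' : Set X)ᶜ)ᶜ, hcl.isOpen_compl⟩
  have hyU : y ∈ U := by
    refine ⟨hyW, ?_⟩
    rintro ⟨x, hxG, hxy⟩
    exact hxG (hfib hxy)
  have hUG : f ⁻¹ᵁ U ≤ G' := by
    intro x hx
    by_contra hxG
    exact hx.2 ⟨x, hxG, rfl⟩
  have hbG : IsBasisOn N G' (sec (homOfSection (N.restrict (f ⁻¹ᵁ W).ι) s)
      (CohB1.genLocus (N.restrict (f ⁻¹ᵁ W).ι) (homOfSection (N.restrict (f ⁻¹ᵁ W).ι) s))) :=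
    Groth.Agent.Lib.Helper20.LocalTriv.isBasisOn_of_restrict (f ⁻¹ᵁ W) _ _
      ((le_genLocus_iff_isBasisOn _ _).mp le_rfl)
  exact ⟨U, hyU, _, hbG.mono hUG⟩

end geom

section rank

/-- if the restriction of `N` to the fibre at `z` is trivial, `h^0(X_z, N_z)` is the dimension of the
ring of global functions of the fibre. -/
theorem fiberRank_zero_of_trivial (N : X.Modules) (z : Y)
    (e : CohIII.fiberMod f N z ≅ Coh.structureModule (f.fiber z)) :
    CohIII.fiberRank f N 0 z = Module.finrank (Y.residueField z) Γ(f.fiber z, ⊤) := by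
  letI : Module (Y.residueField z) (Coh.HH (f.fiber z) (Coh.structureModule (f.fiber z)) 0) :=
    Module.compHom _ (Coh.toGlobal (X := f.fiber z) (A := Y.residueField z)
      (f.fiberToSpecResidueField z))
  have e1 : CohIII.fiberH f N z 0 ≃ₗ[Y.residueField z]
      Coh.HH (f.fiber z) (Coh.structureModule (f.fiber z)) 0 :=
    hhLinEquiv (R := Y.residueField z) (Coh.toGlobal (X := f.fiber z) (A := Y.residueField z)
      (f.fiberToSpecResidueField z)) e 0
  let e2 : Coh.HH (f.fiber z) (Coh.structureModule (f.fiber z)) 0 ≃ₗ[Y.residueField z]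
      Γ(f.fiber z, ⊤) :=
    { Groth.Agent.Lib.Helper17.HZero.hh0Equiv (Coh.structureModule (f.fiber z)) with
      map_smul' := fun a x => by
        change Groth.Agent.Lib.Helper17.HZero.hh0Equiv (Coh.structureModule (f.fiber z))
          (Coh.toGlobal (X := f.fiber z) (A := Y.residueField z)
            (f.fiberToSpecResidueField z) a • x) = _
        rw [Groth.Agent.Lib.Helper17.HZero.hh0Equiv_smul]
        rfl }
  exact (e1.trans e2).finrank_eq

end rank

section chart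

variable [IsProper f] [IsLocallyNoetherian Y] [IsReduced Y] (W : Y.Opens) (hW : IsAffineOpen W)
  (F : X.Modules) (hF : Coh.IsCoh F) (hfl : FlatMod.IsFlatOver f F)

omit [IsProper f] [IsLocallyNoetherian Y] [IsReduced Y] in
/-- the hypothesis of `exists_section_lift_reduced` on a chart. -/
theorem constantRank_chart (r : ℕ) (hr : ∀ z ∈ W, CohIII.fiberRank f F 0 z = r) :
    ConstantRank (fW f W hW) (F.restrict (f ⁻¹ᵁ W).ι) r := by
  intro x
  let zW : W := hW.isoSpec.inv x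
  have hp : hW.primeIdealOf ⟨zW.1, zW.2⟩ = x :=
    Groth.Agent.Lib.Helper49.primeIdealOf_isoSpec_inv hW _
  have sq : IsPullback (fibLift f W hW zW.1 zW.2)
      (show f.fiber zW.1 ⟶ Spec (CommRingCat.of (Kap W zW.1 zW.2)) from
        f.fiberToSpecResidueField zW.1)
      (fW f W hW) (Spec.map (CommRingCat.ofHom (algebraMap Γ(Y, W) (Kap W zW.1 zW.2)))) :=
    isPullback_fibLift f W hW zW.1 zW.2
  refine ⟨Kap W zW.1 zW.2, inferInstance, inferInstance, epiProp_Kap hW zW.1 zW.2, fun a => ?_,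
    _, _, _, sq, ?_⟩
  · rw [algebraMap_Kap_eq_zero_iff hW, hp]
  · rw [← hr zW.1 zW.2]
    letI : Module (Y.residueField zW.1) (Coh.HH (f.fiber zW.1)
        ((Scheme.Modules.pullback (fibLift f W hW zW.1 zW.2)).obj (F.restrict (f ⁻¹ᵁ W).ι)) 0) :=
      Module.compHom _ (Coh.toGlobal (X := f.fiber zW.1) (A := Y.residueField zW.1)
        (f.fiberToSpecResidueField zW.1))
    have e1 : Coh.HH (f.fiber zW.1)
        ((Scheme.Modules.pullback (fibLift f W hW zW.1 zW.2)).obj (F.restrict (f ⁻¹ᵁ W).ι)) 0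
          ≃ₗ[Y.residueField zW.1] CohIII.fiberH f F zW.1 0 :=
      hhLinEquiv (R := Y.residueField zW.1)
        (Coh.toGlobal (X := f.fiber zW.1) (A := Y.residueField zW.1)
          (f.fiberToSpecResidueField zW.1)) (fibModIso f W hW F zW.1 zW.2) 0
    exact e1.finrank_eq

include hF hfl in
/-- **Lifting sections from a fibre**, on a chart of a reduced base with constant `h^0`. -/
theorem exists_section_lift_chart_reduced (r : ℕ) (hr : ∀ z ∈ W, CohIII.fiberRank f F 0 z = r)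
    (y : Y) (hy : y ∈ W)
    (t : Γ((Scheme.Modules.pullback (fibLift f W hW y hy)).obj (F.restrict (f ⁻¹ᵁ W).ι), ⊤)) :
    ∃ (s : Γ(F.restrict (f ⁻¹ᵁ W).ι, ⊤)) (u : Γ(f.fiber y, ⊤)), IsUnit u ∧
      pullS (fibLift f W hW y hy) (F.restrict (f ⁻¹ᵁ W).ι) ⊤ s = u • t := by
  haveI : IsNoetherianRing Γ(Y, W) := IsLocallyNoetherian.component_noetherian ⟨W, hW⟩
  haveI : F.IsQuasicoherent := hF.1
  have sq : IsPullback (fibLift f W hW y hy)
      (show f.fiber y ⟶ Spec (CommRingCat.of (Kap W y hy)) from f.fiberToSpecResidueField y)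
      (fW f W hW) (Spec.map (CommRingCat.ofHom (algebraMap Γ(Y, W) (Kap W y hy)))) :=
    isPullback_fibLift f W hW y hy
  obtain ⟨s, a, ha, hs⟩ := exists_section_lift_reduced (fW f W hW) (F.restrict (f ⁻¹ᵁ W).ι)
    (isCoh_restrict f W F hF) (isFlatOver_fW f W hW F hfl) r
    (constantRank_chart f W hW F r hr) (epiProp_Kap hW y hy) (fibLift f W hW y hy) _ sq t
  refine ⟨s, secMap (show f.fiber y ⟶ Spec (CommRingCat.of (Kap W y hy)) from
    f.fiberToSpecResidueField y) ⊤ (algebraMap Γ(Y, W) (Kap W y hy) a), ?_, ?_⟩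
  · exact (isUnit_iff_ne_zero.mpr ha).map _
  · rw [← hs, kap_apply]
    exact (mres_self _ _).symm

end chart

section near

variable [IsProper f] [IsLocallyNoetherian Y] [IsReduced Y]

/-- **Trivialisation near a fibre over a reduced base**: `N` invertible and flat over the base,
`h^0(X_z, N_z)` constant, `N|_{X_y} ≅ O`. -/
theorem exists_isBasisOn_near_fibre_reduced (N : X.Modules) (hN : PicF.IsInvertible N)
    (hfl : FlatMod.IsFlatOver f N) (r : ℕ) (hr : ∀ z : Y, CohIII.fiberRank f N 0 z = r) (y : Y)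
    (e : CohIII.fiberMod f N y ≅ Coh.structureModule (f.fiber y)) :
    ∃ (U : Y.Opens) (_ : y ∈ U) (τ : Γ(N, f ⁻¹ᵁ U)), IsBasisOn N (f ⁻¹ᵁ U) τ := by
  have hF : Coh.IsCoh N := InvRef1.isCoh_of_isInvertible N hN
  obtain ⟨_, ⟨W, hW : IsAffineOpen W, rfl⟩, hyW, -⟩ :=
    Y.isBasis_affineOpens.exists_subset_of_mem_open (Set.mem_univ y) isOpen_univ
  exact exists_isBasisOn_of_lift f N hN y W hW hyW e
    (fun t => exists_section_lift_chart_reduced f W hW N hF hfl r (fun z _ => hr z) y hyW t)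

/-- the same, when all the fibres have a one-dimensional ring of global functions and the restrictions
of `N` to all the fibres are trivial. -/
theorem exists_isBasisOn_near_fibre_of_trivial [Flat f] (N : X.Modules)
    (hN : PicF.IsInvertible N) (r : ℕ)
    (h0 : ∀ z : Y, Module.finrank (Y.residueField z) Γ(f.fiber z, ⊤) = r)
    (htriv : ∀ z : Y, Nonempty (CohIII.fiberMod f N z ≅ Coh.structureModule (f.fiber z))) (y : Y) :
    ∃ (U : Y.Opens) (_ : y ∈ U) (τ : Γ(N, f ⁻¹ᵁ U)), IsBasisOn N (f ⁻¹ᵁ U) τ := by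
  obtain ⟨e⟩ := htriv y
  refine exists_isBasisOn_near_fibre_reduced f N hN (isFlatOver_of_isInvertible f N hN) r
    (fun z => ?_) y e
  obtain ⟨ez⟩ := htriv z
  rw [fiberRank_zero_of_trivial f N z ez, h0 z]

end near

end Groth.Agent.Lib.Helper38.CBNat8
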