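import Mathlib

/-!
# Chain complexes versus cochain complexes indexed by the integers (helper38)

`negCx P` is the cochain complex `i ↦ P_{-i}` attached to a chain complex `P` indexed by `ℤ`, and
`negCx' K` is the chain complex `i ↦ K^{-i}`.  Quasi-isomorphisms are preserved, homology is
computed by the obvious formula, and `negCx (negCx' K) ≅ K`.
-/

set_option autoImplicit false
universe v u

open CategoryTheory Limits

namespace Groth.Agent.Lib.Helper38.CBNeg

variable {V : Type u} [Category.{v} V] [HasZeroMorphisms V]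

/-- the cochain complex `i ↦ P_{-i}`. -/
def negCx (P : ChainComplex V ℤ) : CochainComplex V ℤ where
  X i := P.X (-i)
  d i j := P.d (-i) (-j)
  shape _ _ h := P.shape _ _ (fun h' => h (by
    simp only [ComplexShape.up_Rel, ComplexShape.down_Rel] at h' ⊢
    omega))
  d_comp_d' _ _ _ _ _ := P.d_comp_d _ _ _

/-- the chain complex `i ↦ K^{-i}`. -/
def negCx' (K : CochainComplex V ℤ) : ChainComplex V ℤ where
  X i := K.X (-i)
  d i j := K.d (-i) (-j)
  shape _ _ h := K.shape _ _ (fun h' => h (by
    simp only [ComplexShape.up_Rel, ComplexShape.down_Rel] at h' ⊢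
    omega))
  d_comp_d' _ _ _ _ _ := K.d_comp_d _ _ _

/-- functoriality of `negCx`. -/
def negMap {P Q : ChainComplex V ℤ} (f : P ⟶ Q) : negCx P ⟶ negCx Q where
  f i := f.f (-i)
  comm' _ _ _ := f.comm _ _

@[simp] theorem negCx_X (P : ChainComplex V ℤ) (i : ℤ) : (negCx P).X i = P.X (-i) := rfl

@[simp] theorem negCx_d (P : ChainComplex V ℤ) (i j : ℤ) : (negCx P).d i j = P.d (-i) (-j) := rfl

@[simp] theorem negCx'_X (K : CochainComplex V ℤ) (i : ℤ) : (negCx' K).X i = K.X (-i) := rfl

@[simp] theorem negCx'_d (K : CochainComplex V ℤ) (i j : ℤ) :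
    (negCx' K).d i j = K.d (-i) (-j) := rfl

@[simp] theorem negMap_f {P Q : ChainComplex V ℤ} (f : P ⟶ Q) (i : ℤ) :
    (negMap f).f i = f.f (-i) := rfl

/-- `negCx (negCx' K) ≅ K`. -/
def negNegIso (K : CochainComplex V ℤ) : negCx (negCx' K) ≅ K :=
  HomologicalComplex.Hom.isoOfComponents (fun i => K.XIsoOfEq (neg_neg i))
    (fun i j _ => by
      change (K.XIsoOfEq (neg_neg i)).hom ≫ K.d i j =
        K.d (- -i) (- -j) ≫ (K.XIsoOfEq (neg_neg j)).hom
      rw [HomologicalComplex.XIsoOfEq_hom_comp_d, HomologicalComplex.d_comp_XIsoOfEq_hom])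

section homology

variable {W : Type u} [Category.{v} W] [Abelian W]

/-- homology of `negCx' K`. -/
noncomputable def negHomologyIso' (K : CochainComplex W ℤ) (i : ℤ) :
    (negCx' K).homology i ≅ K.homology (-i) :=
  ((negCx' K).homologyIsoSc' (i + 1) i (i - 1) (by simp) (by simp)) ≪≫
    (K.homologyIsoSc' (-(i + 1)) (-i) (-(i - 1)) (by simp; omega) (by simp; omega)).symm

theorem quasiIso_negMap {P Q : ChainComplex W ℤ} (f : P ⟶ Q) [QuasiIso f] :
    QuasiIso (negMap f) := by
  rw [quasiIso_iff]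
  intro j
  rw [quasiIsoAt_iff' (negMap f) (j - 1) j (j + 1) (by simp) (by simp)]
  have h : QuasiIsoAt f (-j) := inferInstance
  rw [quasiIsoAt_iff' f (-(j - 1)) (-j) (-(j + 1)) (by simp; omega) (by simp; omega)] at h
  exact h

end homology

end Groth.Agent.Lib.Helper38.CBNeg
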