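import Groth.Agent.Lib.Helper38.CBNeg
import Groth.Agent.S2372
import Groth.Agent.S14613

/-!
# Finite free resolutions of complexes with finite cohomology, universally (helper38)

* `exists_resolution` : over a Noetherian ring, a cochain complex `K` (indexed by `ℤ`) whose
  cohomology is finite and vanishes above `b` receives a quasi-isomorphism from a complex of finite
  free modules vanishing above `b` (EGA 0_III 11.9.1, via S2372).
* `nonempty_homology_tensor_iso` : a quasi-isomorphism between bounded above complexes of flat
  modules stays one after tensoring with any module (S14613), so the tensored cohomologies agree.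
-/

set_option autoImplicit false
universe u

open CategoryTheory Limits

namespace Groth.Agent.Lib.Helper38.CBRes

open Groth.Agent.Lib.Helper38.CBNeg

variable {A : Type u} [CommRing A]

/-- finite modules. -/
def finP : ObjectProperty (ModuleCat.{u} A) := fun M => Module.Finite A M

/-- finite free modules. -/
def finFreeP : ObjectProperty (ModuleCat.{u} A) := fun M => Module.Finite A M ∧ Module.Free A M

instance : (finP (A := A)).IsClosedUnderIsomorphisms where
  of_iso {X Y} e h := by
    change Module.Finite A Y
    haveI : Module.Finite A X := h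
    exact Module.Finite.equiv e.toLinearEquiv

instance : (finFreeP (A := A)).IsClosedUnderIsomorphisms where
  of_iso {X Y} e h := by
    haveI : Module.Finite A X := h.1
    haveI : Module.Free A X := h.2
    exact ⟨Module.Finite.equiv e.toLinearEquiv, Module.Free.of_equiv e.toLinearEquiv⟩

theorem finFreeP_of_isZero {M : ModuleCat.{u} A} (h : IsZero M) : finFreeP M := by
  haveI : Subsingleton M := ModuleCat.subsingleton_of_isZero h
  exact ⟨inferInstance, inferInstance⟩

variable [IsNoetherianRing A]

/-- **Finite free resolution** of a complex with finite cohomology, bounded above. -/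
theorem exists_resolution (K : CochainComplex (ModuleCat.{u} A) ℤ)
    (hfin : ∀ i, Module.Finite A (K.homology i)) (b : ℤ)
    (hb : ∀ i, b < i → IsZero (K.homology i)) :
    ∃ (L : CochainComplex (ModuleCat.{u} A) ℤ) (φ : L ⟶ K),
      (∀ i, Module.Finite A (L.X i) ∧ Module.Free A (L.X i)) ∧
        (∀ i, b < i → IsZero (L.X i)) ∧ QuasiIso φ := by
  have hP : ∀ i, finP ((negCx' K).homology i) := fun i =>
    (finP (A := A)).prop_of_iso (negHomologyIso' K i).symm (hfin (-i))
  have hd : ∀ i < -b, IsZero ((negCx' K).homology i) := fun i hi =>
    (hb (-i) (by omega)).of_iso (negHomologyIso' K i)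
  obtain ⟨Q, u, hQ, hQ0, hu⟩ := Groth.Agent.S2372.result (C := ModuleCat.{u} A)
    finP finFreeP (fun M h => h.1)
    (by
      intro X X' f hX' hf
      haveI : Module.Finite A X' := hX'
      obtain ⟨n, g, hg⟩ := Module.Finite.exists_fin' A X'
      have hfs : Function.Surjective f.hom := (ModuleCat.epi_iff_surjective f).mp hf
      obtain ⟨h, hh⟩ := Module.projective_lifting_property f.hom g hfs
      refine ⟨ModuleCat.of A (Fin n → A), ModuleCat.ofHom h, ⟨?_, ?_⟩, ?_⟩
      · change Module.Finite A (Fin n → A)
        infer_instance
      · change Module.Free A (Fin n → A)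
        infer_instance
      · rw [ModuleCat.epi_iff_surjective]
        change Function.Surjective (f.hom ∘ₗ h)
        rw [hh]
        exact hg)
    (by
      intro X Y f hX hY _
      haveI : Module.Finite A X := hX
      haveI : IsNoetherian A X := isNoetherian_of_isNoetherianRing_of_finite A X
      refine (finP (A := A)).prop_of_iso (ModuleCat.kernelIsoKer f).symm ?_
      change Module.Finite A (LinearMap.ker f.hom)
      exact Module.Finite.of_fg (IsNoetherian.noetherian _))
    (by
      intro B B' hB hB'
      haveI : Module.Finite A B := hB.1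
      haveI : Module.Free A B := hB.2
      haveI : Module.Finite A B' := hB'.1
      haveI : Module.Free A B' := hB'.2
      refine (finFreeP (A := A)).prop_of_iso
        ((ModuleCat.biprodIsoProd B B').symm ≪≫ biprod.isoProd B B') ⟨?_, ?_⟩
      · change Module.Finite A (B × B')
        infer_instance
      · change Module.Free A (B × B')
        infer_instance)
    (negCx' K) hP (-b) hd
  haveI := hu
  haveI := quasiIso_negMap u
  refine ⟨negCx Q, negMap u ≫ (negNegIso K).hom, fun i => ?_, fun i hi => ?_, inferInstance⟩
  · by_cases hi : i ≤ b
    · exact hQ (-i) (by omega)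
    · exact finFreeP_of_isZero (hQ0 (-i) (by omega))
  · exact hQ0 (-i) (by omega)

omit [IsNoetherianRing A] in
/-- **Universal quasi-isomorphisms** between bounded above complexes of flat modules. -/
theorem nonempty_homology_tensor_iso (L K : CochainComplex (ModuleCat.{u} A) ℤ)
    (hL : ∀ i, Module.Flat A (L.X i)) (hK : ∀ i, Module.Flat A (K.X i))
    (bL : ∃ b : ℤ, ∀ i, b < i → IsZero (L.X i)) (bK : ∃ b : ℤ, ∀ i, b < i → IsZero (K.X i))
    (φ : L ⟶ K) [QuasiIso φ] (M : ModuleCat.{u} A) (i : ℤ) :
    Nonempty ((CohIII.tensorObj L M).homology i ≅ (CohIII.tensorObj K M).homology i) := by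
  have h := Groth.Agent.S14613.result A L K hL hK bL bK φ M
  have hi : QuasiIsoAt
      (((MonoidalCategory.tensorRight M).mapHomologicalComplex (ComplexShape.up ℤ)).map φ) i :=
    h.quasiIsoAt i
  exact ⟨@isoOfQuasiIsoAt _ _ _ _ _ _ _
    (((MonoidalCategory.tensorRight M).mapHomologicalComplex (ComplexShape.up ℤ)).map φ) i _ _ hi⟩

end Groth.Agent.Lib.Helper38.CBRes
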