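import Groth.Agent.Lib.Helper38.CBAlg

/-!
# Cohomology and base change: presentations of cohomology and truncation (helper38)

Pure algebra.  Complexes are `ℕ`-indexed families of modules and linear maps `d q : C q → C (q+1)`.

* `Bd d p` : the incoming boundaries (`⊥` for `p = 0`).
* `Pres B g cl` : `cl : ker g → H` is surjective with kernel `B` ("`H` is the cohomology").
* `Pres.nonempty_equiv` : two presentations of the same data give isomorphic modules.
* `pres_of_equiv` : transport of presentations along an isomorphism of complexes.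
* `pres_of_sub` : transport of presentations to a sub-complex which agrees below `T`, contains the
  cycles in degree `T`, vanishes above `T`, when the big complex is exact above `T`.
* `Sb d T`, `dt d hd T`, `incl` : the canonical truncation `τ_{≤ T}` as a family of submodules.
-/

set_option autoImplicit false
universe u

open TensorProduct Function

namespace Groth.Agent.Lib.Helper38.CBTrunc

open Groth.Agent.Lib.Helper38.CBAlg

section pres

variable {A : Type u} [CommRing A]

/-- incoming boundaries of an `ℕ`-indexed complex. -/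
def Bd {C : ℕ → Type u} [∀ q, AddCommGroup (C q)] [∀ q, Module A (C q)]
    (d : ∀ q, C q →ₗ[A] C (q + 1)) : ∀ p, Submodule A (C p)
  | 0 => ⊥
  | p + 1 => LinearMap.range (d p)

theorem Bd_zero {C : ℕ → Type u} [∀ q, AddCommGroup (C q)] [∀ q, Module A (C q)]
    (d : ∀ q, C q →ₗ[A] C (q + 1)) : Bd d 0 = ⊥ := rfl

theorem Bd_succ {C : ℕ → Type u} [∀ q, AddCommGroup (C q)] [∀ q, Module A (C q)]
    (d : ∀ q, C q →ₗ[A] C (q + 1)) (p : ℕ) : Bd d (p + 1) = LinearMap.range (d p) := rfl

variable {C1 C2 H H' : Type u} [AddCommGroup C1] [Module A C1] [AddCommGroup C2] [Module A C2]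
  [AddCommGroup H] [Module A H] [AddCommGroup H'] [Module A H']

/-- `cl` presents `H` as `ker g / B`. -/
def Pres (B : Submodule A C1) (g : C1 →ₗ[A] C2) (cl : LinearMap.ker g →ₗ[A] H) : Prop :=
  Surjective cl ∧ ∀ z : LinearMap.ker g, cl z = 0 ↔ (z : C1) ∈ B

theorem Pres.nonempty_equiv {B : Submodule A C1} {g : C1 →ₗ[A] C2}
    {cl : LinearMap.ker g →ₗ[A] H} {cl' : LinearMap.ker g →ₗ[A] H'}
    (h : Pres B g cl) (h' : Pres B g cl') : Nonempty (H ≃ₗ[A] H') := by
  have hk : LinearMap.ker cl = LinearMap.ker cl' := by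
    ext z
    rw [LinearMap.mem_ker, LinearMap.mem_ker, h.2 z, h'.2 z]
  exact ⟨(cl.quotKerEquivOfSurjective h.1).symm.trans
    ((Submodule.quotEquivOfEq _ _ hk).trans (cl'.quotKerEquivOfSurjective h'.1))⟩

end pres

section compare

variable {A : Type u} [CommRing A]
  {E E' : ℕ → Type u} [∀ q, AddCommGroup (E q)] [∀ q, Module A (E q)]
  [∀ q, AddCommGroup (E' q)] [∀ q, Module A (E' q)]
  (δ : ∀ q, E q →ₗ[A] E (q + 1)) (δ' : ∀ q, E' q →ₗ[A] E' (q + 1))
  (I : ∀ q, E' q →ₗ[A] E q) (hI : ∀ q x, δ q (I q x) = I (q + 1) (δ' q x))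

/-- the induced map on cycles. -/
def kmap (p : ℕ) : LinearMap.ker (δ' p) →ₗ[A] LinearMap.ker (δ p) :=
  ((I p).comp (LinearMap.ker (δ' p)).subtype).codRestrict (LinearMap.ker (δ p))
    (fun z => by
      change δ p (I p z) = 0
      rw [hI, z.2, map_zero])

theorem kmap_val (p : ℕ) (z : LinearMap.ker (δ' p)) : ((kmap δ δ' I hI p z : LinearMap.ker (δ p)) : E p) = I p z :=
  rfl

variable {H : Type u} [AddCommGroup H] [Module A H]

/-- transport of a presentation along an isomorphism of complexes. -/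
theorem pres_of_bijective (hb : ∀ q, Bijective (I q)) (p : ℕ)
    (cl : LinearMap.ker (δ p) →ₗ[A] H) (h : Pres (Bd δ p) (δ p) cl) :
    Pres (Bd δ' p) (δ' p) (cl ∘ₗ kmap δ δ' I hI p) := by
  refine ⟨fun x => ?_, fun z' => ?_⟩
  · obtain ⟨z, rfl⟩ := h.1 x
    obtain ⟨z', hz'⟩ := (hb p).2 z.1
    have hz0 : δ' p z' = 0 := by
      apply (hb (p + 1)).1
      rw [← hI, hz', z.2, map_zero]
    exact ⟨⟨z', hz0⟩, congrArg cl (Subtype.ext hz')⟩
  · rw [LinearMap.comp_apply, h.2, kmap_val]
    cases p with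
    | zero =>
      rw [Bd_zero, Bd_zero, Submodule.mem_bot, Submodule.mem_bot]
      constructor
      · intro h0
        exact (hb 0).1 (h0.trans (map_zero _).symm)
      · intro h0
        rw [h0, map_zero]
    | succ p =>
      rw [Bd_succ, Bd_succ]
      constructor
      · rintro ⟨w, hw⟩
        obtain ⟨w', rfl⟩ := (hb p).2 w
        refine ⟨w', (hb (p + 1)).1 ?_⟩
        rw [← hI, hw]
      · rintro ⟨w', hw'⟩
        exact ⟨I p w', by rw [hI, hw']⟩

/-- transport of a presentation to a truncation-like subcomplex. -/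
theorem pres_of_sub (T : ℕ) (hinj : ∀ q, Injective (I q)) (hsurj : ∀ q, q < T → Surjective (I q))
    (hT : ∀ x, δ T x = 0 → ∃ y, I T y = x) (hsub : ∀ q, T < q → Subsingleton (E' q))
    (hex : ∀ q, T ≤ q → ∀ x, δ (q + 1) x = 0 → ∃ y, δ q y = x) (p : ℕ)
    (cl : LinearMap.ker (δ p) →ₗ[A] H) (h : Pres (Bd δ p) (δ p) cl) :
    Pres (Bd δ' p) (δ' p) (cl ∘ₗ kmap δ δ' I hI p) := by
  refine ⟨fun x => ?_, fun z' => ?_⟩
  · obtain ⟨z, rfl⟩ := h.1 x
    rcases lt_trichotomy p T with hp | hp | hp
    · obtain ⟨z', hz'⟩ := hsurj p hp z.1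
      have hz0 : δ' p z' = 0 := by
        apply hinj (p + 1)
        rw [← hI, hz', z.2, map_zero]
      exact ⟨⟨z', hz0⟩, congrArg cl (Subtype.ext hz')⟩
    · subst hp
      obtain ⟨z', hz'⟩ := hT z.1 z.2
      haveI := hsub (p + 1) (Nat.lt_succ_self p)
      have hz0 : δ' p z' = 0 := Subsingleton.elim _ _
      exact ⟨⟨z', hz0⟩, congrArg cl (Subtype.ext hz')⟩
    · obtain ⟨p', rfl⟩ : ∃ p', p = p' + 1 := ⟨p - 1, by omega⟩
      refine ⟨0, ?_⟩
      rw [map_zero]
      symm
      rw [h.2, Bd_succ]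
      obtain ⟨y, hy⟩ := hex p' (by omega) z.1 z.2
      exact ⟨y, hy⟩
  · rw [LinearMap.comp_apply, h.2, kmap_val]
    cases p with
    | zero =>
      rw [Bd_zero, Bd_zero, Submodule.mem_bot, Submodule.mem_bot]
      constructor
      · intro h0
        exact hinj 0 (h0.trans (map_zero _).symm)
      · intro h0
        rw [h0, map_zero]
    | succ p =>
      rw [Bd_succ, Bd_succ]
      constructor
      · rintro ⟨w, hw⟩
        by_cases hp : p < T
        · obtain ⟨w', rfl⟩ := hsurj p hp w
          refine ⟨w', hinj (p + 1) ?_⟩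
          rw [← hI, hw]
        · haveI := hsub (p + 1) (by omega)
          exact ⟨0, Subsingleton.elim _ _⟩
      · rintro ⟨w', hw'⟩
        exact ⟨I p w', by rw [hI, hw']⟩

end compare

section trunc

variable {A : Type u} [CommRing A] {C : ℕ → Type u} [∀ q, AddCommGroup (C q)]
  [∀ q, Module A (C q)] (d : ∀ q, C q →ₗ[A] C (q + 1)) (hd : ∀ q x, d (q + 1) (d q x) = 0)

/-- the terms of the canonical truncation `τ_{≤ T}`, as submodules. -/
def Sb (T q : ℕ) : Submodule A (C q) :=
  if q < T then ⊤ else if q = T then LinearMap.ker (d q) else ⊥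

theorem Sb_of_lt {T q : ℕ} (h : q < T) : Sb d T q = ⊤ := by
  rw [Sb, if_pos h]

theorem Sb_self (T : ℕ) : Sb d T T = LinearMap.ker (d T) := by
  rw [Sb, if_neg (lt_irrefl T), if_pos rfl]

theorem Sb_of_gt {T q : ℕ} (h : T < q) : Sb d T q = ⊥ := by
  rw [Sb, if_neg (by omega), if_neg (by omega)]

include hd in
theorem Sb_map (T q : ℕ) (x : C q) (hx : x ∈ Sb d T q) : d q x ∈ Sb d T (q + 1) := by
  rcases lt_trichotomy (q + 1) T with h | h | h
  · rw [Sb_of_lt d h]
    trivial
  · subst h
    rw [Sb_self]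
    exact hd q x
  · rw [Sb_of_gt d h]
    rcases Nat.lt_or_ge T q with h' | h'
    · rw [Sb_of_gt d h'] at hx
      rw [(Submodule.mem_bot A).mp hx, map_zero]
      exact zero_mem _
    · obtain rfl : q = T := by omega
      rw [Sb_self] at hx
      rw [LinearMap.mem_ker.mp hx]
      exact zero_mem _

/-- the differential of the truncation. -/
def dt (T q : ℕ) : Sb d T q →ₗ[A] Sb d T (q + 1) :=
  (d q).restrict (Sb_map d hd T q)

/-- the inclusion of the truncation. -/
def incl (T q : ℕ) : Sb d T q →ₗ[A] C q := (Sb d T q).subtype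

theorem d_incl (T q : ℕ) (x : Sb d T q) : d q (incl d T q x) = incl d T (q + 1) (dt d hd T q x) :=
  rfl

theorem dt_dt (T q : ℕ) (x : Sb d T q) : dt d hd T (q + 1) (dt d hd T q x) = 0 :=
  Subtype.ext (hd q x.1)

theorem subsingleton_Sb {T q : ℕ} (h : T < q) : Subsingleton (Sb d T q) := by
  rw [Sb_of_gt d h]
  infer_instance

theorem flat_Sb (T : ℕ) (hC : ∀ q, Module.Flat A (C q))
    (hZ : Module.Flat A (LinearMap.ker (d T))) (q : ℕ) : Module.Flat A (Sb d T q) := by
  rcases lt_trichotomy q T with h | h | h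
  · rw [Sb_of_lt d h]
    haveI := hC q
    exact Module.Flat.of_linearEquiv (Submodule.topEquiv (R := A) (M := C q))
  · subst h
    rw [Sb_self]
    exact hZ
  · haveI := subsingleton_Sb d h
    infer_instance

variable {H : Type u} [AddCommGroup H] [Module A H]

/-- truncation does not change the cohomology of a complex universally exact above `N`. -/
theorem pres_trunc (N : ℕ) (hN : ∀ i, N ≤ i → UE d i) (p : ℕ)
    (cl : LinearMap.ker (d p) →ₗ[A] H) (h : Pres (Bd d p) (d p) cl) :
    Pres (Bd (dt d hd (N + 1 + 1)) p) (dt d hd (N + 1 + 1) p)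
      (cl ∘ₗ kmap d (dt d hd (N + 1 + 1)) (incl d (N + 1 + 1)) (d_incl d hd (N + 1 + 1)) p) := by
  refine pres_of_sub d (dt d hd (N + 1 + 1)) (incl d (N + 1 + 1)) (d_incl d hd (N + 1 + 1))
    (N + 1 + 1) (fun q => Subtype.val_injective) ?_ ?_ (fun q hq => subsingleton_Sb d hq) ?_ p cl h
  · intro q hq x
    exact ⟨⟨x, by rw [Sb_of_lt d hq]; trivial⟩, rfl⟩
  · intro x hx
    exact ⟨⟨x, by rw [Sb_self]; exact hx⟩, rfl⟩
  · intro q hq x hx
    obtain ⟨y, hy⟩ := ((exact_of_UE (hN q (by omega))) x).mp hx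
    exact ⟨y, hy⟩

end trunc

section tensor

variable {A : Type u} [CommRing A]

theorem lTensor_bijective {X Y : Type u} [AddCommGroup X] [Module A X] [AddCommGroup Y]
    [Module A Y] (f : X →ₗ[A] Y) (hf : Bijective f) (M : Type u) [AddCommGroup M] [Module A M] :
    Bijective (f.lTensor M) := by
  exact (LinearEquiv.lTensor M (LinearEquiv.ofBijective f hf)).bijective

theorem subtype_bijective_of_eq_top {X : Type u} [AddCommGroup X] [Module A X]
    (S : Submodule A X) (h : S = ⊤) : Bijective S.subtype := by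
  subst h
  exact ⟨Subtype.val_injective, fun x => ⟨⟨x, trivial⟩, rfl⟩⟩

theorem lTensor_subtype_injective_of_eq {X : Type u} [AddCommGroup X] [Module A X]
    (S S' : Submodule A X) (h : S = S') (M : Type u) [AddCommGroup M] [Module A M]
    (hS' : Injective (S'.subtype.lTensor M)) : Injective (S.subtype.lTensor M) := by
  subst h
  exact hS'

variable {C : ℕ → Type u} [∀ q, AddCommGroup (C q)]
  [∀ q, Module A (C q)] (d : ∀ q, C q →ₗ[A] C (q + 1)) (hd : ∀ q x, d (q + 1) (d q x) = 0)
  (M : Type u) [AddCommGroup M] [Module A M]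

/-- the tensored complex. -/
abbrev dM (q : ℕ) : M ⊗[A] C q →ₗ[A] M ⊗[A] C (q + 1) := (d q).lTensor M

/-- the tensored truncated complex. -/
abbrev dtM (T q : ℕ) : M ⊗[A] Sb d T q →ₗ[A] M ⊗[A] Sb d T (q + 1) := (dt d hd T q).lTensor M

/-- the tensored inclusion. -/
abbrev inclM (T q : ℕ) : M ⊗[A] Sb d T q →ₗ[A] M ⊗[A] C q := (incl d T q).lTensor M

theorem dM_inclM (T q : ℕ) (x : M ⊗[A] Sb d T q) :
    dM d M q (inclM d M T q x) = inclM d M T (q + 1) (dtM d hd M T q x) := by
  change ((d q).lTensor M ∘ₗ (incl d T q).lTensor M) x =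
    ((incl d T (q + 1)).lTensor M ∘ₗ (dt d hd T q).lTensor M) x
  rw [← LinearMap.lTensor_comp, ← LinearMap.lTensor_comp]
  rfl

variable {H : Type u} [AddCommGroup H] [Module A H]

/-- **Truncation is universal**: presentations of the cohomology of `M ⊗ C` give presentations of
the cohomology of `M ⊗ τ_{≤ N+2} C`, when `C` is universally exact above `N`. -/
theorem pres_trunc_lTensor (N : ℕ) (hN : ∀ i, N ≤ i → UE d i) (p : ℕ)
    (cl : LinearMap.ker (dM d M p) →ₗ[A] H)
    (h : Pres (Bd (C := fun q => M ⊗[A] C q) (dM d M) p) (dM d M p) cl) :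
    Pres (Bd (C := fun q => M ⊗[A] Sb d (N + 1 + 1) q) (dtM d hd M (N + 1 + 1)) p)
      (dtM d hd M (N + 1 + 1) p)
      (cl ∘ₗ kmap (E := fun q => M ⊗[A] C q) (E' := fun q => M ⊗[A] Sb d (N + 1 + 1) q)
        (dM d M) (dtM d hd M (N + 1 + 1)) (inclM d M (N + 1 + 1))
        (dM_inclM d hd M (N + 1 + 1)) p) := by
  have hsubs : ∀ q, N + 1 + 1 < q → Subsingleton (M ⊗[A] Sb d (N + 1 + 1) q) := fun q hq => by
    haveI := subsingleton_Sb d hq
    infer_instance
  refine pres_of_sub (E := fun q => M ⊗[A] C q) (E' := fun q => M ⊗[A] Sb d (N + 1 + 1) q)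
    (dM d M) (dtM d hd M (N + 1 + 1)) (inclM d M (N + 1 + 1)) (dM_inclM d hd M (N + 1 + 1))
    (N + 1 + 1) ?_ ?_ ?_ hsubs ?_ p cl h
  · intro q
    rcases lt_trichotomy q (N + 1 + 1) with hq | hq | hq
    · exact (lTensor_bijective _ (subtype_bijective_of_eq_top _ (Sb_of_lt d hq)) M).1
    · subst hq
      exact lTensor_subtype_injective_of_eq _ _ (Sb_self d (N + 1 + 1)) M
        (lTensor_subtype_ker_injective hd (hN N le_rfl) (hN (N + 1) (by omega)) M)
    · haveI := hsubs q hq
      exact fun x y _ => Subsingleton.elim x y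
  · intro q hq
    exact (lTensor_bijective _ (subtype_bijective_of_eq_top _ (Sb_of_lt d hq)) M).2
  · intro x hx
    obtain ⟨w, hw⟩ := (hN (N + 1) (by omega) M x).mp hx
    let π : C (N + 1) →ₗ[A] Sb d (N + 1 + 1) (N + 1 + 1) :=
      (d (N + 1)).codRestrict (Sb d (N + 1 + 1) (N + 1 + 1)) (fun y => by
        rw [Sb_self]
        exact hd (N + 1) y)
    refine ⟨π.lTensor M w, ?_⟩
    rw [← hw]
    change ((incl d (N + 1 + 1) (N + 1 + 1)).lTensor M ∘ₗ π.lTensor M) w = _
    rw [← LinearMap.lTensor_comp]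
    rfl
  · intro q hq x hx
    obtain ⟨w, hw⟩ := (hN q (by omega) M x).mp hx
    exact ⟨w, hw⟩

/-- from the left-tensored to the right-tensored complex. -/
theorem pres_rTensor_of_lTensor (p : ℕ) (cl : LinearMap.ker (dM d M p) →ₗ[A] H)
    (h : Pres (Bd (C := fun q => M ⊗[A] C q) (dM d M) p) (dM d M p) cl) :
    ∃ cl' : LinearMap.ker ((d p).rTensor M) →ₗ[A] H,
      Pres (Bd (C := fun q => C q ⊗[A] M) (fun q => (d q).rTensor M) p) ((d p).rTensor M) cl' := by
  have hI : ∀ (q : ℕ) (x : C q ⊗[A] M), dM d M q ((TensorProduct.comm A (C q) M) x) =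
      (TensorProduct.comm A (C (q + 1)) M) ((d q).rTensor M x) := by
    intro q x
    induction x using TensorProduct.induction_on with
    | zero => simp
    | tmul c m => simp
    | add x y hx hy => simp only [map_add, hx, hy]
  exact ⟨_, pres_of_bijective (E := fun q => M ⊗[A] C q) (E' := fun q => C q ⊗[A] M)
    (dM d M) (fun q => (d q).rTensor M)
    (fun q => (TensorProduct.comm A (C q) M).toLinearMap) hI
    (fun q => (TensorProduct.comm A (C q) M).bijective) p cl h⟩

end tensor

section restrict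

variable {k K : Type u} [CommRing k] [CommRing K] [Algebra k K]
  {C1 C2 H : Type u} [AddCommGroup C1] [AddCommGroup C2] [AddCommGroup H]
  [Module k C1] [Module k C2] [Module k H] [Module K C1] [Module K C2] [Module K H]
  [IsScalarTower k K C1] [IsScalarTower k K C2] [IsScalarTower k K H]

/-- restriction of scalars of a presentation. -/
theorem Pres.restrictScalars {B : Submodule K C1} {g : C1 →ₗ[K] C2}
    {cl : LinearMap.ker g →ₗ[K] H} (h : Pres B g cl) :
    ∃ cl' : LinearMap.ker (g.restrictScalars k) →ₗ[k] H,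
      Pres (B.restrictScalars k) (g.restrictScalars k) cl' := by
  refine ⟨{ toFun := fun z => cl ⟨z.1, z.2⟩
            map_add' := fun a b => by
              rw [← map_add]
              rfl
            map_smul' := fun a z => by
              have h1 : (⟨(a • z : LinearMap.ker (g.restrictScalars k)).1,
                  (a • z : LinearMap.ker (g.restrictScalars k)).2⟩ : LinearMap.ker g) =
                  algebraMap k K a • (⟨z.1, z.2⟩ : LinearMap.ker g) := by
                apply Subtype.ext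
                change a • (z : C1) = algebraMap k K a • (z : C1)
                rw [algebraMap_smul]
              rw [h1, map_smul, algebraMap_smul]
              rfl }, ?_, ?_⟩
  · intro x
    obtain ⟨z, hz⟩ := h.1 x
    exact ⟨⟨z.1, z.2⟩, hz⟩
  · intro z
    exact h.2 ⟨z.1, z.2⟩

end restrict

end Groth.Agent.Lib.Helper38.CBTrunc
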