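import Mathlib.Topology.Separation.Hausdorff
import Mathlib.Topology.Compactness.Compact
import Mathlib.Topology.Compactness.LocallyCompact
import Mathlib.Topology.ShrinkingLemma

set_option autoImplicit false
universe u v

namespace Groth.Agent.Lib.Helper38

open Set Topology

/-- Separate a point of `Z` from a compact subset of `Z` not containing it, when points of `Z`
can be separated by opens of the ambient space. -/
theorem sep_point_compact {X : Type u} [TopologicalSpace X] (Z : Set X)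
    (hZsep : ∀ z ∈ Z, ∀ z' ∈ Z, z ≠ z' →
      ∃ A B : Set X, IsOpen A ∧ IsOpen B ∧ z ∈ A ∧ z' ∈ B ∧ Disjoint A B)
    {z : X} (hz : z ∈ Z) {D : Set X} (hD : IsCompact D) (hDZ : D ⊆ Z) (hzD : z ∉ D) :
    ∃ A B : Set X, IsOpen A ∧ IsOpen B ∧ z ∈ A ∧ D ⊆ B ∧ Disjoint A B := by
  refine hD.induction_on
    (p := fun D => ∃ A B : Set X, IsOpen A ∧ IsOpen B ∧ z ∈ A ∧ D ⊆ B ∧ Disjoint A B) ?_ ?_ ?_ ?_
  · exact ⟨univ, ∅, isOpen_univ, isOpen_empty, mem_univ _, subset_rfl, disjoint_empty _⟩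
  · rintro s t hst ⟨A, B, hA, hB, hzA, htB, hAB⟩
    exact ⟨A, B, hA, hB, hzA, hst.trans htB, hAB⟩
  · rintro s t ⟨A, B, hA, hB, hzA, hsB, hAB⟩ ⟨A', B', hA', hB', hzA', htB', hAB'⟩
    refine ⟨A ∩ A', B ∪ B', hA.inter hA', hB.union hB', ⟨hzA, hzA'⟩,
      union_subset_union hsB htB', ?_⟩
    rw [disjoint_union_right]
    exact ⟨hAB.mono_left inter_subset_left, hAB'.mono_left inter_subset_right⟩
  · intro d hd
    have hne : z ≠ d := fun h => hzD (h ▸ hd)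
    obtain ⟨A, B, hA, hB, hzA, hdB, hAB⟩ := hZsep z hz d (hDZ hd) hne
    exact ⟨B, mem_nhdsWithin_of_mem_nhds (hB.mem_nhds hdB), A, B, hA, hB, hzA, subset_rfl, hAB⟩

/-- A point of `Z` in an open `O` has an open neighbourhood `P ⊆ O` with `closure P ∩ Z ⊆ O`. -/
theorem exists_open_closure_inter_subset {X : Type u} [TopologicalSpace X] (Z : Set X)
    (hZ : IsCompact Z)
    (hZsep : ∀ z ∈ Z, ∀ z' ∈ Z, z ≠ z' →
      ∃ A B : Set X, IsOpen A ∧ IsOpen B ∧ z ∈ A ∧ z' ∈ B ∧ Disjoint A B)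
    {O : Set X} (hO : IsOpen O) {z : X} (hz : z ∈ Z) (hzO : z ∈ O) :
    ∃ P : Set X, IsOpen P ∧ z ∈ P ∧ P ⊆ O ∧ closure P ∩ Z ⊆ O := by
  have hD : IsCompact (Z \ O) := hZ.diff hO
  obtain ⟨A, B, hA, hB, hzA, hDB, hAB⟩ :=
    sep_point_compact Z hZsep hz hD sdiff_subset (fun h => h.2 hzO)
  refine ⟨A ∩ O, hA.inter hO, ⟨hzA, hzO⟩, inter_subset_right, ?_⟩
  rintro y ⟨hy, hyZ⟩
  by_contra hyO
  have hyB : y ∈ B := hDB ⟨hyZ, hyO⟩
  have hcl : closure (A ∩ O) ⊆ Bᶜ :=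
    closure_minimal (fun a ha hb => (hAB.le_bot ⟨ha.1, hb⟩)) hB.isClosed_compl
  exact hcl hy hyB

/-- Shrinking of an open cover of a compact set `Z` whose points are separated in the ambient space:
a finite family of opens `U' i ⊆ U i` covering `Z` with `closure (U' i) ∩ Z ⊆ U i`. -/
theorem exists_finite_shrinking {X : Type u} [TopologicalSpace X] (Z : Set X) (hZ : IsCompact Z)
    (hZsep : ∀ z ∈ Z, ∀ z' ∈ Z, z ≠ z' →
      ∃ A B : Set X, IsOpen A ∧ IsOpen B ∧ z ∈ A ∧ z' ∈ B ∧ Disjoint A B)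
    {ι : Type v} (U : ι → Set X) (hU : ∀ i, IsOpen (U i)) (hcov : Z ⊆ ⋃ i, U i) :
    ∃ (I₀ : Finset ι) (U' : ι → Set X), (∀ i, IsOpen (U' i)) ∧ (∀ i, U' i ⊆ U i) ∧
      (∀ i, closure (U' i) ∩ Z ⊆ U i) ∧ Z ⊆ ⋃ i ∈ I₀, U' i := by
  classical
  choose i hi using (fun z (hz : z ∈ Z) => mem_iUnion.mp (hcov hz))
  choose P hPo hzP hPU hPcl using
    (fun z (hz : z ∈ Z) => exists_open_closure_inter_subset Z hZ hZsep (hU (i z hz)) hz (hi z hz))
  obtain ⟨T, hT⟩ := hZ.elim_nhds_subcover' P (fun z hz => (hPo z hz).mem_nhds (hzP z hz))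
  refine ⟨T.image (fun z => i z.1 z.2),
    fun j => ⋃ z ∈ T.filter (fun z => i z.1 z.2 = j), P z.1 z.2, ?_, ?_, ?_, ?_⟩
  · intro j
    exact isOpen_biUnion fun z _ => hPo z.1 z.2
  · intro j
    refine iUnion₂_subset fun z hz => ?_
    rw [Finset.mem_filter] at hz
    exact hz.2 ▸ hPU z.1 z.2
  · intro j
    rw [Finset.closure_biUnion, iUnion₂_inter]
    refine iUnion₂_subset fun z hz => ?_
    rw [Finset.mem_filter] at hz
    exact hz.2 ▸ hPcl z.1 z.2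
  · intro y hy
    obtain ⟨z, hzT, hyz⟩ := mem_iUnion₂.mp (hT hy)
    refine mem_iUnion₂.mpr ⟨i z.1 z.2, Finset.mem_image_of_mem _ hzT, ?_⟩
    exact mem_iUnion₂.mpr ⟨z, Finset.mem_filter.mpr ⟨hzT, rfl⟩, hyz⟩

/-- Core refinement step: given closed `C i ⊇ U' i` with `C i ∩ Z ⊆ U i`, and opens `W t`
containing `(⋂ l, U (t l)) ∩ Z`, there is an open neighbourhood `N` of `Z` such that
`(⋂ l, U' (t l)) ∩ N ⊆ W t` for all tuples `t` in the finite index set `I₀`. -/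
theorem exists_open_nhds_refine {X : Type u} [TopologicalSpace X] {ι : Type v} (Z : Set X)
    (I₀ : Finset ι) (U U' C : ι → Set X) (hU'C : ∀ i, U' i ⊆ C i) (hC : ∀ i, IsClosed (C i))
    (hCZ : ∀ i, C i ∩ Z ⊆ U i) (p : ℕ) (W : (Fin (p + 1) → ι) → Set X) (hWo : ∀ t, IsOpen (W t))
    (hWZ : ∀ t, (⋂ l, U (t l)) ∩ Z ⊆ W t) :
    ∃ N : Set X, IsOpen N ∧ Z ⊆ N ∧
      ∀ t : Fin (p + 1) → ι, (∀ l, t l ∈ I₀) → (⋂ l, U' (t l)) ∩ N ⊆ W t := by
  classical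
  have hfin : {t : Fin (p + 1) → ι | ∀ l, t l ∈ I₀}.Finite := by
    have : {t : Fin (p + 1) → ι | ∀ l, t l ∈ I₀} = Set.pi univ (fun _ => (I₀ : Set ι)) := by
      ext t; simp [Set.mem_pi]
    rw [this]
    exact Set.Finite.pi fun _ => I₀.finite_toSet
  let N : X → Set X := fun x =>
    (⋂ t ∈ {t : Fin (p + 1) → ι | (∀ l, t l ∈ I₀) ∧ ∀ l, x ∈ C (t l)}, W t) ∩
      ⋂ i ∈ {i : ι | i ∈ I₀ ∧ x ∉ C i}, (C i)ᶜ
  have hNo : ∀ x, IsOpen (N x) := by
    intro x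
    refine IsOpen.inter ?_ ?_
    · exact (hfin.subset fun t ht => ht.1).isOpen_biInter fun t _ => hWo t
    · exact (I₀.finite_toSet.subset fun i hi => hi.1).isOpen_biInter
        fun i _ => (hC i).isOpen_compl
  have hxN : ∀ x ∈ Z, x ∈ N x := by
    intro x hx
    refine ⟨mem_iInter₂.mpr fun t ht => ?_, mem_iInter₂.mpr fun i hi => hi.2⟩
    exact hWZ t ⟨mem_iInter.mpr fun l => hCZ _ ⟨ht.2 l, hx⟩, hx⟩
  refine ⟨⋃ x ∈ Z, N x, isOpen_biUnion fun x _ => hNo x,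
    fun x hx => mem_iUnion₂.mpr ⟨x, hx, hxN x hx⟩, ?_⟩
  rintro t ht y ⟨hyU, hyN⟩
  obtain ⟨x, hxZ, hyx⟩ := mem_iUnion₂.mp hyN
  have hxC : ∀ l, x ∈ C (t l) := by
    intro l
    by_contra hl
    have := mem_iInter₂.mp hyx.2 (t l) ⟨ht l, hl⟩
    exact this (hU'C _ (mem_iInter.mp hyU l))
  exact mem_iInter₂.mp hyx.1 t ⟨ht, hxC⟩

set_option maxHeartbeats 400000 in
/-- Shrinking of an open cover of a compact subset of a locally compact space by a finite family of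
opens `U' i` contained in compact sets `K i ⊆ U i`. -/
theorem exists_finite_compact_shrinking {X : Type u} [TopologicalSpace X] [LocallyCompactSpace X]
    (Z : Set X) (hZ : IsCompact Z)
    {ι : Type v} (U : ι → Set X) (hU : ∀ i, IsOpen (U i)) (hcov : Z ⊆ ⋃ i, U i) :
    ∃ (I₀ : Finset ι) (U' K : ι → Set X), (∀ i, IsOpen (U' i)) ∧ (∀ i, U' i ⊆ K i) ∧
      (∀ i, IsCompact (K i)) ∧ (∀ i, K i ⊆ U i) ∧ Z ⊆ ⋃ i ∈ I₀, U' i := by
  classical
  choose i hi using (fun z (hz : z ∈ Z) => mem_iUnion.mp (hcov hz))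
  choose K hKc hzK hKU using
    (fun z (hz : z ∈ Z) => exists_compact_subset (hU (i z hz)) (hi z hz))
  obtain ⟨T, hT⟩ := hZ.elim_nhds_subcover' (fun z hz => interior (K z hz))
    (fun z hz => isOpen_interior.mem_nhds (hzK z hz))
  refine ⟨T.image (fun z => i z.1 z.2),
    fun j => ⋃ z ∈ T.filter (fun z => i z.1 z.2 = j), interior (K z.1 z.2),
    fun j => ⋃ z ∈ T.filter (fun z => i z.1 z.2 = j), K z.1 z.2, ?_, ?_, ?_, ?_, ?_⟩
  · intro j
    exact isOpen_biUnion fun z _ => isOpen_interior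
  · intro j
    intro y hy
    obtain ⟨z, hz, hyz⟩ := mem_iUnion₂.mp hy
    exact mem_iUnion₂.mpr ⟨z, hz, interior_subset hyz⟩
  · intro j
    have := Finset.isCompact_biUnion (T.filter (fun z => i z.1 z.2 = j))
      (f := fun z => K z.1 z.2) (fun z _ => hKc z.1 z.2)
    exact this
  · intro j
    refine iUnion₂_subset fun z hz => ?_
    rw [Finset.mem_filter] at hz
    exact hz.2 ▸ hKU z.1 z.2
  · intro y hy
    obtain ⟨z, hzT, hyz⟩ := mem_iUnion₂.mp (hT hy)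
    refine mem_iUnion₂.mpr ⟨i z.1 z.2, Finset.mem_image_of_mem _ hzT, ?_⟩
    exact mem_iUnion₂.mpr ⟨z, Finset.mem_filter.mpr ⟨hzT, rfl⟩, hyz⟩

end Groth.Agent.Lib.Helper38
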