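import Groth.Agent.Lib.Helper38.CechLin

/-!
# Čech complexes of Leray-acyclic covers, linearly over the base (helper38)

Generalizes the class map `CechLin.cl` from covers with affine finite intersections (and quasi-coherent
modules) to arbitrary covers which are acyclic for the module: `clA : ker (dC p) →ₗ[A] H^p(Z, M)`,
surjective with kernel the coboundaries.
-/

set_option autoImplicit false
universe u
open AlgebraicGeometry CategoryTheory Limits TopologicalSpace Opposite

namespace Groth.Agent.Lib.Helper38.CechAcyc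

open Groth.Agent.Lib.Helper49 Groth.Agent.Lib.Helper38.SecMod Groth.Agent.Lib.Helper1.Cech
  Groth.Agent.Lib.Helper38.CechLin
  Groth.Agent.Lib.Helper17.CechHHLin Groth.Agent.Lib.Helper17.AbHomology
  Groth.Agent.Lib.Helper17.LerayNat Groth.Agent.S0464

section single

variable {A : Type u} [CommRing A] {Z : Scheme.{u}} (s : Z ⟶ Spec (CommRingCat.of A))
  (M : Z.Modules) {ι : Type u} (U : ι → Z.Opens)
  (hU : iSup U = ⊤) (hF : Acyc (X := Z.toTopCat) U (Coh.toAb M))

/-- the class of a cycle in cohomology. -/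
noncomputable def clK (p : ℕ) : (Kc M U).cycles p →+ Coh.HH Z M p :=
  (cechToH (X := Z.toTopCat) U hU p (Coh.toAb M) hF).toAddMonoidHom.comp
    ((Kc M U).homologyπ p).hom

theorem clK_apply (p : ℕ) (z : (Kc M U).cycles p) :
    clK M U hU hF p z =
      cechToH (X := Z.toTopCat) U hU p (Coh.toAb M) hF ((Kc M U).homologyπ p z) := rfl

theorem clK_surjective (p : ℕ) : Function.Surjective (clK M U hU hF p) :=
  (cechToH (X := Z.toTopCat) U hU p (Coh.toAb M) hF).surjective.comp
    (homologyπ_surjective (Kc M U) p)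

theorem clK_cyclesMap (a : A) (p : ℕ) (z : (Kc M U).cycles p) :
    clK M U hU hF p (HomologicalComplex.cyclesMap (actK s M U a) p z) =
      Coh.toGlobal s a • clK M U hU hF p z := by
  rw [clK_apply, clK_apply]
  have h1 := cechToH_naturality (X := Z.toTopCat) U hU p (Coh.smulAb M (Coh.toGlobal s a)) hF hF
    ((Kc M U).homologyπ p z)
  refine Eq.trans ?_ h1
  congr 1
  change _ = HomologicalComplex.homologyMap (actK s M U a) p ((Kc M U).homologyπ p z)
  rw [← ConcreteCategory.comp_apply, ← ConcreteCategory.comp_apply,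
    HomologicalComplex.homologyπ_naturality]

/-- the class of a cocycle (in product form) in cohomology, linear over the base. -/
noncomputable def clA (p : ℕ) :
    letI : Module A (Coh.HH Z M p) := Module.compHom _ (Coh.toGlobal s)
    LinearMap.ker (dC s M U A p) →ₗ[A] Coh.HH Z M p :=
  letI : Module A (Coh.HH Z M p) := Module.compHom _ (Coh.toGlobal s)
  { toFun := fun z => clK M U hU hF p ((cycEquiv s M U A p).symm z)
    map_add' := fun a b => by rw [map_add, map_add]
    map_smul' := fun a z => by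
      obtain ⟨w, rfl⟩ := (cycEquiv s M U A p).surjective z
      rw [← cycEquiv_cyclesMap, AddEquiv.symm_apply_apply, AddEquiv.symm_apply_apply,
        clK_cyclesMap]
      rfl }

theorem clA_cycEquiv (p : ℕ) (w : (Kc M U).cycles p) :
    clA s M U hU hF p (cycEquiv s M U A p w) = clK M U hU hF p w := by
  change clK M U hU hF p ((cycEquiv s M U A p).symm (cycEquiv s M U A p w)) = _
  rw [AddEquiv.symm_apply_apply]

theorem clA_surjective (p : ℕ) : Function.Surjective (clA s M U hU hF p) := by
  intro y
  obtain ⟨w, rfl⟩ := clK_surjective M U hU hF p y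
  exact ⟨cycEquiv s M U A p w, clA_cycEquiv s M U hU hF p w⟩

theorem clK_eq_zero_iff (p i : ℕ) (hi : (ComplexShape.up ℕ).prev p = i) (w : (Kc M U).cycles p) :
    clK M U hU hF p w = 0 ↔ ∃ b : (Kc M U).X i, (Kc M U).d i p b = (Kc M U).iCycles p w := by
  rw [clK_apply, ← homologyπ_eq_zero_iff (Kc M U) i p hi]
  exact map_eq_zero_iff _ (cechToH (X := Z.toTopCat) U hU p (Coh.toAb M) hF).injective

theorem clA_eq_zero_iff_succ (q : ℕ) (z : LinearMap.ker (dC s M U A (q + 1))) :
    clA s M U hU hF (q + 1) z = 0 ↔ ∃ b : Cq s M U q, dC s M U A q b = z := by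
  obtain ⟨w, rfl⟩ := (cycEquiv s M U A (q + 1)).surjective z
  rw [clA_cycEquiv, clK_eq_zero_iff M U hU hF (q + 1) q (by simp)]
  constructor
  · rintro ⟨b, hb⟩
    refine ⟨toC s M U q b, ?_⟩
    rw [← toC_d, hb]
    rfl
  · rintro ⟨b, hb⟩
    obtain ⟨c, rfl⟩ := (toC s M U q).surjective b
    refine ⟨c, (toC s M U (q + 1)).injective ?_⟩
    rw [toC_d s M U A, hb]
    rfl

theorem clA_eq_zero_iff_zero (z : LinearMap.ker (dC s M U A 0)) :
    clA s M U hU hF 0 z = 0 ↔ z = 0 := by
  obtain ⟨w, rfl⟩ := (cycEquiv s M U A 0).surjective z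
  rw [clA_cycEquiv, clK_eq_zero_iff M U hU hF 0 0 (by simp)]
  have hd : (Kc M U).d 0 0 = 0 := (Kc M U).shape 0 0 (by simp)
  constructor
  · rintro ⟨b, hb⟩
    have h0 : (Kc M U).iCycles 0 w = 0 := by
      rw [← hb, hd]
      rfl
    have : w = 0 := iCycles_injective (Kc M U) 0 (h0.trans (map_zero _).symm)
    rw [this, map_zero]
  · intro hw
    have : w = 0 := (cycEquiv s M U A 0).injective (hw.trans (map_zero _).symm)
    refine ⟨0, ?_⟩
    rw [this, map_zero, map_zero]

end single

end Groth.Agent.Lib.Helper38.CechAcyc
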