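import Groth.Agent.Lib.Helper38.SecRestrict
import Groth.Agent.Lib.Helper1.Cech.Localizing
import Groth.Agent.Lib.Helper17.CechHHLin
import Groth.Agent.Lib.Helper17.AbHomology

/-!
# Čech complexes in product form, linear over the base, and flat base change of cohomology (helper38)

For `s : Z ⟶ Spec A`, a module `M` on `Z` and a family of opens `U`, `Cq s M U q` is the group of
Čech `q`-cochains as a product of `Sec s M (U_{x 0} ∩ ⋯ ∩ U_{x q})`, with differential `dC`
(linear over the base) and the class map `cl : ker (dC p) →ₗ[A] H^p(Z, M)` (for `M` quasi-coherent and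
a cover with affine finite intersections), surjective with kernel the coboundaries.
`exists_isBaseChange_HH`: for a pullback square `X' = X ×_k K` with `K` flat over `k`, and a finite cover
of `X` with affine finite intersections (also upstairs), there is a `k`-linear map
`H^p(X, F) → H^p(X', h^* F)` which is a base change along `k → K`.
-/

set_option autoImplicit false
universe u
open AlgebraicGeometry CategoryTheory Limits TopologicalSpace Opposite TensorProduct

namespace Groth.Agent.Lib.Helper38.CechLin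

open Groth.Agent.Lib.Helper49 Groth.Agent.Lib.Helper38.SecMod Groth.Agent.Lib.Helper1.Cech
  Groth.Agent.Lib.Helper38.PullSBC Groth.Agent.Lib.Helper38.SecRestrict
  Groth.Agent.Lib.Helper11.PullbackBasis
  Groth.Agent.Lib.Helper17.CechHHLin Groth.Agent.Lib.Helper17.AbHomology
  Groth.Agent.Lib.Helper17.LerayNat

section single

variable {A : Type u} [CommRing A] {Z : Scheme.{u}} (s : Z ⟶ Spec (CommRingCat.of A))
  (M : Z.Modules) {ι : Type u} (U : ι → Z.Opens)

/-- the underlying presheaf of abelian groups. -/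
noncomputable abbrev P : (Opens Z.toTopCat)ᵒᵖ ⥤ AddCommGrpCat.{u} := (Coh.toAb M).obj

/-- the Čech complex. -/
noncomputable abbrev Kc : CochainComplex AddCommGrpCat.{u} ℕ := K (C := Opens Z.toTopCat) U (P M)

/-- the intersection `U_{x 0} ∩ ⋯ ∩ U_{x q}` as an open of the scheme. -/
noncomputable abbrev int {q : ℕ} (x : Fin (q + 1) → ι) : Z.Opens :=
  inter (C := Opens Z.toTopCat) U x

/-- Čech cochains in product form, with module structures over the base. -/
abbrev Cq (q : ℕ) : Type u := ∀ x : Fin (q + 1) → ι, Sec s M (int U x)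

/-- components of a Čech cochain. -/
noncomputable def toC (q : ℕ) : (Kc M U).X q ≃+ Cq s M U q where
  toFun c x := toSec s M _ (comp (C := Opens Z.toTopCat) U (P M) q x c)
  invFun t := (exists_mk (C := Opens Z.toTopCat) (U := U) (P := P M)
    (fun x => ofSec s M _ (t x))).choose
  left_inv c := by
    apply Groth.Agent.Lib.Helper1.Cech.ext
    intro x
    exact (exists_mk (C := Opens Z.toTopCat) (U := U) (P := P M) _).choose_spec x
  right_inv t := by
    funext x
    exact (exists_mk (C := Opens Z.toTopCat) (U := U) (P := P M)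
      (fun x => ofSec s M _ (t x))).choose_spec x
  map_add' a b := by
    funext x
    exact map_add (comp (C := Opens Z.toTopCat) U (P M) q x) a b

theorem toC_apply (q : ℕ) (c : (Kc M U).X q) (x : Fin (q + 1) → ι) :
    ofSec s M _ (toC s M U q c x) = comp (C := Opens Z.toTopCat) U (P M) q x c := rfl

variable (k : Type u) [CommRing k] [Algebra k A]

/-- restriction of sections as a linear map over the base. -/
noncomputable def resL {O O' : Z.Opens} (h : O' ≤ O) : Sec s M O →ₗ[k] Sec s M O' where
  toFun t := toSec s M O' (mres M h (ofSec s M O t))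
  map_add' a b := map_add (mres M h) a b
  map_smul' a t := by
    change mres M h (secMap s O (algebraMap k A a) • ofSec s M O t) =
      secMap s O' (algebraMap k A a) • mres M h (ofSec s M O t)
    rw [mres_smul, fres_secMap]

theorem resL_apply {O O' : Z.Opens} (h : O' ≤ O) (t : Sec s M O) :
    ofSec s M O' (resL s M k h t) = mres M h (ofSec s M O t) := rfl

/-- the Čech differential in product form. -/
noncomputable def dC (q : ℕ) : Cq s M U q →ₗ[k] Cq s M U (q + 1) :=
  LinearMap.pi (fun x => ∑ j : Fin (q + 2), (-1 : ℤ) ^ (j : ℕ) •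
    (resL s M k (leOfHom (face (C := Opens Z.toTopCat) U x j))).comp
      (LinearMap.proj (x ∘ j.succAbove)))

theorem dC_apply (q : ℕ) (c : Cq s M U q) (x : Fin (q + 2) → ι) :
    dC s M U k q c x = ∑ j : Fin (q + 2), (-1 : ℤ) ^ (j : ℕ) •
      resL s M k (leOfHom (face (C := Opens Z.toTopCat) U x j)) (c (x ∘ j.succAbove)) := by
  simp [dC]

theorem toC_d (q : ℕ) (c : (Kc M U).X q) :
    toC s M U (q + 1) ((Kc M U).d q (q + 1) c) = dC s M U k q (toC s M U q c) := by
  funext x
  rw [dC_apply]
  exact comp_d (C := Opens Z.toTopCat) (U := U) (P := P M) c x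

theorem dC_dC (q : ℕ) (b : Cq s M U q) : dC s M U k (q + 1) (dC s M U k q b) = 0 := by
  obtain ⟨c, rfl⟩ := (toC s M U q).surjective b
  rw [← toC_d, ← toC_d]
  have h0 : (Kc M U).d (q + 1) (q + 1 + 1) ((Kc M U).d q (q + 1) c) = 0 := by
    rw [← ConcreteCategory.comp_apply, HomologicalComplex.d_comp_d]
    rfl
  rw [h0, map_zero]

theorem d_eq_zero_iff (p : ℕ) (c : (Kc M U).X p) :
    (Kc M U).d p (p + 1) c = 0 ↔ dC s M U k p (toC s M U p c) = 0 := by
  rw [← toC_d]
  exact (map_eq_zero_iff _ (toC s M U (p + 1)).injective).symm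

/-- cocycles of the Čech complex as the kernel of the differential in product form. -/
noncomputable def cycHom (p : ℕ) : (Kc M U).cycles p →+ LinearMap.ker (dC s M U k p) where
  toFun z := ⟨toC s M U p ((Kc M U).iCycles p z), by
    rw [LinearMap.mem_ker, ← toC_d, d_iCycles, map_zero]⟩
  map_zero' := by
    apply Subtype.ext
    change toC s M U p ((Kc M U).iCycles p 0) = 0
    rw [map_zero, map_zero]
  map_add' a b := by
    apply Subtype.ext
    change toC s M U p ((Kc M U).iCycles p (a + b)) = _
    rw [map_add, map_add]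
    rfl

theorem cycHom_val (p : ℕ) (z : (Kc M U).cycles p) :
    (cycHom s M U k p z : Cq s M U p) = toC s M U p ((Kc M U).iCycles p z) := rfl

theorem cycHom_bijective (p : ℕ) : Function.Bijective (cycHom s M U k p) := by
  constructor
  · intro a b hab
    have h1 := congrArg Subtype.val hab
    rw [cycHom_val, cycHom_val] at h1
    exact iCycles_injective (Kc M U) p ((toC s M U p).injective h1)
  · intro z
    obtain ⟨c, hc⟩ := (toC s M U p).surjective z.1
    have hd : (Kc M U).d p (p + 1) c = 0 := by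
      rw [d_eq_zero_iff s M U k, hc]
      exact z.2
    obtain ⟨w, hw⟩ := exists_cycle (Kc M U) p c hd
    refine ⟨w, Subtype.ext ?_⟩
    rw [cycHom_val, hw, hc]

/-- cocycles of the Čech complex are the kernel of the differential in product form. -/
noncomputable def cycEquiv (p : ℕ) : (Kc M U).cycles p ≃+ LinearMap.ker (dC s M U k p) :=
  AddEquiv.ofBijective (cycHom s M U k p) (cycHom_bijective s M U k p)

/-- the endomorphism of the Čech complex given by multiplication by a scalar of the base. -/
noncomputable def actK (a : A) : Kc M U ⟶ Kc M U :=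
  (cechComplexFunctor (C := Opens Z.toTopCat) U).map (Coh.smulAb M (Coh.toGlobal s a)).hom

theorem toC_actK (a : A) (p : ℕ) (c : (Kc M U).X p) :
    toC s M U p ((actK s M U a).f p c) = a • toC s M U p c := by
  funext x
  have h1 := comp_map (C := Opens Z.toTopCat) (U := U) (Coh.smulAb M (Coh.toGlobal s a)).hom p x c
  exact h1

theorem cycEquiv_cyclesMap (a : A) (p : ℕ) (z : (Kc M U).cycles p) :
    cycEquiv s M U A p (HomologicalComplex.cyclesMap (actK s M U a) p z) =
      a • cycEquiv s M U A p z := by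
  apply Subtype.ext
  change toC s M U p ((Kc M U).iCycles p (HomologicalComplex.cyclesMap (actK s M U a) p z)) =
    a • toC s M U p ((Kc M U).iCycles p z)
  rw [← toC_actK]
  congr 1
  rw [← ConcreteCategory.comp_apply, HomologicalComplex.cyclesMap_i]
  rfl

variable [M.IsQuasicoherent] (hU : iSup U = ⊤)
  (hAff : ∀ (p : ℕ) (a : Fin (p + 1) → ι), IsAffineOpen (⨅ j, U (a j)))

/-- the class of a cycle in cohomology. -/
noncomputable def clK (p : ℕ) : (Kc M U).cycles p →+ Coh.HH Z M p :=
  (cechToHH M U hU hAff p).toAddMonoidHom.comp ((Kc M U).homologyπ p).hom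

theorem clK_apply (p : ℕ) (z : (Kc M U).cycles p) :
    clK M U hU hAff p z = cechToHH M U hU hAff p ((Kc M U).homologyπ p z) := rfl

theorem clK_surjective (p : ℕ) : Function.Surjective (clK M U hU hAff p) :=
  (cechToHH M U hU hAff p).surjective.comp (homologyπ_surjective (Kc M U) p)

theorem clK_cyclesMap (a : A) (p : ℕ) (z : (Kc M U).cycles p) :
    clK M U hU hAff p (HomologicalComplex.cyclesMap (actK s M U a) p z) =
      Coh.toGlobal s a • clK M U hU hAff p z := by
  rw [clK_apply, clK_apply, ← cechToHH_smul]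
  congr 1
  change _ = HomologicalComplex.homologyMap (actK s M U a) p ((Kc M U).homologyπ p z)
  rw [← ConcreteCategory.comp_apply, ← ConcreteCategory.comp_apply,
    HomologicalComplex.homologyπ_naturality]

/-- the class of a cocycle (in product form) in cohomology, linear over the base. -/
noncomputable def cl (p : ℕ) :
    letI : Module A (Coh.HH Z M p) := Module.compHom _ (Coh.toGlobal s)
    LinearMap.ker (dC s M U A p) →ₗ[A] Coh.HH Z M p :=
  letI : Module A (Coh.HH Z M p) := Module.compHom _ (Coh.toGlobal s)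
  { toFun := fun z => clK M U hU hAff p ((cycEquiv s M U A p).symm z)
    map_add' := fun a b => by rw [map_add, map_add]
    map_smul' := fun a z => by
      obtain ⟨w, rfl⟩ := (cycEquiv s M U A p).surjective z
      rw [← cycEquiv_cyclesMap, AddEquiv.symm_apply_apply, AddEquiv.symm_apply_apply,
        clK_cyclesMap]
      rfl }

theorem cl_cycEquiv (p : ℕ) (w : (Kc M U).cycles p) :
    cl s M U hU hAff p (cycEquiv s M U A p w) = clK M U hU hAff p w := by
  change clK M U hU hAff p ((cycEquiv s M U A p).symm (cycEquiv s M U A p w)) = _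
  rw [AddEquiv.symm_apply_apply]

theorem cl_surjective (p : ℕ) : Function.Surjective (cl s M U hU hAff p) := by
  intro y
  obtain ⟨w, rfl⟩ := clK_surjective M U hU hAff p y
  exact ⟨cycEquiv s M U A p w, cl_cycEquiv s M U hU hAff p w⟩

theorem clK_eq_zero_iff (p i : ℕ) (hi : (ComplexShape.up ℕ).prev p = i) (w : (Kc M U).cycles p) :
    clK M U hU hAff p w = 0 ↔ ∃ b : (Kc M U).X i, (Kc M U).d i p b = (Kc M U).iCycles p w := by
  rw [clK_apply, ← homologyπ_eq_zero_iff (Kc M U) i p hi]
  exact map_eq_zero_iff _ (cechToHH M U hU hAff p).injective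

theorem cl_eq_zero_iff_succ (q : ℕ) (z : LinearMap.ker (dC s M U A (q + 1))) :
    cl s M U hU hAff (q + 1) z = 0 ↔ ∃ b : Cq s M U q, dC s M U A q b = z := by
  obtain ⟨w, rfl⟩ := (cycEquiv s M U A (q + 1)).surjective z
  rw [cl_cycEquiv, clK_eq_zero_iff M U hU hAff (q + 1) q (by simp)]
  constructor
  · rintro ⟨b, hb⟩
    refine ⟨toC s M U q b, ?_⟩
    rw [← toC_d, hb]
    rfl
  · rintro ⟨b, hb⟩
    obtain ⟨c, rfl⟩ := (toC s M U q).surjective b
    refine ⟨c, (toC s M U (q + 1)).injective ?_⟩
    rw [toC_d s M U A, hb]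
    rfl

theorem cl_eq_zero_iff_zero (z : LinearMap.ker (dC s M U A 0)) :
    cl s M U hU hAff 0 z = 0 ↔ z = 0 := by
  obtain ⟨w, rfl⟩ := (cycEquiv s M U A 0).surjective z
  rw [cl_cycEquiv, clK_eq_zero_iff M U hU hAff 0 0 (by simp)]
  have hd : (Kc M U).d 0 0 = 0 := (Kc M U).shape 0 0 (by simp)
  constructor
  · rintro ⟨b, hb⟩
    have h0 : (Kc M U).iCycles 0 w = 0 := by
      rw [← hb, hd]
      rfl
    have : w = 0 := iCycles_injective (Kc M U) 0 (h0.trans (map_zero _).symm)
    rw [this, map_zero]
  · intro hw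
    have : w = 0 := (cycEquiv s M U A 0).injective (hw.trans (map_zero _).symm)
    refine ⟨0, ?_⟩
    rw [this, map_zero, map_zero]

end single

section compare

variable {k K : Type u} [CommRing k] [CommRing K] [Algebra k K]
  {X X' : Scheme.{u}} (h : X' ⟶ X) (f : X ⟶ Spec (CommRingCat.of k))
  (g' : X' ⟶ Spec (CommRingCat.of K))
  (comm : h ≫ f = g' ≫ Spec.map (CommRingCat.ofHom (algebraMap k K)))
  (F : X.Modules) {ι : Type u} (U : ι → X.Opens)

theorem preimage_int {q : ℕ} (x : Fin (q + 1) → ι) :
    h ⁻¹ᵁ (int U x) = int (fun i => h ⁻¹ᵁ U i) x := by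
  rw [int, int, inter_eq_iInf, inter_eq_iInf]
  apply Opens.ext
  change h.base ⁻¹' ((⨅ a, U (x a) : X.Opens) : Set X) = ((⨅ a, h ⁻¹ᵁ U (x a) : X'.Opens) : Set X')
  rw [Opens.coe_iInf, Opens.coe_iInf, Set.preimage_iInter]
  rfl

theorem kap_mres {G : X.Modules} {U₁ U₂ : X.Opens} {W₁ W₂ : X'.Opens} (hU : U₂ ≤ U₁)
    (hW : W₂ ≤ W₁) (h1 : W₁ ≤ h ⁻¹ᵁ U₁) (h2 : W₂ ≤ h ⁻¹ᵁ U₂) (t : Γ(G, U₁)) :
    kap h h2 G (mres G hU t) = mres ((Scheme.Modules.pullback h).obj G) hW (kap h h1 G t) := by
  rw [kap_apply, kap_apply, ← pullS_res, mres_mres, mres_mres]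

/-- the comparison map between the Čech complexes. -/
noncomputable def phi (q : ℕ) :
    Cq f F U q →ₗ[k] Cq g' ((Scheme.Modules.pullback h).obj F) (fun i => h ⁻¹ᵁ U i) q :=
  LinearMap.pi (fun x => (kapK h f g' comm (preimage_int h U x).ge F).comp (LinearMap.proj x))

theorem phi_apply (q : ℕ) (c : Cq f F U q) (x : Fin (q + 1) → ι) :
    phi h f g' comm F U q c x = kapK h f g' comm (preimage_int h U x).ge F (c x) := rfl

theorem phi_dC (q : ℕ) (c : Cq f F U q) :
    phi h f g' comm F U (q + 1) (dC f F U k q c) =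
      dC g' ((Scheme.Modules.pullback h).obj F) (fun i => h ⁻¹ᵁ U i) K q
        (phi h f g' comm F U q c) := by
  funext x
  rw [phi_apply, dC_apply, dC_apply, map_sum]
  refine Finset.sum_congr rfl (fun j _ => ?_)
  rw [map_zsmul]
  congr 1
  rw [phi_apply]
  exact kap_mres h _ _ _ _ _

end compare

section main

variable {k K : Type u} [CommRing k] [CommRing K] [Algebra k K] [Module.Flat k K]
  {X X' : Scheme.{u}} (h : X' ⟶ X) (f : X ⟶ Spec (CommRingCat.of k))
  (g' : X' ⟶ Spec (CommRingCat.of K))
  (sq : IsPullback h g' f (Spec.map (CommRingCat.ofHom (algebraMap k K))))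
  (F : X.Modules) [F.IsQuasicoherent] {ι : Type u} [Finite ι] (U : ι → X.Opens)
  (hU : iSup U = ⊤) (hAff : ∀ (p : ℕ) (a : Fin (p + 1) → ι), IsAffineOpen (⨅ j, U (a j)))
  (hAff' : ∀ (p : ℕ) (a : Fin (p + 1) → ι), IsAffineOpen (⨅ j, h ⁻¹ᵁ U (a j)))

omit [Module.Flat k K] in
include sq hAff in
theorem isBaseChange_phi (q : ℕ) : IsBaseChange K (phi h f g' sq.w F U q) := by
  classical
  haveI := Fintype.ofFinite ι
  refine BCAlg.isBaseChange_pi
    (fun x => kapK h f g' sq.w (preimage_int h U x).ge F) (fun x => ?_)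
  refine isBaseChange_kapK_of_isAffineOpen' h f g' sq F ?_ (preimage_int h U x).symm _
  rw [int, inter_eq_iInf]
  exact hAff q x

include sq hU hAff hAff' in
/-- **Flat base change for cohomology** (existence of a base change map), via Čech complexes. -/
theorem exists_isBaseChange_HH (p : ℕ) :
    letI : Module k (Coh.HH X F p) := Module.compHom _ (Coh.toGlobal f)
    letI : Module K (Coh.HH X' ((Scheme.Modules.pullback h).obj F) p) :=
      Module.compHom _ (Coh.toGlobal g')
    letI : Module k (Coh.HH X' ((Scheme.Modules.pullback h).obj F) p) :=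
      Module.compHom _ (algebraMap k K)
    haveI : IsScalarTower k K (Coh.HH X' ((Scheme.Modules.pullback h).obj F) p) :=
      IsScalarTower.of_compHom _ _ _
    ∃ ψ : Coh.HH X F p →ₗ[k] Coh.HH X' ((Scheme.Modules.pullback h).obj F) p,
      IsBaseChange K ψ := by
  letI : Module k (Coh.HH X F p) := Module.compHom _ (Coh.toGlobal f)
  letI : Module K (Coh.HH X' ((Scheme.Modules.pullback h).obj F) p) :=
    Module.compHom _ (Coh.toGlobal g')
  letI : Module k (Coh.HH X' ((Scheme.Modules.pullback h).obj F) p) :=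
    Module.compHom _ (algebraMap k K)
  haveI : IsScalarTower k K (Coh.HH X' ((Scheme.Modules.pullback h).obj F) p) :=
    IsScalarTower.of_compHom _ _ _
  haveI : ((Scheme.Modules.pullback h).obj F).IsQuasicoherent :=
    Groth.Agent.Lib.Helper16.FlatPull.isQuasicoherent_pullback h F
  have hU' : iSup (fun i => h ⁻¹ᵁ U i) = ⊤ := by
    rw [← Scheme.Hom.preimage_iSup, hU]
    rfl
  cases p with
  | zero =>
    obtain ⟨ψ, hψ, -⟩ := BCAlg.exists_isBaseChange_homology (k := k) (K := K)
      (0 : Cq f F U 0 →ₗ[k] Cq f F U 0) (dC f F U k 0)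
      (0 : Cq g' ((Scheme.Modules.pullback h).obj F) (fun i => h ⁻¹ᵁ U i) 0 →ₗ[K] _)
      (dC g' ((Scheme.Modules.pullback h).obj F) (fun i => h ⁻¹ᵁ U i) K 0)
      (phi h f g' sq.w F U 0) (phi h f g' sq.w F U 0) (phi h f g' sq.w F U 1)
      (isBaseChange_phi h f g' sq F U hAff 0) (isBaseChange_phi h f g' sq F U hAff 0)
      (isBaseChange_phi h f g' sq F U hAff 1)
      (fun b => by simp) (fun b => by simp) (fun x => by simp)
      (fun x => phi_dC h f g' sq.w F U 0 x)
      (cl f F U hU hAff 0)
      (cl g' ((Scheme.Modules.pullback h).obj F) (fun i => h ⁻¹ᵁ U i) hU' hAff' 0)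
      (cl_surjective f F U hU hAff 0)
      (cl_surjective g' ((Scheme.Modules.pullback h).obj F) (fun i => h ⁻¹ᵁ U i) hU' hAff' 0)
      (fun z => by
        rw [cl_eq_zero_iff_zero]
        constructor
        · rintro rfl
          exact ⟨0, rfl⟩
        · rintro ⟨b, hb⟩
          exact Subtype.ext hb.symm)
      (fun z => by
        rw [cl_eq_zero_iff_zero]
        constructor
        · rintro rfl
          exact ⟨0, rfl⟩
        · rintro ⟨b, hb⟩
          exact Subtype.ext hb.symm)
    exact ⟨ψ, hψ⟩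
  | succ q =>
    obtain ⟨ψ, hψ, -⟩ := BCAlg.exists_isBaseChange_homology (k := k) (K := K)
      (dC f F U k q) (dC f F U k (q + 1))
      (dC g' ((Scheme.Modules.pullback h).obj F) (fun i => h ⁻¹ᵁ U i) K q)
      (dC g' ((Scheme.Modules.pullback h).obj F) (fun i => h ⁻¹ᵁ U i) K (q + 1))
      (phi h f g' sq.w F U q) (phi h f g' sq.w F U (q + 1)) (phi h f g' sq.w F U (q + 1 + 1))
      (isBaseChange_phi h f g' sq F U hAff q) (isBaseChange_phi h f g' sq F U hAff (q + 1))
      (isBaseChange_phi h f g' sq F U hAff (q + 1 + 1))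
      (fun b => dC_dC f F U k q b)
      (fun b => dC_dC g' ((Scheme.Modules.pullback h).obj F) (fun i => h ⁻¹ᵁ U i) K q b)
      (fun x => phi_dC h f g' sq.w F U q x)
      (fun x => phi_dC h f g' sq.w F U (q + 1) x)
      (cl f F U hU hAff (q + 1))
      (cl g' ((Scheme.Modules.pullback h).obj F) (fun i => h ⁻¹ᵁ U i) hU' hAff' (q + 1))
      (cl_surjective f F U hU hAff (q + 1))
      (cl_surjective g' ((Scheme.Modules.pullback h).obj F) (fun i => h ⁻¹ᵁ U i) hU' hAff' (q + 1))
      (fun z => cl_eq_zero_iff_succ f F U hU hAff q z)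
      (fun z => cl_eq_zero_iff_succ g' ((Scheme.Modules.pullback h).obj F)
        (fun i => h ⁻¹ᵁ U i) hU' hAff' q z)
    exact ⟨ψ, hψ⟩

end main

end Groth.Agent.Lib.Helper38.CechLin
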