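import Groth.Agent.Lib.Helper38.CechAcyc

/-!
# Cohomology of a pushforward through Čech complexes (helper38)

`exists_linearEquiv_HH_push`: for `g : Y ⟶ X` over `Spec A`, if `g_* F` is quasi-coherent, `V` is a
cover of `X` with affine finite intersections and the cover `g⁻¹ V` is acyclic for `F`, then
`H^p(X, g_* F) ≃ₗ[A] H^p(Y, F)` (degenerate Leray, linearly over the base).
`acyc_of_subsingleton_HH` produces the acyclicity from vanishing of `H^{q+1}` of the open subschemes.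
-/

set_option autoImplicit false
universe u
open AlgebraicGeometry CategoryTheory Limits TopologicalSpace Opposite

namespace Groth.Agent.Lib.Helper38.CechPush

open Groth.Agent.Lib.Helper49 Groth.Agent.Lib.Helper38.SecMod Groth.Agent.Lib.Helper1.Cech
  Groth.Agent.Lib.Helper38.CechLin Groth.Agent.Lib.Helper38.CechAcyc
  Groth.Agent.Lib.Helper17.CechHHLin Groth.Agent.Lib.Helper17.AbHomology
  Groth.Agent.Lib.Helper17.LerayNat Groth.Agent.S0464

variable {A : Type u} [CommRing A] {Y X : Scheme.{u}} (g : Y ⟶ X)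
  (s : X ⟶ Spec (CommRingCat.of A)) (F : Y.Modules) {ι : Type u} (V : ι → X.Opens)

theorem app_secMap (O : X.Opens) (a : A) :
    (g.app O).hom (secMap s O a) = secMap (g ≫ s) (g ⁻¹ᵁ O) a := by
  have h1 : (g.app O).hom (secMap s O a) = (g.appLE ⊤ (g ⁻¹ᵁ O) le_top).hom (tg s a) := by
    change (X.presheaf.map (homOfLE le_top).op ≫ g.app O).hom (tg s a) = _
    rw [← Scheme.Hom.appLE_eq_app, Scheme.Hom.map_appLE]
  rw [h1]
  have h2 : (g.appLE ⊤ (g ⁻¹ᵁ O) le_top) = g.appTop ≫ Y.presheaf.map (homOfLE le_top).op := rfl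
  rw [h2]
  change fres le_top (g.appTop.hom (tg s a)) = fres le_top (tg (g ≫ s) a)
  congr 1

/-- restriction between equal opens, as a linear equivalence -/
noncomputable def secCongr {O : X.Opens} {O' : Y.Opens} (h : g ⁻¹ᵁ O = O') :
    Sec s ((Scheme.Modules.pushforward g).obj F) O ≃ₗ[A] Sec (g ≫ s) F O' where
  toFun t := toSec (g ≫ s) F O' (mres F h.ge (show Γ(F, g ⁻¹ᵁ O) from t))
  invFun t := toSec s ((Scheme.Modules.pushforward g).obj F) O
    (show Γ((Scheme.Modules.pushforward g).obj F, O) from mres F h.le (ofSec (g ≫ s) F O' t))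
  left_inv t := by
    change mres F h.le (mres F h.ge _) = _
    rw [mres_mres, mres_self]
  right_inv t := by
    change mres F h.ge (mres F h.le _) = _
    rw [mres_mres, mres_self]
    rfl
  map_add' a b := map_add (mres F h.ge) _ _
  map_smul' a t := by
    change mres F h.ge (((g.app O).hom (secMap s O a)) • (show Γ(F, g ⁻¹ᵁ O) from t)) =
      secMap (g ≫ s) O' a • mres F h.ge (show Γ(F, g ⁻¹ᵁ O) from t)
    rw [mres_smul, app_secMap, fres_secMap]

theorem secCongr_apply {O : X.Opens} {O' : Y.Opens} (h : g ⁻¹ᵁ O = O')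
    (t : Sec s ((Scheme.Modules.pushforward g).obj F) O) :
    ofSec (g ≫ s) F O' (secCongr g s F h t) = mres F h.ge (show Γ(F, g ⁻¹ᵁ O) from t) := rfl

theorem mres_push {O₁ O₂ : X.Opens} (h : O₂ ≤ O₁)
    (t : Γ((Scheme.Modules.pushforward g).obj F, O₁)) :
    (mres ((Scheme.Modules.pushforward g).obj F) h t : Γ(F, g ⁻¹ᵁ O₂)) =
      mres F (show g ⁻¹ᵁ O₂ ≤ g ⁻¹ᵁ O₁ from fun _ hy => h hy) (show Γ(F, g ⁻¹ᵁ O₁) from t) := rfl

/-- the comparison between the Čech complexes of `g_* F` and of `F`. -/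
noncomputable def psi (q : ℕ) :
    Cq s ((Scheme.Modules.pushforward g).obj F) V q ≃ₗ[A]
      Cq (g ≫ s) F (fun i => g ⁻¹ᵁ V i) q :=
  LinearEquiv.piCongrRight (fun x => secCongr g s F (preimage_int g V x))

theorem psi_apply (q : ℕ) (c : Cq s ((Scheme.Modules.pushforward g).obj F) V q)
    (x : Fin (q + 1) → ι) :
    psi g s F V q c x = secCongr g s F (preimage_int g V x) (c x) := rfl

theorem psi_dC (q : ℕ) (c : Cq s ((Scheme.Modules.pushforward g).obj F) V q) :
    psi g s F V (q + 1) (dC s ((Scheme.Modules.pushforward g).obj F) V A q c) =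
      dC (g ≫ s) F (fun i => g ⁻¹ᵁ V i) A q (psi g s F V q c) := by
  funext x
  rw [psi_apply, dC_apply, dC_apply, map_sum]
  refine Finset.sum_congr rfl (fun j _ => ?_)
  rw [map_zsmul]
  congr 1
  rw [psi_apply]
  change mres F _ (mres F _ _) = mres F _ (mres F _ _)
  rw [mres_mres, mres_mres]
  rfl

theorem exists_linearEquiv_homology {A : Type*} [CommRing A]
    {C0 C1 C2 H C0' C1' C2' H' : Type*}
    [AddCommGroup C0] [AddCommGroup C1] [AddCommGroup C2] [AddCommGroup H]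
    [AddCommGroup C0'] [AddCommGroup C1'] [AddCommGroup C2'] [AddCommGroup H']
    [Module A C0] [Module A C1] [Module A C2] [Module A H]
    [Module A C0'] [Module A C1'] [Module A C2'] [Module A H']
    (d0 : C0 →ₗ[A] C1) (d1 : C1 →ₗ[A] C2) (d0' : C0' →ₗ[A] C1') (d1' : C1' →ₗ[A] C2')
    (φ0 : C0 ≃ₗ[A] C0') (φ1 : C1 ≃ₗ[A] C1') (φ2 : C2 ≃ₗ[A] C2')
    (c0 : ∀ x, φ1 (d0 x) = d0' (φ0 x)) (c1 : ∀ x, φ2 (d1 x) = d1' (φ1 x))
    (cl : LinearMap.ker d1 →ₗ[A] H) (cl' : LinearMap.ker d1' →ₗ[A] H')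
    (hs : Function.Surjective cl) (hs' : Function.Surjective cl')
    (hk : ∀ z : LinearMap.ker d1, cl z = 0 ↔ ∃ b, d0 b = z)
    (hk' : ∀ z : LinearMap.ker d1', cl' z = 0 ↔ ∃ b, d0' b = z) :
    Nonempty (H ≃ₗ[A] H') := by
  -- the equivalence on cocycles
  have hmem : ∀ z : C1, z ∈ LinearMap.ker d1 ↔ φ1 z ∈ LinearMap.ker d1' := by
    intro z
    rw [LinearMap.mem_ker, LinearMap.mem_ker, ← c1]
    exact (map_eq_zero_iff _ φ2.injective).symm
  let φZ : LinearMap.ker d1 ≃ₗ[A] LinearMap.ker d1' :=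
    φ1.ofSubmodules (LinearMap.ker d1) (LinearMap.ker d1') (by
      ext z
      constructor
      · rintro ⟨w, hw, rfl⟩
        exact (hmem w).mp hw
      · intro hz
        refine ⟨φ1.symm z, ?_, φ1.apply_symm_apply z⟩
        rw [SetLike.mem_coe, hmem, φ1.apply_symm_apply]
        exact hz)
  have hφZ : ∀ z : LinearMap.ker d1, ((φZ z : LinearMap.ker d1') : C1') = φ1 z := fun z => rfl
  have hker : ∀ z : LinearMap.ker d1, cl z = 0 ↔ cl' (φZ z) = 0 := by
    intro z
    rw [hk, hk']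
    constructor
    · rintro ⟨b, hb⟩
      exact ⟨φ0 b, by rw [hφZ, ← hb, c0]⟩
    · rintro ⟨b, hb⟩
      refine ⟨φ0.symm b, φ1.injective ?_⟩
      rw [c0, φ0.apply_symm_apply, hb, hφZ]
  have hmap : Submodule.map (φZ : LinearMap.ker d1 →ₗ[A] LinearMap.ker d1') (LinearMap.ker cl) =
      LinearMap.ker cl' := by
    ext z
    constructor
    · rintro ⟨w, hw, rfl⟩
      exact (hker w).mp hw
    · intro hz
      refine ⟨φZ.symm z, ?_, φZ.apply_symm_apply z⟩
      rw [SetLike.mem_coe, LinearMap.mem_ker, hker, φZ.apply_symm_apply]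
      exact hz
  exact ⟨(cl.quotKerEquivOfSurjective hs).symm ≪≫ₗ
    Submodule.Quotient.equiv _ _ φZ hmap ≪≫ₗ cl'.quotKerEquivOfSurjective hs'⟩

/-- **Leray for a morphism with acyclic preimages**: if `g_* F` is quasi-coherent, `V` is a cover of
`X` with affine finite intersections and the cover `g⁻¹ V` of `Y` is acyclic for `F`, then
`H^p(X, g_* F) ≃ H^p(Y, F)` linearly over the base. -/
theorem exists_linearEquiv_HH_push [((Scheme.Modules.pushforward g).obj F).IsQuasicoherent]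
    (hV : iSup V = ⊤) (haff : ∀ (p : ℕ) (a : Fin (p + 1) → ι), IsAffineOpen (⨅ k, V (a k)))
    (hacyc : Acyc (X := Y.toTopCat) (fun i => g ⁻¹ᵁ V i) (Coh.toAb F)) (p : ℕ) :
    letI : Module A (Coh.HH X ((Scheme.Modules.pushforward g).obj F) p) :=
      Module.compHom _ (Coh.toGlobal s)
    letI : Module A (Coh.HH Y F p) := Module.compHom _ (Coh.toGlobal (g ≫ s))
    Nonempty (Coh.HH X ((Scheme.Modules.pushforward g).obj F) p ≃ₗ[A] Coh.HH Y F p) := by
  letI : Module A (Coh.HH X ((Scheme.Modules.pushforward g).obj F) p) :=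
    Module.compHom _ (Coh.toGlobal s)
  letI : Module A (Coh.HH Y F p) := Module.compHom _ (Coh.toGlobal (g ≫ s))
  have hV' : iSup (fun i => g ⁻¹ᵁ V i) = ⊤ := by
    rw [← Scheme.Hom.preimage_iSup, hV]
    rfl
  cases p with
  | zero =>
    exact exists_linearEquiv_homology
      (0 : Cq s ((Scheme.Modules.pushforward g).obj F) V 0 →ₗ[A] _)
      (dC s ((Scheme.Modules.pushforward g).obj F) V A 0)
      (0 : Cq (g ≫ s) F (fun i => g ⁻¹ᵁ V i) 0 →ₗ[A] _)
      (dC (g ≫ s) F (fun i => g ⁻¹ᵁ V i) A 0)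
      (psi g s F V 0) (psi g s F V 0) (psi g s F V 1)
      (fun x => by simp) (fun x => psi_dC g s F V 0 x)
      (cl s ((Scheme.Modules.pushforward g).obj F) V hV haff 0)
      (clA (g ≫ s) F (fun i => g ⁻¹ᵁ V i) hV' hacyc 0)
      (cl_surjective s _ V hV haff 0)
      (clA_surjective (g ≫ s) F (fun i => g ⁻¹ᵁ V i) hV' hacyc 0)
      (fun z => by
        rw [cl_eq_zero_iff_zero]
        constructor
        · rintro rfl
          exact ⟨0, rfl⟩
        · rintro ⟨b, hb⟩
          exact Subtype.ext hb.symm)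
      (fun z => by
        rw [clA_eq_zero_iff_zero]
        constructor
        · rintro rfl
          exact ⟨0, rfl⟩
        · rintro ⟨b, hb⟩
          exact Subtype.ext hb.symm)
  | succ q =>
    exact exists_linearEquiv_homology
      (dC s ((Scheme.Modules.pushforward g).obj F) V A q)
      (dC s ((Scheme.Modules.pushforward g).obj F) V A (q + 1))
      (dC (g ≫ s) F (fun i => g ⁻¹ᵁ V i) A q)
      (dC (g ≫ s) F (fun i => g ⁻¹ᵁ V i) A (q + 1))
      (psi g s F V q) (psi g s F V (q + 1)) (psi g s F V (q + 1 + 1))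
      (fun x => psi_dC g s F V q x) (fun x => psi_dC g s F V (q + 1) x)
      (cl s ((Scheme.Modules.pushforward g).obj F) V hV haff (q + 1))
      (clA (g ≫ s) F (fun i => g ⁻¹ᵁ V i) hV' hacyc (q + 1))
      (cl_surjective s _ V hV haff (q + 1))
      (clA_surjective (g ≫ s) F (fun i => g ⁻¹ᵁ V i) hV' hacyc (q + 1))
      (fun z => cl_eq_zero_iff_succ s _ V hV haff q z)
      (fun z => clA_eq_zero_iff_succ (g ≫ s) F (fun i => g ⁻¹ᵁ V i) hV' hacyc q z)

theorem preimage_iInf_fin {q : ℕ} (W : Fin (q + 1) → X.Opens) :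
    g ⁻¹ᵁ (⨅ k, W k) = ⨅ k, g ⁻¹ᵁ W k := by
  apply Opens.ext
  change g.base ⁻¹' ((⨅ a, W a : X.Opens) : Set X) = ((⨅ a, g ⁻¹ᵁ W a : Y.Opens) : Set Y)
  rw [Opens.coe_iInf, Opens.coe_iInf, Set.preimage_iInter]
  rfl

/-- acyclicity of the preimage cover from vanishing of the cohomology of the open subschemes. -/
theorem acyc_of_subsingleton_HH
    (h : ∀ (p : ℕ) (a : Fin (p + 1) → ι) (q : ℕ),
      Subsingleton (Coh.HH ((g ⁻¹ᵁ (⨅ k, V (a k)) : Y.Opens) : Scheme.{u})
        (F.restrict (g ⁻¹ᵁ (⨅ k, V (a k))).ι) (q + 1))) :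
    Acyc (X := Y.toTopCat) (fun i => g ⁻¹ᵁ V i) (Coh.toAb F) := by
  intro n x q
  have h1 : Subsingleton (CohTop.HU (X := Y.toTopCat) (Coh.toAb F) (q + 1)
      (g ⁻¹ᵁ (⨅ k, V (x k)))) := by
    obtain ⟨e⟩ := Groth.Agent.S0463.result (X := Y.toTopCat) (Coh.toAb F)
      (g ⁻¹ᵁ (⨅ k, V (x k))) (q + 1)
    exact @Equiv.subsingleton _ _ e.toEquiv (h n x q)
  rw [preimage_iInf_fin, ← Groth.Agent.Lib.Lead.cechOpen_eq (X := Y.toTopCat)
    (fun i => g ⁻¹ᵁ V i) x] at h1
  exact h1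

end Groth.Agent.Lib.Helper38.CechPush
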