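import Mathlib.Topology.Spectral.Prespectral
import Mathlib.Topology.QuasiSeparated
import Mathlib.Topology.Separation.Regular
import Mathlib.Topology.Connected.TotallyDisconnected

set_option autoImplicit false
universe u

namespace Groth.Agent.Lib.Helper38

open Set Topology TopologicalSpace

variable {X : Type*} [TopologicalSpace X]

/-- The intersection of all clopen neighbourhoods of `x`. -/
def clopenInter (x : X) : Set X := ⋂ s : { s : Set X // IsClopen s ∧ x ∈ s }, (s : Set X)

theorem mem_clopenInter (x : X) : x ∈ clopenInter x := mem_iInter.2 fun s => s.2.2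

theorem isClosed_clopenInter (x : X) : IsClosed (clopenInter x) :=
  isClosed_iInter fun s => s.2.1.1

theorem clopenInter_subset_of_isClopen {x : X} {s : Set X} (hs : IsClopen s) (hx : x ∈ s) :
    clopenInter x ⊆ s :=
  iInter_subset (fun s : { s : Set X // IsClopen s ∧ x ∈ s } => s.1) ⟨s, hs, hx⟩

theorem clopenInter_eq_sInter (x : X) :
    clopenInter x = ⋂₀ {Z : Set X | IsClopen Z ∧ x ∈ Z} := by
  ext y
  simp only [clopenInter, mem_iInter, Subtype.forall, mem_sInter, mem_ofPred_eq]

/-- A compact set disjoint from the intersection of all clopen neighbourhoods of `x` is disjoint from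
some clopen neighbourhood of `x`. -/
theorem exists_isClopen_inter_eq_empty {K : Set X} (hK : IsCompact K) (x : X)
    (h : K ∩ clopenInter x = ∅) : ∃ s : Set X, IsClopen s ∧ x ∈ s ∧ K ∩ s = ∅ := by
  obtain ⟨u, hu⟩ := hK.elim_finite_subfamily_closed
    (fun s : { s : Set X // IsClopen s ∧ x ∈ s } => (s : Set X)) (fun s => s.2.1.1) h
  exact ⟨⋂ U ∈ u, Subtype.val U, isClopen_biInter_finset fun s _ => s.2.1,
    mem_iInter₂.2 fun s _ => s.2.2, hu⟩

/-- In a compact space, an open set containing the intersection of all clopen neighbourhoods of `x`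
contains some clopen neighbourhood of `x`. -/
theorem exists_isClopen_subset_of_clopenInter_subset [CompactSpace X] {W : Set X} (hW : IsOpen W)
    (x : X) (h : clopenInter x ⊆ W) : ∃ s : Set X, IsClopen s ∧ x ∈ s ∧ s ⊆ W := by
  obtain ⟨s, hs, hxs, hd⟩ := exists_isClopen_inter_eq_empty hW.isClosed_compl.isCompact x
    (by rw [← disjoint_iff_inter_eq_empty, disjoint_compl_left_iff_subset]; exact h)
  refine ⟨s, hs, hxs, ?_⟩
  rwa [← disjoint_iff_inter_eq_empty, disjoint_compl_left_iff_subset] at hd

/-- In a compact space, if the intersection of all clopen neighbourhoods of `x` is covered by two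
disjoint open sets then it lies in one of them. -/
theorem clopenInter_subset_or [CompactSpace X] (x : X) {u v : Set X} (hu : IsOpen u)
    (hv : IsOpen v) (huv : Disjoint u v) (hS : clopenInter x ⊆ u ∪ v) :
    clopenInter x ⊆ u ∨ clopenInter x ⊆ v := by
  obtain ⟨s, hs, hxs, hsuv⟩ := exists_isClopen_subset_of_clopenInter_subset (hu.union hv) x hS
  have H1 := isClopen_inter_of_disjoint_cover_clopen hs hsuv hu hv huv
  rw [union_comm] at hsuv
  have H2 := isClopen_inter_of_disjoint_cover_clopen hs hsuv hv hu huv.symm
  by_cases hxu : x ∈ u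
  · left
    exact (clopenInter_subset_of_isClopen H1 ⟨hxs, hxu⟩).trans inter_subset_right
  · right
    have hxv : x ∈ v := (hsuv hxs).resolve_right hxu
    exact (clopenInter_subset_of_isClopen H2 ⟨hxs, hxv⟩).trans inter_subset_right

/-- Stacks 04PL: in a quasi-compact space with a basis of quasi-compact opens stable under pairwise
intersection, the connected component of a point is the intersection of its clopen neighbourhoods. -/
theorem connectedComponent_eq_clopenInter [CompactSpace X] [PrespectralSpace X]
    [QuasiSeparatedSpace X] (x : X) : connectedComponent x = clopenInter x := by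
  apply Subset.antisymm (connectedComponent_subset_iInter_isClopen (x := x))
  refine IsPreconnected.subset_connectedComponent ?_ (mem_clopenInter x)
  change IsPreconnected (clopenInter x)
  rw [isPreconnected_iff_subset_of_fully_disjoint_closed (isClosed_clopenInter x)]
  intro a b ha hb hab ab_disj
  set S := clopenInter x with hSdef
  have hSc : IsClosed S := isClosed_clopenInter x
  -- compact pieces
  have hac : IsCompact (a ∩ S) := (ha.inter hSc).isCompact
  have hbc : IsCompact (b ∩ S) := (hb.inter hSc).isCompact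
  obtain ⟨U, hUc, hUo, haU, hUb⟩ :=
    PrespectralSpace.exists_isCompact_and_isOpen_between hac hb.isOpen_compl
      (fun y hy => disjoint_left.mp ab_disj hy.1)
  obtain ⟨V, hVc, hVo, hbV, hVa⟩ :=
    PrespectralSpace.exists_isCompact_and_isOpen_between hbc ha.isOpen_compl
      (fun y hy => disjoint_right.mp ab_disj hy.1)
  have hUVS : (U ∩ V) ∩ S = ∅ := by
    rw [eq_empty_iff_forall_notMem]
    rintro y ⟨⟨hyU, hyV⟩, hyS⟩
    rcases hab hyS with h | h
    · exact hVa hyV h
    · exact hUb hyU h
  have hUVc : IsCompact (U ∩ V) := QuasiSeparatedSpace.inter_isCompact U V hUo hUc hVo hVc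
  obtain ⟨Z, hZ, hxZ, hZd⟩ := exists_isClopen_inter_eq_empty hUVc x hUVS
  have huv : Disjoint (U ∩ Z) (V ∩ Z) := by
    rw [disjoint_iff_inter_eq_empty, eq_empty_iff_forall_notMem]
    rintro y ⟨⟨hyU, hyZ⟩, ⟨hyV, _⟩⟩
    have : y ∈ U ∩ V ∩ Z := ⟨⟨hyU, hyV⟩, hyZ⟩
    rw [hZd] at this
    exact this
  have hSZ : S ⊆ Z := clopenInter_subset_of_isClopen hZ hxZ
  have hcov : S ⊆ (U ∩ Z) ∪ (V ∩ Z) := by
    intro y hy
    rcases hab hy with h | h
    · exact Or.inl ⟨haU ⟨h, hy⟩, hSZ hy⟩
    · exact Or.inr ⟨hbV ⟨h, hy⟩, hSZ hy⟩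
  rcases clopenInter_subset_or x (hUo.inter hZ.2) (hVo.inter hZ.2) huv hcov with h | h
  · left
    intro y hy
    rcases hab hy with h' | h'
    · exact h'
    · exact absurd h' (hUb (h hy).1)
  · right
    intro y hy
    rcases hab hy with h' | h'
    · exact absurd h' (hVa (h hy).1)
    · exact h'

end Groth.Agent.Lib.Helper38
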