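import Groth.Prelude.Def_W4stktopologysheavesDim

set_option autoImplicit false
universe u

namespace Groth.Agent.Lib.Helper38

open PtTop TopologicalSpace

variable {X : Type u} [TopologicalSpace X]

theorem le_codim {Y : IrreducibleCloseds X} {T : Set X} (s : LTSeries (IrreducibleCloseds X))
    (h1 : s.head = Y) (h2 : (s.last : Set X) ⊆ T) : (s.length : ℕ∞) ≤ codim Y T := by
  unfold codim
  exact le_iSup₂_of_le s ⟨h1, h2⟩ le_rfl

theorem codim_le {Y : IrreducibleCloseds X} {T : Set X} {n : ℕ∞}
    (h : ∀ s : LTSeries (IrreducibleCloseds X), s.head = Y → (s.last : Set X) ⊆ T →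
      (s.length : ℕ∞) ≤ n) : codim Y T ≤ n := by
  unfold codim
  exact iSup₂_le fun s hs => h s hs.1 hs.2

theorem exists_length_eq_codim {Y : IrreducibleCloseds X} {T : Set X} (hYT : (Y : Set X) ⊆ T)
    (hfin : codim Y T ≠ ⊤) :
    ∃ s : LTSeries (IrreducibleCloseds X), s.head = Y ∧ (s.last : Set X) ⊆ T ∧
      (s.length : ℕ∞) = codim Y T := by
  obtain ⟨n, hn⟩ := ENat.ne_top_iff_exists.mp hfin
  by_contra hne
  push Not at hne
  cases n with
  | zero =>
    refine hne (RelSeries.singleton _ Y) (RelSeries.head_singleton Y) ?_ ?_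
    · rw [RelSeries.last_singleton]; exact hYT
    · rw [← hn]; rfl
  | succ m =>
    have hle : codim Y T ≤ (m : ℕ∞) := codim_le fun s h1 h2 => by
      have hle := le_codim s h1 h2
      have hne' := hne s h1 h2
      rw [← hn] at hle hne'
      have h3 : s.length ≤ m + 1 := by exact_mod_cast hle
      have h4 : s.length ≠ m + 1 := by
        intro h; apply hne'; exact_mod_cast h
      have h5 : s.length ≤ m := by omega
      exact_mod_cast h5
    rw [← hn] at hle
    have : (m + 1 : ℕ) ≤ m := by exact_mod_cast hle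
    omega

/-- the two element chain -/
noncomputable def chain2 {Y Y' : IrreducibleCloseds X} (h : Y < Y') :
    LTSeries (IrreducibleCloseds X) :=
  (RelSeries.singleton _ Y).snoc Y' (by rw [RelSeries.last_singleton]; exact h)

theorem codim_self (Y : IrreducibleCloseds X) : codim Y (Y : Set X) = 0 := by
  refine le_antisymm (codim_le fun s h1 h2 => ?_) zero_le
  by_contra hpos
  have hlen : s.length ≠ 0 := by
    intro h; apply hpos; rw [h]; rfl
  have hlt : s.head < s.last := by
    have := s.strictMono (a := 0) (b := Fin.last _) (by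
      rw [Fin.lt_def]; simpa using Nat.pos_of_ne_zero hlen)
    exact this
  have hle : s.last ≤ s.head := by rw [h1]; exact h2
  exact absurd (lt_of_lt_of_le hlt hle) (lt_irrefl _)

theorem codim_of_covBy {Y Y' : IrreducibleCloseds X} (h : Y ⋖ Y') : codim Y (Y' : Set X) = 1 := by
  refine le_antisymm (codim_le fun s h1 h2 => ?_) ?_
  · by_contra hgt
    have hlen : 2 ≤ s.length := by
      by_contra h'
      apply hgt
      have : s.length ≤ 1 := by omega
      exact_mod_cast this
    have h01 : s ⟨0, by omega⟩ < s ⟨1, by omega⟩ := s.strictMono (by rw [Fin.lt_def]; simp)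
    have h12 : s ⟨1, by omega⟩ < s (Fin.last _) := s.strictMono (by rw [Fin.lt_def]; simp; omega)
    have h0 : s ⟨0, by omega⟩ = Y := h1
    have hl : s (Fin.last _) ≤ Y' := h2
    rw [h0] at h01
    exact h.2 h01 (lt_of_lt_of_le h12 hl)
  · have : ((chain2 h.lt).length : ℕ∞) ≤ codim Y (Y' : Set X) :=
      le_codim (chain2 h.lt) (by simp [chain2]) (by simp [chain2])
    simpa [chain2] using this

theorem exists_saturated_chain {Y T' : IrreducibleCloseds X} (h : Y ≤ T')
    (hfin : codim Y (T' : Set X) ≠ ⊤) :
    ∃ s : LTSeries (IrreducibleCloseds X), s.head = Y ∧ s.last = T' ∧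
      (∀ i : Fin s.length, s i.castSucc ⋖ s i.succ) ∧ (s.length : ℕ∞) = codim Y (T' : Set X) := by
  obtain ⟨s, h1, h2, h3⟩ := exists_length_eq_codim (show (Y : Set X) ⊆ T' from h) hfin
  have hnot : ¬ ((s.length + 1 : ℕ) : ℕ∞) ≤ codim Y (T' : Set X) := by
    rw [← h3]
    intro hle
    have : s.length + 1 ≤ s.length := by exact_mod_cast hle
    omega
  refine ⟨s, h1, ?_, ?_, h3⟩
  · by_contra hne
    have hlt : s.last < T' := lt_of_le_of_ne h2 hne
    apply hnot
    have : (((s.snoc T' hlt).length : ℕ) : ℕ∞) ≤ codim Y (T' : Set X) :=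
      le_codim (s.snoc T' hlt) (by simp [h1]) (by simp)
    simpa using this
  · intro i
    refine ⟨s.step i, ?_⟩
    intro c hc1 hc2
    apply hnot
    let t : LTSeries (IrreducibleCloseds X) :=
      ((s.take i.castSucc).snoc c (by rw [RelSeries.last_take]; exact hc1)).append
        (s.drop i.succ) (by rw [RelSeries.last_snoc, RelSeries.head_drop]; exact hc2)
    have hlen : t.length = s.length + 1 := by
      simp only [t, RelSeries.append_length, RelSeries.snoc_length, RelSeries.take_length,
        RelSeries.drop_length, Fin.val_castSucc, Fin.val_succ]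
      have := i.2
      omega
    have : ((t.length : ℕ) : ℕ∞) ≤ codim Y (T' : Set X) :=
      le_codim t (by simp [t, h1]) (by simp [t]; exact h2)
    rw [hlen] at this
    exact this

end Groth.Agent.Lib.Helper38
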