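import Mathlib.Topology.Category.TopCat.Limits.Cofiltered
import Mathlib.Topology.Category.TopCat.Limits.Basic
import Mathlib.CategoryTheory.Limits.ConcreteCategory.Basic
import Mathlib.CategoryTheory.Filtered.Basic

set_option autoImplicit false
universe u

namespace Groth.Agent.Lib.Helper38

open CategoryTheory CategoryTheory.Limits Set Topology TopologicalSpace

variable {J : Type u} [SmallCategory J] (F : J ⥤ TopCat.{u})

theorem cone_w_apply (c : Cone F) {i j : J} (a : i ⟶ j) (y : c.pt) :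
    F.map a (c.π.app i y) = c.π.app j y := by
  rw [← c.w a]
  rfl

theorem cone_preimage_preimage (c : Cone F) {i j : J} (a : i ⟶ j) (V : Set (F.obj j)) :
    c.π.app i ⁻¹' (F.map a ⁻¹' V) = c.π.app j ⁻¹' V := by
  ext y
  simp only [mem_preimage, cone_w_apply]

/-- Points of a limit cone in `TopCat` are determined by their projections. -/
theorem cone_ext {c : Cone F} (hc : IsLimit c) {x y : c.pt}
    (h : ∀ j, c.π.app j x = c.π.app j y) : x = y :=
  Concrete.isLimit_ext F hc x y h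

variable [IsCofiltered J]

/-- In a cofiltered limit of topological spaces, with compatible bases `T j` stable under finite
unions, any quasi-compact open of the limit is the preimage of a member of some `T i`. -/
theorem exists_preimage_eq_of_isCompact_of_basis (c : Cone F) (hc : IsLimit c)
    (T : ∀ j, Set (Set (F.obj j))) (hT : ∀ j, IsTopologicalBasis (T j))
    (univ : ∀ i : J, Set.univ ∈ T i)
    (inter : ∀ (i) (U1 U2 : Set (F.obj i)), U1 ∈ T i → U2 ∈ T i → U1 ∩ U2 ∈ T i)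
    (compat : ∀ (i j : J) (f : i ⟶ j) (V : Set (F.obj j)) (_hV : V ∈ T j), F.map f ⁻¹' V ∈ T i)
    (hunion : ∀ (i : J) {ι : Type u} (s : Finset ι) (f : ι → Set (F.obj i)),
      (∀ x ∈ s, f x ∈ T i) → (⋃ x ∈ s, f x) ∈ T i)
    {W : Set c.pt} (hWo : IsOpen W) (hWc : IsCompact W) :
    ∃ (i : J) (Ui : Set (F.obj i)), Ui ∈ T i ∧ W = c.π.app i ⁻¹' Ui := by
  classical
  have hB := TopCat.isTopologicalBasis_cofiltered_limit F c hc T hT univ inter compat
  have key : ∀ x : W, ∃ (j : J) (V : Set (F.obj j)), V ∈ T j ∧ x.1 ∈ c.π.app j ⁻¹' V ∧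
      c.π.app j ⁻¹' V ⊆ W := by
    intro x
    obtain ⟨_, ⟨j, V, hV, rfl⟩, hx, hsub⟩ := hB.exists_subset_of_mem_open x.2 hWo
    exact ⟨j, V, hV, hx, hsub⟩
  choose j V hV hxV hVW using key
  obtain ⟨t, ht⟩ := hWc.elim_nhds_subcover' (fun x hx => c.π.app (j ⟨x, hx⟩) ⁻¹' V ⟨x, hx⟩)
    (fun x hx => IsOpen.mem_nhds (((hT _).isOpen (hV _)).preimage
      (c.π.app (j ⟨x, hx⟩)).hom.continuous) (hxV ⟨x, hx⟩))
  obtain ⟨i, hi⟩ := IsCofiltered.inf_objs_exists (t.image j)
  let Vs : W → Set (F.obj i) := fun x =>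
    if hx : x ∈ t then F.map (hi (Finset.mem_image_of_mem j hx)).some ⁻¹' V x else ∅
  have hVs : ∀ x ∈ t, Vs x ∈ T i := by
    intro x hx
    simp only [Vs, dif_pos hx]
    exact compat _ _ _ _ (hV x)
  have hVs' : ∀ x ∈ t, c.π.app i ⁻¹' Vs x = c.π.app (j x) ⁻¹' V x := by
    intro x hx
    simp only [Vs, dif_pos hx]
    exact cone_preimage_preimage F c _ _
  refine ⟨i, ⋃ x ∈ t, Vs x, hunion i t Vs hVs, ?_⟩
  rw [preimage_iUnion₂]
  apply Subset.antisymm
  · intro y hy
    obtain ⟨x, hxt, hyx⟩ := mem_iUnion₂.mp (ht hy)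
    exact mem_iUnion₂.mpr ⟨x, hxt, (hVs' x hxt).symm ▸ hyx⟩
  · intro y hy
    obtain ⟨x, hxt, hyx⟩ := mem_iUnion₂.mp hy
    rw [hVs' x hxt] at hyx
    exact hVW x hyx

end Groth.Agent.Lib.Helper38
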