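import Mathlib
import Groth.Agent.Lib.Helper47.SeparableSmooth
import Groth.Agent.Lib.Helper90.PSSurj
import Groth.Agent.S0543

/-!
# Cohen structure theorem over a field with separable residue field (helper38)
-/

set_option autoImplicit false
universe u

open IsLocalRing

namespace Groth.Agent.Lib.Helper38.CohenK

theorem main (k A : Type u) [Field k] [CommRing A] [Algebra k A]
    [IsNoetherianRing A] [IsLocalRing A] [Algebra.IsGeometricallyReduced k (ResidueField A)] :
    ∃ (n : ℕ) (I : Ideal (MvPowerSeries (Fin n) (ResidueField A)))
      (e : (MvPowerSeries (Fin n) (ResidueField A) ⧸ I) ≃ₐ[k]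
        AdicCompletion (maximalIdeal A) A),
      ∀ a : A, e (Ideal.Quotient.mk I (MvPowerSeries.C (residue A a))) -
          algebraMap A (AdicCompletion (maximalIdeal A) A) a ∈
        (maximalIdeal A).map (algebraMap A (AdicCompletion (maximalIdeal A) A)) := by
  have hsm : Algebra.FormallySmooth k (ResidueField A) :=
    Groth.Agent.Lib.Helper47.formallySmooth_of_isGeometricallyReduced k (ResidueField A)
  have hN : IsNoetherianRing (AdicCompletion (maximalIdeal A) A) :=
    Groth.Agent.S0543.result A (maximalIdeal A)
  -- the coefficient field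
  let f₀ : ResidueField A →ₐ[k] A ⧸ maximalIdeal A := AlgHom.id k (ResidueField A)
  obtain ⟨g, hg⟩ := Algebra.FormallySmooth.exists_adicCompletionEvalOneₐ_comp_eq f₀
  have hg' : ∀ c : ResidueField A, AdicCompletion.evalOneₐ (maximalIdeal A) (g c) = c := by
    intro c
    exact congr($hg c)
  -- elements of `Â` with trivial first component lie in the maximal ideal
  have hmem : ∀ x : AdicCompletion (maximalIdeal A) A,
      AdicCompletion.evalOneₐ (maximalIdeal A) x = 0 →
        x ∈ maximalIdeal (AdicCompletion (maximalIdeal A) A) := by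
    intro x hx
    rw [AdicCompletion.maximalIdeal_eq_map,
      ← AdicCompletion.ker_evalOneₐ_eq_map _ (maximalIdeal A).fg_of_isNoetherianRing]
    exact hx
  have hbij : Function.Bijective
      ((residue (AdicCompletion (maximalIdeal A) A)).comp g.toRingHom) := by
    refine ⟨RingHom.injective _, ?_⟩
    intro y
    obtain ⟨x, rfl⟩ := residue_surjective y
    refine ⟨AdicCompletion.evalOneₐ (maximalIdeal A) x, ?_⟩
    change residue _ (g (AdicCompletion.evalOneₐ (maximalIdeal A) x)) = residue _ x
    rw [← sub_eq_zero, ← map_sub, residue_eq_zero_iff]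
    apply hmem
    rw [map_sub, hg', sub_self]
  obtain ⟨n, f, hfsurj, -, hfC, -, -⟩ :=
    Groth.Agent.Lib.Helper90.PSSurj.exists_surjective_of_field
      (AdicCompletion (maximalIdeal A) A) (ResidueField A) g.toRingHom hbij
  let F : MvPowerSeries (Fin n) (ResidueField A) →ₐ[k] AdicCompletion (maximalIdeal A) A :=
    { f with
      commutes' := by
        intro r
        change f (algebraMap k (MvPowerSeries (Fin n) (ResidueField A)) r) = _
        rw [MvPowerSeries.algebraMap_apply, hfC]
        exact g.commutes r }
  have hFsurj : Function.Surjective F := hfsurj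
  refine ⟨n, RingHom.ker F, Ideal.quotientKerAlgEquivOfSurjective hFsurj, ?_⟩
  intro a
  have h1 : Ideal.quotientKerAlgEquivOfSurjective hFsurj
      (Ideal.Quotient.mk (RingHom.ker F) (MvPowerSeries.C (residue A a))) =
      g (residue A a) := by
    change F (MvPowerSeries.C (residue A a)) = _
    exact hfC _
  rw [h1, ← AdicCompletion.maximalIdeal_eq_map]
  apply hmem
  rw [map_sub, hg']
  have h2 : AdicCompletion.evalOneₐ (maximalIdeal A)
      (algebraMap A (AdicCompletion (maximalIdeal A) A) a) = residue A a :=
    AdicCompletion.evalOneₐ_of (maximalIdeal A) a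
  rw [h2]
  exact sub_self _

end Groth.Agent.Lib.Helper38.CohenK
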