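import Mathlib

/-!
# Orbits of connected components under a profinite group action

Let a profinite group `G` act continuously on a space `Z`, and let `p : Z → X` be a continuous, open
and closed map whose fibres are exactly the `G`-orbits.  If `X` is preconnected, then every connected
component of `Z` maps onto `X`.
-/

open Topology Pointwise Set

set_option linter.unusedSectionVars false

namespace Groth.Agent.Lib.Helper38

namespace ProfiniteOrbit

variable {G Z X : Type*} [Group G] [TopologicalSpace G] [IsTopologicalGroup G] [CompactSpace G]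
  [TotallyDisconnectedSpace G] [TopologicalSpace Z] [MulAction G Z] [ContinuousSMul G Z]
  [TopologicalSpace X]

/-- The whole group as an open normal subgroup. -/
def topONS : OpenNormalSubgroup G := ⟨⟨⊤, isOpen_univ⟩, inferInstance⟩

instance : Nonempty (OpenNormalSubgroup G) := ⟨topONS⟩

/-- `D` is stable under the subgroup `H`. -/
def Inv (H : OpenNormalSubgroup G) (D : Set Z) : Prop := ∀ h ∈ H, ∀ z ∈ D, h • z ∈ D

theorem Inv.inter {H : OpenNormalSubgroup G} {D D' : Set Z} (h1 : Inv H D) (h2 : Inv H D') :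
    Inv H (D ∩ D') := fun h hh z hz => ⟨h1 h hh z hz.1, h2 h hh z hz.2⟩

theorem Inv.diff {H : OpenNormalSubgroup G} {D D' : Set Z} (h1 : Inv H D) (h2 : Inv H D') :
    Inv H (D \ D') := by
  intro h hh z hz
  refine ⟨h1 h hh z hz.1, fun hc => hz.2 ?_⟩
  have := h2 h⁻¹ (inv_mem hh) _ hc
  rwa [inv_smul_smul] at this

theorem Inv.mono {H H' : OpenNormalSubgroup G} (hle : H ≤ H') {D : Set Z} (h1 : Inv H' D) :
    Inv H D := fun h hh z hz => h1 h (hle hh) z hz

theorem Inv.smul_set (H H' : OpenNormalSubgroup G) (hle : H ≤ H') (D : Set Z) :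
    Inv H ((H' : Set G) • D) := by
  rintro h hh _ ⟨τ, hτ, w, hw, rfl⟩
  refine ⟨h * τ, mul_mem (hle hh) hτ, w, hw, ?_⟩
  simp [mul_smul]

/-- The clopen `H`-stable sets containing `c`. -/
def family (H : OpenNormalSubgroup G) (c : Z) : Set (Set Z) :=
  {D | IsClopen D ∧ Inv H D ∧ c ∈ D}

/-- The smallest clopen `H`-stable set containing `c`. -/
def atom (H : OpenNormalSubgroup G) (c : Z) : Set Z := ⋂₀ family H c

section

variable [PreconnectedSpace X] (p : Z → X) (hpo : IsOpenMap p) (hpcl : IsClosedMap p)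
  (horb : ∀ z z' : Z, p z = p z' → ∃ g : G, g • z = z')

include hpo hpcl in
theorem image_eq_univ_of_isClopen {D : Set Z} (hD : IsClopen D) (hne : D.Nonempty) :
    p '' D = univ :=
  IsClopen.eq_univ ⟨hpcl _ hD.1, hpo _ hD.2⟩ (hne.image _)

include hpo hpcl horb in
theorem family_subset_of_quot (H : OpenNormalSubgroup G) (c : Z) {D D' : Set Z}
    (hD : D ∈ family H c) (hD' : D' ∈ family H c)
    (hsub : {q : G ⧸ (H : Subgroup G) | ∃ g : G, (g : G ⧸ (H : Subgroup G)) = q ∧ g • c ∈ D} ⊆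
      {q : G ⧸ (H : Subgroup G) | ∃ g : G, (g : G ⧸ (H : Subgroup G)) = q ∧ g • c ∈ D'}) :
    D ⊆ D' := by
  by_contra hcon
  rw [Set.not_subset] at hcon
  obtain ⟨z, hz, hz'⟩ := hcon
  have hclopen : IsClopen (D \ D') := hD.1.diff hD'.1
  have himg := image_eq_univ_of_isClopen p hpo hpcl hclopen ⟨z, hz, hz'⟩
  obtain ⟨y, hy, hyc⟩ : p c ∈ p '' (D \ D') := himg ▸ mem_univ _
  obtain ⟨g, hg⟩ := horb c y hyc.symm
  have h1 : (g : G ⧸ (H : Subgroup G)) ∈
      {q : G ⧸ (H : Subgroup G) | ∃ g : G, (g : G ⧸ (H : Subgroup G)) = q ∧ g • c ∈ D} :=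
    ⟨g, rfl, hg ▸ hy.1⟩
  obtain ⟨g', hg', hg'D⟩ := hsub h1
  rw [QuotientGroup.eq] at hg'
  -- g = g' * (g'⁻¹ * g)
  have hconj : g' * (g'⁻¹ * g) * g'⁻¹ ∈ (H : Subgroup G) :=
    (inferInstance : (H : Subgroup G).Normal).conj_mem _ hg' g'
  have h2 := hD'.2.1 _ hconj _ hg'D
  have h3 : (g' * (g'⁻¹ * g) * g'⁻¹) • g' • c = g • c := by
    rw [← mul_smul]
    congr 1
    group
  rw [h3, hg] at h2
  exact hy.2 h2

include hpo hpcl horb in
theorem family_finite (H : OpenNormalSubgroup G) (c : Z) : (family H c).Finite := by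
  haveI : Finite (G ⧸ (H : Subgroup G)) :=
    Subgroup.quotient_finite_of_isOpen (H : Subgroup G) H.toOpenSubgroup.isOpen
  let Φ : Set Z → Set (G ⧸ (H : Subgroup G)) := fun D =>
    {q | ∃ g : G, (g : G ⧸ (H : Subgroup G)) = q ∧ g • c ∈ D}
  apply Set.Finite.of_finite_image (f := Φ) (Set.toFinite _)
  intro D hD D' hD' hDD'
  apply Set.Subset.antisymm
  · exact family_subset_of_quot p hpo hpcl horb H c hD hD' hDD'.le
  · exact family_subset_of_quot p hpo hpcl horb H c hD' hD hDD'.ge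

include hpo hpcl horb in
theorem atom_mem_family (H : OpenNormalSubgroup G) (c : Z) : atom H c ∈ family H c := by
  have hfin := family_finite p hpo hpcl horb H c
  refine ⟨⟨isClosed_sInter fun D hD => hD.1.1, hfin.isOpen_sInter fun D hD => hD.1.2⟩, ?_, ?_⟩
  · intro h hh z hz D hD
    exact hD.2.1 h hh z (hz D hD)
  · intro D hD
    exact hD.2.2

theorem atom_subset {H : OpenNormalSubgroup G} {c : Z} {D : Set Z} (hD : D ∈ family H c) :
    atom H c ⊆ D := sInter_subset_of_mem hD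

include hpo hpcl horb in
theorem atom_eq_of {H : OpenNormalSubgroup G} {c : Z} {I : Set Z} (hI : IsClopen I)
    (hinv : Inv H I) (hne : I.Nonempty) (hsub : I ⊆ atom H c) : I = atom H c := by
  have hat := atom_mem_family p hpo hpcl horb H c
  apply Set.Subset.antisymm hsub
  by_cases hc : c ∈ I
  · exact atom_subset ⟨hI, hinv, hc⟩
  · have h1 : atom H c \ I ∈ family H c :=
      ⟨hat.1.diff hI, hat.2.1.diff hinv, hat.2.2, hc⟩
    have h2 := atom_subset h1
    obtain ⟨w, hw⟩ := hne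
    exact absurd hw (h2 (hsub hw)).2

include hpo hpcl horb in
theorem atom_mono {H H' : OpenNormalSubgroup G} (hle : H ≤ H') (c : Z) :
    atom H c ⊆ atom H' c := by
  have hat := atom_mem_family p hpo hpcl horb H' c
  exact atom_subset ⟨hat.1, hat.2.1.mono hle, hat.2.2⟩

include hpo hpcl horb in
/-- If `g` moves one point of the atom into the atom, it stabilises the atom. -/
theorem atom_stab (H : OpenNormalSubgroup G) (c : Z) (g : G) {z : Z} (hz : z ∈ atom H c)
    (hgz : g • z ∈ atom H c) : ∀ w ∈ atom H c, g • w ∈ atom H c := by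
  have hat := atom_mem_family p hpo hpcl horb H c
  set I : Set Z := atom H c ∩ (fun w => g • w) ⁻¹' atom H c with hI
  have hIclopen : IsClopen I := hat.1.inter (hat.1.preimage (continuous_const_smul g))
  have hIinv : Inv H I := by
    intro h hh w hw
    refine ⟨hat.2.1 h hh w hw.1, ?_⟩
    show g • h • w ∈ atom H c
    have hconj : g * h * g⁻¹ ∈ (H : Subgroup G) :=
      (inferInstance : (H : Subgroup G).Normal).conj_mem _ hh g
    have := hat.2.1 _ hconj _ hw.2
    have h3 : (g * h * g⁻¹) • g • w = g • h • w := by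
      rw [← mul_smul, ← mul_smul]
      congr 1
      group
    rwa [h3] at this
  have hIeq := atom_eq_of p hpo hpcl horb hIclopen hIinv ⟨z, hz, hgz⟩ inter_subset_left
  intro w hw
  have : w ∈ I := hIeq ▸ hw
  exact this.2

/-- The intersection of all atoms of `c`. -/
def core (c : Z) : Set Z := ⋂ H : OpenNormalSubgroup G, atom H c

include hpo hpcl horb in
theorem isClosed_core (c : Z) : IsClosed (core (G := G) c) :=
  isClosed_iInter fun H => (atom_mem_family p hpo hpcl horb H c).1.1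

include hpo hpcl horb in
theorem mem_core (c : Z) : c ∈ core (G := G) c :=
  mem_iInter.mpr fun H => (atom_mem_family p hpo hpcl horb H c).2.2

include hpo hpcl horb in
theorem connectedComponent_subset_core (c : Z) : connectedComponent c ⊆ core (G := G) c := by
  apply subset_iInter
  intro H
  have hat := atom_mem_family p hpo hpcl horb H c
  exact isPreconnected_connectedComponent.subset_isClopen hat.1
    ⟨c, mem_connectedComponent, hat.2.2⟩

include hpo hpcl horb in
theorem core_stab (c : Z) (g : G) {z : Z} (hz : z ∈ core (G := G) c)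
    (hgz : g • z ∈ core (G := G) c) : ∀ w ∈ core (G := G) c, g • w ∈ core (G := G) c := by
  intro w hw
  rw [core, mem_iInter] at hz hgz hw ⊢
  intro H
  exact atom_stab p hpo hpcl horb H c g (hz H) (hgz H) w (hw H)

include hpo hpcl horb in
theorem core_stab_inv (c : Z) (g : G) {z : Z} (hz : z ∈ core (G := G) c)
    (hgz : g • z ∈ core (G := G) c) : ∀ w ∈ core (G := G) c, g⁻¹ • w ∈ core (G := G) c := by
  apply core_stab p hpo hpcl horb c g⁻¹ hgz
  rwa [inv_smul_smul]

include hpo hpcl horb in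
/-- Every point of an atom can be moved into the core by an element of the subgroup. -/
theorem exists_smul_mem_core (H' : OpenNormalSubgroup G) (c : Z) {d : Z} (hd : d ∈ atom H' c) :
    ∃ τ ∈ H', τ • d ∈ core (G := G) c := by
  let T : OpenNormalSubgroup G → Set G := fun H => {τ | τ ∈ H' ∧ τ • d ∈ atom H c}
  have hdir : Directed (· ⊇ ·) T := by
    intro H₁ H₂
    refine ⟨H₁ ⊓ H₂, ?_, ?_⟩
    · rintro τ ⟨h1, h2⟩
      exact ⟨h1, atom_mono p hpo hpcl horb inf_le_left c h2⟩
    · rintro τ ⟨h1, h2⟩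
      exact ⟨h1, atom_mono p hpo hpcl horb inf_le_right c h2⟩
  have hne : ∀ H, (T H).Nonempty := by
    intro H
    set H₀ := H ⊓ H' with hH₀
    have hat₀ := atom_mem_family p hpo hpcl horb H₀ c
    have hI : (H' : Set G) • atom H₀ c ∈ family H' c := by
      refine ⟨⟨?_, ?_⟩, ?_, ?_⟩
      · exact hat₀.1.1.smul_left_of_isCompact H'.toOpenSubgroup.isClosed.isCompact
      · exact hat₀.1.2.smul_left
      · exact Inv.smul_set H' H' le_rfl _
      · exact ⟨1, one_mem H', c, hat₀.2.2, one_smul _ _⟩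
    obtain ⟨τ, hτ, w, hw, hτw⟩ := atom_subset hI hd
    refine ⟨τ⁻¹, inv_mem hτ, ?_⟩
    have : τ⁻¹ • d = w := by
      have hτw' : τ • w = d := hτw
      rw [← hτw', inv_smul_smul]
    show τ⁻¹ • d ∈ atom H c
    rw [this]
    exact atom_mono p hpo hpcl horb inf_le_left c hw
  have hcl : ∀ H, IsClosed (T H) := by
    intro H
    have h1 : IsClosed {τ : G | τ ∈ H'} := H'.toOpenSubgroup.isClosed
    have h2 : IsClosed {τ : G | τ • d ∈ atom H c} :=
      (atom_mem_family p hpo hpcl horb H c).1.1.preimage (continuous_id.smul continuous_const)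
    exact h1.inter h2
  obtain ⟨τ, hτ⟩ := IsCompact.nonempty_iInter_of_directed_nonempty_isCompact_isClosed T hdir hne
    (fun H => (hcl H).isCompact) hcl
  rw [mem_iInter] at hτ
  exact ⟨τ, (hτ topONS).1, mem_iInter.mpr fun H => (hτ H).2⟩

include hpo hpcl horb in
theorem core_key (c : Z) (u v : Set Z) (hu : IsClosed u) (hv : IsClosed v)
    (hsub : core (G := G) c ⊆ u ∪ v) (hdisj : core (G := G) c ∩ (u ∩ v) = ∅) (hcu : c ∈ u) :
    core (G := G) c ∩ v = ∅ := by
  set Q := core (G := G) c with hQ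
  have hcQ : c ∈ Q := mem_core p hpo hpcl horb c
  have hQcl : IsClosed Q := isClosed_core p hpo hpcl horb c
  have hcv : c ∉ v := fun h => by
    have : c ∈ Q ∩ (u ∩ v) := ⟨hcQ, hcu, h⟩
    rw [hdisj] at this
    exact this
  -- an open normal subgroup `H'` with `σ⁻¹ • c ∉ v` for `σ ∈ H'`
  have hN₁ : IsOpen {σ : G | σ⁻¹ • c ∉ v} :=
    hv.isOpen_compl.preimage (continuous_inv.smul continuous_const)
  obtain ⟨H', hH'⟩ := ProfiniteGrp.exist_openNormalSubgroup_sub_open_nhds_of_one hN₁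
    (by simpa using hcv)
  let M : Set G := {σ | σ ∈ H' ∧ ∀ w ∈ Q, σ • w ∈ Q}
  have hM1 : (1 : G) ∈ M := ⟨one_mem H', fun w hw => by rwa [one_smul]⟩
  have hMmul : ∀ σ τ, σ ∈ M → τ ∈ M → σ * τ ∈ M := fun σ τ hσ hτ =>
    ⟨mul_mem hσ.1 hτ.1, fun w hw => by rw [mul_smul]; exact hσ.2 _ (hτ.2 w hw)⟩
  have hMinv : ∀ σ, σ ∈ M → σ⁻¹ ∈ M := fun σ hσ =>
    ⟨inv_mem hσ.1, core_stab_inv p hpo hpcl horb c σ hcQ (hσ.2 c hcQ)⟩
  have hMstab : ∀ τ ∈ H', ∀ z ∈ Q, τ • z ∈ Q → τ ∈ M := fun τ hτ z hz hτz =>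
    ⟨hτ, core_stab p hpo hpcl horb c τ hz hτz⟩
  have hMc : ∀ σ ∈ M, σ • c ∈ u := by
    intro σ hσ
    have h1 : σ • c ∈ Q := hσ.2 c hcQ
    have h2 : σ⁻¹ ∈ (H' : Set G) := inv_mem hσ.1
    have h3 : (σ⁻¹)⁻¹ • c ∉ v := hH' h2
    rw [inv_inv] at h3
    exact (hsub h1).resolve_right h3
  let E : Set Z := {z | z ∈ Q ∧ ∀ σ ∈ M, σ • z ∈ u}
  let E' : Set Z := Q ∩ ((H' : Set G) • (Q ∩ v))
  have hEQ : E ⊆ Q := fun z hz => hz.1
  have hE'Q : E' ⊆ Q := inter_subset_left
  have hcE : c ∈ E := ⟨hcQ, hMc⟩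
  have hEcl : IsClosed E := by
    have : E = Q ∩ ⋂ σ ∈ M, (fun z => σ • z) ⁻¹' u := by
      ext z
      simp only [E, Set.mem_ofPred_eq, mem_inter_iff, mem_iInter, mem_preimage]
    rw [this]
    exact hQcl.inter (isClosed_biInter fun σ _ => hu.preimage (continuous_const_smul σ))
  have hH'cpt : IsCompact (H' : Set G) := H'.toOpenSubgroup.isClosed.isCompact
  have hE'cl : IsClosed E' := hQcl.inter ((hQcl.inter hv).smul_left_of_isCompact hH'cpt)
  have hEinv : ∀ ρ ∈ M, ∀ e ∈ E, ρ • e ∈ E := by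
    intro ρ hρ e he
    refine ⟨hρ.2 e he.1, fun σ hσ => ?_⟩
    rw [← mul_smul]
    exact he.2 _ (hMmul σ ρ hσ hρ)
  have hQEE' : Q ⊆ E ∪ E' := by
    intro z hz
    by_cases hzE : z ∈ E
    · exact Or.inl hzE
    · right
      have : ∃ σ ∈ M, σ • z ∉ u := by
        by_contra hcon
        push Not at hcon
        exact hzE ⟨hz, hcon⟩
      obtain ⟨σ, hσ, hσz⟩ := this
      have h1 : σ • z ∈ Q := hσ.2 z hz
      have h2 : σ • z ∈ v := (hsub h1).resolve_left hσz
      refine ⟨hz, σ⁻¹, inv_mem hσ.1, σ • z, ⟨h1, h2⟩, ?_⟩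
      simp
  have hEE' : ∀ z, z ∈ E → z ∈ E' → False := by
    rintro z hzE ⟨hzQ, τ, hτ, w, ⟨hwQ, hwv⟩, hτw⟩
    have hτw' : τ • w = z := hτw
    have hτM : τ ∈ M := hMstab τ hτ w hwQ (hτw' ▸ hzQ)
    have h1 : τ⁻¹ • z ∈ u := hzE.2 _ (hMinv τ hτM)
    rw [← hτw', inv_smul_smul] at h1
    have : w ∈ Q ∩ (u ∩ v) := ⟨hwQ, h1, hwv⟩
    rw [hdisj] at this
    exact this
  -- the two pieces of the atom
  have hat := atom_mem_family p hpo hpcl horb H' c
  have hQat : Q ⊆ atom H' c := iInter_subset _ H'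
  let I : Set Z := (H' : Set G) • E
  let I' : Set Z := (H' : Set G) • E'
  have hIcl : IsClosed I := hEcl.smul_left_of_isCompact hH'cpt
  have hI'cl : IsClosed I' := hE'cl.smul_left_of_isCompact hH'cpt
  have hIsub : I ⊆ atom H' c := by
    rintro _ ⟨τ, hτ, e, he, rfl⟩
    exact hat.2.1 τ hτ e (hQat (hEQ he))
  have hI'sub : I' ⊆ atom H' c := by
    rintro _ ⟨τ, hτ, e, he, rfl⟩
    exact hat.2.1 τ hτ e (hQat (hE'Q he))
  have hcover : atom H' c ⊆ I ∪ I' := by
    intro d hd
    obtain ⟨τ, hτ, hτd⟩ := exists_smul_mem_core p hpo hpcl horb H' c hd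
    rcases hQEE' hτd with h | h
    · exact Or.inl ⟨τ⁻¹, inv_mem hτ, τ • d, h, by simp⟩
    · exact Or.inr ⟨τ⁻¹, inv_mem hτ, τ • d, h, by simp⟩
  have hII' : ∀ z, z ∈ I → z ∈ I' → False := by
    rintro z ⟨σ, hσ, e, he, hσe⟩ ⟨τ, hτ, e', he', hτe'⟩
    have hσe' : σ • e = z := hσe
    have hτe'' : τ • e' = z := hτe'
    have h1 : (τ⁻¹ * σ) • e = e' := by
      rw [mul_smul, hσe', ← hτe'', inv_smul_smul]
    have hρM : τ⁻¹ * σ ∈ M :=
      hMstab _ (mul_mem (inv_mem hτ) hσ) e (hEQ he) (h1 ▸ hE'Q he')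
    have h2 : e' ∈ E := h1 ▸ hEinv _ hρM e he
    exact hEE' e' h2 he'
  have hIopen : IsOpen I := by
    have : Iᶜ = (atom H' c)ᶜ ∪ I' := by
      ext z
      simp only [mem_compl_iff, mem_union]
      constructor
      · intro hz
        by_cases hza : z ∈ atom H' c
        · rcases hcover hza with h | h
          · exact absurd h hz
          · exact Or.inr h
        · exact Or.inl hza
      · rintro (h | h)
        · exact fun hzI => h (hIsub hzI)
        · exact fun hzI => hII' z hzI h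
    rw [← isClosed_compl_iff, this]
    exact hat.1.2.isClosed_compl.union hI'cl
  have hIinv : Inv H' I := Inv.smul_set H' H' le_rfl E
  have hIne : I.Nonempty := ⟨c, 1, one_mem H', c, hcE, one_smul _ _⟩
  have hIeq : I = atom H' c := atom_eq_of p hpo hpcl horb ⟨hIcl, hIopen⟩ hIinv hIne hIsub
  -- conclusion
  rw [eq_empty_iff_forall_notMem]
  rintro w ⟨hwQ, hwv⟩
  have hwE' : w ∈ E' := ⟨hwQ, 1, one_mem H', w, ⟨hwQ, hwv⟩, one_smul _ _⟩
  have hwI' : w ∈ I' := ⟨1, one_mem H', w, hwE', one_smul _ _⟩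
  have hwI : w ∈ I := hIeq ▸ hI'sub hwI'
  exact hII' w hwI hwI'

include hpo hpcl horb in
theorem isPreconnected_core (c : Z) : IsPreconnected (core (G := G) c) := by
  rw [isPreconnected_closed_iff]
  intro u v hu hv hsub hne1 hne2
  by_contra hcon
  rw [not_nonempty_iff_eq_empty] at hcon
  have hcQ : c ∈ core (G := G) c := mem_core p hpo hpcl horb c
  rcases hsub hcQ with hcu | hcv
  · have := core_key p hpo hpcl horb c u v hu hv hsub hcon hcu
    rw [this] at hne2
    exact hne2.ne_empty rfl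
  · have hsub' : core (G := G) c ⊆ v ∪ u := by rwa [union_comm]
    have hcon' : core (G := G) c ∩ (v ∩ u) = ∅ := by rwa [inter_comm v u]
    have := core_key p hpo hpcl horb c v u hv hu hsub' hcon' hcv
    rw [this] at hne1
    exact hne1.ne_empty rfl

include hpo hpcl horb in
/-- **Main theorem**: every connected component of `Z` maps onto `X`. -/
theorem image_connectedComponent_eq_univ (hinv : ∀ (g : G) (z : Z), p (g • z) = p z) (c : Z) :
    p '' connectedComponent c = univ := by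
  have hQsub : core (G := G) c ⊆ connectedComponent c :=
    (isPreconnected_core p hpo hpcl horb c).subset_connectedComponent
      (mem_core p hpo hpcl horb c)
  rw [eq_univ_iff_forall]
  intro x
  have hat := atom_mem_family p hpo hpcl horb (topONS (G := G)) c
  have himg := image_eq_univ_of_isClopen p hpo hpcl hat.1 ⟨c, hat.2.2⟩
  obtain ⟨d, hd, hdx⟩ : x ∈ p '' atom (topONS (G := G)) c := himg ▸ mem_univ _
  obtain ⟨τ, -, hτd⟩ := exists_smul_mem_core p hpo hpcl horb (topONS (G := G)) c hd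
  exact ⟨τ • d, hQsub hτd, (hinv τ d).trans hdx⟩

end

end ProfiniteOrbit

end Groth.Agent.Lib.Helper38
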