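import Mathlib
import Groth.Prelude.Def_Curv2
import Groth.Agent.Lib.Helper38.GaloisOrbit
import Groth.Agent.Lib.Helper38.ProfiniteOrbit
import Groth.Agent.Lib.Helper50.GeomConnScheme

/-!
# Continuity of the Galois action on a base change, and images of connected components
-/

open CategoryTheory AlgebraicGeometry Limits TopologicalSpace TensorProduct
open scoped Pointwise

namespace Groth.Agent.Lib.Helper38

namespace GaloisCont

universe u

variable (k : Type u) [Field k] (X : Scheme.{u}) [X.Over (Spec (CommRingCat.of k))]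
  (K : Type u) [Field K] [Algebra k K]

theorem galAct_mul (σ τ : K ≃ₐ[k] K) :
    Curv2.galAct k X K (σ * τ) = Curv2.galAct k X K σ ≫ Curv2.galAct k X K τ := by
  apply pullback.hom_ext
  · have h1 := GaloisOrbit.galAct_fst k X K (σ * τ)
    have h2 := GaloisOrbit.galAct_fst k X K σ
    have h3 := GaloisOrbit.galAct_fst k X K τ
    rw [Category.assoc]
    refine h1.trans ?_
    rw [h3, h2]
  · have h1 := GaloisOrbit.galAct_snd k X K (σ * τ)
    have h2 := GaloisOrbit.galAct_snd k X K σ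
    have h3 := GaloisOrbit.galAct_snd k X K τ
    rw [Category.assoc]
    refine h1.trans ?_
    rw [h3, ← Category.assoc, h2, Category.assoc, ← Spec.map_comp, ← CommRingCat.ofHom_comp]
    rfl

theorem galAct_one : Curv2.galAct k X K 1 = 𝟙 _ := by
  apply pullback.hom_ext
  · have h1 := GaloisOrbit.galAct_fst k X K 1
    rw [Category.id_comp]
    exact h1
  · have h1 := GaloisOrbit.galAct_snd k X K 1
    rw [Category.id_comp]
    refine h1.trans ?_
    have : CommRingCat.ofHom ((1 : K ≃ₐ[k] K) : K →ₐ[k] K).toRingHom = 𝟙 _ := rfl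
    rw [this, Spec.map_id, Category.comp_id]

theorem galAct_mul_apply (σ τ : K ≃ₐ[k] K) (z : ↥(Curv2.bc k X K)) :
    (Curv2.galAct k X K (σ * τ)).base z =
      (Curv2.galAct k X K τ).base ((Curv2.galAct k X K σ).base z) := by
  rw [galAct_mul]
  rfl

/-- An affine chart of `X_K` over an affine open of `X`, equivariant for the Galois action. -/
theorem exists_chart (U : X.Opens) (hU : IsAffineOpen U) :
    ∃ (A : Type u) (_ : CommRing A) (_ : Algebra k A)
      (j : Spec (CommRingCat.of (A ⊗[k] K)) ⟶ Curv2.bc k X K),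
      IsOpenImmersion j ∧ Set.range j = (Curv2.bcFst k X K) ⁻¹' (U : Set X) ∧
      ∀ τ : K ≃ₐ[k] K,
        Spec.map (CommRingCat.ofHom
          (Algebra.TensorProduct.map (AlgHom.id k A) (τ : K →ₐ[k] K)).toRingHom) ≫ j =
          j ≫ Curv2.galAct k X K τ := by
  let f := X ↘ Spec (CommRingCat.of k)
  let g := Spec.map (CommRingCat.ofHom (algebraMap k K))
  let φ : CommRingCat.of k ⟶ Γ(X, U) := Spec.preimage (hU.fromSpec ≫ f)
  have hφ : Spec.map φ = hU.fromSpec ≫ f := Spec.map_preimage _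
  letI : Algebra k Γ(X, U) := φ.hom.toAlgebra
  have halg : CommRingCat.ofHom (algebraMap k Γ(X, U)) = φ := rfl
  let inl : Γ(X, U) ⟶ CommRingCat.of (Γ(X, U) ⊗[k] K) :=
    CommRingCat.ofHom Algebra.TensorProduct.includeLeftRingHom
  let inr : CommRingCat.of K ⟶ CommRingCat.of (Γ(X, U) ⊗[k] K) :=
    CommRingCat.ofHom Algebra.TensorProduct.includeRight.toRingHom
  have big : IsPullback (Spec.map inr) (Spec.map inl) g (Spec.map φ) :=
    (isPullback_SpecMap_of_isPushout _ _ _ _
      (CommRingCat.isPushout_tensorProduct k Γ(X, U) K)).flip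
  let j : Spec (CommRingCat.of (Γ(X, U) ⊗[k] K)) ⟶ Curv2.bc k X K :=
    pullback.lift (Spec.map inl ≫ hU.fromSpec) (Spec.map inr)
      (by rw [Category.assoc, ← hφ]; exact big.w.symm)
  have hj1 : j ≫ pullback.fst f g = Spec.map inl ≫ hU.fromSpec := pullback.lift_fst _ _ _
  have hj2 : j ≫ pullback.snd f g = Spec.map inr := pullback.lift_snd _ _ _
  have sq : IsPullback j (Spec.map inl) (pullback.fst f g) hU.fromSpec := by
    refine IsPullback.of_right ?_ hj1 (IsPullback.of_hasPullback f g).flip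
    rw [hj2, ← hφ]
    exact big
  refine ⟨Γ(X, U), inferInstance, inferInstance, j, ?_, ?_, ?_⟩
  · exact MorphismProperty.of_isPullback (P := @IsOpenImmersion) sq.flip inferInstance
  · have e : sq.isoPullback.hom ≫ pullback.fst (pullback.fst f g) hU.fromSpec = j :=
      sq.isoPullback_hom_fst
    have hsurj : Set.range ⇑sq.isoPullback.hom = Set.univ :=
      Set.range_eq_univ.mpr sq.isoPullback.hom.homeomorph.surjective
    rw [← e, Scheme.Hom.comp_base, TopCat.coe_comp, Set.range_comp, hsurj, Set.image_univ,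
      Scheme.Pullback.range_fst, hU.range_fromSpec]
  · intro τ
    apply pullback.hom_ext
    · have h1 := GaloisOrbit.galAct_fst k X K τ
      rw [Category.assoc, Category.assoc]
      erw [h1]
      rw [hj1, ← Category.assoc, ← Spec.map_comp]
      congr 2
      ext x
      simp [inl]
    · have h1 := GaloisOrbit.galAct_snd k X K τ
      rw [Category.assoc, Category.assoc]
      erw [h1]
      rw [hj2, ← Category.assoc, hj2, ← Spec.map_comp, ← Spec.map_comp]
      congr 1

/-- Every element of `A ⊗[k] K` is fixed by an open subgroup of the Galois group. -/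
theorem exists_isOpen_fixing [Algebra.IsIntegral k K] (A : Type u) [CommRing A] [Algebra k A]
    (b : A ⊗[k] K) :
    ∃ H : Subgroup (K ≃ₐ[k] K), IsOpen (H : Set (K ≃ₐ[k] K)) ∧
      ∀ τ ∈ H, Algebra.TensorProduct.map (AlgHom.id k A) (τ : K →ₐ[k] K) b = b := by
  induction b using TensorProduct.induction_on with
  | zero => exact ⟨⊤, isOpen_univ, fun τ _ => map_zero _⟩
  | tmul a c =>
    refine ⟨MulAction.stabilizer (K ≃ₐ[k] K) c, stabilizer_isOpen_of_isIntegral c, ?_⟩
    intro τ hτ
    have : τ c = c := hτ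
    simp [this]
  | add x y hx hy =>
    obtain ⟨H₁, hH₁, h1⟩ := hx
    obtain ⟨H₂, hH₂, h2⟩ := hy
    refine ⟨H₁ ⊓ H₂, hH₁.inter hH₂, ?_⟩
    intro τ hτ
    rw [map_add, h1 τ hτ.1, h2 τ hτ.2]

/-- The (right) Galois action on `X_K` is jointly continuous. -/
theorem continuous_galAct [Algebra.IsIntegral k K] :
    Continuous (fun x : (K ≃ₐ[k] K) × ↥(Curv2.bc k X K) =>
      (Curv2.galAct k X K x.1).base x.2) := by
  rw [continuous_iff_continuousAt]
  rintro ⟨σ₀, z₀⟩
  rw [ContinuousAt, (nhds_basis_opens _).tendsto_right_iff]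
  rintro O ⟨hw₀, hO⟩
  set w₀ := (Curv2.galAct k X K σ₀).base z₀ with hw₀def
  -- an affine chart around the image point
  obtain ⟨_, ⟨U, hU, rfl⟩, hxU, -⟩ := (X.isBasis_affineOpens).exists_subset_of_mem_open
    (Set.mem_univ ((Curv2.bcFst k X K).base w₀)) isOpen_univ
  obtain ⟨A, _, _, j, hjo, hjr, hjeq⟩ := exists_chart k X K U hU
  have hw₀r : w₀ ∈ Set.range j := by rw [hjr]; exact hxU
  obtain ⟨y₀, hy₀⟩ := hw₀r
  have hO' : IsOpen (j.base ⁻¹' O) := hO.preimage j.continuous
  obtain ⟨_, ⟨b, rfl⟩, hy₀b, hbO⟩ :=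
    PrimeSpectrum.isTopologicalBasis_basic_opens.exists_subset_of_mem_open
      (show y₀ ∈ j.base ⁻¹' O from by rw [Set.mem_preimage, hy₀]; exact hw₀) hO'
  obtain ⟨H, hHo, hHb⟩ := exists_isOpen_fixing k K A b
  let B : Set ↥(Curv2.bc k X K) :=
    j.base '' (PrimeSpectrum.basicOpen b : Set (PrimeSpectrum (A ⊗[k] K)))
  have hBo : IsOpen B := j.isOpenEmbedding.isOpenMap _ (PrimeSpectrum.basicOpen b).isOpen
  have hBO : B ⊆ O := by
    rintro _ ⟨y, hy, rfl⟩
    exact hbO hy
  have hN : (σ₀ • (H : Set (K ≃ₐ[k] K))) ∈ nhds σ₀ :=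
    (hHo.leftCoset σ₀).mem_nhds ⟨1, H.one_mem, by simp⟩
  have hZ : (Curv2.galAct k X K σ₀).base ⁻¹' B ∈ nhds z₀ :=
    (hBo.preimage (Curv2.galAct k X K σ₀).continuous).mem_nhds ⟨y₀, hy₀b, hy₀⟩
  refine Filter.eventually_of_mem (prod_mem_nhds hN hZ) ?_
  rintro ⟨σ, z⟩ ⟨⟨τ, hτ, rfl⟩, hz⟩
  obtain ⟨y, hy, hyz⟩ := hz
  show (Curv2.galAct k X K (σ₀ * τ)).base z ∈ O
  rw [galAct_mul_apply, ← hyz]
  have h1 := congr($(hjeq τ) y)
  apply hBO
  refine ⟨_, ?_, h1⟩
  show b ∉ (PrimeSpectrum.comap _ y).asIdeal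
  rw [PrimeSpectrum.comap_asIdeal, Ideal.mem_comap]
  have := hHb τ hτ
  show ¬ (Algebra.TensorProduct.map (AlgHom.id k A) (τ : K →ₐ[k] K)) b ∈ y.asIdeal
  rw [this]
  exact hy

/-- The left action of the Galois group on the points of `X_K`. -/
@[reducible] noncomputable def galMulAction : MulAction (K ≃ₐ[k] K) ↥(Curv2.bc k X K) where
  smul σ z := (Curv2.galAct k X K σ⁻¹).base z
  one_smul z := by
    show (Curv2.galAct k X K (1 : K ≃ₐ[k] K)⁻¹).base z = z
    rw [inv_one, galAct_one]
    rfl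
  mul_smul σ τ z := by
    show (Curv2.galAct k X K (σ * τ)⁻¹).base z =
      (Curv2.galAct k X K σ⁻¹).base ((Curv2.galAct k X K τ⁻¹).base z)
    rw [mul_inv_rev, galAct_mul_apply]

theorem continuousSMul_galMulAction [Algebra.IsIntegral k K] :
    @ContinuousSMul (K ≃ₐ[k] K) ↥(Curv2.bc k X K) (galMulAction k X K).toSMul _ _ := by
  letI := galMulAction k X K
  refine ⟨?_⟩
  have h1 : Continuous (fun x : (K ≃ₐ[k] K) × ↥(Curv2.bc k X K) => (x.1⁻¹, x.2)) :=
    continuous_fst.inv.prodMk continuous_snd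
  have h2 := (continuous_galAct k X K).comp h1
  exact h2

/-- For a Galois extension `K/k` and a preconnected `k`-scheme `X`, every connected component of
`X_K` maps onto `X`. -/
theorem image_connectedComponent_eq_univ [IsGalois k K] [PreconnectedSpace X]
    (c : ↥(Curv2.bc k X K)) :
    (Curv2.bcFst k X K).base '' connectedComponent c = Set.univ := by
  haveI : Algebra.IsIntegral k K := inferInstance
  letI := galMulAction k X K
  haveI := continuousSMul_galMulAction k X K
  have hint : IsIntegralHom (Spec.map (CommRingCat.ofHom (algebraMap k K))) :=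
    Groth.Agent.Lib.Helper50.isIntegralHom_specMap_of_isAlgebraic k K
  have hcl : IsClosedMap (Curv2.bcFst k X K).base := Scheme.Hom.isClosedMap _
  have hop : IsOpenMap (Curv2.bcFst k X K).base := (Curv2.bcFst k X K).isOpenMap
  apply ProfiniteOrbit.image_connectedComponent_eq_univ (G := K ≃ₐ[k] K) _ hop hcl ?_ ?_ c
  · intro z z' h
    obtain ⟨σ, hσ⟩ := GaloisOrbit.exists_galAct_apply_eq k X K z z' h
    refine ⟨σ⁻¹, ?_⟩
    show (Curv2.galAct k X K (σ⁻¹)⁻¹).base z = z'
    rw [inv_inv]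
    exact hσ
  · intro g z
    exact GaloisOrbit.bcFst_galAct_apply k X K g⁻¹ z

end GaloisCont

end Groth.Agent.Lib.Helper38
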