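import Mathlib
import Groth.Prelude.Def_Curv2
import Groth.Agent.Lib.Helper38.GaloisCont
import Groth.Agent.Lib.Helper50.BaseChangeMap
import Groth.Agent.Lib.Helper50.GeomScheme

/-!
# The image of a connected component of a base change is a connected component
-/

open CategoryTheory AlgebraicGeometry Limits TopologicalSpace

namespace Groth.Agent.Lib.Helper38

namespace CompImage

universe u

variable (k : Type u) [Field k] (X : Scheme.{u}) [X.Over (Spec (CommRingCat.of k))]

/-- Galois case. -/
theorem image_connectedComponent_galois (K : Type u) [Field K] [Algebra k K] [IsGalois k K]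
    (z : ↥(Curv2.bc k X K)) :
    (Curv2.bcFst k X K).base '' connectedComponent z =
      connectedComponent ((Curv2.bcFst k X K).base z) := by
  apply Set.Subset.antisymm
  · exact (isPreconnected_connectedComponent.image _
      (Curv2.bcFst k X K).continuous.continuousOn).subset_connectedComponent
      ⟨z, mem_connectedComponent, rfl⟩
  · set T := connectedComponent ((Curv2.bcFst k X K).base z) with hT
    let f := X ↘ Spec (CommRingCat.of k)
    let g := Spec.map (CommRingCat.ofHom (algebraMap k K))
    let Zc : Closeds X := ⟨T, isClosed_connectedComponent⟩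
    let I := Scheme.IdealSheafData.vanishingIdeal Zc
    let i : I.subscheme ⟶ X := I.subschemeι
    have hi : Set.range i = T := by
      rw [Scheme.IdealSheafData.range_subschemeι,
        Scheme.IdealSheafData.coe_support_vanishingIdeal]
      rfl
    letI : I.subscheme.Over (Spec (CommRingCat.of k)) := ⟨i ≫ f⟩
    let J : pullback (i ≫ f) g ⟶ pullback f g :=
      pullback.lift (pullback.fst (i ≫ f) g ≫ i) (pullback.snd (i ≫ f) g)
        (by rw [Category.assoc]; exact pullback.condition)
    have hJ1 : J ≫ pullback.fst f g = pullback.fst (i ≫ f) g ≫ i := pullback.lift_fst _ _ _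
    have hJ2 : J ≫ pullback.snd f g = pullback.snd (i ≫ f) g := pullback.lift_snd _ _ _
    have sq : IsPullback J (pullback.fst (i ≫ f) g) (pullback.fst f g) i := by
      refine IsPullback.of_right ?_ hJ1 (IsPullback.of_hasPullback f g).flip
      rw [hJ2]
      exact (IsPullback.of_hasPullback (i ≫ f) g).flip
    have hJr : Set.range J = (pullback.fst f g) ⁻¹' T := by
      have e : sq.isoPullback.hom ≫ pullback.fst (pullback.fst f g) i = J :=
        sq.isoPullback_hom_fst
      have hsurj : Set.range ⇑sq.isoPullback.hom = Set.univ :=
        Set.range_eq_univ.mpr sq.isoPullback.hom.homeomorph.surjective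
      rw [← e, Scheme.Hom.comp_base, TopCat.coe_comp, Set.range_comp, hsurj, Set.image_univ,
        Scheme.Pullback.range_fst, hi]
    haveI : PreconnectedSpace ↥I.subscheme := by
      refine ⟨(i.isEmbedding.isInducing.isPreconnected_image).mp ?_⟩
      rw [Set.image_univ, hi]
      exact isPreconnected_connectedComponent
    have hz : z ∈ Set.range J := by
      rw [hJr]
      exact mem_connectedComponent
    obtain ⟨z₀, hz₀⟩ := hz
    have hmain := GaloisCont.image_connectedComponent_eq_univ k I.subscheme K z₀
    intro t ht
    obtain ⟨t', ht'⟩ : t ∈ Set.range i := hi ▸ ht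
    obtain ⟨w, hw, hwt⟩ : t' ∈ (Curv2.bcFst k I.subscheme K).base '' connectedComponent z₀ :=
      hmain ▸ Set.mem_univ _
    refine ⟨J w, ?_, ?_⟩
    · have h1 : _root_.IsPreconnected (J.base '' connectedComponent z₀) :=
        isPreconnected_connectedComponent.image _ J.continuous.continuousOn
      have h2 := h1.subset_connectedComponent (x := J z₀)
        ⟨z₀, mem_connectedComponent, rfl⟩
      rw [hz₀] at h2
      exact h2 ⟨w, hw, rfl⟩
    · have := congr($hJ1 w)
      refine this.trans ?_
      rw [← ht']
      exact congrArg i hwt

/-- General case: the image in `X` of a connected component of `X_K` is a connected component. -/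
theorem image_connectedComponent (K : Type u) [Field K] [Algebra k K] (x' : ↥(Curv2.bc k X K)) :
    (Curv2.bcFst k X K).base '' connectedComponent x' =
      connectedComponent ((Curv2.bcFst k X K).base x') := by
  apply Set.Subset.antisymm
  · exact (isPreconnected_connectedComponent.image _
      (Curv2.bcFst k X K).continuous.continuousOn).subset_connectedComponent
      ⟨x', mem_connectedComponent, rfl⟩
  · let Ω := AlgebraicClosure K
    let ks := separableClosure k Ω
    haveI hksc : IsSepClosed ks := IsSepClosure.sep_closed k
    let f := X ↘ Spec (CommRingCat.of k)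
    obtain ⟨rK, hrK, hrK'⟩ := Groth.Agent.Lib.Helper50.exists_bcMap f (algebraMap k K)
      (algebraMap K Ω) (algebraMap k Ω) (IsScalarTower.algebraMap_eq k K Ω)
    obtain ⟨rs, hrs, hrs'⟩ := Groth.Agent.Lib.Helper50.exists_bcMap f (algebraMap k ks)
      (algebraMap ks Ω) (algebraMap k Ω) (IsScalarTower.algebraMap_eq k ks Ω)
    have hrKsurj : Function.Surjective rK := by
      have : Surjective rK := MorphismProperty.of_isPullback hrK.flip
        (Groth.Agent.Lib.Helper50.surjective_specMap_field _)
      exact rK.surjective
    haveI hgc : GeometricallyConnected rs := MorphismProperty.of_isPullback hrs.flip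
      (Groth.Agent.Lib.Helper50.geometricallyConnected_specMap_of_isSepClosed ks Ω)
    haveI huo : UniversallyOpen rs := MorphismProperty.of_isPullback hrs.flip inferInstance
    have hrsopen : IsOpenMap rs := rs.isOpenMap
    have hrssurj : Function.Surjective rs := rs.surjective
    obtain ⟨y, hy⟩ := hrKsurj x'
    -- Claim A
    have hA : connectedComponent (rs y) ⊆ rs.base '' connectedComponent y := by
      have h1 : _root_.IsConnected (rs ⁻¹' connectedComponent (rs y)) :=
        rs.isConnected_preimage hrsopen isConnected_connectedComponent
          isClosed_connectedComponent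
      have h2 : rs ⁻¹' connectedComponent (rs y) ⊆ connectedComponent y :=
        h1.2.subset_connectedComponent (show y ∈ rs ⁻¹' connectedComponent (rs y) from
          mem_connectedComponent)
      intro w hw
      obtain ⟨w', rfl⟩ := hrssurj w
      exact ⟨w', h2 hw, rfl⟩
    -- Galois case
    have hG := image_connectedComponent_galois k X ks (rs y)
    have hpy : (Curv2.bcFst k X ks).base (rs y) = (Curv2.bcFst k X K).base x' := by
      have e1 := congr($hrs' y)
      have e2 := congr($hrK' y)
      rw [← hy]
      exact e1.trans e2.symm
    rw [← hpy, ← hG]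
    rintro _ ⟨v, hv, rfl⟩
    obtain ⟨u, hu, rfl⟩ := hA hv
    refine ⟨rK u, ?_, ?_⟩
    · have h1 : _root_.IsPreconnected (rK.base '' connectedComponent y) :=
        isPreconnected_connectedComponent.image _ rK.continuous.continuousOn
      have h2 := h1.subset_connectedComponent (x := rK y) ⟨y, mem_connectedComponent, rfl⟩
      rw [hy] at h2
      exact h2 ⟨u, hu, rfl⟩
    · have e1 := congr($hrs' u)
      have e2 := congr($hrK' u)
      exact e2.trans e1.symm

end CompImage

end Groth.Agent.Lib.Helper38
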