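import Groth.Agent.Lib.Helper38.TopBasic
import Mathlib.Topology.Constructible
import Mathlib.Topology.NoetherianSpace

set_option autoImplicit false
universe u

namespace Groth.Agent.Lib.Helper38

open Set Topology TopologicalSpace

/-- A set which is a finite union of locally closed sets. -/
def IsFinUnionLC {X : Type*} [TopologicalSpace X] (s : Set X) : Prop :=
  ∃ S : Set (Set X), S.Finite ∧ (∀ l ∈ S, IsLocallyClosed l) ∧ s = ⋃₀ S

theorem IsFinUnionLC.of_isLocallyClosed {X : Type*} [TopologicalSpace X] {s : Set X}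
    (hs : IsLocallyClosed s) : IsFinUnionLC s :=
  ⟨{s}, finite_singleton s, by simpa using hs, by simp⟩

theorem IsFinUnionLC.union {X : Type*} [TopologicalSpace X] {s t : Set X}
    (hs : IsFinUnionLC s) (ht : IsFinUnionLC t) : IsFinUnionLC (s ∪ t) := by
  obtain ⟨S, hSf, hS, rfl⟩ := hs
  obtain ⟨T, hTf, hT, rfl⟩ := ht
  refine ⟨S ∪ T, hSf.union hTf, ?_, (sUnion_union S T).symm⟩
  rintro l (hl | hl)
  · exact hS l hl
  · exact hT l hl

theorem IsFinUnionLC.inter {X : Type*} [TopologicalSpace X] {s t : Set X}
    (hs : IsFinUnionLC s) (ht : IsFinUnionLC t) : IsFinUnionLC (s ∩ t) := by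
  obtain ⟨S, hSf, hS, rfl⟩ := hs
  obtain ⟨T, hTf, hT, rfl⟩ := ht
  refine ⟨Set.image2 (· ∩ ·) S T, hSf.image2 _ hTf, ?_, ?_⟩
  · rintro _ ⟨a, ha, b, hb, rfl⟩
    exact (hS a ha).inter (hT b hb)
  · ext x
    simp only [mem_inter_iff, mem_sUnion, mem_image2, exists_exists_and_exists_and_eq_and]
    constructor
    · rintro ⟨⟨a, ha, hxa⟩, ⟨b, hb, hxb⟩⟩
      exact ⟨a, ha, b, hb, hxa, hxb⟩
    · rintro ⟨a, ha, b, hb, hxa, hxb⟩
      exact ⟨⟨a, ha, hxa⟩, ⟨b, hb, hxb⟩⟩

/-- Constructible sets and their complements are finite unions of locally closed sets. -/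
theorem isFinUnionLC_and_compl_of_isConstructible {X : Type*} [TopologicalSpace X] {s : Set X}
    (hs : IsConstructible s) : IsFinUnionLC s ∧ IsFinUnionLC sᶜ := by
  induction hs using IsConstructible.empty_union_induction with
  | open_retrocompact U hUopen hUcomp =>
    exact ⟨.of_isLocallyClosed hUopen.isLocallyClosed,
      .of_isLocallyClosed hUopen.isClosed_compl.isLocallyClosed⟩
  | union s hs t ht hs' ht' =>
    refine ⟨hs'.1.union ht'.1, ?_⟩
    rw [compl_union]
    exact hs'.2.inter ht'.2
  | compl s hs hs' =>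
    refine ⟨hs'.2, ?_⟩
    rw [compl_compl]
    exact hs'.1

theorem IsFinUnionLC.of_isConstructible {X : Type*} [TopologicalSpace X] {s : Set X}
    (hs : IsConstructible s) : IsFinUnionLC s :=
  (isFinUnionLC_and_compl_of_isConstructible hs).1

/-- Reindex a finite union of locally closed sets by a `Finite` type. -/
theorem IsFinUnionLC.exists_finite_index {X : Type u} [TopologicalSpace X] {s : Set X}
    (hs : IsFinUnionLC s) :
    ∃ (ι : Type u) (_ : Finite ι) (L : ι → Set X), (∀ i, IsLocallyClosed (L i)) ∧ s = ⋃ i, L i := by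
  obtain ⟨S, hSf, hS, rfl⟩ := hs
  exact ⟨S, hSf.to_subtype, fun l => l.1, fun l => hS l.1 l.2, sUnion_eq_iUnion⟩

/-- A finite union of locally closed sets in a Noetherian quasi-sober space which is stable under
specialization meets every closed subset in a closed subset. -/
theorem isClosed_inter_of_isFinUnionLC_of_stableUnderSpecialization {X : Type u}
    [TopologicalSpace X] [NoetherianSpace X] [QuasiSober X] {E : Set X}
    (hE : IsFinUnionLC E) (hsp : StableUnderSpecialization E) (Z : Closeds X) :
    IsClosed (E ∩ (Z : Set X)) := by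
  obtain ⟨ι, _, L, hL, rfl⟩ := hE.exists_finite_index
  induction Z using WellFoundedLT.induction with
  | ind Z IH =>
  rcases eq_or_ne Z ⊥ with (rfl | h₀)
  · simp
  by_cases h₁ : IsPreirreducible (Z : Set X)
  · have hirr : IsIrreducible (Z : Set X) := ⟨Closeds.coe_nonempty.2 h₀, h₁⟩
    have hgen := hirr.isGenericPoint_genericPoint Z.isClosed
    by_cases hξ : hirr.genericPoint ∈ ⋃ i, L i
    · -- then `Z ⊆ E`
      have : (Z : Set X) ⊆ ⋃ i, L i := fun z hz => hsp (hgen.specializes hz) hξ
      rw [inter_eq_right.mpr this]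
      exact Z.isClosed
    · -- `E ∩ Z` is not dense in `Z`
      have hnd : ¬ (Z : Set X) ⊆ closure ((⋃ i, L i) ∩ Z) := fun h =>
        hξ (mem_of_dense_inter_irreducible_of_generic hirr L hL h hgen.mem hgen.def.ge)
      let Z' : Closeds X := ⟨closure ((⋃ i, L i) ∩ Z), isClosed_closure⟩
      have hle : Z' ≤ Z := by
        change closure ((⋃ i, L i) ∩ (Z : Set X)) ⊆ Z
        exact closure_minimal inter_subset_right Z.isClosed
      have hlt : Z' < Z := lt_of_le_of_ne hle (fun h => hnd (by
        have : (Z' : Set X) = Z := congrArg _ h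
        exact this.ge))
      have := IH Z' hlt
      have heq : (⋃ i, L i) ∩ (Z' : Set X) = (⋃ i, L i) ∩ Z := by
        apply subset_antisymm
        · exact inter_subset_inter_right _ hle
        · exact fun x hx => ⟨hx.1, subset_closure hx⟩
      rwa [heq] at this
  · simp only [isPreirreducible_iff_isClosed_union_isClosed, not_forall, not_or] at h₁
    obtain ⟨z₁, z₂, hz₁, hz₂, h, hz₁', hz₂'⟩ := h₁
    lift z₁ to Closeds X using hz₁
    lift z₂ to Closeds X using hz₂
    have h1 := IH (Z ⊓ z₁) (inf_lt_left.2 hz₁')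
    have h2 := IH (Z ⊓ z₂) (inf_lt_left.2 hz₂')
    have : (⋃ i, L i) ∩ (Z : Set X) =
        ((⋃ i, L i) ∩ ((Z ⊓ z₁ : Closeds X) : Set X)) ∪
          ((⋃ i, L i) ∩ ((Z ⊓ z₂ : Closeds X) : Set X)) := by
      rw [← inter_union_distrib_left]
      congr 1
      simp only [Closeds.coe_inf]
      rw [← inter_union_distrib_left]
      exact (inter_eq_left.mpr h).symm
    rw [this]
    exact h1.union h2

/-- Stacks 0542 (1): in a Noetherian quasi-sober space, a constructible set stable under
specialization is closed. -/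
theorem isClosed_of_isConstructible_of_stableUnderSpecialization {X : Type u}
    [TopologicalSpace X] [NoetherianSpace X] [QuasiSober X] {E : Set X}
    (hE : IsConstructible E) (hsp : StableUnderSpecialization E) : IsClosed E := by
  have := isClosed_inter_of_isFinUnionLC_of_stableUnderSpecialization
    (.of_isConstructible hE) hsp ⊤
  simpa using this

/-- Stacks 0542 (2): in a Noetherian quasi-sober space, a constructible set stable under
generalization is open. -/
theorem isOpen_of_isConstructible_of_stableUnderGeneralization {X : Type u}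
    [TopologicalSpace X] [NoetherianSpace X] [QuasiSober X] {E : Set X}
    (hE : IsConstructible E) (hsp : StableUnderGeneralization E) : IsOpen E := by
  rw [← isClosed_compl_iff]
  exact isClosed_of_isConstructible_of_stableUnderSpecialization hE.compl hsp.compl

end Groth.Agent.Lib.Helper38
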