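import Groth.Agent.Lib.Helper38.Constr2
import Mathlib.Topology.Spectral.ConstructibleTopology
import Mathlib.Topology.Connected.Separation

set_option autoImplicit false
universe u

namespace Groth.Agent.Lib.Helper38

open Set Topology TopologicalSpace

variable {X Y : Type*} [TopologicalSpace X] [TopologicalSpace Y]

/-- `IsClosed` for the constructible topology, as a predicate on subsets of `X`. -/
def IsClosedCT (s : Set X) : Prop := IsClosed[constructibleTopology X] s

/-- `IsOpen` for the constructible topology, as a predicate on subsets of `X`. -/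
def IsOpenCT (s : Set X) : Prop := IsOpen[constructibleTopology X] s

theorem isClosedCT_compl_iff {s : Set X} : IsClosedCT sᶜ ↔ IsOpenCT s :=
  @isClosed_compl_iff X (constructibleTopology X) s

theorem isOpenCT_compl_iff {s : Set X} : IsOpenCT sᶜ ↔ IsClosedCT s :=
  @isOpen_compl_iff X s (constructibleTopology X)

theorem IsOpenCT.of_isOpen_isCompact {s : Set X} (ho : IsOpen s) (hc : IsCompact s) : IsOpenCT s :=
  hc.isOpen_constructibleTopology_of_isOpen ho

theorem IsClosedCT.of_isOpen_isCompact {s : Set X} (ho : IsOpen s) (hc : IsCompact s) :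
    IsClosedCT s := by
  rw [← isOpenCT_compl_iff]
  exact IsCompact.isOpen_constructibleTopology_of_isClosed (by simpa using hc) (by simpa using ho)

/-- In a prespectral space the constructible topology is finer than the original one. -/
theorem IsOpenCT.of_isOpen [PrespectralSpace X] {s : Set X} (ho : IsOpen s) : IsOpenCT s := by
  obtain ⟨S, hS, rfl⟩ := PrespectralSpace.isTopologicalBasis.open_eq_sUnion ho
  exact @isOpen_sUnion X (constructibleTopology X) S
    fun t ht => IsOpenCT.of_isOpen_isCompact (hS ht).1 (hS ht).2

theorem IsClosedCT.of_isClosed [PrespectralSpace X] {s : Set X} (hc : IsClosed s) :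
    IsClosedCT s := by
  rw [← isOpenCT_compl_iff]
  exact IsOpenCT.of_isOpen hc.isOpen_compl

theorem IsClosedCT.inter {s t : Set X} (hs : IsClosedCT s) (ht : IsClosedCT t) :
    IsClosedCT (s ∩ t) :=
  @IsClosed.inter X s t (constructibleTopology X) hs ht

theorem IsClosedCT.union {s t : Set X} (hs : IsClosedCT s) (ht : IsClosedCT t) :
    IsClosedCT (s ∪ t) :=
  @IsClosed.union X s t (constructibleTopology X) hs ht

theorem IsOpenCT.inter {s t : Set X} (hs : IsOpenCT s) (ht : IsOpenCT t) :
    IsOpenCT (s ∩ t) :=
  @IsOpen.inter X (constructibleTopology X) s t hs ht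

theorem IsOpenCT.union {s t : Set X} (hs : IsOpenCT s) (ht : IsOpenCT t) :
    IsOpenCT (s ∪ t) :=
  @IsOpen.union X s t (constructibleTopology X) hs ht

theorem isClosedCT_sInter {S : Set (Set X)} (h : ∀ s ∈ S, IsClosedCT s) : IsClosedCT (⋂₀ S) :=
  @isClosed_sInter X (constructibleTopology X) S h

theorem isClosedCT_iInter {ι : Sort*} {f : ι → Set X} (h : ∀ i, IsClosedCT (f i)) :
    IsClosedCT (⋂ i, f i) :=
  @isClosed_iInter X ι (constructibleTopology X) f h

/-- In a quasi-compact quasi-separated space, constructible sets are clopen for the constructible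
topology. -/
theorem isClosedCT_and_isOpenCT_of_isConstructible [CompactSpace X] {s : Set X}
    (hs : IsConstructible s) : IsClosedCT s ∧ IsOpenCT s := by
  induction hs using IsConstructible.empty_union_induction with
  | open_retrocompact U hUopen hUcomp =>
    exact ⟨.of_isOpen_isCompact hUopen hUcomp.isCompact, .of_isOpen_isCompact hUopen hUcomp.isCompact⟩
  | union s hs t ht hs' ht' => exact ⟨hs'.1.union ht'.1, hs'.2.union ht'.2⟩
  | compl s hs hs' => exact ⟨isClosedCT_compl_iff.mpr hs'.2, isOpenCT_compl_iff.mpr hs'.1⟩

theorem IsClosedCT.of_isConstructible [CompactSpace X] {s : Set X}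
    (hs : IsConstructible s) : IsClosedCT s :=
  (isClosedCT_and_isOpenCT_of_isConstructible hs).1

theorem IsOpenCT.of_isConstructible [CompactSpace X] {s : Set X}
    (hs : IsConstructible s) : IsOpenCT s :=
  (isClosedCT_and_isOpenCT_of_isConstructible hs).2

/-- A spectral map is continuous for the constructible topologies. -/
theorem IsSpectralMap.continuous_constructibleTopology {f : X → Y} (hf : IsSpectralMap f) :
    Continuous[constructibleTopology X, constructibleTopology Y] f := by
  apply continuous_generateFrom_iff.mpr
  rintro s (⟨hso, hsc⟩ | ⟨hscl, hsc⟩)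
  · exact IsOpenCT.of_isOpen_isCompact (hso.preimage hf.continuous)
      (hf.isCompact_preimage_of_isOpen hso hsc)
  · have : IsClosedCT (f ⁻¹' sᶜ) :=
      IsClosedCT.of_isOpen_isCompact (hscl.isOpen_compl.preimage hf.continuous)
        (hf.isCompact_preimage_of_isOpen hscl.isOpen_compl hsc)
    rw [preimage_compl] at this
    exact isClosedCT_compl_iff.mp this

theorem IsSpectralMap.isClosedCT_preimage {f : X → Y} (hf : IsSpectralMap f) {s : Set Y}
    (hs : IsClosedCT s) : IsClosedCT (f ⁻¹' s) :=
  @IsClosed.preimage X Y (constructibleTopology X) (constructibleTopology Y) f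
    (IsSpectralMap.continuous_constructibleTopology hf) s hs

/-- The map `WithConstructibleTopology X → X` is continuous for prespectral `X`. -/
theorem continuous_ofTopology_constructible [PrespectralSpace X] :
    Continuous (WithTopology.ofTopology (t := constructibleTopology X)) :=
  ⟨fun _ hs => IsOpenCT.of_isOpen hs⟩

/-- In a T0 prespectral space, the constructible topology is totally separated. -/
instance totallySeparatedSpace_withConstructibleTopology [T0Space X] [PrespectralSpace X] :
    TotallySeparatedSpace (WithConstructibleTopology X) := by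
  rw [totallySeparatedSpace_iff_exists_isClopen]
  have key : ∀ U : Set X, IsOpen U → IsCompact U →
      IsClopen (WithTopology.ofTopology (t := constructibleTopology X) ⁻¹' U) := by
    intro U hUo hUc
    constructor
    · rw [WithConstructibleTopology.isClosed_iff]
      exact IsClosedCT.of_isOpen_isCompact hUo hUc
    · rw [WithConstructibleTopology.isOpen_iff]
      exact hUc.isOpen_constructibleTopology_of_isOpen hUo
  intro x y hxy
  have hxy' : WithTopology.ofTopology x ≠ WithTopology.ofTopology y := by
    simpa using hxy
  obtain ⟨U, hU, hU'⟩ := exists_isOpen_xor_mem hxy'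
  rcases hU' with ⟨hxU, hyU⟩ | ⟨hyU, hxU⟩
  · obtain ⟨V, ⟨hVo, hVc⟩, hxV, hVU⟩ :=
      PrespectralSpace.isTopologicalBasis.exists_subset_of_mem_open hxU hU
    exact ⟨_, key V hVo hVc, hxV, fun h => hyU (hVU h)⟩
  · obtain ⟨V, ⟨hVo, hVc⟩, hyV, hVU⟩ :=
      PrespectralSpace.isTopologicalBasis.exists_subset_of_mem_open hyU hU
    exact ⟨_, (key V hVo hVc).compl, fun h => hxU (hVU h), by simpa using hyV⟩

/-- A subset closed in the constructible topology of a spectral space is quasi-compact. -/
theorem IsClosedCT.isCompact [CompactSpace X] [QuasiSober X] [PrespectralSpace X]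
    [QuasiSeparatedSpace X] {s : Set X} (hs : IsClosedCT s) : IsCompact s := by
  have h1 : IsClosed (WithTopology.toTopology (constructibleTopology X) '' s) := by
    rw [WithConstructibleTopology.isClosed_iff]
    have : WithTopology.toTopology (constructibleTopology X) ⁻¹'
        (WithTopology.toTopology (constructibleTopology X) '' s) = s :=
      preimage_image_eq s (WithTopology.toTopology_injective _)
    rw [this]
    exact hs
  have h2 := h1.isCompact.image (continuous_ofTopology_constructible (X := X))
  convert h2 using 1
  ext x
  simp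

/-- A family of subsets closed in the constructible topology of a spectral space, directed
downwards, with empty intersection, has an empty member. -/
theorem exists_eq_empty_of_directed_of_isClosedCT [CompactSpace X] [QuasiSober X]
    [PrespectralSpace X] [QuasiSeparatedSpace X] {ι : Type*} [Nonempty ι] (t : ι → Set X)
    (ht : ∀ i, IsClosedCT (t i)) (hdir : Directed (· ⊇ ·) t) (hempty : ⋂ i, t i = ∅) :
    ∃ i, t i = ∅ := by
  let t' : ι → Set (WithConstructibleTopology X) :=
    fun i => WithTopology.ofTopology (t := constructibleTopology X) ⁻¹' t i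
  have h1 : ∀ i, IsClosed (t' i) := fun i => by
    rw [WithConstructibleTopology.isClosed_iff]; exact ht i
  have h2 : (univ : Set (WithConstructibleTopology X)) ∩ ⋂ i, t' i = ∅ := by
    rw [univ_inter, ← preimage_iInter, hempty, preimage_empty]
  have h3 : Directed (· ⊇ ·) t' := fun i j => by
    obtain ⟨k, hki, hkj⟩ := hdir i j
    exact ⟨k, preimage_mono hki, preimage_mono hkj⟩
  obtain ⟨i, hi⟩ := isCompact_univ.elim_directed_family_closed t' h1 h2 h3
  refine ⟨i, ?_⟩
  rw [univ_inter] at hi
  rw [eq_empty_iff_forall_notMem] at hi ⊢
  intro x hx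
  exact hi (WithTopology.toTopology _ x) hx

end Groth.Agent.Lib.Helper38
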