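import Groth.Agent.Lib.Helper38.Delta
import Mathlib.RingTheory.DiscreteValuationRing.TFAE
import Mathlib.RingTheory.KrullDimension.Field

/-! Local reduced rings integrally closed in their total ring of fractions; DVR criterion
(helper38). -/

set_option autoImplicit false

namespace Groth.Agent.Lib.Helper38

universe u

open IsLocalRing

/-- A reduced local ring with finitely many minimal primes which is integrally closed in its total
ring of fractions is an integrally closed domain. -/
theorem isDomain_and_isIntegrallyClosed_of_local {A : Type u} [CommRing A] [IsLocalRing A]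
    [IsReduced A] (hfin : (minimalPrimes A).Finite)
    (hic : ∀ x : FractionRing A, IsIntegral A x → x ∈ (algebraMap A (FractionRing A)).range) :
    IsDomain A ∧ IsIntegrallyClosed A := by
  have hnor : EGA4.IsNormalRing A :=
    Groth.Agent.Lib.Helper13.isNormalRing_of_isIntegrallyClosedIn hfin (FractionRing A) hic
  obtain ⟨h1, h2⟩ := hnor (maximalIdeal A)
  let e : A ≃ₐ[A] Localization.AtPrime (maximalIdeal A) :=
    IsLocalization.atUnits A (maximalIdeal A).primeCompl (by
      intro x hx
      have : x ∉ maximalIdeal A := hx
      rw [mem_maximalIdeal, mem_nonunits_iff, not_not] at this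
      exact this)
  exact ⟨e.toRingEquiv.toMulEquiv.isDomain _, IsIntegrallyClosed.of_equiv e.symm.toRingEquiv⟩

/-- A Noetherian local integrally closed domain of Krull dimension one is a discrete valuation
ring. -/
theorem isDiscreteValuationRing_of_dim_one {A : Type u} [CommRing A] [IsLocalRing A] [IsDomain A]
    [IsNoetherianRing A] [IsIntegrallyClosed A] (hdim : ringKrullDim A = 1) :
    IsDiscreteValuationRing A := by
  have hnf : ¬ IsField A := by
    intro hf
    have := ringKrullDim_eq_zero_of_isField hf
    rw [hdim] at this
    exact one_ne_zero this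
  have hK : Ring.KrullDimLE 1 A := (Ring.krullDimLE_iff).mpr hdim.le
  have hm : maximalIdeal A ≠ ⊥ := isField_iff_maximalIdeal_eq.not.mp hnf
  have key : IsIntegrallyClosed A ∧ ∃! P : Ideal A, P ≠ ⊥ ∧ P.IsPrime := by
    refine ⟨inferInstance, maximalIdeal A, ⟨hm, inferInstance⟩, ?_⟩
    rintro P ⟨hP0, hP⟩
    rcases Ring.krullDimLE_one_iff.mp hK P hP with hmin | hmax
    · exfalso
      apply hP0
      have := hmin.2 ⟨Ideal.isPrime_bot, le_refl _⟩ bot_le
      exact le_antisymm this bot_le
    · exact IsLocalRing.eq_maximalIdeal hmax
  exact ((IsDiscreteValuationRing.TFAE A hnf).out 0 3).mpr key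

end Groth.Agent.Lib.Helper38
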