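import Mathlib

/-!
# Reduced fibres of a base change along a field extension, ring level (helper38)
-/

set_option autoImplicit false
universe u
open TensorProduct

namespace Groth.Agent.Lib.Helper38.DeltaBCAlg

/-- Let `R' = K ⊗[k] R`, `A` a localization of `R`, `B` the localization of `R'` at a prime, with a
compatible map `A → B`, and `C` an `A`-algebra.  If `K ⊗[k] C` is reduced, so is `B ⊗[A] C`. -/
theorem isReduced_tensor_of_isPushout
    (k K R R' A B C : Type u) [CommRing k] [CommRing K] [CommRing R] [CommRing R'] [CommRing A]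
    [CommRing B] [CommRing C]
    [Algebra k K] [Algebra k R] [Algebra k R'] [Algebra K R'] [Algebra R R']
    [IsScalarTower k K R'] [IsScalarTower k R R'] [Algebra.IsPushout k K R R']
    [Algebra R A] [Algebra R' B] [Algebra A B] [Algebra R B] [IsScalarTower R A B]
    [IsScalarTower R R' B]
    (q : Ideal R') [q.IsPrime] [IsLocalization.AtPrime B q]
    (S : Submonoid R) [IsLocalization S A]
    [Algebra A C] [Algebra R C] [IsScalarTower R A C] [Algebra k C] [IsScalarTower k R C]
    (hred : IsReduced (K ⊗[k] C)) : IsReduced (B ⊗[A] C) := by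
  -- step 1: over `R`
  let e1 : B ⊗[A] C ≃ₐ[A] B ⊗[R] C := IsLocalization.algebraTensorEquiv S A B C
  -- step 2: insert `R'`
  let e2 : B ⊗[R'] (R' ⊗[R] C) ≃ₐ[R'] B ⊗[R] C :=
    Algebra.TensorProduct.cancelBaseChange R R' R' B C
  -- step 3: `R' ⊗[R] C = K ⊗[k] C`
  let e3 : R' ⊗[R] C ≃ₐ[K] K ⊗[k] C := Algebra.IsPushout.cancelBaseChangeAlg k K R R' C
  haveI hN : IsReduced (R' ⊗[R] C) := isReduced_of_injective e3.toRingHom e3.injective
  -- step 4: localization
  haveI hloc : IsLocalization (Algebra.algebraMapSubmonoid (R' ⊗[R] C) q.primeCompl)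
      ((R' ⊗[R] C) ⊗[R'] B) := IsLocalization.tensor B q.primeCompl
  haveI hNB : IsReduced ((R' ⊗[R] C) ⊗[R'] B) :=
    isReduced_localizationPreserves (Algebra.algebraMapSubmonoid (R' ⊗[R] C) q.primeCompl)
      ((R' ⊗[R] C) ⊗[R'] B) hN
  let e4 : B ⊗[R'] (R' ⊗[R] C) ≃ₐ[R'] (R' ⊗[R] C) ⊗[R'] B := Algebra.TensorProduct.comm R' _ _
  let g : B ⊗[A] C →+* (R' ⊗[R] C) ⊗[R'] B :=
    (e4.toRingHom.comp e2.symm.toRingHom).comp e1.toRingHom
  have hg : Function.Injective g := by
    have h1 : Function.Injective e1.toRingHom := e1.injective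
    have h2 : Function.Injective e2.symm.toRingHom := e2.symm.injective
    have h4 : Function.Injective e4.toRingHom := e4.injective
    exact (h4.comp h2).comp h1
  exact isReduced_of_injective g hg

end Groth.Agent.Lib.Helper38.DeltaBCAlg
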