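import Groth.Prelude
import Groth.Agent.Lib.Helper55.FlatDim
import Groth.Agent.Lib.Helper50.FiberBC
import Groth.Agent.Lib.Helper50.IrredCompBC

/-!
# `m_x O_{X_K, y} = m_y` for base change along a field extension (helper38)
-/

set_option autoImplicit false
universe u
open CategoryTheory CategoryTheory.Limits AlgebraicGeometry
open scoped TensorProduct

namespace Groth.Agent.Lib.Helper38.MaxBC

/-- In `WithBot ℕ∞`, `a = a + b` with `a` finite and `0 ≤ b` forces `b = 0`. -/
theorem eq_zero_of_eq_add {a b : WithBot ℕ∞} (ha : a ≠ ⊥) (ha' : a ≠ ⊤) (hb : 0 ≤ b)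
    (h : a = a + b) : b = 0 := by
  obtain ⟨a', rfl⟩ := WithBot.ne_bot_iff_exists.mp ha
  have hb' : b ≠ ⊥ := by
    rintro rfl
    simp at hb
  obtain ⟨b', rfl⟩ := WithBot.ne_bot_iff_exists.mp hb'
  have ha'' : a' ≠ ⊤ := by
    rintro rfl
    exact ha' rfl
  obtain ⟨n, rfl⟩ := ENat.ne_top_iff_exists.mp ha''
  rw [← WithBot.coe_add, WithBot.coe_inj] at h
  have : b' = 0 := by
    by_contra hne
    have h1 : (1 : ℕ∞) ≤ b' := Order.one_le_iff_ne_zero.mpr hne
    have h2 : (n : ℕ∞) + 1 ≤ n + b' := by gcongr
    rw [← h] at h2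
    exact absurd h2 (by
      rw [not_le]
      exact_mod_cast Nat.lt_succ_self n)
  rw [this]
  rfl

section

variable {k : Type u} [Field k] {X : Scheme.{u}} (f : X ⟶ Spec (CommRingCat.of k))
  [LocallyOfFiniteType f] (K : Type u) [Field K] [Algebra k K]

/-- The fibre of `X_K ⟶ X` over `x` is `Spec (κ(x) ⊗[k] K)`. -/
noncomputable def fiberIso (x : X) (φ : k →+* X.residueField x)
    (hφ : Spec.map (CommRingCat.ofHom φ) = X.fromSpecResidueField x ≫ f) :
    letI := φ.toAlgebra
    (pullback.fst f (Spec.map (CommRingCat.ofHom (algebraMap k K)))).fiber x ≅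
      Spec (CommRingCat.of (X.residueField x ⊗[k] K)) := by
  letI := φ.toAlgebra
  let g := Spec.map (CommRingCat.ofHom (algebraMap k K))
  let p := pullback.fst f g
  let i1 : p.fiber x ≅ pullback (X.fromSpecResidueField x) p := pullbackSymmetry _ _
  let i2 : pullback (X.fromSpecResidueField x) p ≅ pullback (X.fromSpecResidueField x ≫ f) g :=
    pullbackRightPullbackFstIso f g _
  let i3 : pullback (X.fromSpecResidueField x ≫ f) g ≅
      pullback (Spec.map (CommRingCat.ofHom φ)) g := pullback.congrHom hφ.symm rfl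
  let i4 : pullback (Spec.map (CommRingCat.ofHom φ)) g ≅
      Spec (CommRingCat.of (X.residueField x ⊗[k] K)) := pullbackSpecIso k (X.residueField x) K
  exact i1 ≪≫ i2 ≪≫ i3 ≪≫ i4

/-- The field extension map on spectra. -/
noncomputable abbrev gK (k K : Type u) [Field k] [Field K] [Algebra k K] :
    Spec (CommRingCat.of K) ⟶ Spec (CommRingCat.of k) :=
  Spec.map (CommRingCat.ofHom (algebraMap k K))

theorem map_maximalIdeal_eq_of_fiber (x : X) (φ : k →+* X.residueField x)
    (hφ : Spec.map (CommRingCat.ofHom φ) = X.fromSpecResidueField x ≫ f)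
    (hred : letI := φ.toAlgebra; _root_.IsReduced (X.residueField x ⊗[k] K))
    (y' : ↥((pullback.fst f (gK k K)).fiber x))
    (hdim : ringKrullDim (X.presheaf.stalk
        ((pullback.fst f (gK k K)) (((pullback.fst f (gK k K)).fiberι x) y'))) =
      ringKrullDim ((pullback f (gK k K)).presheaf.stalk
        (((pullback.fst f (gK k K)).fiberι x) y'))) :
    Ideal.map ((pullback.fst f (gK k K)).stalkMap
        (((pullback.fst f (gK k K)).fiberι x) y')).hom
      (IsLocalRing.maximalIdeal _) = IsLocalRing.maximalIdeal _ := by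
  letI := φ.toAlgebra
  have : Flat (gK k K) := Groth.Agent.Lib.Helper50.flat_specMap_field k K _
  have : IsLocallyNoetherian X := LocallyOfFiniteType.isLocallyNoetherian f
  have : IsLocallyNoetherian (pullback f (gK k K)) :=
    LocallyOfFiniteType.isLocallyNoetherian (pullback.snd f (gK k K))
  -- the fibre is reduced
  have hfibred : IsReduced ((pullback.fst f (gK k K)).fiber x) := by
    have : IsReduced (Spec (CommRingCat.of (X.residueField x ⊗[k] K))) := by
      have : _root_.IsReduced (CommRingCat.of (X.residueField x ⊗[k] K)) := hred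
      infer_instance
    exact isReduced_of_isOpenImmersion (fiberIso f K x φ hφ).hom
  have hstred : _root_.IsReduced (((pullback.fst f (gK k K)).fiber x).presheaf.stalk y') :=
    inferInstance
  -- dimension of the fibre stalk is zero
  have hdimf := Groth.Agent.Lib.Helper55.dim_stalk_eq_of_flat (pullback.fst f (gK k K)) x y'
  have hz : ringKrullDim (((pullback.fst f (gK k K)).fiber x).presheaf.stalk y') = 0 := by
    refine eq_zero_of_eq_add
      (a := ringKrullDim (X.presheaf.stalk
        ((pullback.fst f (gK k K)) (((pullback.fst f (gK k K)).fiberι x) y'))))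
      ringKrullDim_ne_bot ringKrullDim_ne_top ringKrullDim_nonneg_of_nontrivial ?_
    rw [← hdimf, hdim]
  have hzero : Ring.KrullDimLE 0 (((pullback.fst f (gK k K)).fiber x).presheaf.stalk y') :=
    ringKrullDimZero_iff_ringKrullDim_eq_zero.mpr hz
  have hfield : IsField (((pullback.fst f (gK k K)).fiber x).presheaf.stalk y') :=
    Ring.KrullDimLE.isField_of_isReduced
  -- kernel of the surjection is maximal
  have hsurj : Function.Surjective (((pullback.fst f (gK k K)).fiberι x).stalkMap y').hom :=
    ((pullback.fst f (gK k K)).fiberι x).stalkMap_surjective y'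
  have hker : RingHom.ker (((pullback.fst f (gK k K)).fiberι x).stalkMap y').hom =
      Ideal.map ((pullback.fst f (gK k K)).stalkMap (((pullback.fst f (gK k K)).fiberι x) y')).hom
        (IsLocalRing.maximalIdeal _) :=
    le_antisymm (Groth.Agent.Lib.Helper49.ker_le_map (pullback.fst f (gK k K)) x y')
      (Groth.Agent.Lib.Helper49.map_le_ker (pullback.fst f (gK k K)) x y')
  rw [← hker]
  letI := hfield.toField
  have hmax : (RingHom.ker (((pullback.fst f (gK k K)).fiberι x).stalkMap y').hom).IsMaximal :=
    RingHom.ker_isMaximal_of_surjective _ hsurj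
  exact IsLocalRing.eq_maximalIdeal hmax

theorem map_maximalIdeal_eq_aux (x : X) (φ : k →+* X.residueField x)
    (hφ : Spec.map (CommRingCat.ofHom φ) = X.fromSpecResidueField x ≫ f)
    (hred : letI := φ.toAlgebra; _root_.IsReduced (X.residueField x ⊗[k] K))
    (y' : ↥((pullback.fst f (gK k K)).fiber x)) (y : ↥(pullback f (gK k K)))
    (hy : ((pullback.fst f (gK k K)).fiberι x) y' = y)
    (hdim : ringKrullDim (X.presheaf.stalk ((pullback.fst f (gK k K)) y)) =
      ringKrullDim ((pullback f (gK k K)).presheaf.stalk y)) :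
    Ideal.map ((pullback.fst f (gK k K)).stalkMap y).hom
      (IsLocalRing.maximalIdeal _) = IsLocalRing.maximalIdeal _ := by
  subst hy
  exact map_maximalIdeal_eq_of_fiber f K x φ hφ hred y' hdim

/-- `m_x O_{X_K, y} = m_y` when the two local rings have the same dimension and `κ(x) ⊗[k] K`
is reduced. -/
theorem map_maximalIdeal_eq (y : ↥(pullback f (gK k K)))
    (φ : k →+* X.residueField ((pullback.fst f (gK k K)) y))
    (hφ : Spec.map (CommRingCat.ofHom φ) =
      X.fromSpecResidueField ((pullback.fst f (gK k K)) y) ≫ f)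
    (hred : letI := φ.toAlgebra;
      _root_.IsReduced (X.residueField ((pullback.fst f (gK k K)) y) ⊗[k] K))
    (hdim : ringKrullDim (X.presheaf.stalk ((pullback.fst f (gK k K)) y)) =
      ringKrullDim ((pullback f (gK k K)).presheaf.stalk y)) :
    Ideal.map ((pullback.fst f (gK k K)).stalkMap y).hom
      (IsLocalRing.maximalIdeal _) = IsLocalRing.maximalIdeal _ := by
  have hmem : y ∈ Set.range ((pullback.fst f (gK k K)).fiberι ((pullback.fst f (gK k K)) y)) := by
    rw [Scheme.Hom.range_fiberι]
    rfl
  obtain ⟨y', hy'⟩ := hmem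
  exact map_maximalIdeal_eq_aux f K _ φ hφ hred y' y hy' hdim

end

end Groth.Agent.Lib.Helper38.MaxBC
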