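import Mathlib
import Groth.Prelude.Def_Curv2
import Groth.Agent.Lib.Helper38.NormSch
import Groth.Agent.Lib.Helper38.NormLocal

set_option autoImplicit false

universe u

open AlgebraicGeometry CategoryTheory TopologicalSpace Opposite

namespace Groth.Agent.Lib.Helper38

namespace NormLink

variable (X : Scheme.{u}) [IsIntegral X] [QuasiCompact (X.fromSpecStalk (genericPoint X))]
  [QuasiSeparated (X.fromSpecStalk (genericPoint X))]

/-- The local homomorphism `𝒪_{X,x} → 𝒪_{N,x'}` for `x'` over `x`. -/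
noncomputable def psi {x : X} (x' : Curv2.normalization X)
    (h : (Curv2.normalizationι X) x' = x) :
    X.presheaf.stalk x →+* (Curv2.normalization X).presheaf.stalk x' :=
  ((Curv2.normalizationι X).stalkMap x').hom.comp
    (X.presheaf.stalkSpecializes (specializes_of_eq h)).hom

theorem psi_germ {x : X} (x' : Curv2.normalization X)
    (h : (Curv2.normalizationι X) x' = x) {U : X.Opens} (hxU : x ∈ U)
    (hx'W : x' ∈ (Curv2.normalizationι X) ⁻¹ᵁ U) (a : Γ(X, U)) :
    psi X x' h (X.presheaf.germ U x hxU a) =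
      (Curv2.normalization X).presheaf.germ ((Curv2.normalizationι X) ⁻¹ᵁ U) x' hx'W
        (((Curv2.normalizationι X).app U).hom a) := by
  subst h
  unfold psi
  simp only [RingHom.comp_apply]
  rw [TopCat.Presheaf.stalkSpecializes_refl]
  exact Scheme.Hom.germ_stalkMap_apply (Curv2.normalizationι X) U x' hx'W a

theorem comap_primeIdealOf {x : X} {U : X.Opens} (hU : IsAffineOpen U) (hxU : x ∈ U)
    (x' : Curv2.normalization X) (h : (Curv2.normalizationι X) x' = x)
    (hx'W : x' ∈ (Curv2.normalizationι X) ⁻¹ᵁ U) :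
    ((hU.preimage (Curv2.normalizationι X)).primeIdealOf ⟨x', hx'W⟩).asIdeal.comap
      ((Curv2.normalizationι X).app U).hom = (hU.primeIdealOf ⟨x, hxU⟩).asIdeal := by
  have hW : IsAffineOpen ((Curv2.normalizationι X) ⁻¹ᵁ U) := hU.preimage (Curv2.normalizationι X)
  have h1 := IsAffineOpen.comap_primeIdealOf_appLE (f := Curv2.normalizationι X) U hU
    ((Curv2.normalizationι X) ⁻¹ᵁ U) hW le_rfl (x := x') hx'W
  have h2 : (⟨(Curv2.normalizationι X) x', hx'W⟩ : U) = ⟨x, hxU⟩ := Subtype.ext h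
  rw [h2] at h1
  have h3 : PrimeSpectrum.comap ((Curv2.normalizationι X).app U).hom
      (hW.primeIdealOf ⟨x', hx'W⟩) = hU.primeIdealOf ⟨x, hxU⟩ := by
    rw [Scheme.Hom.app_eq_appLE]
    exact h1
  exact congrArg PrimeSpectrum.asIdeal h3

theorem point_props {x : X} {U : X.Opens} (hU : IsAffineOpen U) (hxU : x ∈ U)
    {R' : Type u} [CommRing R'] [IsDomain R'] [IsIntegrallyClosed R']
    {ι : X.presheaf.stalk x →+* R'} (hι : IsFracExt ι) (hιi : ι.IsIntegral)
    {β : Γ(Curv2.normalization X, (Curv2.normalizationι X) ⁻¹ᵁ U) →+* R'}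
    (hβ : β.comp ((Curv2.normalizationι X).app U).hom = ι.comp (X.presheaf.germ U x hxU).hom)
    (x' : Curv2.normalization X) (h : (Curv2.normalizationι X) x' = x)
    (hx'W : x' ∈ (Curv2.normalizationι X) ⁻¹ᵁ U) :
    ∃ χ : R' →+* (Curv2.normalization X).presheaf.stalk x', χ.comp ι = psi X x' h ∧
      ((IsLocalRing.maximalIdeal ((Curv2.normalization X).presheaf.stalk x')).comap χ).IsMaximal ∧
      ((IsLocalRing.maximalIdeal ((Curv2.normalization X).presheaf.stalk x')).comap χ).comap β =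
        ((hU.preimage (Curv2.normalizationι X)).primeIdealOf ⟨x', hx'W⟩).asIdeal ∧
      (∀ m' : Ideal R', m'.IsMaximal →
        m'.comap β = ((hU.preimage (Curv2.normalizationι X)).primeIdealOf ⟨x', hx'W⟩).asIdeal →
        (IsLocalRing.maximalIdeal ((Curv2.normalization X).presheaf.stalk x')).comap χ = m') ∧
      ∃ Φ : (R' ⧸ (IsLocalRing.maximalIdeal ((Curv2.normalization X).presheaf.stalk x')).comap χ) ≃+*
          (Curv2.normalization X).residueField x',
        ∀ r' : R', Φ (Ideal.Quotient.mk _ r') = (Curv2.normalization X).residue x' (χ r') := by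
  have hη : genericPoint X ∈ U := NormSch.genericPoint_mem X ⟨_, hxU⟩
  have hW : IsAffineOpen ((Curv2.normalizationι X) ⁻¹ᵁ U) := hU.preimage (Curv2.normalizationι X)
  haveI : Nonempty U := ⟨⟨_, hη⟩⟩
  haveI := NormSch.preimage_nonempty X hη
  obtain ⟨hBic, hφ⟩ := NormSch.app_props X hU hη
  haveI := hBic
  have hφi : ((Curv2.normalizationι X).app U).hom.IsIntegral :=
    IsIntegralHom.isIntegral_app (Curv2.normalizationι X) U hU
  letI : Algebra Γ(X, U) (X.presheaf.stalk x) :=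
    TopCat.Presheaf.algebra_section_stalk X.presheaf ⟨x, hxU⟩
  haveI : IsLocalization.AtPrime (X.presheaf.stalk x) (hU.primeIdealOf ⟨x, hxU⟩).asIdeal :=
    hU.isLocalization_stalk ⟨x, hxU⟩
  letI : Algebra Γ(Curv2.normalization X, (Curv2.normalizationι X) ⁻¹ᵁ U)
      ((Curv2.normalization X).presheaf.stalk x') :=
    TopCat.Presheaf.algebra_section_stalk (Curv2.normalization X).presheaf ⟨x', hx'W⟩
  haveI : IsLocalization.AtPrime ((Curv2.normalization X).presheaf.stalk x')
      (hW.primeIdealOf ⟨x', hx'W⟩).asIdeal := hW.isLocalization_stalk ⟨x', hx'W⟩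
  haveI := NormSch.isIntegrallyClosed_stalk X x'
  have hψ : (psi X x' h).comp (algebraMap Γ(X, U) (X.presheaf.stalk x)) =
      (algebraMap Γ(Curv2.normalization X, (Curv2.normalizationι X) ⁻¹ᵁ U)
        ((Curv2.normalization X).presheaf.stalk x')).comp ((Curv2.normalizationι X).app U).hom := by
    ext a
    exact psi_germ X x' h hxU hx'W a
  have hQ := comap_primeIdealOf X hU hxU x' h hx'W
  have hβ' : β.comp ((Curv2.normalizationι X).app U).hom =
      ι.comp (algebraMap Γ(X, U) (X.presheaf.stalk x)) := hβ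
  obtain ⟨χ, hχ⟩ := NormLocal.exists_chi (hU.primeIdealOf ⟨x, hxU⟩).asIdeal hφ hι hιi
    (hW.primeIdealOf ⟨x', hx'W⟩).asIdeal hψ
  have hmax := NormLocal.theta_isMaximal (hU.primeIdealOf ⟨x, hxU⟩).asIdeal hιi
    (hW.primeIdealOf ⟨x', hx'W⟩).asIdeal hψ hχ hQ
  have hχβ := NormLocal.chi_comp_beta (hU.primeIdealOf ⟨x, hxU⟩).asIdeal hφ hβ'
    (hW.primeIdealOf ⟨x', hx'W⟩).asIdeal hψ hχ
  have hcomap := NormLocal.comap_beta_theta (hU.primeIdealOf ⟨x, hxU⟩).asIdeal hφ hβ'
    (hW.primeIdealOf ⟨x', hx'W⟩).asIdeal hψ hχ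
  refine ⟨χ, hχ, hmax, hcomap, ?_, ?_⟩
  · intro m' hm' hm'Q
    haveI := hm'
    exact NormLocal.theta_eq_of_comap_eq (hU.primeIdealOf ⟨x, hxU⟩).asIdeal hφ hι hιi hβ'
      (hW.primeIdealOf ⟨x', hx'W⟩).asIdeal hψ hχ hQ m' hm'Q
  · exact NormLocal.exists_residue_equiv (hW.primeIdealOf ⟨x', hx'W⟩).asIdeal hχ hmax hχβ hcomap

theorem primeIdealOf_fromSpec {Y : Scheme.{u}} {W : Y.Opens} (hW : IsAffineOpen W)
    (q : PrimeSpectrum Γ(Y, W)) (hq : hW.fromSpec q ∈ W) :
    hW.primeIdealOf ⟨hW.fromSpec q, hq⟩ = q := by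
  have h1 := hW.fromSpec_primeIdealOf ⟨hW.fromSpec q, hq⟩
  exact hW.fromSpec.isOpenEmbedding.injective h1

theorem exists_link (x : X) {R' : Type u} [CommRing R'] [IsDomain R'] [IsIntegrallyClosed R']
    {ι : X.presheaf.stalk x →+* R'} (hι : IsFracExt ι) (hιi : ι.IsIntegral) :
    ∃ Θ : {x' : Curv2.normalization X // (Curv2.normalizationι X) x' = x} ≃ MaximalSpectrum R',
      ∀ x' : {x' : Curv2.normalization X // (Curv2.normalizationι X) x' = x},
        ∃ Φ : (R' ⧸ (Θ x').asIdeal) ≃+* (Curv2.normalization X).residueField x'.1,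
          ∀ r : X.presheaf.stalk x, Φ (Ideal.Quotient.mk _ (ι r)) =
            (Curv2.normalization X).residue x'.1 (psi X x'.1 x'.2 r) := by
  obtain ⟨U, hU, hxU⟩ := NormSch.exists_affine X x
  have hη : genericPoint X ∈ U := NormSch.genericPoint_mem X ⟨_, hxU⟩
  have hW : IsAffineOpen ((Curv2.normalizationι X) ⁻¹ᵁ U) := hU.preimage (Curv2.normalizationι X)
  haveI : Nonempty U := ⟨⟨_, hη⟩⟩
  haveI := NormSch.preimage_nonempty X hη
  obtain ⟨hBic, hφ⟩ := NormSch.app_props X hU hη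
  haveI := hBic
  have hφi : ((Curv2.normalizationι X).app U).hom.IsIntegral :=
    IsIntegralHom.isIntegral_app (Curv2.normalizationι X) U hU
  letI : Algebra Γ(X, U) (X.presheaf.stalk x) :=
    TopCat.Presheaf.algebra_section_stalk X.presheaf ⟨x, hxU⟩
  haveI : IsLocalization.AtPrime (X.presheaf.stalk x) (hU.primeIdealOf ⟨x, hxU⟩).asIdeal :=
    hU.isLocalization_stalk ⟨x, hxU⟩
  obtain ⟨β, hβ'⟩ := NormLocal.exists_beta (hU.primeIdealOf ⟨x, hxU⟩).asIdeal hφ hφi hι
  have hβ : β.comp ((Curv2.normalizationι X).app U).hom =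
      ι.comp (X.presheaf.germ U x hxU).hom := hβ'
  have hmem : ∀ x' : {x' : Curv2.normalization X // (Curv2.normalizationι X) x' = x},
      x'.1 ∈ (Curv2.normalizationι X) ⁻¹ᵁ U := by
    intro x'
    show (Curv2.normalizationι X) x'.1 ∈ U
    rw [x'.2]; exact hxU
  have key := fun x' : {x' : Curv2.normalization X // (Curv2.normalizationι X) x' = x} =>
    point_props X hU hxU hι hιi hβ x'.1 x'.2 (hmem x')
  choose χ hχ hmax hcomap huniq hΦ using key
  let F : {x' : Curv2.normalization X // (Curv2.normalizationι X) x' = x} → MaximalSpectrum R' :=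
    fun x' => ⟨_, hmax x'⟩
  have hFinj : Function.Injective F := by
    intro x1 x2 h12
    have h1 : (F x1).asIdeal = (F x2).asIdeal := congrArg MaximalSpectrum.asIdeal h12
    have h2 : (hW.primeIdealOf ⟨x1.1, hmem x1⟩).asIdeal = (hW.primeIdealOf ⟨x2.1, hmem x2⟩).asIdeal := by
      rw [← hcomap x1, ← hcomap x2]
      exact congrArg (Ideal.comap β) h1
    have h3 : hW.primeIdealOf ⟨x1.1, hmem x1⟩ = hW.primeIdealOf ⟨x2.1, hmem x2⟩ :=
      PrimeSpectrum.ext h2
    have h4 := hW.fromSpec_primeIdealOf ⟨x1.1, hmem x1⟩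
    have h5 := hW.fromSpec_primeIdealOf ⟨x2.1, hmem x2⟩
    rw [h3] at h4
    exact Subtype.ext (h4.symm.trans h5)
  have hFsurj : Function.Surjective F := by
    intro m'
    haveI := m'.isMaximal
    haveI : (m'.asIdeal.comap β).IsPrime := Ideal.comap_isPrime β _
    have hP := NormLocal.comap_phi_comap_beta (hU.primeIdealOf ⟨x, hxU⟩).asIdeal hι hιi hβ'
      m'.asIdeal
    set q : PrimeSpectrum Γ(Curv2.normalization X, (Curv2.normalizationι X) ⁻¹ᵁ U) :=
      ⟨m'.asIdeal.comap β, inferInstance⟩ with hq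
    have hqW : hW.fromSpec q ∈ (Curv2.normalizationι X) ⁻¹ᵁ U := by
      have := hW.range_fromSpec
      rw [← SetLike.mem_coe, ← this]
      exact ⟨q, rfl⟩
    have hprim := primeIdealOf_fromSpec hW q hqW
    have hνx' : (Curv2.normalizationι X) (hW.fromSpec q) = x := by
      have h1 := IsAffineOpen.comap_primeIdealOf_appLE (f := Curv2.normalizationι X) U hU
        ((Curv2.normalizationι X) ⁻¹ᵁ U) hW le_rfl (x := hW.fromSpec q) hqW
      rw [hprim, ← Scheme.Hom.app_eq_appLE] at h1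
      have h2 : PrimeSpectrum.comap ((Curv2.normalizationι X).app U).hom q =
          hU.primeIdealOf ⟨x, hxU⟩ := PrimeSpectrum.ext hP
      rw [h2] at h1
      have h3 := hU.fromSpec_primeIdealOf ⟨x, hxU⟩
      have h4 := hU.fromSpec_primeIdealOf ⟨(Curv2.normalizationι X) (hW.fromSpec q), hqW⟩
      rw [← h1] at h4
      exact h4.symm.trans h3
    refine ⟨⟨hW.fromSpec q, hνx'⟩, ?_⟩
    apply MaximalSpectrum.ext
    refine huniq ⟨hW.fromSpec q, hνx'⟩ m'.asIdeal m'.isMaximal ?_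
    have : (hW.primeIdealOf ⟨hW.fromSpec q, hmem ⟨hW.fromSpec q, hνx'⟩⟩) = q := hprim
    rw [this]
  refine ⟨Equiv.ofBijective F ⟨hFinj, hFsurj⟩, ?_⟩
  intro x'
  obtain ⟨Φ, hΦ'⟩ := hΦ x'
  refine ⟨Φ, ?_⟩
  intro r
  have h1 := hΦ' (ι r)
  have h2 : (χ x') (ι r) = psi X x'.1 x'.2 r := by
    have := congrArg (fun f => f r) (hχ x')
    simpa only [RingHom.comp_apply] using this
  rw [h2] at h1
  exact h1

end NormLink

end Groth.Agent.Lib.Helper38
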