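import Groth.Agent.Lib.Helper38.SecRestrict
import Groth.Agent.Lib.Helper38.DeltaBCAlg
import Groth.Agent.Lib.Helper98.DeltaBaseChangeC
import Groth.Agent.Lib.Helper38.MaxBC
import Groth.Agent.Lib.Helper38.NormLink
import Groth.Agent.Lib.Helper38.NormAff
import Groth.Agent.Lib.Helper38.NormSch2
import Groth.Agent.Lib.Helper50.NormalAt
import Groth.Agent.Lib.Helper50.GeomReduced
import Groth.Agent.Lib.Helper55.FiberTrdeg
import Groth.Agent.Lib.Helper48.Japanese
import Groth.Agent.Lib.Helper48.FieldJapanese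

/-!
# The δ-invariant is invariant under base change along a field extension (helper38)

`deltaInv_eq_bc`: for `X` integral, locally of finite type over a field `k`, a field extension `K/k`
and a point `y` of `X_K` over `x ∈ X` with both local rings of dimension one and separable residue
fields at the points of the normalization over `x`: `δ(O_{X,x}) = δ(O_{X_K,y})`.
Built on helper98's `DeltaBaseChange.length_eq`, `MaxBC`, `NormLink.exists_link`.
-/

set_option autoImplicit false
universe u
open AlgebraicGeometry CategoryTheory Limits TopologicalSpace Opposite TensorProduct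

namespace Groth.Agent.Lib.Helper38.DeltaBC

open Groth.Agent.Lib.Helper49 Groth.Agent.Lib.Helper38.SecMod Groth.Agent.Lib.Helper38.SecRestrict

section pushout

variable {k K : Type u} [CommRing k] [CommRing K] [Algebra k K]
  {X X' : Scheme.{u}} (h : X' ⟶ X) (f : X ⟶ Spec (CommRingCat.of k))
  (g' : X' ⟶ Spec (CommRingCat.of K))

/-- the ring-level pushout for a pullback square over a ring map, over an affine open. -/
theorem isPushout_of_isAffineOpen
    (sq : IsPullback h g' f (Spec.map (CommRingCat.ofHom (algebraMap k K))))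
    {U : X.Opens} (hU : IsAffineOpen U) :
    letI : Algebra k Γ(X, U) := (secMap f U).toAlgebra
    letI : Algebra K Γ(X', h ⁻¹ᵁ U) := (secMap g' (h ⁻¹ᵁ U)).toAlgebra
    letI : Algebra Γ(X, U) Γ(X', h ⁻¹ᵁ U) := (h.appLE U (h ⁻¹ᵁ U) le_rfl).hom.toAlgebra
    letI : Algebra k Γ(X', h ⁻¹ᵁ U) := ((secMap g' (h ⁻¹ᵁ U)).comp (algebraMap k K)).toAlgebra
    haveI : IsScalarTower k K Γ(X', h ⁻¹ᵁ U) := IsScalarTower.of_algebraMap_eq (fun _ => rfl)
    haveI : IsScalarTower k Γ(X, U) Γ(X', h ⁻¹ᵁ U) := IsScalarTower.of_algebraMap_eq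
      (fun a => (appLE_secMap h f g' sq.w le_rfl a).symm)
    Algebra.IsPushout k K Γ(X, U) Γ(X', h ⁻¹ᵁ U) := by
  letI : Algebra k Γ(X, U) := (secMap f U).toAlgebra
  letI : Algebra K Γ(X', h ⁻¹ᵁ U) := (secMap g' (h ⁻¹ᵁ U)).toAlgebra
  letI : Algebra Γ(X, U) Γ(X', h ⁻¹ᵁ U) := (h.appLE U (h ⁻¹ᵁ U) le_rfl).hom.toAlgebra
  letI : Algebra k Γ(X', h ⁻¹ᵁ U) := ((secMap g' (h ⁻¹ᵁ U)).comp (algebraMap k K)).toAlgebra
  haveI : IsScalarTower k K Γ(X', h ⁻¹ᵁ U) := IsScalarTower.of_algebraMap_eq (fun _ => rfl)
  haveI : IsScalarTower k Γ(X, U) Γ(X', h ⁻¹ᵁ U) := IsScalarTower.of_algebraMap_eq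
    (fun a => (appLE_secMap h f g' sq.w le_rfl a).symm)
  have hUY : h ⁻¹ᵁ U = h ⁻¹ᵁ U ⊓ g' ⁻¹ᵁ ⊤ := by simp
  have hiso := isIso_pushoutSection_of_isAffineOpen sq (US := ⊤) (UT := ⊤) (UX := U)
    (UY := h ⁻¹ᵁ U) (by simp) (by simp) hUY (isAffineOpen_top _) (isAffineOpen_top _) hU
  have hpo := (isIso_pushoutSection_iff sq (US := ⊤) (UT := ⊤) (UX := U)
    (UY := h ⁻¹ᵁ U) (by simp) (by simp) hUY).mp hiso
  have hpo0 : IsPushout (CommRingCat.ofHom (secMap f U)) (CommRingCat.ofHom (algebraMap k K))
      (CommRingCat.ofHom (h.appLE U (h ⁻¹ᵁ U) le_rfl).hom)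
      (CommRingCat.ofHom (secMap g' (h ⁻¹ᵁ U))) := by
    refine hpo.of_iso (Scheme.ΓSpecIso (CommRingCat.of k)) (Iso.refl _)
      (Scheme.ΓSpecIso (CommRingCat.of K)) (Iso.refl _) ?_ ?_ ?_ ?_
    · ext a
      simp [secMap_eq_appLE]
    · have e : (Spec.map (CommRingCat.ofHom (algebraMap k K))).appLE ⊤ ⊤ (by simp) =
          (Spec.map (CommRingCat.ofHom (algebraMap k K))).appTop := by
        rw [Scheme.Hom.appTop, Scheme.Hom.app_eq_appLE]
        rfl
      rw [e]
      simp
    · simp
    · ext a
      simp [secMap_eq_appLE]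
  exact (CommRingCat.isPushout_iff_isPushout.mp hpo0).symm

end pushout

section germ

variable {k : Type u} [CommRing k] {N X : Scheme.{u}} (g : N ⟶ X)
  (s : X ⟶ Spec (CommRingCat.of k))

theorem app_secMap (U : X.Opens) (c : k) :
    (g.app U).hom (secMap s U c) = secMap (g ≫ s) (g ⁻¹ᵁ U) c := by
  have comm : g ≫ s = (g ≫ s) ≫ Spec.map (CommRingCat.ofHom (algebraMap k k)) := by
    have : CommRingCat.ofHom (algebraMap k k) = 𝟙 (CommRingCat.of k) := rfl
    rw [this, Spec.map_id, Category.comp_id]
  have h1 := appLE_secMap g s (g ≫ s) comm (le_refl (g ⁻¹ᵁ U)) c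
  rw [Scheme.Hom.appLE_eq_app] at h1
  exact h1

theorem germ_secMap (W : N.Opens) (x' : N) (hx' : x' ∈ W) (s' : N ⟶ Spec (CommRingCat.of k))
    (c : k) :
    N.presheaf.germ W x' hx' (secMap s' W c) = N.presheaf.germ ⊤ x' trivial (Coh.toGlobal s' c) :=
  TopCat.Presheaf.germ_res_apply N.presheaf (homOfLE le_top) x' hx' (tg s' c)

end germ

section residue

variable (k : Type u) [Field k] (X : Scheme.{u}) [X.Over (Spec (CommRingCat.of k))]
  [IsIntegral X]
  [QuasiCompact (X.fromSpecStalk (genericPoint X))]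
  [QuasiSeparated (X.fromSpecStalk (genericPoint X))]
  (K : Type u) [Field K] [Algebra k K]

theorem isGeometricallyReduced_residueField (x' : Curv2.normalization X)
    (hs : letI : (Curv2.normalization X).Over (Spec (CommRingCat.of k)) :=
        ⟨Curv2.normalizationι X ≫ (X ↘ (Spec (CommRingCat.of k)))⟩
      GeometricallyReduced (Spec.map (CommRingCat.ofHom
        (Curv2.resMap k (Curv2.normalization X) x')))) :
    letI : (Curv2.normalization X).Over (Spec (CommRingCat.of k)) :=
        ⟨Curv2.normalizationι X ≫ (X ↘ (Spec (CommRingCat.of k)))⟩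
    letI := (Curv2.resMap k (Curv2.normalization X) x').toAlgebra
    Algebra.IsGeometricallyReduced k ((Curv2.normalization X).residueField x') := by
  letI : (Curv2.normalization X).Over (Spec (CommRingCat.of k)) :=
        ⟨Curv2.normalizationι X ≫ (X ↘ (Spec (CommRingCat.of k)))⟩
  letI := (Curv2.resMap k (Curv2.normalization X) x').toAlgebra
  haveI : GeometricallyReduced (Spec.map (CommRingCat.ofHom
      (algebraMap k ((Curv2.normalization X).residueField x')))) := hs
  exact Groth.Agent.Lib.Helper50.isGeometricallyReduced_of_geometricallyReduced_specMap k _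

theorem isReduced_residueField_tensor (x' : Curv2.normalization X)
    (hs : letI : (Curv2.normalization X).Over (Spec (CommRingCat.of k)) :=
        ⟨Curv2.normalizationι X ≫ (X ↘ (Spec (CommRingCat.of k)))⟩
      GeometricallyReduced (Spec.map (CommRingCat.ofHom
        (Curv2.resMap k (Curv2.normalization X) x')))) :
    letI := (Curv2.resMap k X ((Curv2.normalizationι X) x')).toAlgebra
    IsReduced (X.residueField ((Curv2.normalizationι X) x') ⊗[k] K) := by
  letI : (Curv2.normalization X).Over (Spec (CommRingCat.of k)) :=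
        ⟨Curv2.normalizationι X ≫ (X ↘ (Spec (CommRingCat.of k)))⟩
  letI := (Curv2.resMap k (Curv2.normalization X) x').toAlgebra
  letI := (Curv2.resMap k X ((Curv2.normalizationι X) x')).toAlgebra
  haveI := isGeometricallyReduced_residueField k X x' hs
  let g : X.residueField ((Curv2.normalizationι X) x') →ₐ[k]
      (Curv2.normalization X).residueField x' :=
    { ((Curv2.normalizationι X).residueFieldMap x').hom with
      commutes' := fun c => congr($(Groth.Agent.Lib.Helper55.residueFieldMap_comp_resMap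
        (k := k) (X := Curv2.normalization X) X (Curv2.normalizationι X) rfl x') c) }
  haveI : Algebra.IsGeometricallyReduced k (X.residueField ((Curv2.normalizationι X) x')) :=
    Algebra.IsGeometricallyReduced.of_injective g g.toRingHom.injective
  have h1 : IsReduced (K ⊗[k] X.residueField ((Curv2.normalizationι X) x')) :=
    Groth.Agent.Lib.Helper50.isReduced_tensor_of_isGeometricallyReduced
  exact isReduced_of_injective (Algebra.TensorProduct.comm k _ K)
    (Algebra.TensorProduct.comm k _ K).injective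

end residue

section main

variable (k : Type u) [Field k] (X : Scheme.{u}) [X.Over (Spec (CommRingCat.of k))]
  [IsIntegral X] [LocallyOfFiniteType (X ↘ (Spec (CommRingCat.of k)))]
  [QuasiCompact (X.fromSpecStalk (genericPoint X))]
  [QuasiSeparated (X.fromSpecStalk (genericPoint X))]
  (K : Type u) [Field K] [Algebra k K]

theorem deltaInv_eq_bc (y : ↥(Curv2.bc k X K))
    (hdx : ringKrullDim (X.presheaf.stalk ((Curv2.bcFst k X K).base y)) = 1)
    (hsep : letI : (Curv2.normalization X).Over (Spec (CommRingCat.of k)) :=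
        ⟨Curv2.normalizationι X ≫ (X ↘ (Spec (CommRingCat.of k)))⟩
      ∀ x' : ↥(Curv2.normalization X),
        (Curv2.normalizationι X).base x' = (Curv2.bcFst k X K).base y →
        GeometricallyReduced (Spec.map (CommRingCat.ofHom
          (Curv2.resMap k (Curv2.normalization X) x'))))
    (hdy : ringKrullDim ((Curv2.bc k X K).presheaf.stalk y) = 1) :
    Curv2.deltaInv (X.presheaf.stalk ((Curv2.bcFst k X K).base y)) =
      Curv2.deltaInv ((Curv2.bc k X K).presheaf.stalk y) := by
  have sq : IsPullback (Curv2.bcFst k X K) (Curv2.bcSnd k X K) (X ↘ (Spec (CommRingCat.of k)))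
      (Spec.map (CommRingCat.ofHom (algebraMap k K))) := IsPullback.of_hasPullback _ _
  haveI hfl : Flat (Curv2.bcFst k X K) :=
    MorphismProperty.pullback_fst _ _ (Groth.Agent.Lib.Helper50.flat_specMap_field k K _)
  haveI : IsAffineHom (Curv2.bcFst k X K) := MorphismProperty.pullback_fst _ _ inferInstance
  haveI : LocallyOfFiniteType (Curv2.bcSnd k X K) := MorphismProperty.pullback_snd _ _ inferInstance
  haveI : IsLocallyNoetherian X :=
    LocallyOfFiniteType.isLocallyNoetherian (X ↘ (Spec (CommRingCat.of k)))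
  haveI : IsLocallyNoetherian (Curv2.bc k X K) :=
    LocallyOfFiniteType.isLocallyNoetherian (Curv2.bcSnd k X K)
  -- notation
  set π := Curv2.bcFst k X K with hπ
  set f := X ↘ (Spec (CommRingCat.of k)) with hf
  set g' := Curv2.bcSnd k X K with hg'
  set x : X := π.base y with hx
  obtain ⟨U, hU, hxU⟩ := NormSch.exists_affine X x
  have hV : IsAffineOpen (π ⁻¹ᵁ U) := hU.preimage π
  have hyV : y ∈ π ⁻¹ᵁ U := hxU
  -- algebra structures on the section rings
  letI : Algebra k Γ(X, U) := (secMap f U).toAlgebra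
  letI : Algebra K Γ(Curv2.bc k X K, π ⁻¹ᵁ U) := (secMap g' (π ⁻¹ᵁ U)).toAlgebra
  letI : Algebra Γ(X, U) Γ(Curv2.bc k X K, π ⁻¹ᵁ U) := (π.appLE U (π ⁻¹ᵁ U) le_rfl).hom.toAlgebra
  letI : Algebra k Γ(Curv2.bc k X K, π ⁻¹ᵁ U) :=
    ((secMap g' (π ⁻¹ᵁ U)).comp (algebraMap k K)).toAlgebra
  haveI : IsScalarTower k K Γ(Curv2.bc k X K, π ⁻¹ᵁ U) :=
    IsScalarTower.of_algebraMap_eq (fun _ => rfl)
  haveI : IsScalarTower k Γ(X, U) Γ(Curv2.bc k X K, π ⁻¹ᵁ U) := IsScalarTower.of_algebraMap_eq
    (fun a => (appLE_secMap π f g' sq.w le_rfl a).symm)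
  haveI hpo : Algebra.IsPushout k K Γ(X, U) Γ(Curv2.bc k X K, π ⁻¹ᵁ U) :=
    isPushout_of_isAffineOpen π f g' sq hU
  -- the stalks
  letI : Algebra Γ(X, U) (X.presheaf.stalk x) :=
    TopCat.Presheaf.algebra_section_stalk X.presheaf ⟨x, hxU⟩
  haveI : IsLocalization.AtPrime (X.presheaf.stalk x) (hU.primeIdealOf ⟨x, hxU⟩).asIdeal :=
    hU.isLocalization_stalk ⟨x, hxU⟩
  letI : Algebra Γ(Curv2.bc k X K, π ⁻¹ᵁ U) ((Curv2.bc k X K).presheaf.stalk y) :=
    TopCat.Presheaf.algebra_section_stalk (Curv2.bc k X K).presheaf ⟨y, hyV⟩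
  haveI : IsLocalization.AtPrime ((Curv2.bc k X K).presheaf.stalk y)
      (hV.primeIdealOf ⟨y, hyV⟩).asIdeal := hV.isLocalization_stalk ⟨y, hyV⟩
  letI : Algebra (X.presheaf.stalk x) ((Curv2.bc k X K).presheaf.stalk y) :=
    (π.stalkMap y).hom.toAlgebra
  haveI : Module.Flat (X.presheaf.stalk x) ((Curv2.bc k X K).presheaf.stalk y) :=
    Flat.stalkMap π y
  have hfin : Module.Finite (X.presheaf.stalk x)
      (Groth.Agent.Lib.Helper98.DeltaBaseChange.IC (X.presheaf.stalk x)) := by
    haveI : Nonempty U := ⟨⟨x, hxU⟩⟩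
    haveI : IsDomain Γ(X, U) := IsIntegral.component_integral (X := X) U
    haveI : IsFractionRing Γ(X, U) X.functionField :=
      functionField_isFractionRing_of_isAffineOpen X U hU
    haveI : IsScalarTower Γ(X, U) (X.presheaf.stalk x) X.functionField :=
      functionField_isScalarTower X U ⟨x, hxU⟩
    haveI : Algebra.FiniteType k Γ(X, U) := by
      have h := LocallyOfFiniteType.finiteType_appLE (f := f) (isAffineOpen_top _) hU le_top
      have h2 : ((f.appLE ⊤ U le_top).hom.comp
          (Scheme.ΓSpecIso (CommRingCat.of k)).inv.hom).FiniteType :=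
        h.comp (RingHom.FiniteType.of_surjective _
          (ConcreteCategory.bijective_of_isIso (Scheme.ΓSpecIso (CommRingCat.of k)).inv).2)
      exact h2
    have h0 : Module.Finite Γ(X, U) (integralClosure Γ(X, U) X.functionField) :=
      Groth.Agent.Lib.Helper48.finite_integralClosure_of_finiteType_field k Γ(X, U)
        X.functionField X.functionField
    have h1 : Module.Finite (X.presheaf.stalk x)
        (integralClosure (X.presheaf.stalk x) X.functionField) :=
      Groth.Agent.Lib.Helper48.finite_integralClosure_of_isLocalization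
        (hU.primeIdealOf ⟨x, hxU⟩).asIdeal.primeCompl (X.presheaf.stalk x) X.functionField h0
    exact Groth.Agent.Lib.Helper48.finite_integralClosure_of_algEquiv
      (FractionRing.algEquiv (X.presheaf.stalk x) X.functionField).symm h1
  have hmax : (IsLocalRing.maximalIdeal (X.presheaf.stalk x)).map
      (algebraMap (X.presheaf.stalk x) ((Curv2.bc k X K).presheaf.stalk y)) =
      IsLocalRing.maximalIdeal ((Curv2.bc k X K).presheaf.stalk y) := by
    obtain ⟨x', hx'⟩ := NormSch.surjective X x
    have h1 := isReduced_residueField_tensor k X K x' (hsep x' hx')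
    have hx'' : (Curv2.normalizationι X) x' = x := hx'
    rw [hx''] at h1
    exact Groth.Agent.Lib.Helper38.MaxBC.map_maximalIdeal_eq f K y
      (Curv2.resMap k X _) (Groth.Agent.Lib.Helper50.specMap_resMap_eq k _) h1 (hdx.trans hdy.symm)
  have hfib : ∀ m' : Ideal (Groth.Agent.Lib.Helper98.DeltaBaseChange.IC (X.presheaf.stalk x)),
      m'.IsMaximal → IsReduced (((Curv2.bc k X K).presheaf.stalk y) ⊗[X.presheaf.stalk x]
        (Groth.Agent.Lib.Helper98.DeltaBaseChange.IC (X.presheaf.stalk x) ⧸ m')) := by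
    -- more towers
    letI : Algebra Γ(X, U) ((Curv2.bc k X K).presheaf.stalk y) :=
      ((algebraMap (X.presheaf.stalk x) ((Curv2.bc k X K).presheaf.stalk y)).comp
        (algebraMap Γ(X, U) (X.presheaf.stalk x))).toAlgebra
    haveI : IsScalarTower Γ(X, U) (X.presheaf.stalk x) ((Curv2.bc k X K).presheaf.stalk y) :=
      IsScalarTower.of_algebraMap_eq' rfl
    haveI : IsScalarTower Γ(X, U) Γ(Curv2.bc k X K, π ⁻¹ᵁ U)
        ((Curv2.bc k X K).presheaf.stalk y) := by
      refine IsScalarTower.of_algebraMap_eq (fun r => ?_)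
      have h1 := Scheme.Hom.germ_stalkMap_apply π U y hyV r
      rw [Scheme.Hom.app_eq_appLE] at h1
      exact h1
    obtain ⟨Θ, hΘ⟩ := NormLink.exists_link X x
      (NormAff.isFracExt_algebraMap (X.presheaf.stalk x))
      (NormAff.isIntegral_algebraMap (X.presheaf.stalk x))
    intro m' hm'
    obtain ⟨x'', hx''⟩ := Θ.surjective ⟨m', hm'⟩
    have hm : m' = (Θ x'').asIdeal := by rw [hx'']
    subst hm
    obtain ⟨Φ, hΦ⟩ := hΘ x''
    letI : Algebra k (X.presheaf.stalk x) :=
      ((algebraMap Γ(X, U) (X.presheaf.stalk x)).comp (algebraMap k Γ(X, U))).toAlgebra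
    haveI : IsScalarTower k Γ(X, U) (X.presheaf.stalk x) := IsScalarTower.of_algebraMap_eq' rfl
    have hred : IsReduced (K ⊗[k] (Groth.Agent.Lib.Helper98.DeltaBaseChange.IC
        (X.presheaf.stalk x) ⧸ (Θ x'').asIdeal)) := by
      letI : (Curv2.normalization X).Over (Spec (CommRingCat.of k)) :=
        ⟨Curv2.normalizationι X ≫ (X ↘ (Spec (CommRingCat.of k)))⟩
      letI := (Curv2.resMap k (Curv2.normalization X) x''.1).toAlgebra
      haveI := isGeometricallyReduced_residueField k X x''.1 (hsep x''.1 x''.2)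
      have hx'W : x''.1 ∈ (Curv2.normalizationι X) ⁻¹ᵁ U := by
        show (Curv2.normalizationι X) x''.1 ∈ U
        rw [x''.2]
        exact hxU
      let e : (Groth.Agent.Lib.Helper98.DeltaBaseChange.IC (X.presheaf.stalk x) ⧸
          (Θ x'').asIdeal) →ₐ[k] (Curv2.normalization X).residueField x''.1 :=
        { Φ.toRingHom with
          commutes' := fun c => by
            have h1 := hΦ ((X.presheaf.germ U x hxU).hom (secMap f U c))
            have h2 := NormLink.psi_germ X x''.1 x''.2 hxU hx'W (secMap f U c)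
            have h3 := germ_secMap ((Curv2.normalizationι X) ⁻¹ᵁ U) x''.1 hx'W
              (Curv2.normalizationι X ≫ f) c
            rw [h2, app_secMap, h3] at h1
            have hc : algebraMap k (Groth.Agent.Lib.Helper98.DeltaBaseChange.IC
                (X.presheaf.stalk x) ⧸ (Θ x'').asIdeal) c =
                Ideal.Quotient.mk _ (algebraMap (X.presheaf.stalk x)
                  (Groth.Agent.Lib.Helper98.DeltaBaseChange.IC (X.presheaf.stalk x))
                  ((X.presheaf.germ U x hxU).hom (secMap f U c))) := by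
              rw [IsScalarTower.algebraMap_apply k (X.presheaf.stalk x)
                (Groth.Agent.Lib.Helper98.DeltaBaseChange.IC (X.presheaf.stalk x) ⧸
                  (Θ x'').asIdeal),
                IsScalarTower.algebraMap_apply (X.presheaf.stalk x)
                  (Groth.Agent.Lib.Helper98.DeltaBaseChange.IC (X.presheaf.stalk x))
                  (Groth.Agent.Lib.Helper98.DeltaBaseChange.IC (X.presheaf.stalk x) ⧸
                  (Θ x'').asIdeal)]
              rfl
            change Φ (algebraMap k _ c) = _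
            rw [hc]
            exact h1 }
      haveI : Algebra.IsGeometricallyReduced k
          (Groth.Agent.Lib.Helper98.DeltaBaseChange.IC (X.presheaf.stalk x) ⧸ (Θ x'').asIdeal) :=
        Algebra.IsGeometricallyReduced.of_injective e Φ.injective
      exact Groth.Agent.Lib.Helper50.isReduced_tensor_of_isGeometricallyReduced
    exact DeltaBCAlg.isReduced_tensor_of_isPushout k K Γ(X, U) Γ(Curv2.bc k X K, π ⁻¹ᵁ U)
      (X.presheaf.stalk x) ((Curv2.bc k X K).presheaf.stalk y)
      (Groth.Agent.Lib.Helper98.DeltaBaseChange.IC (X.presheaf.stalk x) ⧸ (Θ x'').asIdeal)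
      (hV.primeIdealOf ⟨y, hyV⟩).asIdeal (hU.primeIdealOf ⟨x, hxU⟩).asIdeal.primeCompl hred
  unfold Curv2.deltaInv
  exact (Groth.Agent.Lib.Helper98.DeltaBaseChange.length_eq (X.presheaf.stalk x)
    ((Curv2.bc k X K).presheaf.stalk y) hdx hfin hmax hfib).symm

end main

end Groth.Agent.Lib.Helper38.DeltaBC
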