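import Mathlib

/-!
# Removing an open set meeting every irreducible component drops the dimension (helper38)

`topologicalKrullDim_compl_le_zero`: if `dim S ≤ 1` and the open `W` meets every irreducible
component of `S`, then `dim (S \ W) ≤ 0`.
-/

set_option autoImplicit false
open TopologicalSpace Topology Order

namespace Groth.Agent.Lib.Helper38.DimCompl

theorem topologicalKrullDim_compl_le_zero {S : Type*} [TopologicalSpace S]
    (hS : topologicalKrullDim S ≤ 1) (W : Set S) (hW : IsOpen W)
    (hmeet : ∀ C ∈ irreducibleComponents S, (C ∩ W).Nonempty) :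
    topologicalKrullDim ↥(Wᶜ) ≤ 0 := by
  refine krullDim_nonpos_iff_forall_isMax.mpr fun a b hab => ?_
  by_contra hba
  have hlt : a < b := lt_of_le_not_ge hab hba
  have hind : IsInducing (Subtype.val : ↥(Wᶜ) → S) := IsInducing.subtypeVal
  have h1 : IrreducibleCloseds.map Subtype.val hind.continuous a <
      IrreducibleCloseds.map Subtype.val hind.continuous b :=
    IrreducibleCloseds.map_strictMono_of_isInducing hind hlt
  set a' := IrreducibleCloseds.map Subtype.val hind.continuous a with ha'
  set b' := IrreducibleCloseds.map Subtype.val hind.continuous b with hb'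
  obtain ⟨C, hC, hbC⟩ := exists_mem_irreducibleComponents_subset_of_isIrreducible
    (b' : Set S) b'.isIrreducible
  have hCirr : IsIrreducible C := hC.1
  have hCcl : IsClosed C := isClosed_of_mem_irreducibleComponents C hC
  let c' : IrreducibleCloseds S := ⟨C, hCirr, hCcl⟩
  have hbc : b' ≤ c' := hbC
  -- the image of `b` is inside the closed set `Wᶜ`
  have hbW : (b' : Set S) ⊆ Wᶜ := by
    rw [hb', IrreducibleCloseds.coe_map]
    apply closure_minimal _ hW.isClosed_compl
    rintro _ ⟨y, -, rfl⟩
    exact y.2
  rcases hbc.lt_or_eq with hlt' | heq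
  · -- a chain of length two in `S`
    let p0 : LTSeries (IrreducibleCloseds S) := (RelSeries.singleton _ a').snoc b' h1
    have hlast : p0.last = b' := RelSeries.last_snoc _ _ _
    let p : LTSeries (IrreducibleCloseds S) := p0.snoc c' (by rw [hlast]; exact hlt')
    have hp : p.length = 2 := rfl
    have := p.length_le_krullDim
    have h2 : ((2 : ℕ) : WithBot ℕ∞) ≤ 1 := by
      rw [← hp]; exact this.trans hS
    exact absurd h2 (by decide)
  · obtain ⟨z, hzC, hzW⟩ := hmeet C hC
    have : z ∈ (b' : Set S) := by rw [heq]; exact hzC
    exact hbW this hzW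

end Groth.Agent.Lib.Helper38.DimCompl
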