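import Groth.Agent.Lib.Helper38.Codim
import Mathlib.Topology.Sober
import Mathlib.Tactic.Linarith
import Mathlib.Tactic.Ring

set_option autoImplicit false
universe u

namespace Groth.Agent.Lib.Helper38

open PtTop TopologicalSpace

variable {X : Type u} [TopologicalSpace X]

/-- the irreducible closed subset `closure {z}` -/
def toIC (z : X) : IrreducibleCloseds X :=
  ⟨closure {z}, isIrreducible_singleton.closure, isClosed_closure⟩

@[simp] theorem coe_toIC (z : X) : (toIC z : Set X) = closure {z} := rfl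

section Sober
variable [QuasiSober X] [T0Space X]

/-- generic point of an irreducible closed set -/
noncomputable def gpt (T : IrreducibleCloseds X) : X := T.isIrreducible'.genericPoint

theorem closure_gpt (T : IrreducibleCloseds X) : closure {gpt T} = (T : Set X) :=
  T.isIrreducible'.closure_genericPoint T.isClosed'

theorem gpt_specializes_iff {T T' : IrreducibleCloseds X} : gpt T' ⤳ gpt T ↔ T ≤ T' := by
  rw [specializes_iff_closure_subset, closure_gpt, closure_gpt]
  rfl

theorem gpt_injective : Function.Injective (gpt (X := X)) := by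
  intro T T' h
  apply SetLike.coe_injective
  rw [← closure_gpt T, ← closure_gpt T', h]

theorem gpt_toIC (z : X) : gpt (toIC z) = z := by
  have h1 : closure {gpt (toIC z)} = closure {z} := closure_gpt (toIC z)
  exact ((specializes_iff_closure_subset.mpr h1.ge).antisymm
    (specializes_iff_closure_subset.mpr h1.le)).eq

theorem toIC_gpt (T : IrreducibleCloseds X) : toIC (gpt T) = T :=
  SetLike.coe_injective (closure_gpt T)

variable {δ : X → ℤ} (hδ : IsDimensionFunction δ)
include hδ

theorem dimFun_lt {T T' : IrreducibleCloseds X} (h : T < T') : δ (gpt T) < δ (gpt T') :=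
  hδ.1 (gpt T') (gpt T) (gpt_specializes_iff.mpr h.le) fun e => h.ne (gpt_injective e).symm

theorem dimFun_strictMono : StrictMono fun T : IrreducibleCloseds X => δ (gpt T) :=
  fun _ _ h => dimFun_lt hδ h

theorem dimFun_covBy {T T' : IrreducibleCloseds X} (h : T ⋖ T') :
    δ (gpt T') = δ (gpt T) + 1 := by
  refine hδ.2 (gpt T') (gpt T) ⟨gpt_specializes_iff.mpr h.le,
    fun e => h.lt.ne (gpt_injective e).symm, fun z hz1 hz2 => ?_⟩
  have h1 : T ≤ toIC z := by
    rw [← gpt_specializes_iff, gpt_toIC]; exact hz2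
  have h2 : toIC z ≤ T' := by
    rw [← gpt_specializes_iff, gpt_toIC]; exact hz1
  rcases h.eq_or_eq h1 h2 with e | e
  · right; rw [← gpt_toIC z, e]
  · left; rw [← gpt_toIC z, e]

theorem dimFun_sat :
    ∀ (n : ℕ) (f : Fin (n + 1) → IrreducibleCloseds X), (∀ i : Fin n, f i.castSucc ⋖ f i.succ) →
      δ (gpt (f (Fin.last n))) = δ (gpt (f 0)) + n := by
  intro n
  induction n with
  | zero =>
    intro f _
    have : f (Fin.last 0) = f 0 := rfl
    rw [this]; simp
  | succ n ih =>
    intro f hsat
    have h1 := ih (fun i => f i.castSucc) (fun i => hsat i.castSucc)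
    simp only [Fin.castSucc_zero] at h1
    have hcov : f (Fin.last n).castSucc ⋖ f (Fin.last (n + 1)) := by
      have := hsat (Fin.last n)
      rwa [Fin.succ_last] at this
    rw [dimFun_covBy hδ hcov, h1]
    push_cast
    ring

theorem length_le_of_dimFun {Y Y' : IrreducibleCloseds X}
    (s : LTSeries (IrreducibleCloseds X)) (h1 : s.head = Y) (h2 : (s.last : Set X) ⊆ Y') :
    (s.length : ℤ) ≤ δ (gpt Y') - δ (gpt Y) := by
  have h3 := (s.map _ (dimFun_strictMono hδ)).head_add_length_le_int
  rw [LTSeries.head_map, LTSeries.last_map, h1] at h3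
  have h4 : δ (gpt s.last) ≤ δ (gpt Y') :=
    (dimFun_strictMono hδ).monotone (show s.last ≤ Y' from h2)
  have h5 : (s.map _ (dimFun_strictMono hδ)).length = s.length := rfl
  rw [h5] at h3
  linarith

theorem codim_ne_top_of_dimFun (Y Y' : IrreducibleCloseds X) : codim Y (Y' : Set X) ≠ ⊤ := by
  have : codim Y (Y' : Set X) ≤ ((δ (gpt Y') - δ (gpt Y)).toNat : ℕ∞) := codim_le fun s h1 h2 => by
    have := length_le_of_dimFun hδ s h1 h2
    have h3 : s.length ≤ (δ (gpt Y') - δ (gpt Y)).toNat := by omega
    exact_mod_cast h3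
  exact ne_top_of_le_ne_top (ENat.natCast_ne_top _) this

theorem length_eq_of_sat {T T' : IrreducibleCloseds X} (s : LTSeries (IrreducibleCloseds X))
    (h1 : s.head = T) (h2 : s.last = T') (hsat : ∀ i : Fin s.length, s i.castSucc ⋖ s i.succ) :
    (s.length : ℤ) = δ (gpt T') - δ (gpt T) := by
  have := dimFun_sat hδ s.length s.toFun hsat
  have e1 : s.toFun 0 = T := h1
  have e2 : s.toFun (Fin.last s.length) = T' := h2
  rw [e1, e2] at this
  linarith

theorem codim_eq_of_dimFun {Y Y' : IrreducibleCloseds X} (h : Y ≤ Y') :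
    codim Y (Y' : Set X) = ((δ (gpt Y') - δ (gpt Y)).toNat : ℕ∞) := by
  obtain ⟨s, h1, h2, h3, h4⟩ := exists_saturated_chain h (codim_ne_top_of_dimFun hδ Y Y')
  have := length_eq_of_sat hδ s h1 h2 h3
  rw [← h4, ← this]
  simp

theorem isCatenary_of_dimFun : IsCatenarySpace X := by
  intro T T' h
  refine ⟨codim_ne_top_of_dimFun hδ T T', fun s h1 h2 hsat => ?_⟩
  have := length_eq_of_sat hδ s h1 h2 hsat
  rw [codim_eq_of_dimFun hδ h, ← this]
  simp

theorem dimFun_sub_eq {δ' : X → ℤ} (hδ' : IsDimensionFunction δ') {x y : X} (h : x ⤳ y) :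
    δ x - δ y = δ' x - δ' y := by
  have hle : toIC y ≤ toIC x := by
    rw [← gpt_specializes_iff, gpt_toIC, gpt_toIC]; exact h
  have e1 := codim_eq_of_dimFun hδ hle
  have e2 := codim_eq_of_dimFun hδ' hle
  rw [gpt_toIC, gpt_toIC] at e1 e2
  rw [e1] at e2
  have e3 : (δ x - δ y).toNat = (δ' x - δ' y).toNat := by exact_mod_cast e2
  have n1 : 0 ≤ δ x - δ y := by
    by_cases hxy : x = y
    · subst hxy; simp
    · have := hδ.1 x y h hxy; linarith
  have n2 : 0 ≤ δ' x - δ' y := by
    by_cases hxy : x = y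
    · subst hxy; simp
    · have := hδ'.1 x y h hxy; linarith
  omega

end Sober

end Groth.Agent.Lib.Helper38
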