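import Mathlib

/-!
# Connected schemes with domain stalks and finitely many irreducible components are irreducible
(helper38)
-/

universe u

open AlgebraicGeometry CategoryTheory

namespace Groth.Agent.Lib.Helper38

/-- If the stalk at `y` is a domain, `y` lies on a unique irreducible component. -/
theorem irreducibleComponent_unique_of_isDomain_stalk (X : Scheme.{u}) (y : X)
    [IsDomain (X.presheaf.stalk y)] (Z₁ Z₂ : Set X) (h₁ : Z₁ ∈ irreducibleComponents X)
    (h₂ : Z₂ ∈ irreducibleComponents X) (hy₁ : y ∈ Z₁) (hy₂ : y ∈ Z₂) : Z₁ = Z₂ := by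
  let ξ : PrimeSpectrum (X.presheaf.stalk y) := ⟨⊥, Ideal.isPrime_bot⟩
  suffices H : ∀ Z ∈ irreducibleComponents X, y ∈ Z → Z = closure {X.fromSpecStalk y ξ} by
    rw [H Z₁ h₁ hy₁, H Z₂ h₂ hy₂]
  intro Z hZ hyZ
  have hZirr : IsIrreducible Z := hZ.prop
  have hZcl : IsClosed Z := isClosed_of_mem_irreducibleComponents Z hZ
  obtain ⟨g, hg⟩ := QuasiSober.sober hZirr hZcl
  have hgy : g ⤳ y := by
    rw [specializes_iff_mem_closure, hg.def]; exact hyZ
  obtain ⟨P, hP⟩ : g ∈ Set.range (X.fromSpecStalk y) := by
    rw [Scheme.range_fromSpecStalk]; exact hgy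
  have hηg : X.fromSpecStalk y ξ ⤳ g := by
    rw [← hP]
    exact ((PrimeSpectrum.le_iff_specializes ξ P).mp bot_le).map (X.fromSpecStalk y).continuous
  have hsub : Z ⊆ closure {X.fromSpecStalk y ξ} := by
    rw [← hg.def]
    exact closure_minimal (Set.singleton_subset_iff.mpr (specializes_iff_mem_closure.mp hηg))
      isClosed_closure
  exact hZ.eq_of_subset isIrreducible_singleton.closure hsub

/-- A connected scheme with finitely many irreducible components all of whose stalks are domains
is irreducible. -/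
theorem irreducibleSpace_of_connected_of_isDomain_stalk (X : Scheme.{u}) [ConnectedSpace X]
    (hfin : (irreducibleComponents X).Finite) (hdom : ∀ x : X, IsDomain (X.presheaf.stalk x)) :
    IrreducibleSpace X := by
  obtain ⟨y₀⟩ := (inferInstance : Nonempty X)
  let Z₀ := irreducibleComponent y₀
  have hZ₀ : Z₀ ∈ irreducibleComponents X := irreducibleComponent_mem_irreducibleComponents y₀
  have hcompl : Z₀ᶜ = ⋃ Z ∈ irreducibleComponents X \ {Z₀}, Z := by
    ext y
    constructor
    · intro hy
      refine Set.mem_iUnion₂.mpr ⟨irreducibleComponent y,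
        ⟨irreducibleComponent_mem_irreducibleComponents y, ?_⟩, mem_irreducibleComponent⟩
      intro h
      rw [Set.mem_singleton_iff] at h
      exact hy (h ▸ mem_irreducibleComponent)
    · intro hy
      obtain ⟨Z, ⟨hZ, hne⟩, hyZ⟩ := Set.mem_iUnion₂.mp hy
      intro hyZ₀
      haveI := hdom y
      exact hne (irreducibleComponent_unique_of_isDomain_stalk X y Z Z₀ hZ hZ₀ hyZ hyZ₀)
  have hopen : IsOpen Z₀ := by
    rw [← isClosed_compl_iff, hcompl]
    exact (hfin.subset Set.sdiff_subset).isClosed_biUnion
      (fun Z hZ => isClosed_of_mem_irreducibleComponents Z hZ.1)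
  have huniv : Z₀ = Set.univ :=
    IsClopen.eq_univ ⟨isClosed_irreducibleComponent, hopen⟩ ⟨y₀, mem_irreducibleComponent⟩
  have hirr : IsIrreducible (Set.univ : Set X) := huniv ▸ isIrreducible_irreducibleComponent
  exact (irreducibleSpace_def X).mpr hirr

end Groth.Agent.Lib.Helper38
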