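import Mathlib
import Groth.Agent.Lib.Helper48.FieldJapanese
import Groth.Agent.Lib.Helper48.NagataNormalization

/-!
# Algebras of finite type over a field are Nagata; scheme-level consequences
-/

universe u

open CategoryTheory CategoryTheory.Limits AlgebraicGeometry

namespace Groth.Agent.Lib.Helper38

namespace FieldNagata

/-- A domain of finite type over a field is N-2. -/
theorem isN2_of_finiteType_field (k A : Type u) [Field k] [CommRing A] [IsDomain A] [Algebra k A]
    [Algebra.FiniteType k A] : CAlg.IsN2 A := by
  intro L _ _ _ _ hfin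
  exact Groth.Agent.Lib.Helper48.finite_integralClosure_of_finiteType_field k A (FractionRing A) L

/-- An algebra of finite type over a field is a Nagata ring. -/
theorem isNagata_of_finiteType_field (k A : Type u) [Field k] [CommRing A] [Algebra k A]
    [Algebra.FiniteType k A] : CAlg.IsNagata A := by
  refine ⟨Algebra.FiniteType.isNoetherianRing k A, fun p _ => ?_⟩
  exact isN2_of_finiteType_field k (A ⧸ p)

/-- Ring-hom form. -/
theorem isNagata_of_finiteType_ringHom {k A : Type u} [Field k] [CommRing A] (φ : k →+* A)
    (hφ : φ.FiniteType) : CAlg.IsNagata A := by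
  letI := φ.toAlgebra
  haveI : Algebra.FiniteType k A := hφ
  exact isNagata_of_finiteType_field k A

/-- Affine opens of a scheme locally of finite type over a field have Nagata coordinate rings. -/
theorem isNagata_affineOpens (k : Type u) [Field k] {X : Scheme.{u}}
    (f : X ⟶ Spec (CommRingCat.of k)) [LocallyOfFiniteType f] (U : X.affineOpens) :
    CAlg.IsNagata Γ(X, U) := by
  have h := LocallyOfFiniteType.finiteType_appLE (f := f) (isAffineOpen_top _) U.2 le_top
  have h2 : ((f.appLE ⊤ U.1 le_top).hom.comp (Scheme.ΓSpecIso (CommRingCat.of k)).inv.hom).FiniteType :=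
    h.comp (RingHom.FiniteType.of_surjective _
      (ConcreteCategory.bijective_of_isIso (Scheme.ΓSpecIso (CommRingCat.of k)).inv).2)
  exact isNagata_of_finiteType_ringHom _ h2

/-- Nonempty affine opens of an integral scheme locally of finite type over a field have N-2
coordinate rings. -/
theorem isN2_affineOpens (k : Type u) [Field k] {X : Scheme.{u}} [IsIntegral X]
    (f : X ⟶ Spec (CommRingCat.of k)) [LocallyOfFiniteType f] (U : X.Opens) (hU : IsAffineOpen U)
    (hne : Nonempty ↥U) :
    @CAlg.IsN2 ↑Γ(X, U) _ (@IsIntegral.component_integral X _ U hne) := by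
  letI := @IsIntegral.component_integral X _ U hne
  have h := LocallyOfFiniteType.finiteType_appLE (f := f) (isAffineOpen_top _) hU le_top
  have h2 : ((f.appLE ⊤ U le_top).hom.comp (Scheme.ΓSpecIso (CommRingCat.of k)).inv.hom).FiniteType :=
    h.comp (RingHom.FiniteType.of_surjective _
      (ConcreteCategory.bijective_of_isIso (Scheme.ΓSpecIso (CommRingCat.of k)).inv).2)
  letI := ((f.appLE ⊤ U le_top).hom.comp (Scheme.ΓSpecIso (CommRingCat.of k)).inv.hom).toAlgebra
  haveI : Algebra.FiniteType k Γ(X, U) := h2
  exact isN2_of_finiteType_field k Γ(X, U)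

end FieldNagata

end Groth.Agent.Lib.Helper38
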