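import Mathlib
import Groth.Prelude

/-!
# Sections of a fibre product of schemes are locally generated by sections of the factors (helper38)
-/

set_option autoImplicit false
universe u
open CategoryTheory CategoryTheory.Limits AlgebraicGeometry TopologicalSpace Opposite

namespace Groth.Agent.Lib.Helper38.PullbackGen

section Pushout

/-- In a pushout square of commutative rings, the pushout is generated by the two images. -/
theorem closure_eq_top_of_isPushout {R A B C : CommRingCat.{u}} {f : R ⟶ A} {g : R ⟶ B}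
    {inl : A ⟶ C} {inr : B ⟶ C} (h : IsPushout f g inl inr) :
    Subring.closure (Set.range inl.hom ∪ Set.range inr.hom) = ⊤ := by
  set T := Subring.closure (Set.range inl.hom ∪ Set.range inr.hom) with hT
  let ιT : CommRingCat.of T ⟶ C := CommRingCat.ofHom T.subtype
  let inl' : A ⟶ CommRingCat.of T := CommRingCat.ofHom
    (inl.hom.codRestrict T (fun a => Subring.subset_closure (Or.inl ⟨a, rfl⟩)))
  let inr' : B ⟶ CommRingCat.of T := CommRingCat.ofHom
    (inr.hom.codRestrict T (fun b => Subring.subset_closure (Or.inr ⟨b, rfl⟩)))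
  have hl : inl' ≫ ιT = inl := by ext a; rfl
  have hr : inr' ≫ ιT = inr := by ext b; rfl
  have hmono : Function.Injective ιT.hom := Subtype.val_injective
  have hw : f ≫ inl' = g ≫ inr' := by
    ext r
    have := congrArg (fun φ => φ.hom r) h.w
    exact this
  let u : C ⟶ CommRingCat.of T := h.desc inl' inr' hw
  have hu : u ≫ ιT = 𝟙 C := by
    apply h.hom_ext
    · rw [← Category.assoc, h.inl_desc, hl, Category.comp_id]
    · rw [← Category.assoc, h.inr_desc, hr, Category.comp_id]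
  rw [eq_top_iff]
  intro c _
  have : ιT.hom (u.hom c) = c := by
    have := congrArg (fun φ => φ.hom c) hu
    exact this
  rw [← this]
  exact (u.hom c).2

end Pushout

section Piece

variable {X Y S : Scheme.{u}} (g : X ⟶ S) (h : Y ⟶ S)

/-- Composites of `appLE` along a commutative square agree. -/
theorem appLE_comp_eq {A B C D : Scheme.{u}} (m : A ⟶ B) (f : B ⟶ C) (p : A ⟶ D) (i : D ⟶ C)
    (hcomm : m ≫ f = p ≫ i) (U : C.Opens) (V : B.Opens) (W : A.Opens) (T : D.Opens)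
    (e₁ : V ≤ f ⁻¹ᵁ U) (e₂ : W ≤ m ⁻¹ᵁ V) (e₃ : T ≤ i ⁻¹ᵁ U) (e₄ : W ≤ p ⁻¹ᵁ T) :
    f.appLE U V e₁ ≫ m.appLE V W e₂ = i.appLE U T e₃ ≫ p.appLE T W e₄ := by
  rw [Scheme.Hom.appLE_comp_appLE, Scheme.Hom.appLE_comp_appLE]
  simp only [hcomm]

/-- The affine piece of a fibre product attached to affine opens of the three schemes. -/
theorem piece_generated (S₀ : S.Opens) (X₀ : X.Opens) (Y₀ : Y.Opens)
    (hS₀ : IsAffineOpen S₀) (hX₀ : IsAffineOpen X₀) (hY₀ : IsAffineOpen Y₀)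
    (hX₀S₀ : X₀ ≤ g ⁻¹ᵁ S₀) (hY₀S₀ : Y₀ ≤ h ⁻¹ᵁ S₀)
    (x : ↥(pullback g h)) (hxX₀ : pullback.fst g h x ∈ X₀) (hxY₀ : pullback.snd g h x ∈ Y₀) :
    ∃ (W : (pullback g h).Opens)
      (hX : W ≤ pullback.fst g h ⁻¹ᵁ X₀) (hY : W ≤ pullback.snd g h ⁻¹ᵁ Y₀),
      IsAffineOpen W ∧ x ∈ W ∧
      Subring.closure (Set.range ((pullback.fst g h).appLE X₀ W hX).hom ∪
        Set.range ((pullback.snd g h).appLE Y₀ W hY).hom) = ⊤ := by
  haveI : IsAffine ↑S₀ := hS₀
  haveI : IsAffine ↑X₀ := hX₀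
  haveI : IsAffine ↑Y₀ := hY₀
  let g₀ : (↑X₀ : Scheme.{u}) ⟶ ↑S₀ := g.resLE S₀ X₀ hX₀S₀
  let h₀ : (↑Y₀ : Scheme.{u}) ⟶ ↑S₀ := h.resLE S₀ Y₀ hY₀S₀
  let m : pullback g₀ h₀ ⟶ pullback g h :=
    pullback.map g₀ h₀ g h X₀.ι Y₀.ι S₀.ι (Scheme.Hom.resLE_comp_ι _ _) (Scheme.Hom.resLE_comp_ι _ _)
  have hm1 : m ≫ pullback.fst g h = pullback.fst g₀ h₀ ≫ X₀.ι := pullback.lift_fst _ _ _
  have hm2 : m ≫ pullback.snd g h = pullback.snd g₀ h₀ ≫ Y₀.ι := pullback.lift_snd _ _ _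
  have hxm : x ∈ Set.range m := by
    rw [Scheme.Pullback.range_map]
    refine ⟨?_, ?_⟩
    · change pullback.fst g h x ∈ Set.range X₀.ι
      rw [Scheme.Opens.range_ι]; exact hxX₀
    · change pullback.snd g h x ∈ Set.range Y₀.ι
      rw [Scheme.Opens.range_ι]; exact hxY₀
  have hWX : m ''ᵁ ⊤ ≤ pullback.fst g h ⁻¹ᵁ X₀ := by
    rintro _ ⟨q, -, rfl⟩
    change (pullback.fst g h) (m q) ∈ X₀
    rw [← Scheme.Hom.comp_apply, hm1, Scheme.Hom.comp_apply]
    exact (pullback.fst g₀ h₀ q).2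
  have hWY : m ''ᵁ ⊤ ≤ pullback.snd g h ⁻¹ᵁ Y₀ := by
    rintro _ ⟨q, -, rfl⟩
    change (pullback.snd g h) (m q) ∈ Y₀
    rw [← Scheme.Hom.comp_apply, hm2, Scheme.Hom.comp_apply]
    exact (pullback.snd g₀ h₀ q).2
  refine ⟨m ''ᵁ ⊤, hWX, hWY, (isAffineOpen_top _).image_of_isOpenImmersion m, ?_, ?_⟩
  · obtain ⟨q, rfl⟩ := hxm
    exact ⟨q, trivial, rfl⟩
  · let ε : Γ(pullback g h, m ''ᵁ ⊤) ⟶ Γ(pullback g₀ h₀, ⊤) := (m.appIso ⊤).hom
    have hε : ε = m.appLE (m ''ᵁ ⊤) ⊤ (m.preimage_image_eq ⊤).ge := m.appIso_hom' ⊤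
    have hbij : Function.Bijective ε.hom :=
      (m.appIso ⊤).commRingCatIsoToRingEquiv.bijective
    have c1 : (pullback.fst g h).appLE X₀ (m ''ᵁ ⊤) hWX ≫ ε =
        X₀.ι.appLE X₀ ⊤ X₀.ι_preimage_self.ge ≫ (pullback.fst g₀ h₀).appLE ⊤ ⊤ le_top := by
      rw [hε]
      exact appLE_comp_eq m (pullback.fst g h) (pullback.fst g₀ h₀) X₀.ι hm1 _ _ _ _ _ _ _ _
    have c2 : (pullback.snd g h).appLE Y₀ (m ''ᵁ ⊤) hWY ≫ ε =
        Y₀.ι.appLE Y₀ ⊤ Y₀.ι_preimage_self.ge ≫ (pullback.snd g₀ h₀).appLE ⊤ ⊤ le_top := by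
      rw [hε]
      exact appLE_comp_eq m (pullback.snd g h) (pullback.snd g₀ h₀) Y₀.ι hm2 _ _ _ _ _ _ _ _
    have t1 : (pullback.fst g₀ h₀).appLE ⊤ ⊤ le_top = (pullback.fst g₀ h₀).appTop := by
      simp [Scheme.Hom.appLE, Scheme.Hom.appTop]
    have t2 : (pullback.snd g₀ h₀).appLE ⊤ ⊤ le_top = (pullback.snd g₀ h₀).appTop := by
      simp [Scheme.Hom.appLE, Scheme.Hom.appTop]
    have hpush := closure_eq_top_of_isPushout
      (isPushout_appTop_of_isPullback (IsPullback.of_hasPullback g₀ h₀))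
    have hs1 : Function.Surjective (X₀.ι.appLE X₀ ⊤ X₀.ι_preimage_self.ge).hom :=
      ((ConcreteCategory.isIso_iff_bijective _).mp inferInstance).2
    have hs2 : Function.Surjective (Y₀.ι.appLE Y₀ ⊤ Y₀.ι_preimage_self.ge).hom :=
      ((ConcreteCategory.isIso_iff_bijective _).mp inferInstance).2
    have r1 : ε.hom '' Set.range ((pullback.fst g h).appLE X₀ (m ''ᵁ ⊤) hWX).hom =
        Set.range (pullback.fst g₀ h₀).appTop.hom := by
      rw [← Set.range_comp]
      have : (ε.hom ∘ ((pullback.fst g h).appLE X₀ (m ''ᵁ ⊤) hWX).hom) =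
          ((pullback.fst g₀ h₀).appTop.hom ∘ (X₀.ι.appLE X₀ ⊤ X₀.ι_preimage_self.ge).hom) := by
        funext a
        have := congrArg (fun φ => φ.hom a) c1
        rw [t1] at this
        exact this
      rw [this, Set.range_comp, hs1.range_eq, Set.image_univ]
    have r2 : ε.hom '' Set.range ((pullback.snd g h).appLE Y₀ (m ''ᵁ ⊤) hWY).hom =
        Set.range (pullback.snd g₀ h₀).appTop.hom := by
      rw [← Set.range_comp]
      have : (ε.hom ∘ ((pullback.snd g h).appLE Y₀ (m ''ᵁ ⊤) hWY).hom) =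
          ((pullback.snd g₀ h₀).appTop.hom ∘ (Y₀.ι.appLE Y₀ ⊤ Y₀.ι_preimage_self.ge).hom) := by
        funext a
        have := congrArg (fun φ => φ.hom a) c2
        rw [t2] at this
        exact this
      rw [this, Set.range_comp, hs2.range_eq, Set.image_univ]
    have hmap : (Subring.closure (Set.range ((pullback.fst g h).appLE X₀ (m ''ᵁ ⊤) hWX).hom ∪
        Set.range ((pullback.snd g h).appLE Y₀ (m ''ᵁ ⊤) hWY).hom)).map ε.hom = ⊤ := by
      rw [RingHom.map_closure, Set.image_union, r1, r2, hpush]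
    rw [← Subring.comap_map_eq_self_of_injective hbij.1 (Subring.closure _), hmap, Subring.comap_top]

/-- Every point of a fibre product has an affine open neighbourhood whose ring of sections is
generated by sections of the two factors. -/
theorem exists_affine_nhd_generated (x : ↥(pullback g h)) :
    ∃ (W : (pullback g h).Opens) (X₀ : X.Opens) (Y₀ : Y.Opens)
      (hX : W ≤ pullback.fst g h ⁻¹ᵁ X₀) (hY : W ≤ pullback.snd g h ⁻¹ᵁ Y₀),
      IsAffineOpen W ∧ x ∈ W ∧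
      Subring.closure (Set.range ((pullback.fst g h).appLE X₀ W hX).hom ∪
        Set.range ((pullback.snd g h).appLE Y₀ W hY).hom) = ⊤ := by
  obtain ⟨_, ⟨S₀, hS₀, rfl⟩, hxS₀, -⟩ := S.isBasis_affineOpens.exists_subset_of_mem_open
    (Set.mem_univ ((pullback.fst g h ≫ g) x)) isOpen_univ
  obtain ⟨_, ⟨X₀, hX₀, rfl⟩, hxX₀, hX₀S₀⟩ := X.isBasis_affineOpens.exists_subset_of_mem_open
    (show pullback.fst g h x ∈ (g ⁻¹ᵁ S₀ : Set X) from hxS₀) (g ⁻¹ᵁ S₀).isOpen
  obtain ⟨_, ⟨Y₀, hY₀, rfl⟩, hxY₀, hY₀S₀⟩ := Y.isBasis_affineOpens.exists_subset_of_mem_open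
    (show pullback.snd g h x ∈ (h ⁻¹ᵁ S₀ : Set Y) from by
      change (pullback.snd g h ≫ h) x ∈ S₀
      rw [← pullback.condition]; exact hxS₀) (h ⁻¹ᵁ S₀).isOpen
  obtain ⟨W, hX, hY, hW, hxW, hgen⟩ :=
    piece_generated g h S₀ X₀ Y₀ hS₀ hX₀ hY₀ hX₀S₀ hY₀S₀ x hxX₀ hxY₀
  exact ⟨W, X₀, Y₀, hX, hY, hW, hxW, hgen⟩

end Piece

section Gen

variable {X Y S : Scheme.{u}} (g : X ⟶ S) (h : Y ⟶ S)

/-- A family of subrings of the rings of sections of a fibre product which is stable under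
restriction, local, stable under inverses and contains the sections coming from the two factors is
everything. -/
theorem generation (A : ∀ V : (pullback g h).Opens, Subring Γ(pullback g h, V))
    (hres : ∀ (V W : (pullback g h).Opens) (hWV : W ≤ V) (a : Γ(pullback g h, V)), a ∈ A V →
      (pullback g h).presheaf.map (homOfLE hWV).op a ∈ A W)
    (hloc : ∀ (V : (pullback g h).Opens) (a : Γ(pullback g h, V)),
      (∀ x ∈ V, ∃ (W : (pullback g h).Opens) (hWV : W ≤ V), x ∈ W ∧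
        (pullback g h).presheaf.map (homOfLE hWV).op a ∈ A W) → a ∈ A V)
    (hinv : ∀ (V : (pullback g h).Opens) (a b : Γ(pullback g h, V)),
      a ∈ A V → a * b = 1 → b ∈ A V)
    (hfst : ∀ (U : X.Opens) (a : Γ(X, U)),
      (pullback.fst g h).app U a ∈ A (pullback.fst g h ⁻¹ᵁ U))
    (hsnd : ∀ (U : Y.Opens) (b : Γ(Y, U)),
      (pullback.snd g h).app U b ∈ A (pullback.snd g h ⁻¹ᵁ U)) :
    ∀ (V : (pullback g h).Opens) (a : Γ(pullback g h, V)), a ∈ A V := by
  intro V a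
  apply hloc
  intro x hx
  obtain ⟨W, X₀, Y₀, hX, hY, hW, hxW, hgen⟩ := exists_affine_nhd_generated g h x
  have hAW : ∀ r : Γ(pullback g h, W), r ∈ A W := by
    have hle : Subring.closure (Set.range ((pullback.fst g h).appLE X₀ W hX).hom ∪
        Set.range ((pullback.snd g h).appLE Y₀ W hY).hom) ≤ A W := by
      rw [Subring.closure_le]
      rintro _ (⟨a, rfl⟩ | ⟨b, rfl⟩)
      · exact hres _ _ hX _ (hfst X₀ a)
      · exact hres _ _ hY _ (hsnd Y₀ b)
    intro r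
    exact hle (hgen ▸ Subring.mem_top r)
  obtain ⟨t, htV, hxt⟩ := hW.exists_basicOpen_le ⟨x, hx⟩ hxW
  have hDW : (pullback g h).basicOpen t ≤ W := (pullback g h).basicOpen_le t
  refine ⟨(pullback g h).basicOpen t, htV, hxt, ?_⟩
  haveI := hW.isLocalization_basicOpen t
  obtain ⟨⟨u, ⟨_, n, rfl⟩⟩, hu⟩ := IsLocalization.surj (Submonoid.powers t)
    ((pullback g h).presheaf.map (homOfLE htV).op a)
  -- `hu : a|_D * algebraMap (t^n) = algebraMap u`
  have hunit : IsUnit (algebraMap Γ(pullback g h, W) Γ(pullback g h, (pullback g h).basicOpen t) t) :=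
    IsLocalization.Away.algebraMap_isUnit t
  have hmemt : algebraMap Γ(pullback g h, W) Γ(pullback g h, (pullback g h).basicOpen t) t ∈
      A ((pullback g h).basicOpen t) := hres _ _ hDW _ (hAW t)
  have hmemu : algebraMap Γ(pullback g h, W) Γ(pullback g h, (pullback g h).basicOpen t) u ∈
      A ((pullback g h).basicOpen t) := hres _ _ hDW _ (hAW u)
  obtain ⟨v, hv⟩ := hunit.exists_right_inv
  have hmemv : v ∈ A ((pullback g h).basicOpen t) := hinv _ _ _ hmemt hv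
  have key : (pullback g h).presheaf.map (homOfLE htV).op a =
      algebraMap Γ(pullback g h, W) Γ(pullback g h, (pullback g h).basicOpen t) u * v ^ n := by
    rw [← hu]
    simp only [map_pow]
    rw [mul_assoc, ← mul_pow, hv, one_pow, mul_one]
  rw [key]
  exact Subring.mul_mem _ hmemu (Subring.pow_mem _ hmemv n)

end Gen

end Groth.Agent.Lib.Helper38.PullbackGen
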