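import Mathlib
import Groth.Prelude
import Groth.Agent.Lib.Helper38.PullbackGen

/-!
# Differentials relative to the relative Frobenius (helper38)
-/

set_option autoImplicit false
universe u
open CategoryTheory CategoryTheory.Limits AlgebraicGeometry TopologicalSpace Opposite

namespace Groth.Agent.Lib.Helper38.FrobDer

section General

variable {X Y S : Scheme.{u}} {f : X ⟶ S} {Ω : X.Modules} (d : OmegaSh.Der f Ω)

/-- The sections of `O_Y` over `V` whose pullback along `F : X ⟶ Y` is killed by `d`. -/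
def killSubring (F : X ⟶ Y) (V : Y.Opens) : Subring Γ(Y, V) where
  carrier := {s | d.d (X := op (F ⁻¹ᵁ V)) (F.app V s) = 0}
  mul_mem' {a b} ha hb := by
    change d.d (X := op (F ⁻¹ᵁ V)) (F.app V (a * b)) = 0
    rw [map_mul, d.d_mul, show d.d (X := op (F ⁻¹ᵁ V)) (F.app V a) = 0 from ha,
      show d.d (X := op (F ⁻¹ᵁ V)) (F.app V b) = 0 from hb, smul_zero, smul_zero, add_zero]
  one_mem' := by
    change d.d (X := op (F ⁻¹ᵁ V)) (F.app V 1) = 0
    rw [map_one]
    exact d.d_one _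
  add_mem' {a b} ha hb := by
    change d.d (X := op (F ⁻¹ᵁ V)) (F.app V (a + b)) = 0
    rw [map_add, map_add, show d.d (X := op (F ⁻¹ᵁ V)) (F.app V a) = 0 from ha,
      show d.d (X := op (F ⁻¹ᵁ V)) (F.app V b) = 0 from hb, add_zero]
  zero_mem' := by
    change d.d (X := op (F ⁻¹ᵁ V)) (F.app V 0) = 0
    rw [map_zero, map_zero]
  neg_mem' {a} ha := by
    change d.d (X := op (F ⁻¹ᵁ V)) (F.app V (-a)) = 0
    rw [map_neg, map_neg, show d.d (X := op (F ⁻¹ᵁ V)) (F.app V a) = 0 from ha, neg_zero]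

theorem mem_killSubring (F : X ⟶ Y) (V : Y.Opens) (s : Γ(Y, V)) :
    s ∈ killSubring d F V ↔ d.d (X := op (F ⁻¹ᵁ V)) (F.app V s) = 0 := Iff.rfl


theorem killSubring_res (F : X ⟶ Y) (V W : Y.Opens) (hWV : W ≤ V) (a : Γ(Y, V))
    (ha : a ∈ killSubring d F V) :
    Y.presheaf.map (homOfLE hWV).op a ∈ killSubring d F W := by
  change d.d (X := op (F ⁻¹ᵁ W)) (F.app W (Y.presheaf.map (homOfLE hWV).op a)) = 0
  have hnat := F.naturality (homOfLE hWV).op
  have h1 : F.app W (Y.presheaf.map (homOfLE hWV).op a) =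
      X.presheaf.map ((Opens.map F.base).map (homOfLE hWV)).op (F.app V a) :=
    congrArg (fun φ => φ.hom a) hnat
  rw [h1, d.d_map, show d.d (X := op (F ⁻¹ᵁ V)) (F.app V a) = 0 from ha]
  exact map_zero _

theorem killSubring_inv (F : X ⟶ Y) (V : Y.Opens) (a b : Γ(Y, V))
    (ha : a ∈ killSubring d F V) (hab : a * b = 1) : b ∈ killSubring d F V := by
  change d.d (X := op (F ⁻¹ᵁ V)) (F.app V b) = 0
  have h1 : d.d (X := op (F ⁻¹ᵁ V)) (F.app V (a * b)) = 0 := by
    rw [hab, map_one]; exact d.d_one _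
  rw [map_mul, d.d_mul, show d.d (X := op (F ⁻¹ᵁ V)) (F.app V a) = 0 from ha, smul_zero,
    add_zero] at h1
  have h2 := congrArg (fun z => (F.app V b) • z) h1
  simp only [smul_zero] at h2
  rw [← mul_smul, ← map_mul, mul_comm, hab, map_one, one_smul] at h2
  exact h2

theorem killSubring_local (F : X ⟶ Y) (V : Y.Opens) (a : Γ(Y, V))
    (h : ∀ x ∈ V, ∃ (W : Y.Opens) (hWV : W ≤ V), x ∈ W ∧
      Y.presheaf.map (homOfLE hWV).op a ∈ killSubring d F W) :
    a ∈ killSubring d F V := by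
  change d.d (X := op (F ⁻¹ᵁ V)) (F.app V a) = 0
  have h' : ∀ z : ↥(F ⁻¹ᵁ V), ∃ (W : Y.Opens) (hWV : W ≤ V), F z.1 ∈ W ∧
      Y.presheaf.map (homOfLE hWV).op a ∈ killSubring d F W := fun z => h (F z.1) z.2
  choose W hWV hzW hmem using h'
  apply TopCat.Sheaf.eq_of_locally_eq' ⟨Ω.presheaf, Ω.isSheaf⟩ (fun z => F ⁻¹ᵁ W z) (F ⁻¹ᵁ V)
    (fun z => homOfLE (fun y hy => hWV z hy))
  · intro y hy
    exact Opens.mem_iSup.mpr ⟨⟨y, hy⟩, hzW ⟨y, hy⟩⟩
  · intro z
    have hnat := F.naturality (homOfLE (hWV z)).op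
    have h1 : F.app (W z) (Y.presheaf.map (homOfLE (hWV z)).op a) =
        X.presheaf.map ((Opens.map F.base).map (homOfLE (hWV z))).op (F.app V a) :=
      congrArg (fun φ => φ.hom a) hnat
    have h2 : d.d (X := op (F ⁻¹ᵁ W z)) (F.app (W z) (Y.presheaf.map (homOfLE (hWV z)).op a)) = 0 :=
      hmem z
    rw [h1, d.d_map] at h2
    exact h2.trans (map_zero _).symm

end General


section Pow

variable {X S : Scheme.{u}} {f : X ⟶ S} {Ω : X.Modules} (d : OmegaSh.Der f Ω)

theorem d_pow_succ (Z : (Opens X)ᵒᵖ) (a : X.presheaf.obj Z) (n : ℕ) :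
    d.d (X := Z) (a ^ (n + 1)) = ((n + 1 : ℕ) : X.presheaf.obj Z) • (a ^ n • d.d (X := Z) a) := by
  induction n with
  | zero => simp
  | succ n ih =>
    rw [pow_succ' a (n + 1), d.d_mul, ih, smul_smul, smul_smul, smul_smul, ← add_smul]
    congr 1
    push_cast
    ring

theorem d_pow_eq_zero (p : ℕ) [Fact p.Prime] [FrobSch.IsCharP X p] (U : X.Opens) (a : Γ(X, U)) :
    d.d (X := op U) (a ^ p) = 0 := by
  obtain ⟨n, hn⟩ : ∃ n, p = n + 1 := ⟨p - 1, (Nat.succ_pred_eq_of_pos (Fact.out : p.Prime).pos).symm⟩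
  have h0 : ((n + 1 : ℕ) : Γ(X, U)) = 0 := by
    rw [← hn]; exact FrobSch.natCast_eq_zero_app X p U
  rw [hn, d_pow_succ, h0, zero_smul]

end Pow


section Frob

variable (p : ℕ) [Fact p.Prime] {X S : Scheme.{u}} [FrobSch.IsCharP S p] (f : X ⟶ S)
  {Ω : X.Modules} (d : OmegaSh.Der f Ω)

theorem kill_snd (U : S.Opens) (b : Γ(S, U)) :
    (pullback.snd f (FrobSch.frob S p)).app U b ∈
      killSubring d (FrobSch.relFrob f p) (pullback.snd f (FrobSch.frob S p) ⁻¹ᵁ U) := by
  change d.d (X := op _) ((FrobSch.relFrob f p).app _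
    ((pullback.snd f (FrobSch.frob S p)).app U b)) = 0
  have h1 : (FrobSch.relFrob f p).app _ ((pullback.snd f (FrobSch.frob S p)).app U b) =
      (FrobSch.relFrob f p ≫ pullback.snd f (FrobSch.frob S p)).app U b := by
    rw [Scheme.Hom.comp_app]; rfl
  have h2 := Scheme.Hom.congr_app (FrobSch.relFrob_snd f p) U
  rw [h1, h2]
  change d.d (X.presheaf.map _ (f.app U b)) = 0
  rw [d.d_map, show d.d (X := op (f ⁻¹ᵁ U)) (f.app U b) = 0 from d.d_app b]
  exact map_zero _

theorem kill_fst (U : X.Opens) (a : Γ(X, U)) :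
    (pullback.fst f (FrobSch.frob S p)).app U a ∈
      killSubring d (FrobSch.relFrob f p) (pullback.fst f (FrobSch.frob S p) ⁻¹ᵁ U) := by
  haveI : FrobSch.IsCharP X p := FrobSch.IsCharP.of_hom f p
  change d.d (X := op _) ((FrobSch.relFrob f p).app _
    ((pullback.fst f (FrobSch.frob S p)).app U a)) = 0
  have h1 : (FrobSch.relFrob f p).app _ ((pullback.fst f (FrobSch.frob S p)).app U a) =
      (FrobSch.relFrob f p ≫ pullback.fst f (FrobSch.frob S p)).app U a := by
    rw [Scheme.Hom.comp_app]; rfl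
  have h2 := Scheme.Hom.congr_app (FrobSch.relFrob_fst f p) U
  rw [h1, h2]
  change d.d (X.presheaf.map _ ((FrobSch.frob X p).app U a)) = 0
  have h3 : d.d (X := op ((FrobSch.frob X p) ⁻¹ᵁ U)) ((FrobSch.frob X p).app U a) = 0 :=
    d_pow_eq_zero d p U a
  rw [d.d_map, h3]
  exact map_zero _

/-- The universal derivation kills every section coming from the Frobenius twist. -/
theorem kill_relFrob (V : (FrobSch.frobTwist f p).Opens) (s : Γ(FrobSch.frobTwist f p, V)) :
    d.d (X := op (FrobSch.relFrob f p ⁻¹ᵁ V)) ((FrobSch.relFrob f p).app V s) = 0 :=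
  PullbackGen.generation f (FrobSch.frob S p) (killSubring d (FrobSch.relFrob f p))
    (killSubring_res d _) (killSubring_local d _) (killSubring_inv d _)
    (kill_fst p f d) (kill_snd p f d) V s


/-- A derivation relative to the relative Frobenius is a derivation relative to `f`. -/
theorem d_app_of_relFrob {F' : X.Modules} (D' : OmegaSh.Der (FrobSch.relFrob f p) F')
    (U : S.Opens) (a : Γ(S, U)) : D'.d (X := op (f ⁻¹ᵁ U)) (f.app U a) = 0 := by
  have h2 := Scheme.Hom.congr_app (FrobSch.relFrob_snd f p).symm U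
  rw [h2, Scheme.Hom.comp_app]
  change D'.d (X.presheaf.map _ ((FrobSch.relFrob f p).app _
    ((pullback.snd f (FrobSch.frob S p)).app U a))) = 0
  rw [D'.d_map, show D'.d (X := op (FrobSch.relFrob f p ⁻¹ᵁ
      (pullback.snd f (FrobSch.frob S p) ⁻¹ᵁ U))) ((FrobSch.relFrob f p).app _
      ((pullback.snd f (FrobSch.frob S p)).app U a)) = 0 from D'.d_app _]
  exact map_zero _

theorem main (hd : OmegaSh.IsUniversal d) :
    ∃ d' : OmegaSh.Der (FrobSch.relFrob f p) Ω,
      (∀ (U : X.Opens) (s : Γ(X, U)), d'.app U s = d.app U s) ∧ OmegaSh.IsUniversal d' := by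
  let d' : OmegaSh.Der (FrobSch.relFrob f p) Ω :=
    { d := d.d
      d_mul := d.d_mul
      d_map := d.d_map
      d_app := fun {V} a => kill_relFrob p f d V.unop a }
  refine ⟨d', fun U s => rfl, ?_⟩
  intro F' D'
  let D : OmegaSh.Der f F' :=
    { d := D'.d
      d_mul := D'.d_mul
      d_map := D'.d_map
      d_app := fun {V} a => d_app_of_relFrob p f D' V.unop a }
  obtain ⟨α, hα, huniq⟩ := hd F' D
  refine ⟨α, ?_, fun β hβ => huniq β ?_⟩
  · apply PresheafOfModules.Derivation.ext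
    have h1 := (PresheafOfModules.Derivation.ext_iff
      (x := PresheafOfModules.Derivation.postcomp d α.val) (y := D)).mp hα
    exact h1
  · apply PresheafOfModules.Derivation.ext
    have h1 := (PresheafOfModules.Derivation.ext_iff
      (x := PresheafOfModules.Derivation.postcomp d' β.val) (y := D')).mp hβ
    exact h1

end Frob

end Groth.Agent.Lib.Helper38.FrobDer
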