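import Mathlib
import Groth.Prelude
import Groth.Agent.Lib.Helper50.CommonPoint
import Groth.Agent.S1563

/-!
# Descent of geometric regularity along finitely generated field extensions (helper38)
-/

set_option autoImplicit false
universe u
open CategoryTheory CategoryTheory.Limits AlgebraicGeometry TensorProduct

namespace Groth.Agent.Lib.Helper38.GRDesc

/-- Given compatible maps of two field extensions `K₁`, `K₂` of `k` into a field `Ω₀`, with
`K₂/k` essentially of finite type, there is an intermediate field `Ω` receiving both which is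
essentially of finite type over `K₁`. -/
theorem exists_essFiniteType_subfield {k K₁ K₂ Ω₀ : Type u} [Field k] [Field K₁] [Field K₂]
    [Field Ω₀] [Algebra k K₁] [Algebra k K₂] [Algebra.EssFiniteType k K₂]
    (a₀ : K₁ →+* Ω₀) (b₀ : K₂ →+* Ω₀)
    (hab : a₀.comp (algebraMap k K₁) = b₀.comp (algebraMap k K₂)) :
    ∃ (Ω : Type u) (_ : Field Ω) (_ : Algebra K₁ Ω) (b : K₂ →+* Ω) (ι : Ω →+* Ω₀),
      ι.comp (algebraMap K₁ Ω) = a₀ ∧ ι.comp b = b₀ ∧
      (algebraMap K₁ Ω).comp (algebraMap k K₁) = b.comp (algebraMap k K₂) ∧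
      Algebra.EssFiniteType K₁ Ω := by
  letI : Algebra K₁ Ω₀ := a₀.toAlgebra
  letI : Algebra k Ω₀ := (a₀.comp (algebraMap k K₁)).toAlgebra
  haveI : IsScalarTower k K₁ Ω₀ := IsScalarTower.of_algebraMap_eq (fun _ => rfl)
  let b₀' : K₂ →ₐ[k] Ω₀ :=
    { b₀ with
      commutes' := fun c => by
        change b₀ (algebraMap k K₂ c) = a₀ (algebraMap k K₁ c)
        exact (RingHom.congr_fun hab c).symm }
  let φ : K₁ ⊗[k] K₂ →ₐ[K₁] Ω₀ :=
    Algebra.TensorProduct.lift (Algebra.ofId K₁ Ω₀) b₀' (fun _ _ => Commute.all _ _)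
  have hφ : ∀ x : K₂, φ (1 ⊗ₜ x) = b₀ x := by
    intro x
    change Algebra.TensorProduct.lift (Algebra.ofId K₁ Ω₀) b₀' _ (1 ⊗ₜ x) = b₀ x
    rw [Algebra.TensorProduct.lift_tmul, map_one, one_mul]
    rfl
  let B : Subalgebra K₁ Ω₀ := φ.range
  haveI : Algebra.EssFiniteType K₁ B :=
    Algebra.EssFiniteType.of_surjective φ.rangeRestrict φ.rangeRestrict_surjective
  haveI : Algebra.EssFiniteType B (FractionRing B) :=
    Algebra.EssFiniteType.of_isLocalization (FractionRing B) (nonZeroDivisors B)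
  have hess : Algebra.EssFiniteType K₁ (FractionRing B) :=
    Algebra.EssFiniteType.comp K₁ B (FractionRing B)
  let ι : FractionRing B →+* Ω₀ :=
    IsFractionRing.lift (g := B.val.toRingHom) Subtype.val_injective
  have hι : ∀ x : B, ι (algebraMap B (FractionRing B) x) = x.1 := fun x =>
    IsFractionRing.lift_algebraMap _ x
  let b : K₂ →+* FractionRing B :=
    (algebraMap B (FractionRing B)).comp
      ((φ.rangeRestrict.toRingHom).comp
        (Algebra.TensorProduct.includeRight : K₂ →ₐ[k] K₁ ⊗[k] K₂).toRingHom)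
  refine ⟨FractionRing B, inferInstance, inferInstance, b, ι, ?_, ?_, ?_, hess⟩
  · ext x
    rw [RingHom.comp_apply, IsScalarTower.algebraMap_apply K₁ B (FractionRing B), hι]
    rfl
  · ext x
    change ι (algebraMap B (FractionRing B) (φ.rangeRestrict (1 ⊗ₜ x))) = b₀ x
    rw [hι]
    exact hφ x
  · apply RingHom.ext
    intro c
    apply ι.injective
    change ι (algebraMap K₁ (FractionRing B) (algebraMap k K₁ c)) =
      ι (algebraMap B (FractionRing B) (φ.rangeRestrict (1 ⊗ₜ (algebraMap k K₂ c))))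
    rw [IsScalarTower.algebraMap_apply K₁ B (FractionRing B), hι, hι]
    change a₀ (algebraMap k K₁ c) = φ (1 ⊗ₜ (algebraMap k K₂ c))
    rw [hφ]
    exact RingHom.congr_fun hab c

open Groth.Agent.Lib.Helper50 in
/-- Geometric regularity at a point descends along an arbitrary extension of the base field. -/
theorem isGeomRegularAt_of_baseChange (k : Type u) [Field k] (X : Scheme.{u})
    [X.Over (Spec (CommRingCat.of k))] (k' : Type u) [Field k'] [Algebra k k']
    (x' : ↥(Curv2.bc k X k'))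
    (h : @Curv2.IsGeomRegularAt k' _ (Curv2.bc k X k') ⟨Curv2.bcSnd k X k'⟩ x') :
    Curv2.IsGeomRegularAt k X (Curv2.bcFst k X k' x') := by
  intro k'' _ _ hfg'' x'' hx''
  let f : X ⟶ Spec (CommRingCat.of k) := X ↘ Spec (CommRingCat.of k)
  obtain ⟨Ω₀, _, a₀, b₀, hab₀, π₁, π₂, z₀, hπ₁, hπ₂, hπ₁f, hπ₂f, hz₁, hz₂⟩ :=
    exists_point_over_both f x' x'' hx''.symm
  haveI : Algebra.EssFiniteType k k'' := IntermediateField.fg_top_iff.mp hfg''
  obtain ⟨Ω, _, _, b, ι, hιa, hιb, hab, hess⟩ := exists_essFiniteType_subfield a₀ b₀ hab₀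
  let a : k' →+* Ω := algebraMap k' Ω
  let e : k →+* Ω := a.comp (algebraMap k k')
  obtain ⟨ρ₁, hρ₁, hρ₁f⟩ := exists_bcMap f (algebraMap k k') a e rfl
  obtain ⟨ρ₂, hρ₂, hρ₂f⟩ := exists_bcMap f (algebraMap k k'') b e hab
  obtain ⟨ρ, hρ, hρf⟩ := exists_bcMap f e ι (a₀.comp (algebraMap k k'))
    (by rw [← hιa]; rfl)
  have hSpec : ∀ {A B C : Type u} [CommRing A] [CommRing B] [CommRing C] (g : A →+* B)
      (g' : B →+* C), Spec.map (CommRingCat.ofHom g') ≫ Spec.map (CommRingCat.ofHom g) =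
        Spec.map (CommRingCat.ofHom (g'.comp g)) := by
    intro A B C _ _ _ g g'
    rw [← Spec.map_comp, ← CommRingCat.ofHom_comp]
  have h1 : ρ ≫ ρ₁ = π₁ := by
    apply pullback.hom_ext
    · rw [Category.assoc, hρ₁f, hρf, hπ₁f]
    · rw [Category.assoc, hρ₁.w, ← Category.assoc, hρ.w, Category.assoc, hSpec, hιa, hπ₁.w]
  have h2 : ρ ≫ ρ₂ = π₂ := by
    apply pullback.hom_ext
    · rw [Category.assoc, hρ₂f, hρf, hπ₂f]
    · rw [Category.assoc, hρ₂.w, ← Category.assoc, hρ.w, Category.assoc, hSpec, hιb, hπ₂.w]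
  let z := ρ z₀
  have hz1 : ρ₁ z = x' := by
    rw [← hz₁, ← h1]; rfl
  have hz2 : ρ₂ z = x'' := by
    rw [← hz₂, ← h2]; rfl
  -- regularity at `z`
  let iso := hρ₁.isoPullback
  have hfgΩ : (⊤ : IntermediateField k' Ω).FG := IntermediateField.fg_top_iff.mpr hess
  have hreg' := h Ω hfgΩ (iso.hom z) (by
    change (iso.hom ≫ pullback.fst _ _) z = x'
    rw [IsPullback.isoPullback_hom_fst]
    exact hz1)
  haveI hreg'' : IsRegularLocalRing
      ↑((pullback (pullback.snd f (Spec.map (CommRingCat.ofHom (algebraMap k k'))))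
        (Spec.map (CommRingCat.ofHom a))).presheaf.stalk (iso.hom z)) := hreg'
  have hreg : IsRegularLocalRing
      ((pullback f (Spec.map (CommRingCat.ofHom e))).presheaf.stalk z) :=
    IsRegularLocalRing.of_ringEquiv (asIso (iso.hom.stalkMap z)).commRingCatIsoToRingEquiv
  -- flatness of `ρ₂`
  haveI : Flat (Spec.map (CommRingCat.ofHom b)) := inferInstance
  haveI : Flat ρ₂ := MorphismProperty.of_isPullback hρ₂.flip inferInstance
  have hflat := Flat.stalkMap ρ₂ z
  have key : IsRegularLocalRing ((Curv2.bc k X k'').presheaf.stalk (ρ₂ z)) :=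
    Groth.Agent.S1563.isRegularLocalRing_of_flat_local (ρ₂.stalkMap z).hom hflat
  rw [hz2] at key
  exact key

end Groth.Agent.Lib.Helper38.GRDesc
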