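import Mathlib
import Groth.Prelude.Def_Curv2
import Groth.Agent.Lib.Helper38.GaloisOrbit
import Groth.Agent.Lib.Helper50.GaloisBC

/-!
# Galois descent of morphisms along a finite Galois extension
-/

open CategoryTheory AlgebraicGeometry Limits TopologicalSpace TensorProduct

namespace Groth.Agent.Lib.Helper38

namespace GaloisDescMor

universe u

variable (k : Type u) [Field k] (K : Type u) [Field K] [Algebra k K]

/-- The structure morphism `Spec K ⟶ Spec k`. -/
noncomputable abbrev gK : Spec (CommRingCat.of K) ⟶ Spec (CommRingCat.of k) :=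
  Spec.map (CommRingCat.ofHom (algebraMap k K))

/-- `Spec σ`. -/
noncomputable abbrev specσ (σ : K ≃ₐ[k] K) : Spec (CommRingCat.of K) ⟶ Spec (CommRingCat.of K) :=
  Spec.map (CommRingCat.ofHom (σ : K →ₐ[k] K).toRingHom)

theorem specσ_gK (σ : K ≃ₐ[k] K) : specσ k K σ ≫ gK k K = gK k K := by
  rw [← Spec.map_comp, ← CommRingCat.ofHom_comp, AlgHom.toRingHom_eq_coe,
    AlgHom.comp_algebraMap]

/-- The graph of `Spec σ` inside `Spec K ×_k Spec K`. -/
noncomputable def graph (σ : K ≃ₐ[k] K) : Spec (CommRingCat.of K) ⟶ pullback (gK k K) (gK k K) :=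
  pullback.lift (𝟙 _) (specσ k K σ) (by rw [Category.id_comp, specσ_gK])

@[reassoc]
theorem graph_fst (σ : K ≃ₐ[k] K) : graph k K σ ≫ pullback.fst _ _ = 𝟙 _ :=
  pullback.lift_fst _ _ _

@[reassoc]
theorem graph_snd (σ : K ≃ₐ[k] K) : graph k K σ ≫ pullback.snd _ _ = specσ k K σ :=
  pullback.lift_snd _ _ _

theorem isOpenImmersion_graph [FiniteDimensional k K] [Algebra.IsSeparable k K]
    (σ : K ≃ₐ[k] K) : IsOpenImmersion (graph k K σ) := by
  haveI : FormallyUnramified (gK k K) := by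
    rw [HasRingHomProperty.Spec_iff (P := @FormallyUnramified)]
    have : Algebra.FormallyUnramified k K := Algebra.FormallyUnramified.of_isSeparable k K
    exact (RingHom.formallyUnramified_algebraMap).mpr this
  haveI : LocallyOfFiniteType (gK k K) := by
    rw [HasRingHomProperty.Spec_iff (P := @LocallyOfFiniteType)]
    exact RingHom.finiteType_algebraMap.mpr inferInstance
  have hdiag : IsOpenImmersion (pullback.diagonal (gK k K)) := inferInstance
  let m : pullback (gK k K) (gK k K) ⟶ pullback (gK k K) (gK k K) :=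
    pullback.map _ _ _ _ (𝟙 _) (specσ k K σ) (𝟙 _) (by simp) (by rw [Category.comp_id, specσ_gK])
  have hm : IsIso m := by
    haveI : IsIso (specσ k K σ) := by
      refine ⟨specσ k K σ.symm, ?_, ?_⟩
      · rw [← Spec.map_comp, ← CommRingCat.ofHom_comp, ← Spec.map_id]
        congr 2
        ext x
        simp
      · rw [← Spec.map_comp, ← CommRingCat.ofHom_comp, ← Spec.map_id]
        congr 2
        ext x
        simp
    exact inferInstance
  have hcomp : graph k K σ = pullback.diagonal (gK k K) ≫ m := by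
    apply pullback.hom_ext
    · rw [graph_fst, Category.assoc, pullback.lift_fst, ← Category.assoc, pullback.diagonal_fst,
        Category.comp_id]
    · rw [graph_snd, Category.assoc, pullback.lift_snd, ← Category.assoc, pullback.diagonal_snd,
        Category.id_comp]
  rw [hcomp]
  infer_instance

/-- The graphs of the `Spec σ` cover `Spec K ×_k Spec K`. -/
theorem exists_mem_range_graph [IsGalois k K] (t : ↥(pullback (gK k K) (gK k K))) :
    ∃ σ : K ≃ₐ[k] K, t ∈ Set.range (graph k K σ) := by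
  let e := pullbackSpecIso k K K
  let Q : PrimeSpectrum (K ⊗[k] K) := e.hom t
  let lm : K ⊗[k] K →+* K := (Algebra.TensorProduct.lmul' k : K ⊗[k] K →ₐ[k] K).toRingHom
  let P₀ : PrimeSpectrum (K ⊗[k] K) := PrimeSpectrum.comap lm ⊥
  obtain ⟨σ, hσ⟩ := Groth.Agent.Lib.Helper50.exists_comap_id_tensor_eq k K K P₀ Q
  refine ⟨σ, ?_⟩
  let mσ : K ⊗[k] K →+* K :=
    lm.comp (Algebra.TensorProduct.map (AlgHom.id k K) (σ : K →ₐ[k] K)).toRingHom
  have hgraph : graph k K σ = Spec.map (CommRingCat.ofHom mσ) ≫ e.inv := by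
    apply pullback.hom_ext
    · have h1 : CommRingCat.ofHom (Algebra.TensorProduct.includeLeftRingHom (R := k) (A := K)
          (B := K)) ≫ CommRingCat.ofHom mσ = 𝟙 _ := by
        ext x
        simp [mσ, lm]
      rw [graph_fst, Category.assoc, pullbackSpecIso_inv_fst, ← Spec.map_comp, h1, Spec.map_id]
    · have h2 : CommRingCat.ofHom (R := K) (S := K ⊗[k] K)
          (RingHomClass.toRingHom Algebra.TensorProduct.includeRight) ≫ CommRingCat.ofHom mσ =
          CommRingCat.ofHom (σ : K →ₐ[k] K).toRingHom := by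
        ext x
        simp [mσ, lm]
      rw [graph_snd, Category.assoc, pullbackSpecIso_inv_snd, ← Spec.map_comp, h2]
  let pt : ↥(Spec (CommRingCat.of K)) := (⊥ : PrimeSpectrum K)
  refine ⟨pt, ?_⟩
  rw [hgraph, Scheme.Hom.comp_apply]
  have h1 : (Spec.map (CommRingCat.ofHom mσ)) pt = Q := by
    rw [hσ]
    rfl
  rw [h1]
  show e.inv (e.hom t) = t
  rw [← Scheme.Hom.comp_apply, Iso.hom_inv_id]
  rfl

variable (X : Scheme.{u}) [X.Over (Spec (CommRingCat.of k))]

/-- A Galois-invariant morphism out of `X_K` coequalizes the kernel pair of `X_K ⟶ X`. -/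
theorem comp_eq_of_galois_invariant [FiniteDimensional k K] [IsGalois k K] {W : Scheme.{u}}
    (h : Curv2.bc k X K ⟶ W) (hinv : ∀ σ : K ≃ₐ[k] K, Curv2.galAct k X K σ ≫ h = h)
    {Z : Scheme.{u}} (g₁ g₂ : Z ⟶ Curv2.bc k X K)
    (hg : g₁ ≫ Curv2.bcFst k X K = g₂ ≫ Curv2.bcFst k X K) : g₁ ≫ h = g₂ ≫ h := by
  let sX := X ↘ Spec (CommRingCat.of k)
  let p := pullback.fst sX (gK k K)
  let q := pullback.snd sX (gK k K)
  let u₁ : Z ⟶ Spec (CommRingCat.of K) := g₁ ≫ q
  let u₂ : Z ⟶ Spec (CommRingCat.of K) := g₂ ≫ q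
  have hu : u₁ ≫ gK k K = u₂ ≫ gK k K := by
    show (g₁ ≫ q) ≫ gK k K = (g₂ ≫ q) ≫ gK k K
    rw [Category.assoc, Category.assoc, ← pullback.condition, ← Category.assoc, ← Category.assoc]
    exact congrArg (· ≫ sX) hg
  let w : Z ⟶ pullback (gK k K) (gK k K) := pullback.lift u₁ u₂ hu
  have hw1 : w ≫ pullback.fst _ _ = u₁ := pullback.lift_fst _ _ _
  have hw2 : w ≫ pullback.snd _ _ = u₂ := pullback.lift_snd _ _ _
  haveI hoi : ∀ σ : K ≃ₐ[k] K, IsOpenImmersion (graph k K σ) :=
    fun σ => isOpenImmersion_graph k K σ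
  let U : (K ≃ₐ[k] K) → Z.Opens := fun σ => w ⁻¹ᵁ (graph k K σ).opensRange
  have hU : IsOpenCover U := by
    apply IsOpenCover.mk
    rw [eq_top_iff]
    intro z _
    obtain ⟨σ, hσ⟩ := exists_mem_range_graph k K (w z)
    exact Opens.mem_iSup.mpr ⟨σ, hσ⟩
  apply Scheme.Cover.hom_ext (Z.openCoverOfIsOpenCover U hU)
  intro (σ : K ≃ₐ[k] K)
  show (U σ).ι ≫ g₁ ≫ h = (U σ).ι ≫ g₂ ≫ h
  have hrange : Set.range ((U σ).ι ≫ w) ⊆ Set.range (graph k K σ) := by
    rintro _ ⟨z, rfl⟩
    exact z.2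
  let v := IsOpenImmersion.lift (graph k K σ) ((U σ).ι ≫ w) hrange
  have hv : v ≫ graph k K σ = (U σ).ι ≫ w := IsOpenImmersion.lift_fac _ _ _
  have h1 : (U σ).ι ≫ u₁ = v := by
    rw [← hw1, ← Category.assoc, ← hv, Category.assoc, graph_fst, Category.comp_id]
  have h2 : (U σ).ι ≫ u₂ = v ≫ specσ k K σ := by
    rw [← hw2, ← Category.assoc, ← hv, Category.assoc, graph_snd]
  have key : (U σ).ι ≫ g₂ = (U σ).ι ≫ g₁ ≫ Curv2.galAct k X K σ := by
    apply pullback.hom_ext
    · have e1 := GaloisOrbit.galAct_fst k X K σ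
      rw [Category.assoc, Category.assoc, Category.assoc]
      erw [e1]
      exact congrArg ((U σ).ι ≫ ·) hg.symm
    · have e2 := GaloisOrbit.galAct_snd k X K σ
      rw [Category.assoc, Category.assoc, Category.assoc]
      erw [e2]
      show (U σ).ι ≫ u₂ = (U σ).ι ≫ g₁ ≫ q ≫ specσ k K σ
      rw [h2, ← h1]
      simp only [Category.assoc]
      rfl
  have hfin := congrArg (· ≫ h) key
  simp only [Category.assoc] at hfin
  rw [hinv σ] at hfin
  exact hfin.symm

end GaloisDescMor

end Groth.Agent.Lib.Helper38
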