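import Mathlib
import Groth.Prelude.Def_Curv2
import Groth.Agent.Lib.Helper38.GaloisOrbit
import Groth.Agent.Lib.Helper50.UniqueCompBC
import Groth.Agent.Lib.Helper50.GeomConnComp
import Groth.Agent.Lib.Helper50.GeomConnScheme

/-!
# Galois-invariant components of a base change to a separable closure
-/

open CategoryTheory AlgebraicGeometry Limits TopologicalSpace

namespace Groth.Agent.Lib.Helper38

namespace GaloisOrbit

universe u

/-- If the preimage of a closed subset `C` in `X_K` (`K` separably closed) is irreducible, then
so is its preimage in `X_L` for every field extension `L` of `k`. -/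
theorem isIrreducible_preimage_of_isSepClosed' {k K : Type u} [Field k] [Field K] [Algebra k K]
    [IsSepClosed K] {X : Scheme.{u}} (f : X ⟶ Spec (CommRingCat.of k))
    (C : Set X) (hC : IsClosed C)
    (hCK : IsIrreducible (⇑(pullback.fst f (Spec.map (CommRingCat.ofHom (algebraMap k K)))) ⁻¹' C))
    (L : Type u) [Field L] [Algebra k L] :
    IsIrreducible (⇑(pullback.fst f (Spec.map (CommRingCat.ofHom (algebraMap k L)))) ⁻¹' C) := by
  let Z : Closeds X := ⟨C, hC⟩
  let I := Scheme.IdealSheafData.vanishingIdeal Z
  let i : I.subscheme ⟶ X := I.subschemeι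
  have hi : Set.range i = C := by
    rw [Scheme.IdealSheafData.range_subschemeι, Scheme.IdealSheafData.coe_support_vanishingIdeal]
    rfl
  obtain ⟨JK, hJK, hJKcl⟩ := Groth.Agent.Lib.Helper50.exists_bc_of_hom f (pullback.snd f _)
    (algebraMap k K)
    (pullback.fst f (Spec.map (CommRingCat.ofHom (algebraMap k K))))
    (IsPullback.of_hasPullback f _) i
  have hcl : IsClosedImmersion JK := hJKcl inferInstance
  have h1 : IrreducibleSpace ↥(pullback (i ≫ f) (Spec.map (CommRingCat.ofHom (algebraMap k K)))) := by
    rw [Groth.Agent.Lib.Helper50.irreducibleSpace_iff_isIrreducible_range JK.isEmbedding, hJK, hi]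
    exact hCK
  obtain ⟨Ω, _, a, b, hab⟩ := Groth.Agent.Lib.Helper50.exists_field_compositum k K L
  have h2 : IrreducibleSpace ↥(pullback (i ≫ f) (Spec.map (CommRingCat.ofHom (algebraMap k L)))) :=
    Groth.Agent.Lib.Helper50.irreducibleSpace_pullback_of_square (i ≫ f) (algebraMap k K) a
      (algebraMap k L) b hab
  obtain ⟨JL, hJL, -⟩ := Groth.Agent.Lib.Helper50.exists_bc_of_hom f (pullback.snd f _)
    (algebraMap k L)
    (pullback.fst f (Spec.map (CommRingCat.ofHom (algebraMap k L))))
    (IsPullback.of_hasPullback f _) i
  rw [← hi, ← hJL, ← Set.image_univ]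
  exact (IrreducibleSpace.isIrreducible_univ _).image _ JL.continuous.continuousOn

variable (k : Type u) [Field k] (X : Scheme.{u}) [X.Over (Spec (CommRingCat.of k))]

theorem bcFst_surjective (K : Type u) [Field K] [Algebra k K] :
    Function.Surjective (Curv2.bcFst k X K).base := by
  have : Surjective (Curv2.bcFst k X K) :=
    MorphismProperty.pullback_fst _ _ (Groth.Agent.Lib.Helper50.surjective_specMap_field _)
  exact (Curv2.bcFst k X K).surjective

end GaloisOrbit

end Groth.Agent.Lib.Helper38
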