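import Mathlib

/-!
# Global functions of a reduced connected universally closed scheme over a field form a field

`isField_appTop_of_connected`, `finite_appTop_of_connected`, and tower-law divisibility helpers.
-/

open AlgebraicGeometry CategoryTheory

universe u

namespace Groth.Agent.Lib.Helper38

theorem isField_of_isArtinian_of_idem (S : Type*) [CommRing S] [IsArtinianRing S] [IsReduced S]
    [Nontrivial S] (h : ∀ e : S, IsIdempotentElem e → e = 0 ∨ e = 1) : IsField S := by
  classical
  have hsub : Subsingleton (MaximalSpectrum S) := by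
    constructor
    intro m₁ m₂
    by_contra hne
    let e := IsArtinianRing.equivPi S
    have hid : IsIdempotentElem (e.symm (Pi.single m₁ 1)) := by
      unfold IsIdempotentElem
      rw [← map_mul, ← Pi.single_mul, one_mul]
    have hm₁ : Nontrivial (S ⧸ m₁.asIdeal) := Ideal.Quotient.nontrivial_iff.mpr m₁.isMaximal.ne_top
    have hm₂ : Nontrivial (S ⧸ m₂.asIdeal) := Ideal.Quotient.nontrivial_iff.mpr m₂.isMaximal.ne_top
    rcases h _ hid with h0 | h1
    · have h2 : (Pi.single m₁ 1 : ∀ I : MaximalSpectrum S, S ⧸ I.asIdeal) = 0 := by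
        have := congrArg e h0
        simpa using this
      have h3 := congrFun h2 m₁
      simp at h3
    · have h2 : (Pi.single m₁ 1 : ∀ I : MaximalSpectrum S, S ⧸ I.asIdeal) = 1 := by
        have := congrArg e h1
        simpa using this
      have h3 := congrFun h2 m₂
      rw [Pi.single_eq_of_ne (Ne.symm hne)] at h3
      simp at h3
  obtain ⟨m, hm⟩ := Ideal.exists_maximal S
  have : IsLocalRing S := by
    refine IsLocalRing.of_unique_max_ideal ⟨m, hm, fun m' hm' => ?_⟩
    exact congrArg MaximalSpectrum.asIdeal (Subsingleton.elim (⟨m', hm'⟩ : MaximalSpectrum S) ⟨m, hm⟩)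
  exact IsArtinianRing.isField_of_isReduced_of_isLocalRing S

theorem isField_of_isIntegral_of_idem (K R : Type*) [Field K] [CommRing R] [Algebra K R]
    [Algebra.IsIntegral K R] [IsReduced R] [Nontrivial R]
    (h : ∀ e : R, IsIdempotentElem e → e = 0 ∨ e = 1) : IsField R := by
  refine ⟨exists_pair_ne R, mul_comm, fun {s} hs => ?_⟩
  let S := Algebra.adjoin K {s}
  have hfin : Module.Finite K S := Algebra.finite_adjoin_simple_of_isIntegral (Algebra.IsIntegral.isIntegral s)
  have : IsArtinianRing S := IsArtinianRing.of_finite K S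
  have : IsReduced S := isReduced_of_injective S.val Subtype.val_injective
  have hS : IsField S := by
    apply isField_of_isArtinian_of_idem
    intro e he
    have he' : IsIdempotentElem (e : R) := by
      unfold IsIdempotentElem at he ⊢
      rw [← Subalgebra.coe_mul, he]
    rcases h _ he' with h0 | h1
    · left; exact Subtype.ext h0
    · right; exact Subtype.ext h1
  let s' : S := ⟨s, Algebra.subset_adjoin rfl⟩
  have hs' : s' ≠ 0 := fun h0 => hs (congrArg Subtype.val h0)
  obtain ⟨t, ht⟩ := hS.mul_inv_cancel hs'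
  exact ⟨t, congrArg Subtype.val ht⟩

theorem idem_trivial_of_connected (X : Scheme.{u}) [IsReduced X] [ConnectedSpace X]
    (e : Γ(X, ⊤)) (he : IsIdempotentElem e) : e = 0 ∨ e = 1 := by
  have hdisj : X.basicOpen e ⊓ X.basicOpen (1 - e) = ⊥ := by
    rw [← Scheme.basicOpen_mul]
    have : e * (1 - e) = 0 := by
      rw [mul_sub, mul_one, he.eq, sub_self]
    rw [this, Scheme.basicOpen_zero]
  have hcov : ∀ x : X, x ∈ X.basicOpen e ∨ x ∈ X.basicOpen (1 - e) := by
    intro x
    rw [Scheme.mem_basicOpen _ _ _ (show x ∈ (⊤ : X.Opens) from trivial),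
      Scheme.mem_basicOpen _ _ _ (show x ∈ (⊤ : X.Opens) from trivial)]
    apply IsLocalRing.isUnit_or_isUnit_of_add_one
    rw [← map_add]
    simp
  have hclopen : IsClopen (X.basicOpen e : Set X) := by
    refine ⟨?_, (X.basicOpen e).isOpen⟩
    have : ((X.basicOpen e : Set X))ᶜ = (X.basicOpen (1 - e) : Set X) := by
      ext x
      constructor
      · intro hx
        rcases hcov x with h | h
        · exact absurd h hx
        · exact h
      · intro hx hx'
        have : x ∈ X.basicOpen e ⊓ X.basicOpen (1 - e) := ⟨hx', hx⟩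
        rw [hdisj] at this
        exact this
    rw [← isOpen_compl_iff, this]
    exact (X.basicOpen (1 - e)).isOpen
  rcases isClopen_iff.mp hclopen with h | h
  · left
    rw [← basicOpen_eq_bot_iff]
    ext1
    exact h
  · right
    have h2 : X.basicOpen (1 - e) = ⊥ := by
      rw [← hdisj]
      have : X.basicOpen e = ⊤ := by ext1; exact h
      rw [this, top_inf_eq]
    rw [basicOpen_eq_bot_iff] at h2
    exact (sub_eq_zero.mp h2).symm

theorem isField_appTop_of_connected (K : Type u) [Field K] (X : Scheme.{u})
    (f : X ⟶ Spec (CommRingCat.of K)) [IsReduced X] [ConnectedSpace X] [UniversallyClosed f] :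
    IsField Γ(X, ⊤) := by
  let F := (Scheme.ΓSpecIso _).inv ≫ f.appTop
  have : F.hom.IsIntegral := by
    apply RingHom.isIntegral_respectsIso.2 (e := (Scheme.ΓSpecIso _).symm.commRingCatIsoToRingEquiv)
    exact isIntegral_appTop_of_universallyClosed f
  algebraize [F.hom]
  have : Nonempty (⊤ : X.Opens) := ⟨⟨Nonempty.some inferInstance, trivial⟩⟩
  have : Nontrivial Γ(X, ⊤) := inferInstance
  exact isField_of_isIntegral_of_idem K Γ(X, ⊤) (idem_trivial_of_connected X)

theorem finite_appTop_of_connected (K : Type u) [Field K] (X : Scheme.{u})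
    (f : X ⟶ Spec (CommRingCat.of K)) [IsReduced X] [ConnectedSpace X] [UniversallyClosed f]
    [LocallyOfFiniteType f] :
    (f.appTop.hom.comp (Scheme.ΓSpecIso (CommRingCat.of K)).inv.hom).Finite := by
  have x : X := Nonempty.some inferInstance
  obtain ⟨_, ⟨U, hU, rfl⟩, hxU, -⟩ :=
    X.isBasis_affineOpens.exists_subset_of_mem_open (Set.mem_univ x) isOpen_univ
  let := (isField_appTop_of_connected K X f).toField
  have : Nonempty U := ⟨⟨x, hxU⟩⟩
  apply RingHom.finite_of_algHom_finiteType_of_isJacobsonRing (A := Γ(X, U))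
    (g := (X.presheaf.map (homOfLE le_top).op).hom)
  have h1 := f.finiteType_appLE (isAffineOpen_top _) hU (by simp)
  have h2 : ((X.presheaf.map (homOfLE le_top).op).hom.comp
      (f.appTop.hom.comp (Scheme.ΓSpecIso (CommRingCat.of K)).inv.hom)) =
      (f.appLE ⊤ U (by simp)).hom.comp (Scheme.ΓSpecIso (CommRingCat.of K)).inv.hom := by
    rw [← RingHom.comp_assoc]
    congr 1
  rw [h2]
  exact h1.comp (RingHom.FiniteType.of_surjective _
    (Scheme.ΓSpecIso (CommRingCat.of K)).symm.commRingCatIsoToRingEquiv.surjective)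

theorem finrank_dvd_of_isField {k R V : Type*} [Field k] [CommRing R] (hR : IsField R) (f : k →+* R)
    [AddCommGroup V] [Module R V] :
    letI := f.toAlgebra
    letI : Module k V := Module.compHom V f
    Module.finrank k R ∣ Module.finrank k V := by
  letI := hR.toField
  letI := f.toAlgebra
  letI : Module k V := Module.compHom V f
  haveI : IsScalarTower k R V := ⟨fun c r v => by
    change (f c * r) • v = f c • (r • v)
    rw [mul_smul]⟩
  exact ⟨_, (Module.finrank_mul_finrank k R V).symm⟩

theorem finrank_dvd_of_isField_ringHom {k R L : Type*} [Field k] [CommRing R] (hR : IsField R)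
    (f : k →+* R) [CommRing L] (g : R →+* L) :
    letI := f.toAlgebra
    letI := (g.comp f).toAlgebra
    Module.finrank k R ∣ Module.finrank k L := by
  letI := g.toAlgebra
  exact finrank_dvd_of_isField hR f (V := L)

theorem dvd_finsum {w : ℤ} (f : ℕ → ℤ) (h : ∀ i, w ∣ f i) : w ∣ ∑ᶠ i, f i :=
  finsum_induction (fun x => w ∣ x) (dvd_zero w) (fun _ _ hx hy => dvd_add hx hy) h

end Groth.Agent.Lib.Helper38
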