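import Mathlib
import Groth.Agent.Lib.Helper38.KASub

/-!
# Gluing subrings of a field along localizations
-/

set_option autoImplicit false

universe u

open CategoryTheory CategoryTheory.Limits AlgebraicGeometry

namespace Groth.Agent.Lib.Helper38

namespace Glue

variable {K : Type u} [Field K]

/-- In a Noetherian domain `A` of dimension `≤ 1` with fraction field `K`, a nonzero element `s` of
the Jacobson radical eventually multiplies every element of `K` into `A`. -/
theorem exists_pow_mul_mem (A : Subring K) [IsFractionRing A K] [IsNoetherianRing A]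
    [Ring.KrullDimLE 1 A] (s : A) (hs : s ∈ Ideal.jacobson (⊥ : Ideal A)) (x : K) :
    ∃ n : ℕ, (s : K) ^ n * x ∈ A := by
  obtain ⟨a, c, hc, hx⟩ := IsFractionRing.div_surjective (A := A) x
  have hc0 : c ≠ 0 := nonZeroDivisors.ne_zero hc
  have := KrullAkizuki.isArtinian_quotient_span_singleton hc0
  obtain ⟨n₀, hn₀⟩ := KrullAkizuki.exists_stabilize (I := Ideal.span {c})
    (fun n => Ideal.span {s ^ n}) (by
      intro m n hmn
      show Ideal.span {s ^ n} ≤ Ideal.span {s ^ m}
      rw [Ideal.span_singleton_le_span_singleton]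
      exact pow_dvd_pow _ hmn)
  obtain ⟨y, hy, hz⟩ := hn₀ n₀ le_rfl (s ^ n₀) (Ideal.mem_span_singleton_self _)
  obtain ⟨w, hw⟩ := Ideal.mem_span_singleton'.mp hy
  obtain ⟨v, hv⟩ := Ideal.mem_span_singleton'.mp hz
  have hu : IsUnit (s * (-w) + 1) := Ideal.mem_jacobson_bot.mp hs (-w)
  obtain ⟨ε, hε⟩ := hu
  have h1 : s ^ n₀ * (ε : A) = v * c := by
    rw [hε, hv, ← hw]; ring
  have h2 : s ^ n₀ = v * c * (ε⁻¹ : Aˣ) := by
    rw [← h1, mul_assoc, Units.mul_inv, mul_one]
  refine ⟨n₀, ?_⟩
  have hcK : (c : K) ≠ 0 := fun h => hc0 (Subtype.ext h)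
  have h3 : (s : K) ^ n₀ * x = ((v * (ε⁻¹ : Aˣ) * a : A) : K) := by
    have h2' := congrArg (fun z : A => (z : K)) h2
    simp only [Subring.coe_mul, Subring.coe_pow] at h2'
    rw [h2', ← hx]
    show _ = ((v : K) * ((ε⁻¹ : Aˣ) : A) * (a : K))
    show (v : K) * (c : K) * (((ε⁻¹ : Aˣ) : A) : K) * ((a : K) / (c : K)) = _
    field_simp
  rw [h3]
  exact (v * (ε⁻¹ : Aˣ) * a : A).2

/-- If `R ≤ A` are subrings of `K`, `t ∈ R` is invertible in `A` and eventually multiplies every
element of `A` into `R`, then `A = R[1/t]`. -/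
theorem isLocalization_away (R A : Subring K) (h : R ≤ A) (t : R) (ht0 : (t : K) ≠ 0)
    (htinv : (t : K)⁻¹ ∈ A) (hA : ∀ x ∈ A, ∃ n : ℕ, (t : K) ^ n * x ∈ R) :
    @IsLocalization.Away R _ t A _ (Subring.inclusion h).toAlgebra := by
  letI : Algebra R A := (Subring.inclusion h).toAlgebra
  have hmap : ∀ r : R, ((algebraMap R A r : A) : K) = (r : K) := fun r => rfl
  show IsLocalization (Submonoid.powers t) A
  refine ⟨?_, ?_, ?_⟩
  · rintro ⟨y, n, rfl⟩
    refine ⟨⟨algebraMap R A (t ^ n), ⟨(t : K)⁻¹, htinv⟩ ^ n, ?_, ?_⟩, rfl⟩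
    · apply Subtype.ext
      show (t : K) ^ n * ((t : K)⁻¹) ^ n = 1
      rw [← mul_pow, mul_inv_cancel₀ ht0, one_pow]
    · apply Subtype.ext
      show ((t : K)⁻¹) ^ n * (t : K) ^ n = 1
      rw [← mul_pow, inv_mul_cancel₀ ht0, one_pow]
  · intro z
    obtain ⟨n, hn⟩ := hA z z.2
    refine ⟨(⟨(t : K) ^ n * z, hn⟩, ⟨t ^ n, n, rfl⟩), ?_⟩
    apply Subtype.ext
    show (z : K) * (t : K) ^ n = (t : K) ^ n * z
    ring
  · intro x y hxy
    refine ⟨1, ?_⟩
    have : x = y := by
      apply Subtype.ext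
      have := congrArg (fun z : A => (z : K)) hxy
      simpa [hmap] using this
    rw [this]

theorem isOpenImmersion_of_isLocalization_away (R A : Subring K) (h : R ≤ A) (t : R)
    (hloc : @IsLocalization.Away R _ t A _ (Subring.inclusion h).toAlgebra) :
    IsOpenImmersion (Spec.map (CommRingCat.ofHom (Subring.inclusion h))) := by
  letI : Algebra R A := (Subring.inclusion h).toAlgebra
  exact IsOpenImmersion.of_isLocalization (R := R) (S := A) t

theorem range_of_isLocalization_away (R A : Subring K) (h : R ≤ A) (t : R)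
    (hloc : @IsLocalization.Away R _ t A _ (Subring.inclusion h).toAlgebra) :
    Set.range (Spec.map (CommRingCat.ofHom (Subring.inclusion h))).base
      = (PrimeSpectrum.basicOpen t : Set (PrimeSpectrum R)) := by
  letI : Algebra R A := (Subring.inclusion h).toAlgebra
  exact PrimeSpectrum.localization_away_comap_range (R := R) A t

/-- If `s ∈ A` is nonzero and eventually multiplies every element of `K` into `A`, then
`K = A[1/s]`. -/
theorem isLocalization_away_field (A : Subring K) (s : A) (hs0 : (s : K) ≠ 0)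
    (hA : ∀ x : K, ∃ n : ℕ, (s : K) ^ n * x ∈ A) : IsLocalization.Away s K := by
  show IsLocalization (Submonoid.powers s) K
  refine ⟨?_, ?_, ?_⟩
  · rintro ⟨y, n, rfl⟩
    show IsUnit ((s : K) ^ n)
    exact (IsUnit.mk0 _ hs0).pow n
  · intro z
    obtain ⟨n, hn⟩ := hA z
    refine ⟨(⟨(s : K) ^ n * z, hn⟩, ⟨s ^ n, n, rfl⟩), ?_⟩
    show z * (s : K) ^ n = (s : K) ^ n * z
    ring
  · intro x y hxy
    refine ⟨1, ?_⟩
    have : x = y := Subtype.ext hxy
    rw [this]

theorem isPushout_of_isLocalization (R A B : Subring K) (hA : R ≤ A) (hB : R ≤ B) (s : R)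
    (hlocB : @IsLocalization.Away R _ s B _ (Subring.inclusion hB).toAlgebra)
    (hlocK : IsLocalization.Away (Subring.inclusion hA s) K) :
    IsPushout (CommRingCat.ofHom (Subring.inclusion hA)) (CommRingCat.ofHom (Subring.inclusion hB))
      (CommRingCat.ofHom A.subtype) (CommRingCat.ofHom B.subtype) := by
  letI : Algebra R B := (Subring.inclusion hB).toAlgebra
  haveI : IsLocalization (Submonoid.powers s) B := hlocB
  haveI : IsLocalization ((Submonoid.powers s).map (Subring.inclusion hA)) K := by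
    rw [Submonoid.map_powers]; exact hlocK
  exact CommRingCat.isPushout_of_isLocalization (R := R) (S := A) (Rₘ := B) (Sₘ := K)
    (Subring.inclusion hA) B.subtype rfl (Submonoid.powers s)

theorem basicOpen_union_eq_univ {R : Type*} [CommRing R] (s t : R) (h : IsUnit (s + t)) :
    (PrimeSpectrum.basicOpen t : Set (PrimeSpectrum R)) ∪ PrimeSpectrum.basicOpen s
      = Set.univ := by
  rw [Set.eq_univ_iff_forall]
  intro p
  by_contra hp
  rw [Set.mem_union, not_or] at hp
  have h1 : t ∈ p.asIdeal := by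
    by_contra h1; exact hp.1 h1
  have h2 : s ∈ p.asIdeal := by
    by_contra h2; exact hp.2 h2
  exact p.2.ne_top (Ideal.eq_top_of_isUnit_mem _ (p.asIdeal.add_mem h2 h1) h)

section Semilocal

variable {A : Type*} [CommRing A]

theorem exists_add_isUnit_mul_mem_jacobson [Finite (MaximalSpectrum A)] (x : A) :
    ∃ y, IsUnit (x + y) ∧ x * y ∈ Ideal.jacobson (⊥ : Ideal A) := by
  classical
  have hcop : Pairwise (Function.onFun IsCoprime fun m : MaximalSpectrum A => m.asIdeal) := by
    intro m m' hmm'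
    show IsCoprime m.asIdeal m'.asIdeal
    rw [Ideal.isCoprime_iff_sup_eq]
    exact Ideal.IsMaximal.coprime_of_ne m.2 m'.2 (fun h => hmm' (MaximalSpectrum.ext h))
  obtain ⟨y, hy⟩ := Ideal.exists_forall_sub_mem_ideal hcop
    (fun m => if x ∈ m.asIdeal then (1 : A) else 0)
  refine ⟨y, ?_, ?_⟩
  · by_contra hu
    obtain ⟨I, hI, hxI⟩ := exists_max_ideal_of_mem_nonunits (mem_nonunits_iff.mpr hu)
    have h1 := hy ⟨I, hI⟩
    by_cases hx : x ∈ I
    · simp only [hx, if_true] at h1
      have hyI : y ∈ I := by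
        have := I.sub_mem hxI hx
        simpa using this
      have : (1 : A) ∈ I := by
        have := I.sub_mem hyI h1
        simpa using this
      exact hI.ne_top ((Ideal.eq_top_iff_one _).mpr this)
    · simp only [hx, if_false, sub_zero] at h1
      have := I.sub_mem hxI h1
      simp only [add_sub_cancel_right] at this
      exact hx this
  · rw [Ideal.jacobson, Ideal.mem_sInf]
    rintro I ⟨_, hI⟩
    have h1 := hy ⟨I, hI⟩
    by_cases hx : x ∈ I
    · exact I.mul_mem_right _ hx
    · simp only [hx, if_false, sub_zero] at h1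
      exact I.mul_mem_left _ h1

theorem exists_ne_zero_mem_jacobson [IsDomain A] [Finite (MaximalSpectrum A)] (hA : ¬ IsField A) :
    ∃ j : A, j ≠ 0 ∧ j ∈ Ideal.jacobson (⊥ : Ideal A) := by
  classical
  haveI := Fintype.ofFinite (MaximalSpectrum A)
  have hex : ∀ m : MaximalSpectrum A, ∃ x : A, x ∈ m.asIdeal ∧ x ≠ 0 := by
    intro m
    have := Ring.ne_bot_of_isMaximal_of_not_isField m.2 hA
    exact Submodule.exists_mem_ne_zero_of_ne_bot this
  choose f hf hf0 using hex
  refine ⟨∏ m, f m, Finset.prod_ne_zero_iff.mpr (fun m _ => hf0 m), ?_⟩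
  rw [Ideal.jacobson, Ideal.mem_sInf]
  rintro I ⟨_, hI⟩
  have hdvd : f ⟨I, hI⟩ ∣ ∏ m, f m := Finset.dvd_prod_of_mem f (Finset.mem_univ _)
  exact Ideal.mem_of_dvd _ hdvd (hf ⟨I, hI⟩)

end Semilocal

end Glue

end Groth.Agent.Lib.Helper38
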