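import Mathlib
import Groth.Agent.Lib.Helper38.Glue

/-!
# Gluing two one-dimensional subrings of a field: main consequences
-/

set_option autoImplicit false

universe u

open CategoryTheory CategoryTheory.Limits AlgebraicGeometry

namespace Groth.Agent.Lib.Helper38

namespace Glue

variable {K : Type u} [Field K]

/-- Gluing data for two subrings `A`, `B` of `K`: `t` is a unit of `A` lying in the Jacobson
radical of `B`, and `s` is a unit of `B` lying in the Jacobson radical of `A`. -/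
def HasGlue (A B : Subring K) : Prop :=
  ∃ s t : K, ∃ (hsA : s ∈ A) (_ : s ∈ B) (_ : t ∈ A) (htB : t ∈ B),
    s⁻¹ ∈ B ∧ t⁻¹ ∈ A ∧ s ≠ 0 ∧ t ≠ 0 ∧
    (⟨s, hsA⟩ : A) ∈ Ideal.jacobson (⊥ : Ideal A) ∧ (⟨t, htB⟩ : B) ∈ Ideal.jacobson (⊥ : Ideal B)

theorem HasGlue.symm {A B : Subring K} (h : HasGlue A B) : HasGlue B A := by
  obtain ⟨s, t, hsA, hsB, htA, htB, hsinv, htinv, hs0, ht0, hsJ, htJ⟩ := h
  exact ⟨t, s, htB, htA, hsB, hsA, htinv, hsinv, ht0, hs0, htJ, hsJ⟩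

section Main

variable (A B : Subring K) [IsFractionRing A K] [IsFractionRing B K] [IsNoetherianRing A]
  [IsNoetherianRing B] [Ring.KrullDimLE 1 A] [Ring.KrullDimLE 1 B]

theorem HasGlue.exists_elements (h : HasGlue A B) :
    ∃ s t : ↥(A ⊓ B),
      @IsLocalization.Away ↥(A ⊓ B) _ t A _ (Subring.inclusion inf_le_left).toAlgebra ∧
      @IsLocalization.Away ↥(A ⊓ B) _ s B _ (Subring.inclusion inf_le_right).toAlgebra ∧
      IsUnit (s + t) ∧
      IsLocalization.Away (Subring.inclusion (inf_le_left : A ⊓ B ≤ A) s) K := by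
  obtain ⟨s, t, hsA, hsB, htA, htB, hsinv, htinv, hs0, ht0, hsJ, htJ⟩ := h
  refine ⟨⟨s, hsA, hsB⟩, ⟨t, htA, htB⟩, ?_, ?_, ?_, ?_⟩
  · apply isLocalization_away (A ⊓ B) A inf_le_left ⟨t, htA, htB⟩ ht0 htinv
    intro x hx
    obtain ⟨n, hn⟩ := exists_pow_mul_mem B ⟨t, htB⟩ htJ x
    exact ⟨n, A.mul_mem (A.pow_mem htA n) hx, hn⟩
  · apply isLocalization_away (A ⊓ B) B inf_le_right ⟨s, hsA, hsB⟩ hs0 hsinv
    intro x hx
    obtain ⟨n, hn⟩ := exists_pow_mul_mem A ⟨s, hsA⟩ hsJ x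
    exact ⟨n, hn, B.mul_mem (B.pow_mem hsB n) hx⟩
  · -- `s + t` is a unit of `A ⊓ B`
    have h1 : IsUnit ((⟨s, hsA⟩ : A) * ⟨t⁻¹, htinv⟩ + 1) := Ideal.mem_jacobson_bot.mp hsJ _
    have h2 : IsUnit ((⟨t, htB⟩ : B) * ⟨s⁻¹, hsinv⟩ + 1) := Ideal.mem_jacobson_bot.mp htJ _
    obtain ⟨ε1, hε1⟩ := h1
    obtain ⟨ε2, hε2⟩ := h2
    have e1 : (((ε1 : A) : K)) = s * t⁻¹ + 1 := by rw [hε1]; rfl
    have e2 : (((ε2 : B) : K)) = t * s⁻¹ + 1 := by rw [hε2]; rfl
    have e1' : (((ε1⁻¹ : Aˣ) : A) : K) * (s * t⁻¹ + 1) = 1 := by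
      rw [← e1]
      exact congrArg Subtype.val (Units.inv_mul ε1)
    have e2' : (((ε2⁻¹ : Bˣ) : B) : K) * (t * s⁻¹ + 1) = 1 := by
      rw [← e2]
      exact congrArg Subtype.val (Units.inv_mul ε2)
    have hst : s + t ≠ 0 := by
      intro h0
      have : s * t⁻¹ + 1 = 0 := by
        have : s = -t := eq_neg_of_add_eq_zero_left h0
        rw [this]; field_simp; ring
      rw [this, mul_zero] at e1'
      exact zero_ne_one e1'
    have hinvA : (s + t)⁻¹ ∈ A := by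
      have : (s + t)⁻¹ = t⁻¹ * (((ε1⁻¹ : Aˣ) : A) : K) := by
        have h3 : (((ε1⁻¹ : Aˣ) : A) : K) = (s * t⁻¹ + 1)⁻¹ := eq_inv_of_mul_eq_one_left e1'
        rw [h3]
        have : s * t⁻¹ + 1 = (s + t) * t⁻¹ := by field_simp
        rw [this]; field_simp
      rw [this]
      exact A.mul_mem htinv (((ε1⁻¹ : Aˣ) : A)).2
    have hinvB : (s + t)⁻¹ ∈ B := by
      have : (s + t)⁻¹ = s⁻¹ * (((ε2⁻¹ : Bˣ) : B) : K) := by
        have h3 : (((ε2⁻¹ : Bˣ) : B) : K) = (t * s⁻¹ + 1)⁻¹ := eq_inv_of_mul_eq_one_left e2'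
        rw [h3]
        have : t * s⁻¹ + 1 = (s + t) * s⁻¹ := by field_simp; ring
        rw [this]; field_simp
      rw [this]
      exact B.mul_mem hsinv (((ε2⁻¹ : Bˣ) : B)).2
    refine ⟨⟨⟨s + t, A.add_mem hsA htA, B.add_mem hsB htB⟩, ⟨(s + t)⁻¹, hinvA, hinvB⟩, ?_, ?_⟩, rfl⟩
    · apply Subtype.ext
      show (s + t) * (s + t)⁻¹ = 1
      exact mul_inv_cancel₀ hst
    · apply Subtype.ext
      show (s + t)⁻¹ * (s + t) = 1
      exact inv_mul_cancel₀ hst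
  · apply isLocalization_away_field A ⟨s, hsA⟩ hs0
    intro x
    exact exists_pow_mul_mem A ⟨s, hsA⟩ hsJ x

theorem HasGlue.main (h : HasGlue A B) :
    IsOpenImmersion (Spec.map (CommRingCat.ofHom (Subring.inclusion (inf_le_left : A ⊓ B ≤ A)))) ∧
      IsOpenImmersion (Spec.map (CommRingCat.ofHom (Subring.inclusion (inf_le_right : A ⊓ B ≤ B)))) ∧
      Set.range (Spec.map (CommRingCat.ofHom (Subring.inclusion (inf_le_left : A ⊓ B ≤ A)))).base ∪
        Set.range (Spec.map (CommRingCat.ofHom (Subring.inclusion (inf_le_right : A ⊓ B ≤ B)))).base = Set.univ ∧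
      IsPushout (CommRingCat.ofHom (Subring.inclusion (inf_le_left : A ⊓ B ≤ A)))
        (CommRingCat.ofHom (Subring.inclusion (inf_le_right : A ⊓ B ≤ B)))
        (CommRingCat.ofHom A.subtype) (CommRingCat.ofHom B.subtype) := by
  obtain ⟨s, t, hlocA, hlocB, hu, hlocK⟩ := h.exists_elements A B
  refine ⟨isOpenImmersion_of_isLocalization_away _ _ _ t hlocA,
    isOpenImmersion_of_isLocalization_away _ _ _ s hlocB, ?_,
    isPushout_of_isLocalization _ _ _ _ _ s hlocB hlocK⟩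
  rw [range_of_isLocalization_away _ _ _ t hlocA, range_of_isLocalization_away _ _ _ s hlocB]
  exact basicOpen_union_eq_univ s t hu

end Main

end Glue

end Groth.Agent.Lib.Helper38
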