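import Mathlib
import Groth.Agent.Lib.Helper38.GlueMain

/-!
# Gluing a semi-local one-dimensional subring with a discrete valuation ring
-/

set_option autoImplicit false

universe u

namespace Groth.Agent.Lib.Helper38

namespace Glue

variable {K : Type u} [Field K]

theorem toSubring_ne_top_of_dvr (B : ValuationSubring K) [IsDiscreteValuationRing B] :
    B.toSubring ≠ ⊤ := by
  intro htop
  apply IsDiscreteValuationRing.not_isField B
  refine { exists_pair_ne := ⟨0, 1, zero_ne_one⟩, mul_comm := mul_comm, mul_inv_cancel := ?_ }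
  intro a ha
  have hmem : (a : K)⁻¹ ∈ B := by
    have : (a : K)⁻¹ ∈ B.toSubring := by rw [htop]; trivial
    exact this
  refine ⟨⟨(a : K)⁻¹, hmem⟩, ?_⟩
  apply Subtype.ext
  show (a : K) * (a : K)⁻¹ = 1
  exact mul_inv_cancel₀ (fun h0 => ha (Subtype.ext h0))

theorem le_of_units_mem (A : Subring K) [Finite (MaximalSpectrum A)] (B : ValuationSubring K)
    (hall : ∀ u : A, IsUnit u → (u : K) ∈ B) : A ≤ B.toSubring := by
  intro x hx
  obtain ⟨y, hxy, hJ⟩ := exists_add_isUnit_mul_mem_jacobson (⟨x, hx⟩ : A)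
  have h1 : x + (y : K) ∈ B := hall _ hxy
  have h2 : x * (y : K) ∈ B := by
    have hu : IsUnit ((⟨x, hx⟩ : A) * y * 1 + 1) := Ideal.mem_jacobson_bot.mp hJ 1
    have h3 : x * (y : K) * 1 + 1 ∈ B := hall _ hu
    have h4 : x * (y : K) = (x * (y : K) * 1 + 1) - 1 := by ring
    rw [h4]
    exact B.sub_mem h3 B.one_mem
  show x ∈ B
  rcases B.mem_or_inv_mem x with h | h
  · exact h
  · by_cases hx0 : x = 0
    · rw [hx0]; exact B.zero_mem
    · have : x = (x + (y : K)) - (x * (y : K)) * x⁻¹ := by field_simp; ring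
      rw [this]
      exact B.sub_mem h1 (mul_mem h2 h)

theorem comap_maximalIdeal_isMaximal (A : Subring K) [IsFractionRing A K] [Ring.KrullDimLE 1 A]
    (B : ValuationSubring K) [IsDiscreteValuationRing B] (h : A ≤ B.toSubring) :
    (Ideal.comap (Subring.inclusion h) (IsLocalRing.maximalIdeal B)).IsMaximal := by
  have hprime : (Ideal.comap (Subring.inclusion h) (IsLocalRing.maximalIdeal B)).IsPrime :=
    Ideal.comap_isPrime _ _
  refine (Ring.krullDimLE_one_iff_of_noZeroDivisors.mp ‹_›) _ ?_ hprime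
  intro hbot
  apply toSubring_ne_top_of_dvr B
  rw [eq_top_iff]
  intro z _
  obtain ⟨a, c, hc, hz⟩ := IsFractionRing.div_surjective (A := A) z
  have hc0 : c ≠ 0 := nonZeroDivisors.ne_zero hc
  have hcm : c ∉ Ideal.comap (Subring.inclusion h) (IsLocalRing.maximalIdeal B) := by
    rw [hbot]; exact hc0
  rw [Ideal.mem_comap, IsLocalRing.mem_maximalIdeal, mem_nonunits_iff, not_not] at hcm
  obtain ⟨ε, hε⟩ := hcm
  have h1 : (((ε⁻¹ : Bˣ) : B) : K) * (c : K) = 1 := by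
    have := congrArg Subtype.val (Units.inv_mul ε)
    rw [hε] at this
    exact this
  have h2 : (((ε⁻¹ : Bˣ) : B) : K) = (c : K)⁻¹ := eq_inv_of_mul_eq_one_left h1
  have h3 : z = (a : K) * (c : K)⁻¹ := by rw [← hz, div_eq_mul_inv]; rfl
  rw [h3, ← h2]
  exact mul_mem (h a.2) ((ε⁻¹ : Bˣ) : B).2

theorem hasGlue_of_unit_notMem (A : Subring K) [IsFractionRing A K] [IsNoetherianRing A]
    [Ring.KrullDimLE 1 A] (hnf : ¬ IsField A) [Finite (MaximalSpectrum A)]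
    (B : ValuationSubring K) [IsDiscreteValuationRing B]
    (u : A) (hu : IsUnit u) (huB : (u : K) ∉ B) : HasGlue A B.toSubring := by
  haveI : IsFractionRing B.toSubring K := (inferInstance : IsFractionRing B K)
  haveI : IsNoetherianRing B.toSubring := (inferInstance : IsNoetherianRing B)
  haveI : Ring.KrullDimLE 1 B.toSubring := (inferInstance : Ring.KrullDimLE 1 B)
  have hu0 : (u : K) ≠ 0 := fun h => huB (h ▸ B.zero_mem)
  obtain ⟨t, ht⟩ : ∃ t : K, t = (u : K)⁻¹ := ⟨_, rfl⟩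
  have ht0 : t ≠ 0 := by rw [ht]; exact inv_ne_zero hu0
  have htu : t * (u : K) = 1 := by rw [ht]; exact inv_mul_cancel₀ hu0
  have htA : t ∈ A := by
    obtain ⟨ε, hε⟩ := hu
    have : (((ε⁻¹ : Aˣ) : A) : K) = t := by
      rw [ht, ← hε]; exact eq_inv_of_mul_eq_one_left (congrArg Subtype.val (Units.inv_mul ε))
    rw [← this]; exact ((ε⁻¹ : Aˣ) : A).2
  have htB : t ∈ B := by
    rw [ht]; exact (B.mem_or_inv_mem u).resolve_left huB
  have htinv : t⁻¹ ∈ A := by rw [ht, inv_inv]; exact u.2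
  have htnu : ¬ IsUnit (⟨t, htB⟩ : B) := by
    intro h
    obtain ⟨ε, hε⟩ := h
    have h1 : (((ε⁻¹ : Bˣ) : B) : K) * t = 1 := by
      have := congrArg Subtype.val (Units.inv_mul ε); rw [hε] at this; exact this
    have : (((ε⁻¹ : Bˣ) : B) : K) = t⁻¹ := eq_inv_of_mul_eq_one_left h1
    apply huB
    have h2 : (u : K) = t⁻¹ := by rw [ht, inv_inv]
    rw [h2, ← this]; exact ((ε⁻¹ : Bˣ) : B).2
  have htJ : (⟨t, htB⟩ : B.toSubring) ∈ Ideal.jacobson (⊥ : Ideal B.toSubring) := by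
    have := IsLocalRing.jacobson_eq_maximalIdeal (⊥ : Ideal B) bot_ne_top
    show (⟨t, htB⟩ : B) ∈ Ideal.jacobson (⊥ : Ideal B)
    rw [this]; exact (IsLocalRing.mem_maximalIdeal _).mpr htnu
  obtain ⟨j₀, hj₀, hj₀J⟩ := exists_ne_zero_mem_jacobson (A := A) hnf
  obtain ⟨n, hn⟩ := exists_pow_mul_mem B.toSubring ⟨t, htB⟩ htJ (j₀ : K)
  obtain ⟨j, hj⟩ : ∃ j : K, j = t ^ n * j₀ := ⟨_, rfl⟩
  have hjA : j ∈ A := by rw [hj]; exact A.mul_mem (A.pow_mem htA n) j₀.2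
  have hjB : j ∈ B := by rw [hj]; exact hn
  have hj0 : j ≠ 0 := by
    rw [hj]; exact mul_ne_zero (pow_ne_zero _ ht0) (fun h => hj₀ (Subtype.ext h))
  have hjJ : (⟨j, hjA⟩ : A) ∈ Ideal.jacobson (⊥ : Ideal A) := by
    have : (⟨j, hjA⟩ : A) = (⟨t, htA⟩ : A) ^ n * j₀ := Subtype.ext hj
    rw [this]; exact Ideal.mul_mem_left _ _ hj₀J
  obtain ⟨ϖ, hϖ⟩ := IsDiscreteValuationRing.exists_irreducible B
  have hjB0 : (⟨j, hjB⟩ : B) ≠ 0 := fun h => hj0 (congrArg Subtype.val h)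
  have htB0 : (⟨t, htB⟩ : B) ≠ 0 := fun h => ht0 (congrArg Subtype.val h)
  obtain ⟨a, c1, hc1⟩ := IsDiscreteValuationRing.associated_pow_irreducible hjB0 hϖ
  obtain ⟨e, c2, hc2⟩ := IsDiscreteValuationRing.associated_pow_irreducible htB0 hϖ
  have he : e ≠ 0 := by
    rintro rfl
    rw [pow_zero] at hc2
    exact htnu (IsUnit.of_mul_eq_one _ hc2)
  -- the relations in `K`
  have r1 : j * ((c1 : B) : K) = (ϖ : K) ^ a := congrArg Subtype.val hc1
  have r2 : t * ((c2 : B) : K) = (ϖ : K) ^ e := congrArg Subtype.val hc2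
  have i1 : ((c1 : B) : K) * (((c1⁻¹ : Bˣ) : B) : K) = 1 := congrArg Subtype.val (Units.mul_inv c1)
  have i2 : ((c2 : B) : K) * (((c2⁻¹ : Bˣ) : B) : K) = 1 := congrArg Subtype.val (Units.mul_inv c2)
  obtain ⟨s, hs⟩ : ∃ s : K, s = j ^ e * (u : K) ^ a := ⟨_, rfl⟩
  have hsA : s ∈ A := by rw [hs]; exact A.mul_mem (A.pow_mem hjA e) (A.pow_mem u.2 a)
  have hsJ : (⟨s, hsA⟩ : A) ∈ Ideal.jacobson (⊥ : Ideal A) := by
    have : (⟨s, hsA⟩ : A) = (⟨j, hjA⟩ : A) ^ e * u ^ a := Subtype.ext hs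
    rw [this]
    exact Ideal.mul_mem_right _ _ (Ideal.pow_mem_of_mem _ hjJ e (Nat.pos_of_ne_zero he))
  have k1 : j ^ e * ((c1 : B) : K) ^ e = t ^ a * ((c2 : B) : K) ^ a := by
    rw [← mul_pow, ← mul_pow, r1, r2, ← pow_mul, ← pow_mul, mul_comm]
  have k2 : s * ((c1 : B) : K) ^ e = ((c2 : B) : K) ^ a := by
    calc s * ((c1 : B) : K) ^ e = (j ^ e * ((c1 : B) : K) ^ e) * (u : K) ^ a := by rw [hs]; ring
      _ = (t * (u : K)) ^ a * ((c2 : B) : K) ^ a := by rw [k1]; ring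
      _ = ((c2 : B) : K) ^ a := by rw [htu, one_pow, one_mul]
  have k3 : s = ((c2 : B) : K) ^ a * (((c1⁻¹ : Bˣ) : B) : K) ^ e := by
    calc s = s * (((c1 : B) : K) * (((c1⁻¹ : Bˣ) : B) : K)) ^ e := by rw [i1, one_pow, mul_one]
      _ = (s * ((c1 : B) : K) ^ e) * (((c1⁻¹ : Bˣ) : B) : K) ^ e := by ring
      _ = _ := by rw [k2]
  have hsB : s ∈ B := by
    rw [k3]; exact mul_mem (pow_mem (c2 : B).2 a) (pow_mem ((c1⁻¹ : Bˣ) : B).2 e)
  have k4 : s * ((((c2⁻¹ : Bˣ) : B) : K) ^ a * ((c1 : B) : K) ^ e) = 1 := by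
    calc s * ((((c2⁻¹ : Bˣ) : B) : K) ^ a * ((c1 : B) : K) ^ e)
        = (((c2 : B) : K) * (((c2⁻¹ : Bˣ) : B) : K)) ^ a
          * (((c1 : B) : K) * (((c1⁻¹ : Bˣ) : B) : K)) ^ e := by rw [k3]; ring
      _ = 1 := by rw [i1, i2, one_pow, one_pow, one_mul]
  have hs0 : s ≠ 0 := by
    intro h0; rw [h0, zero_mul] at k4; exact zero_ne_one k4
  have hsinv : s⁻¹ ∈ B := by
    have : s⁻¹ = (((c2⁻¹ : Bˣ) : B) : K) ^ a * ((c1 : B) : K) ^ e :=
      (eq_inv_of_mul_eq_one_right k4).symm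
    rw [this]
    exact mul_mem (pow_mem ((c2⁻¹ : Bˣ) : B).2 a) (pow_mem (c1 : B).2 e)
  exact ⟨s, t, hsA, hsB, htA, htB, hsinv, htinv, hs0, ht0, hsJ, htJ⟩

end Glue

end Groth.Agent.Lib.Helper38
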