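import Mathlib
import Groth.Agent.Lib.Helper38.GlueDVR

/-!
# The class of semi-local one-dimensional Noetherian subrings of a field is stable under gluing
-/

set_option autoImplicit false

universe u

namespace Groth.Agent.Lib.Helper38

namespace Glue

variable {K : Type u} [Field K]

/-- Semi-local Noetherian domains of dimension one inside `K` with fraction field `K`. -/
structure IsSL1 (A : Subring K) : Prop where
  frac : IsFractionRing A K
  noeth : IsNoetherianRing A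
  dim : Ring.KrullDimLE 1 A
  ne_top : A ≠ ⊤
  fin : Finite (MaximalSpectrum A)

theorem IsSL1.not_isField {A : Subring K} (h : IsSL1 A) : ¬ IsField A := fun hf =>
  h.ne_top (by haveI := h.frac; exact KrullAkizuki.subring_eq_top_of_isField A hf)

theorem isSL1_of_dvr (O : ValuationSubring K) [IsDiscreteValuationRing O] : IsSL1 O.toSubring where
  frac := (inferInstance : IsFractionRing O K)
  noeth := (inferInstance : IsNoetherianRing O)
  dim := (inferInstance : Ring.KrullDimLE 1 O)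
  ne_top := toSubring_ne_top_of_dvr O
  fin := (inferInstance : Finite (MaximalSpectrum O))

theorem finite_primeSpectrum (A : Type*) [CommRing A] [IsDomain A] [Ring.KrullDimLE 1 A]
    [Finite (MaximalSpectrum A)] : Finite (PrimeSpectrum A) := by
  classical
  have hmax : ∀ p : PrimeSpectrum A, p.asIdeal ≠ ⊥ → p.asIdeal.IsMaximal := fun p hp =>
    (Ring.krullDimLE_one_iff_of_noZeroDivisors.mp ‹_›) _ hp p.2
  let f : PrimeSpectrum A → Option (MaximalSpectrum A) := fun p =>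
    if h : p.asIdeal = ⊥ then none else some ⟨p.asIdeal, hmax p h⟩
  apply Finite.of_injective f
  intro p q hpq
  by_cases hp : p.asIdeal = ⊥
  · by_cases hq : q.asIdeal = ⊥
    · exact PrimeSpectrum.ext (hp.trans hq.symm)
    · simp only [f, hp, hq, dif_pos, dif_neg, not_false_eq_true] at hpq
      exact absurd hpq (by simp)
  · by_cases hq : q.asIdeal = ⊥
    · simp only [f, hp, hq, dif_pos, dif_neg, not_false_eq_true] at hpq
      exact absurd hpq (by simp)
    · simp only [f, hp, hq, dif_neg, not_false_eq_true, Option.some.injEq,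
        MaximalSpectrum.mk.injEq] at hpq
      exact PrimeSpectrum.ext hpq

/-- In a localization `S = R[1/x]` which is a domain of dimension `≤ 1`, a nonzero prime of `R`
contained in a prime not containing `x` equals it. -/
theorem eq_of_le_of_away {R S : Type*} [CommRing R] [CommRing S] [IsDomain S] [Algebra R S]
    (x : R) [IsLocalization.Away x S] [Ring.KrullDimLE 1 S]
    (hinj : Function.Injective (algebraMap R S)) (p m : Ideal R) (hp : p.IsPrime)
    (hm : m.IsPrime) (hp0 : p ≠ ⊥) (hpm : p ≤ m) (hx : x ∉ m) : p = m := by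
  have hdm : Disjoint (Submonoid.powers x : Set R) (m : Set R) :=
    (Ideal.disjoint_powers_iff_notMem_of_isPrime x).mpr hx
  have hdp : Disjoint (Submonoid.powers x : Set R) (p : Set R) :=
    (Ideal.disjoint_powers_iff_notMem_of_isPrime x).mpr (fun h => hx (hpm h))
  have hP := IsLocalization.isPrime_of_isPrime_disjoint (Submonoid.powers x) S p hp hdp
  have hM := IsLocalization.isPrime_of_isPrime_disjoint (Submonoid.powers x) S m hm hdm
  have cP := IsLocalization.under_map_of_isPrime_disjoint (Submonoid.powers x) S hp hdp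
  have cM := IsLocalization.under_map_of_isPrime_disjoint (Submonoid.powers x) S hm hdm
  have hP0 : Ideal.map (algebraMap R S) p ≠ ⊥ := by
    intro h0
    apply hp0
    rw [← cP, h0]
    exact Ideal.comap_bot_of_injective _ hinj
  have hPmax : (Ideal.map (algebraMap R S) p).IsMaximal :=
    (Ring.krullDimLE_one_iff_of_noZeroDivisors.mp ‹_›) _ hP0 hP
  have hPM : Ideal.map (algebraMap R S) p = Ideal.map (algebraMap R S) m :=
    hPmax.eq_of_le hM.ne_top (Ideal.map_mono hpm)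
  rw [← cP, ← cM, hPM]

section Data

variable (A B : Subring K) [IsFractionRing A K] [IsFractionRing B K] [IsNoetherianRing A]
  [IsNoetherianRing B] [Ring.KrullDimLE 1 A] [Ring.KrullDimLE 1 B]

/-- Concrete consequences of the gluing data. -/
theorem HasGlue.data (h : HasGlue A B) :
    ∃ s t : K, ∃ (hs : s ∈ A ⊓ B) (ht : t ∈ A ⊓ B), s ≠ 0 ∧ t ≠ 0 ∧ t⁻¹ ∈ A ∧ s⁻¹ ∈ B ∧
      (∀ x ∈ A, ∃ n : ℕ, t ^ n * x ∈ A ⊓ B) ∧ (∀ x ∈ B, ∃ n : ℕ, s ^ n * x ∈ A ⊓ B) ∧
      (s + t)⁻¹ ∈ A ⊓ B ∧ s + t ≠ 0 ∧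
      @IsLocalization.Away ↥(A ⊓ B) _ ⟨t, ht⟩ A _ (Subring.inclusion inf_le_left).toAlgebra ∧
      @IsLocalization.Away ↥(A ⊓ B) _ ⟨s, hs⟩ B _ (Subring.inclusion inf_le_right).toAlgebra := by
  obtain ⟨s, t, hsA, hsB, htA, htB, hsinv, htinv, hs0, ht0, hsJ, htJ⟩ := h
  have hAt : ∀ x ∈ A, ∃ n : ℕ, t ^ n * x ∈ A ⊓ B := by
    intro x hx
    obtain ⟨n, hn⟩ := exists_pow_mul_mem B ⟨t, htB⟩ htJ x
    exact ⟨n, A.mul_mem (A.pow_mem htA n) hx, hn⟩
  have hBs : ∀ x ∈ B, ∃ n : ℕ, s ^ n * x ∈ A ⊓ B := by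
    intro x hx
    obtain ⟨n, hn⟩ := exists_pow_mul_mem A ⟨s, hsA⟩ hsJ x
    exact ⟨n, hn, B.mul_mem (B.pow_mem hsB n) hx⟩
  have h1 : IsUnit ((⟨s, hsA⟩ : A) * ⟨t⁻¹, htinv⟩ + 1) := Ideal.mem_jacobson_bot.mp hsJ _
  have h2 : IsUnit ((⟨t, htB⟩ : B) * ⟨s⁻¹, hsinv⟩ + 1) := Ideal.mem_jacobson_bot.mp htJ _
  obtain ⟨ε1, hε1⟩ := h1
  obtain ⟨ε2, hε2⟩ := h2
  have e1 : (((ε1 : A) : K)) = s * t⁻¹ + 1 := by rw [hε1]; rfl
  have e2 : (((ε2 : B) : K)) = t * s⁻¹ + 1 := by rw [hε2]; rfl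
  have e1' : (((ε1⁻¹ : Aˣ) : A) : K) * (s * t⁻¹ + 1) = 1 := by
    rw [← e1]
    exact congrArg Subtype.val (Units.inv_mul ε1)
  have e2' : (((ε2⁻¹ : Bˣ) : B) : K) * (t * s⁻¹ + 1) = 1 := by
    rw [← e2]
    exact congrArg Subtype.val (Units.inv_mul ε2)
  have hst : s + t ≠ 0 := by
    intro h0
    have : s * t⁻¹ + 1 = 0 := by
      have : s = -t := eq_neg_of_add_eq_zero_left h0
      rw [this]; field_simp; ring
    rw [this, mul_zero] at e1'
    exact zero_ne_one e1'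
  have hinvA : (s + t)⁻¹ ∈ A := by
    have : (s + t)⁻¹ = t⁻¹ * (((ε1⁻¹ : Aˣ) : A) : K) := by
      have h3 : (((ε1⁻¹ : Aˣ) : A) : K) = (s * t⁻¹ + 1)⁻¹ := eq_inv_of_mul_eq_one_left e1'
      rw [h3]
      have : s * t⁻¹ + 1 = (s + t) * t⁻¹ := by field_simp
      rw [this]; field_simp
    rw [this]
    exact A.mul_mem htinv (((ε1⁻¹ : Aˣ) : A)).2
  have hinvB : (s + t)⁻¹ ∈ B := by
    have : (s + t)⁻¹ = s⁻¹ * (((ε2⁻¹ : Bˣ) : B) : K) := by
      have h3 : (((ε2⁻¹ : Bˣ) : B) : K) = (t * s⁻¹ + 1)⁻¹ := eq_inv_of_mul_eq_one_left e2'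
      rw [h3]
      have : t * s⁻¹ + 1 = (s + t) * s⁻¹ := by field_simp; ring
      rw [this]; field_simp
    rw [this]
    exact B.mul_mem hsinv (((ε2⁻¹ : Bˣ) : B)).2
  refine ⟨s, t, ⟨hsA, hsB⟩, ⟨htA, htB⟩, hs0, ht0, htinv, hsinv, hAt, hBs, ⟨hinvA, hinvB⟩, hst,
    ?_, ?_⟩
  · exact isLocalization_away (A ⊓ B) A inf_le_left ⟨t, htA, htB⟩ ht0 htinv hAt
  · exact isLocalization_away (A ⊓ B) B inf_le_right ⟨s, hsA, hsB⟩ hs0 hsinv hBs

/-- A valuation subring containing the glued ring contains one of the two pieces. -/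
theorem HasGlue.le_or_le (h : HasGlue A B) (O : ValuationSubring K)
    (hO : A ⊓ B ≤ O.toSubring) : A ≤ O.toSubring ∨ B ≤ O.toSubring := by
  obtain ⟨s, t, hs, ht, hs0, ht0, htinv, hsinv, hAt, hBs, hstinv, hst, -, -⟩ := h.data A B
  have hsO : s ∈ O := hO hs
  have htO : t ∈ O := hO ht
  have hstO : (s + t)⁻¹ ∈ O := hO hstinv
  have key : t⁻¹ ∈ O ∨ s⁻¹ ∈ O := by
    rcases O.mem_or_inv_mem (s * t⁻¹) with h1 | h1
    · left
      have : t⁻¹ = (1 + s * t⁻¹) * (s + t)⁻¹ := by field_simp; ring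
      rw [this]
      exact mul_mem (add_mem O.one_mem h1) hstO
    · right
      have h2 : t * s⁻¹ ∈ O := by
        have : (s * t⁻¹)⁻¹ = t * s⁻¹ := by field_simp
        rwa [this] at h1
      have : s⁻¹ = (1 + t * s⁻¹) * (s + t)⁻¹ := by field_simp
      rw [this]
      exact mul_mem (add_mem O.one_mem h2) hstO
  rcases key with h1 | h1
  · left
    intro x hx
    obtain ⟨n, hn⟩ := hAt x hx
    have : x = (t⁻¹) ^ n * (t ^ n * x) := by
      rw [← mul_assoc, ← mul_pow, inv_mul_cancel₀ ht0, one_pow, one_mul]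
    rw [this]
    exact mul_mem (pow_mem h1 n) (hO hn)
  · right
    intro x hx
    obtain ⟨n, hn⟩ := hBs x hx
    have : x = (s⁻¹) ^ n * (s ^ n * x) := by
      rw [← mul_assoc, ← mul_pow, inv_mul_cancel₀ hs0, one_pow, one_mul]
    rw [this]
    exact mul_mem (pow_mem h1 n) (hO hn)

end Data

/-- The glued ring is again semi-local Noetherian of dimension one with fraction field `K`. -/
theorem HasGlue.isSL1_inf {A B : Subring K} (hA : IsSL1 A) (hB : IsSL1 B) (h : HasGlue A B) :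
    IsSL1 (A ⊓ B) := by
  haveI := hA.frac; haveI := hA.noeth; haveI := hA.dim; haveI := hA.fin
  haveI := hB.frac; haveI := hB.noeth; haveI := hB.dim; haveI := hB.fin
  obtain ⟨s, t, hs, ht, hs0, ht0, htinv, hsinv, hAt, hBs, hstinv, hst, hlocA, hlocB⟩ := h.data A B
  have hu : IsUnit ((⟨s, hs⟩ : ↥(A ⊓ B)) + ⟨t, ht⟩) := by
    refine ⟨⟨⟨s + t, (A ⊓ B).add_mem hs ht⟩, ⟨(s + t)⁻¹, hstinv⟩, ?_, ?_⟩, rfl⟩
    · apply Subtype.ext
      show (s + t) * (s + t)⁻¹ = 1
      exact mul_inv_cancel₀ hst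
    · apply Subtype.ext
      show (s + t)⁻¹ * (s + t) = 1
      exact inv_mul_cancel₀ hst
  have hfrac : IsFractionRing ↥(A ⊓ B) K := by
    apply IsFractionRing.of_field
    intro z
    obtain ⟨a, c, hc, hz⟩ := IsFractionRing.div_surjective (A := A) z
    obtain ⟨n, hn⟩ := hAt a a.2
    obtain ⟨m, hm⟩ := hAt c c.2
    have h1 : t ^ (n + m) * (a : K) ∈ A ⊓ B := by
      have : t ^ (n + m) * (a : K) = t ^ m * (t ^ n * a) := by ring
      rw [this]; exact (A ⊓ B).mul_mem ((A ⊓ B).pow_mem ht m) hn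
    have h2 : t ^ (n + m) * (c : K) ∈ A ⊓ B := by
      have : t ^ (n + m) * (c : K) = t ^ n * (t ^ m * c) := by ring
      rw [this]; exact (A ⊓ B).mul_mem ((A ⊓ B).pow_mem ht n) hm
    refine ⟨⟨_, h1⟩, ⟨_, h2⟩, ?_⟩
    show z = (t ^ (n + m) * (a : K)) / (t ^ (n + m) * (c : K))
    rw [← hz]
    have hc0 : (c : K) ≠ 0 := fun h0 => nonZeroDivisors.ne_zero hc (Subtype.ext h0)
    have : t ^ (n + m) ≠ 0 := pow_ne_zero _ ht0
    show (a : K) / (c : K) = _
    field_simp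
  have hspan : Ideal.span ({⟨s, hs⟩, ⟨t, ht⟩} : Set ↥(A ⊓ B)) = ⊤ := by
    apply Ideal.eq_top_of_isUnit_mem _ _ hu
    exact Ideal.add_mem _ (Ideal.subset_span (by simp)) (Ideal.subset_span (by simp))
  have hnoeth : IsNoetherianRing ↥(A ⊓ B) := by
    rw [isNoetherianRing_iff_ideal_fg]
    intro I
    apply Ideal.fg_of_localizationSpan _ hspan
    rintro ⟨g, hg⟩
    rcases hg with rfl | hg
    · letI : Algebra ↥(A ⊓ B) B := (Subring.inclusion inf_le_right).toAlgebra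
      haveI : IsLocalization.Away (⟨s, hs⟩ : ↥(A ⊓ B)) B := hlocB
      haveI : IsNoetherianRing (Localization.Away (⟨s, hs⟩ : ↥(A ⊓ B))) :=
        isNoetherianRing_of_ringEquiv B
          (IsLocalization.algEquiv (Submonoid.powers (⟨s, hs⟩ : ↥(A ⊓ B))) B
            (Localization.Away (⟨s, hs⟩ : ↥(A ⊓ B)))).toRingEquiv
      exact IsNoetherian.noetherian _
    · rw [Set.mem_singleton_iff] at hg
      subst hg
      letI : Algebra ↥(A ⊓ B) A := (Subring.inclusion inf_le_left).toAlgebra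
      haveI : IsLocalization.Away (⟨t, ht⟩ : ↥(A ⊓ B)) A := hlocA
      haveI : IsNoetherianRing (Localization.Away (⟨t, ht⟩ : ↥(A ⊓ B))) :=
        isNoetherianRing_of_ringEquiv A
          (IsLocalization.algEquiv (Submonoid.powers (⟨t, ht⟩ : ↥(A ⊓ B))) A
            (Localization.Away (⟨t, ht⟩ : ↥(A ⊓ B)))).toRingEquiv
      exact IsNoetherian.noetherian _
  have hdim : Ring.KrullDimLE 1 ↥(A ⊓ B) := by
    rw [Ring.krullDimLE_one_iff_of_noZeroDivisors]
    intro p hp0 hp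
    obtain ⟨m, hm, hpm⟩ := Ideal.exists_le_maximal p hp.ne_top
    have hor : (⟨s, hs⟩ : ↥(A ⊓ B)) ∉ m ∨ (⟨t, ht⟩ : ↥(A ⊓ B)) ∉ m := by
      by_contra hcon
      rw [not_or, not_not, not_not] at hcon
      exact hm.ne_top (Ideal.eq_top_of_isUnit_mem _ (m.add_mem hcon.1 hcon.2) hu)
    suffices p = m by rw [this]; exact hm
    rcases hor with h1 | h1
    · letI : Algebra ↥(A ⊓ B) B := (Subring.inclusion inf_le_right).toAlgebra
      haveI : IsLocalization.Away (⟨s, hs⟩ : ↥(A ⊓ B)) B := hlocB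
      exact eq_of_le_of_away (S := B) ⟨s, hs⟩ (Subring.inclusion_injective _) p m hp hm.isPrime
        hp0 hpm h1
    · letI : Algebra ↥(A ⊓ B) A := (Subring.inclusion inf_le_left).toAlgebra
      haveI : IsLocalization.Away (⟨t, ht⟩ : ↥(A ⊓ B)) A := hlocA
      exact eq_of_le_of_away (S := A) ⟨t, ht⟩ (Subring.inclusion_injective _) p m hp hm.isPrime
        hp0 hpm h1
  have hfin : Finite (MaximalSpectrum ↥(A ⊓ B)) := by
    haveI : Finite (PrimeSpectrum A) := finite_primeSpectrum A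
    haveI : Finite (PrimeSpectrum B) := finite_primeSpectrum B
    suffices Finite (PrimeSpectrum ↥(A ⊓ B)) from
      Finite.of_injective _ MaximalSpectrum.toPrimeSpectrum_injective
    rw [← Set.finite_univ_iff, ← basicOpen_union_eq_univ (⟨s, hs⟩ : ↥(A ⊓ B)) ⟨t, ht⟩ hu]
    apply Set.Finite.union
    · letI : Algebra ↥(A ⊓ B) A := (Subring.inclusion inf_le_left).toAlgebra
      haveI : IsLocalization.Away (⟨t, ht⟩ : ↥(A ⊓ B)) A := hlocA
      rw [← PrimeSpectrum.localization_away_comap_range A (⟨t, ht⟩ : ↥(A ⊓ B))]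
      exact Set.finite_range _
    · letI : Algebra ↥(A ⊓ B) B := (Subring.inclusion inf_le_right).toAlgebra
      haveI : IsLocalization.Away (⟨s, hs⟩ : ↥(A ⊓ B)) B := hlocB
      rw [← PrimeSpectrum.localization_away_comap_range B (⟨s, hs⟩ : ↥(A ⊓ B))]
      exact Set.finite_range _
  exact ⟨hfrac, hnoeth, hdim, fun htop => hA.ne_top (top_le_iff.mp (htop ▸ inf_le_left)), hfin⟩

/-- A discrete valuation ring of `K` is a maximal proper subring. -/
theorem eq_of_le_of_ne_top (O : ValuationSubring K) [IsDiscreteValuationRing O] (C : Subring K)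
    (hle : O.toSubring ≤ C) (hC : C ≠ ⊤) : C = O.toSubring := by
  haveI : IsFractionRing O.toSubring K := (inferInstance : IsFractionRing O K)
  haveI : IsNoetherianRing O.toSubring := (inferInstance : IsNoetherianRing O)
  haveI : Ring.KrullDimLE 1 O.toSubring := (inferInstance : Ring.KrullDimLE 1 O)
  refine le_antisymm ?_ hle
  intro x hxC
  by_contra hxO
  have hxO' : x ∉ O := hxO
  apply hC
  have hx0 : x ≠ 0 := fun h => hxO' (h ▸ O.zero_mem)
  have hinv : x⁻¹ ∈ O := (O.mem_or_inv_mem x).resolve_left hxO'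
  have hnu : ¬ IsUnit (⟨x⁻¹, hinv⟩ : O) := by
    intro h
    obtain ⟨ε, hε⟩ := h
    have h1 : (((ε⁻¹ : Oˣ) : O) : K) * x⁻¹ = 1 := by
      have := congrArg Subtype.val (Units.inv_mul ε); rw [hε] at this; exact this
    have : (((ε⁻¹ : Oˣ) : O) : K) = x := by
      have := eq_inv_of_mul_eq_one_left h1
      rwa [inv_inv] at this
    apply hxO'
    rw [← this]; exact ((ε⁻¹ : Oˣ) : O).2
  have hJ : (⟨x⁻¹, hinv⟩ : O.toSubring) ∈ Ideal.jacobson (⊥ : Ideal O.toSubring) := by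
    have := IsLocalRing.jacobson_eq_maximalIdeal (⊥ : Ideal O) bot_ne_top
    show (⟨x⁻¹, hinv⟩ : O) ∈ Ideal.jacobson (⊥ : Ideal O)
    rw [this]; exact (IsLocalRing.mem_maximalIdeal _).mpr hnu
  rw [eq_top_iff]
  intro z _
  obtain ⟨n, hn⟩ := exists_pow_mul_mem O.toSubring ⟨x⁻¹, hinv⟩ hJ z
  have : z = x ^ n * ((x⁻¹) ^ n * z) := by
    rw [← mul_assoc, ← mul_pow, mul_inv_cancel₀ hx0, one_pow, one_mul]
  rw [this]
  exact C.mul_mem (C.pow_mem hxC n) (hle hn)

end Glue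

end Groth.Agent.Lib.Helper38
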