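import Mathlib
import Groth.Agent.Lib.Helper38.GlueSL

/-!
# Normalization of a semi-local one-dimensional domain and descent of Jacobson elements
-/

set_option autoImplicit false

universe u

open IsDedekindDomain

namespace Groth.Agent.Lib.Helper38

namespace Glue

variable {K : Type u} [Field K]

/-- General form of `exists_pow_mul_mem` for an algebra `A → K`. -/
theorem exists_pow_mul_eq_algebraMap {A : Type*} [CommRing A] [IsDomain A] [Algebra A K]
    [IsFractionRing A K] [IsNoetherianRing A] [Ring.KrullDimLE 1 A] (s : A)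
    (hs : s ∈ Ideal.jacobson (⊥ : Ideal A)) (x : K) :
    ∃ (n : ℕ) (a : A), algebraMap A K a = algebraMap A K s ^ n * x := by
  obtain ⟨a, c, hc, hx⟩ := IsFractionRing.div_surjective (A := A) x
  have hc0 : c ≠ 0 := nonZeroDivisors.ne_zero hc
  have := KrullAkizuki.isArtinian_quotient_span_singleton hc0
  obtain ⟨n₀, hn₀⟩ := KrullAkizuki.exists_stabilize (I := Ideal.span {c})
    (fun n => Ideal.span {s ^ n}) (by
      intro m n hmn
      show Ideal.span {s ^ n} ≤ Ideal.span {s ^ m}
      rw [Ideal.span_singleton_le_span_singleton]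
      exact pow_dvd_pow _ hmn)
  obtain ⟨y, hy, hz⟩ := hn₀ n₀ le_rfl (s ^ n₀) (Ideal.mem_span_singleton_self _)
  obtain ⟨w, hw⟩ := Ideal.mem_span_singleton'.mp hy
  obtain ⟨v, hv⟩ := Ideal.mem_span_singleton'.mp hz
  have hu : IsUnit (s * (-w) + 1) := Ideal.mem_jacobson_bot.mp hs (-w)
  obtain ⟨ε, hε⟩ := hu
  have h1 : s ^ n₀ * (ε : A) = v * c := by
    rw [hε, hv, ← hw]; ring
  have h2 : s ^ n₀ = v * c * (ε⁻¹ : Aˣ) := by
    rw [← h1, mul_assoc, Units.mul_inv, mul_one]
  refine ⟨n₀, v * (ε⁻¹ : Aˣ) * a, ?_⟩
  have hcK : algebraMap A K c ≠ 0 := by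
    intro h; exact hc0 ((IsFractionRing.injective A K) (by rw [h, map_zero]))
  rw [← map_pow, h2, ← hx]
  simp only [map_mul]
  field_simp

/-- The integral closure of a Noetherian domain of dimension `≤ 1` in its fraction field is a
Dedekind domain. -/
theorem isDedekindDomain_integralClosure (C : Subring K) [IsFractionRing C K]
    [IsNoetherianRing C] [Ring.KrullDimLE 1 C] :
    IsDedekindDomain (integralClosure C K) ∧ IsFractionRing (integralClosure C K) K := by
  haveI : IsFractionRing (integralClosure C K) K :=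
    integralClosure.isFractionRing_of_finite_extension K K
  haveI : IsIntegrallyClosed (integralClosure C K) :=
    integralClosure.isIntegrallyClosedOfFiniteExtension K
  obtain ⟨hN, hD⟩ := KrullAkizuki.of_ringHom (A := C) (algebraMap C (integralClosure C K))
    (algebraMap (integralClosure C K) K)
    (FaithfulSMul.algebraMap_injective (integralClosure C K) K) rfl
  haveI := hN
  haveI : Ring.DimensionLEOne (integralClosure C K) :=
    ⟨fun {p} hp hp' => (Ring.krullDimLE_one_iff_of_noZeroDivisors.mp hD) p hp hp'⟩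
  exact ⟨{ }, inferInstance⟩

/-- The finitely many discrete valuation rings dominating a semi-local one-dimensional domain `B`:
an element lying in all their maximal ideals has a power in the Jacobson radical of `B`. -/
theorem exists_finset_dvr (B : Subring K) (hB : IsSL1 B) :
    ∃ L : Finset (ValuationSubring K), (∀ O ∈ L, IsDiscreteValuationRing O) ∧
      (∀ O ∈ L, B ≤ O.toSubring) ∧
      ∀ t : K, (∀ O ∈ L, t ∈ O ∧ t⁻¹ ∉ O) →
        ∃ (N : ℕ) (h : t ^ N ∈ B), (⟨t ^ N, h⟩ : B) ∈ Ideal.jacobson (⊥ : Ideal B) := by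
  classical
  haveI := hB.frac; haveI := hB.noeth; haveI := hB.dim; haveI := hB.fin
  obtain ⟨hDed, hFrac⟩ := isDedekindDomain_integralClosure B
  obtain ⟨S, hS⟩ : ∃ S : Subalgebra B K, S = integralClosure B K := ⟨_, rfl⟩
  rw [← hS] at hDed hFrac
  haveI : IsDedekindDomain S := hDed
  haveI : IsFractionRing S K := hFrac
  haveI : Algebra.IsIntegral B S := by rw [hS]; infer_instance
  have hinjBS : Function.Injective (algebraMap B S) := by
    intro x y hxy
    have := congrArg (algebraMap S K) hxy
    rw [← IsScalarTower.algebraMap_apply, ← IsScalarTower.algebraMap_apply] at this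
    exact IsFractionRing.injective B K this
  have hSnf : ¬ IsField S := fun hf =>
    hB.not_isField (isField_of_isIntegral_of_isField hinjBS hf)
  obtain ⟨b, hb0, hbJ⟩ := exists_ne_zero_mem_jacobson (A := B) hB.not_isField
  have hbv : ∀ v : HeightOneSpectrum S, algebraMap B S b ∈ v.asIdeal := by
    intro v
    haveI := v.isMaximal
    have hmax : (v.asIdeal.comap (algebraMap B S)).IsMaximal :=
      Ideal.isMaximal_comap_of_isIntegral_of_isMaximal v.asIdeal
    have : b ∈ v.asIdeal.comap (algebraMap B S) := by
      rw [Ideal.jacobson, Ideal.mem_sInf] at hbJ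
      exact hbJ ⟨bot_le, hmax⟩
    exact this
  have hfin : Finite (HeightOneSpectrum S) := by
    have hI : Ideal.span {algebraMap B S b} ≠ 0 := by
      rw [Ne, Ideal.zero_eq_bot, Ideal.span_singleton_eq_bot]
      intro h; exact hb0 (hinjBS (by rw [h, map_zero]))
    have := Ideal.finite_factors hI
    rw [← Set.finite_univ_iff]
    refine this.subset ?_
    intro v _
    exact Ideal.dvd_span_singleton.mpr (hbv v)
  haveI := Fintype.ofFinite (HeightOneSpectrum S)
  refine ⟨Finset.univ.image (fun v : HeightOneSpectrum S => (v.valuation K).valuationSubring),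
    ?_, ?_, ?_⟩
  · intro O hO
    obtain ⟨v, -, rfl⟩ := Finset.mem_image.mp hO
    exact (v.valuation K).valuationSubring_isDiscreteValuationRing
  · intro O hO
    obtain ⟨v, -, rfl⟩ := Finset.mem_image.mp hO
    intro x hx
    exact v.valuation_le_one (K := K) (algebraMap B S ⟨x, hx⟩)
  · intro t ht
    have hvt : ∀ v : HeightOneSpectrum S, v.valuation K t < 1 := by
      intro v
      obtain ⟨h1, h2⟩ := ht _ (Finset.mem_image_of_mem _ (Finset.mem_univ v))
      have ht0 : t ≠ 0 := by rintro rfl; rw [inv_zero] at h2; exact h2 (zero_mem _)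
      rw [Valuation.mem_valuationSubring_iff] at h1 h2
      rw [map_inv₀, not_le] at h2
      have hpos : 0 < v.valuation K t := by
        rw [zero_lt_iff]; exact (Valuation.ne_zero_iff _).mpr ht0
      exact (one_lt_inv₀ hpos).mp h2
    obtain ⟨y, hy⟩ := HeightOneSpectrum.mem_integers_of_valuation_le_one (R := S) K t
      (fun v => (hvt v).le)
    have hyv : ∀ v : HeightOneSpectrum S, y ∈ v.asIdeal := by
      intro v
      refine (v.valuation_lt_one_iff_mem (K := K) y).mp ?_
      have h := hvt v
      rw [← hy] at h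
      exact h
    have hyQ : ∀ Q : Ideal S, Q.IsMaximal → y ∈ Q := by
      intro Q hQ
      exact hyv ⟨Q, hQ.isPrime, Ring.ne_bot_of_isMaximal_of_not_isField hQ hSnf⟩
    have hyt : (y : K) = t := hy
    have htint : IsIntegral B t := by
      rw [← hyt]
      have : (y : K) ∈ integralClosure B K := by rw [← hS]; exact y.2
      exact this
    obtain ⟨M, hM⟩ : ∃ M : Subalgebra B K, M = Algebra.adjoin B {t} := ⟨_, rfl⟩
    have hMS : M ≤ S := by
      rw [hM, hS]
      apply Algebra.adjoin_le
      intro x hx
      rw [Set.mem_singleton_iff] at hx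
      subst hx
      exact htint
    have htM : t ∈ M := by rw [hM]; exact Algebra.subset_adjoin (Set.mem_singleton t)
    obtain ⟨G, hG⟩ := htint.fg_adjoin_singleton
    obtain ⟨c, hc⟩ := IsLocalization.exist_integer_multiples_of_finset (nonZeroDivisors B) G
    have key : ∀ x ∈ Submodule.span B (G : Set K), ((c : B) : K) * x ∈ B := by
      intro x hx
      induction hx using Submodule.span_induction with
      | mem g hg =>
        obtain ⟨b', hb'⟩ := hc g hg
        have : ((c : B) : K) * g = (b' : K) := hb'.symm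
        rw [this]; exact b'.2
      | zero => rw [mul_zero]; exact B.zero_mem
      | add y z _ _ hy hz => rw [mul_add]; exact B.add_mem hy hz
      | smul r y _ hy =>
        have : ((c : B) : K) * (r • y) = (r : K) * (((c : B) : K) * y) := by
          rw [Algebra.smul_def]
          show ((c : B) : K) * ((r : K) * y) = _
          ring
        rw [this]; exact B.mul_mem r.2 hy
    have hcM : ∀ x ∈ M, ((c : B) : K) * x ∈ B := by
      intro x hx
      apply key
      rw [hG, ← hM]
      exact hx
    have hcK : ((c : B) : K) ≠ 0 := fun h => nonZeroDivisors.ne_zero c.2 (Subtype.ext h)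
    haveI : IsFractionRing M K := by
      apply IsFractionRing.of_field
      intro z
      obtain ⟨a, d, _, hz⟩ := IsFractionRing.div_surjective (A := B) z
      exact ⟨algebraMap B M a, algebraMap B M d, hz.symm⟩
    obtain ⟨hMN, hMD⟩ := KrullAkizuki.of_ringHom (A := B) (algebraMap B M) (algebraMap M K)
      (FaithfulSMul.algebraMap_injective M K) rfl
    haveI := hMN
    haveI := hMD
    letI : Algebra M S := (Subalgebra.inclusion hMS).toRingHom.toAlgebra
    haveI : IsScalarTower B M S := IsScalarTower.of_algebraMap_eq (fun x => rfl)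
    haveI : Algebra.IsIntegral M S :=
      ⟨fun x => IsIntegral.tower_top (R := B) (Algebra.IsIntegral.isIntegral x)⟩
    have hinjMS : Function.Injective (algebraMap M S) := Subalgebra.inclusion_injective hMS
    have hker : ∀ q : Ideal M, RingHom.ker (algebraMap M S) ≤ q := by
      intro q
      rw [(RingHom.injective_iff_ker_eq_bot _).mp hinjMS]
      exact bot_le
    have htJ : (⟨t, htM⟩ : M) ∈ Ideal.jacobson (⊥ : Ideal M) := by
      rw [Ideal.jacobson, Ideal.mem_sInf]
      rintro q ⟨-, hq⟩
      haveI := hq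
      obtain ⟨Q, hQ, hQq⟩ := Ideal.exists_ideal_over_maximal_of_isIntegral (S := S) q (hker q)
      have : algebraMap M S ⟨t, htM⟩ = y := Subtype.ext hyt.symm
      rw [← hQq, Ideal.mem_comap, this]
      exact hyQ Q hQ
    obtain ⟨n, m, hm⟩ := exists_pow_mul_eq_algebraMap (A := M) ⟨t, htM⟩ htJ (((c : B) : K))⁻¹
    have hm' : (m : K) = t ^ n * (((c : B) : K))⁻¹ := hm
    have htn : t ^ (n + 1) = ((c : B) : K) * (t * (m : K)) := by
      rw [hm', pow_succ]; field_simp
    have htnB : t ^ (n + 1) ∈ B := by
      rw [htn]; exact hcM _ (M.mul_mem htM m.2)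
    refine ⟨n + 1, htnB, ?_⟩
    have hkerB : ∀ q : Ideal B, RingHom.ker (algebraMap B S) ≤ q := by
      intro q
      rw [(RingHom.injective_iff_ker_eq_bot _).mp hinjBS]
      exact bot_le
    rw [Ideal.jacobson, Ideal.mem_sInf]
    rintro q ⟨-, hq⟩
    haveI := hq
    obtain ⟨Q, hQ, hQq⟩ := Ideal.exists_ideal_over_maximal_of_isIntegral (S := S) q (hkerB q)
    have : algebraMap B S ⟨t ^ (n + 1), htnB⟩ = y ^ (n + 1) := by
      apply Subtype.ext
      show t ^ (n + 1) = (y : K) ^ (n + 1)
      rw [hyt]
    rw [← hQq, Ideal.mem_comap, this]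
    exact Ideal.pow_mem_of_mem _ (hyQ Q hQ) (n + 1) (Nat.succ_pos n)

end Glue

end Groth.Agent.Lib.Helper38
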