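import Mathlib
import Groth.Agent.Lib.Helper38.GlueNorm

/-!
# Gluing two semi-local one-dimensional subrings generating the field
-/

set_option autoImplicit false

universe u

namespace Groth.Agent.Lib.Helper38

namespace Glue

variable {K : Type u} [Field K]

/-- A semi-local ring not contained in a valuation ring has a unit outside it. -/
theorem exists_unit_notMem (A : Subring K) [Finite (MaximalSpectrum A)] (O : ValuationSubring K)
    (h : ¬ A ≤ O.toSubring) : ∃ u : A, IsUnit u ∧ (u : K) ∉ O := by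
  by_contra hcon
  apply h
  apply le_of_units_mem A O
  intro u hu
  by_contra hu'
  exact hcon ⟨u, hu, hu'⟩

theorem hasGlue_of_not_le {A : Subring K} (hA : IsSL1 A) (O : ValuationSubring K)
    [IsDiscreteValuationRing O] (h : ¬ A ≤ O.toSubring) : HasGlue A O.toSubring := by
  haveI := hA.frac; haveI := hA.noeth; haveI := hA.dim; haveI := hA.fin
  obtain ⟨u, hu, huO⟩ := exists_unit_notMem A O h
  exact hasGlue_of_unit_notMem A hA.not_isField O u hu huO

/-- Intersecting a semi-local one-dimensional ring with finitely many discrete valuation rings not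
containing it stays in the class, and the valuation rings containing the intersection are the
obvious ones. -/
theorem isSL1_inf_finset [DecidableEq (ValuationSubring K)] (L : Finset (ValuationSubring K)) :
    ∀ (A : Subring K), IsSL1 A → (∀ O ∈ L, IsDiscreteValuationRing O) →
      (∀ O ∈ L, ¬ A ≤ O.toSubring) →
      IsSL1 (A ⊓ L.inf (fun O => O.toSubring)) ∧
      ∀ O' : ValuationSubring K, IsDiscreteValuationRing O' →
        A ⊓ L.inf (fun O => O.toSubring) ≤ O'.toSubring → A ≤ O'.toSubring ∨ O' ∈ L := by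
  induction L using Finset.induction_on with
  | empty =>
    intro A hA _ _
    rw [Finset.inf_empty, inf_top_eq]
    exact ⟨hA, fun O' _ h => Or.inl h⟩
  | insert O L' hOL' ih =>
    intro A hA hdvr hnle
    obtain ⟨hR', hR'2⟩ := ih A hA (fun O₁ h₁ => hdvr O₁ (Finset.mem_insert_of_mem h₁))
      (fun O₁ h₁ => hnle O₁ (Finset.mem_insert_of_mem h₁))
    haveI : IsDiscreteValuationRing O := hdvr O (Finset.mem_insert_self _ _)
    have hnle' : ¬ A ⊓ L'.inf (fun O => O.toSubring) ≤ O.toSubring := by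
      intro hle
      rcases hR'2 O inferInstance hle with h1 | h1
      · exact hnle O (Finset.mem_insert_self _ _) h1
      · exact hOL' h1
    have hglue := hasGlue_of_not_le hR' O hnle'
    have heq : A ⊓ (insert O L').inf (fun O => O.toSubring)
        = (A ⊓ L'.inf (fun O => O.toSubring)) ⊓ O.toSubring := by
      rw [Finset.inf_insert, inf_left_comm, inf_comm]
    rw [heq]
    refine ⟨hglue.isSL1_inf hR' (isSL1_of_dvr O), ?_⟩
    intro O' hO' hle
    haveI := hR'.frac; haveI := hR'.noeth; haveI := hR'.dim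
    haveI : IsFractionRing O.toSubring K := (inferInstance : IsFractionRing O K)
    haveI : IsNoetherianRing O.toSubring := (inferInstance : IsNoetherianRing O)
    haveI : Ring.KrullDimLE 1 O.toSubring := (inferInstance : Ring.KrullDimLE 1 O)
    rcases hglue.le_or_le _ _ O' hle with h1 | h1
    · rcases hR'2 O' hO' h1 with h2 | h2
      · exact Or.inl h2
      · exact Or.inr (Finset.mem_insert_of_mem h2)
    · right
      have h2 : O'.toSubring = O.toSubring :=
        eq_of_le_of_ne_top O O'.toSubring h1 (toSubring_ne_top_of_dvr O')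
      have h3 : O' = O := by
        apply ValuationSubring.toSubring_injective
        exact h2
      rw [h3]
      exact Finset.mem_insert_self _ _

/-- A unit of `A` lying in the maximal ideals of finitely many discrete valuation rings, none of
which contains `A`. -/
theorem exists_unit_mem_maximalIdeals (A : Subring K) (hA : IsSL1 A)
    (L : Finset (ValuationSubring K)) (hL : ∀ O ∈ L, IsDiscreteValuationRing O)
    (hAL : ∀ O ∈ L, ¬ A ≤ O.toSubring) :
    ∃ t : K, t ≠ 0 ∧ t ∈ A ∧ t⁻¹ ∈ A ∧ ∀ O ∈ L, t ∈ O ∧ t⁻¹ ∉ O := by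
  classical
  have hex : ∀ O ∈ L, ∃ w : K, w ∈ A ∧ w⁻¹ ∈ A ∧ (∀ O' ∈ L.erase O, w ∈ O' ∧ w⁻¹ ∈ O') ∧
      w ∈ O ∧ w⁻¹ ∉ O := by
    intro O hO
    obtain ⟨hR', hR'2⟩ := isSL1_inf_finset (L.erase O) A hA
      (fun O₁ h₁ => hL O₁ (Finset.mem_of_mem_erase h₁))
      (fun O₁ h₁ => hAL O₁ (Finset.mem_of_mem_erase h₁))
    haveI : IsDiscreteValuationRing O := hL O hO
    have hnle' : ¬ A ⊓ (L.erase O).inf (fun O => O.toSubring) ≤ O.toSubring := by
      intro hle
      rcases hR'2 O inferInstance hle with h1 | h1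
      · exact hAL O hO h1
      · exact Finset.notMem_erase O L h1
    haveI := hR'.fin
    obtain ⟨u, hu, huO⟩ := exists_unit_notMem _ O hnle'
    obtain ⟨ε, hε⟩ := hu
    have hu0 : (u : K) ≠ 0 := fun h => huO (h ▸ O.zero_mem)
    have h1 : (((ε⁻¹ : (↥(A ⊓ (L.erase O).inf (fun O => O.toSubring)))ˣ) :
        ↥(A ⊓ (L.erase O).inf (fun O => O.toSubring))) : K) = (u : K)⁻¹ := by
      rw [← hε]
      exact eq_inv_of_mul_eq_one_left (congrArg Subtype.val (Units.inv_mul ε))
    have hwR : (u : K)⁻¹ ∈ A ⊓ (L.erase O).inf (fun O => O.toSubring) := by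
      rw [← h1]; exact Subtype.property _
    refine ⟨(u : K)⁻¹, hwR.1, ?_, ?_, ?_, ?_⟩
    · rw [inv_inv]; exact u.2.1
    · intro O' hO'
      have hle : A ⊓ (L.erase O).inf (fun O => O.toSubring) ≤ O'.toSubring :=
        inf_le_right.trans (Finset.inf_le hO')
      refine ⟨hle hwR, ?_⟩
      rw [inv_inv]; exact hle u.2
    · exact (O.mem_or_inv_mem u).resolve_left huO
    · rw [inv_inv]; exact huO
  choose! w hwA hwinvA hwL hwO hwinvO using hex
  have hw0 : ∀ O' ∈ L, w O' ≠ 0 := by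
    intro O' hO' h0
    apply hwinvO O' hO'
    rw [h0, inv_zero]; exact O'.zero_mem
  refine ⟨∏ O ∈ L, w O, Finset.prod_ne_zero_iff.mpr hw0,
    Subring.prod_mem _ (fun O hO => hwA O hO), ?_, ?_⟩
  · rw [← Finset.prod_inv_distrib]
    exact Subring.prod_mem _ (fun O hO => hwinvA O hO)
  · intro O hO
    have hsplit : w O * ∏ O' ∈ L.erase O, w O' = ∏ O' ∈ L, w O' := Finset.mul_prod_erase L w hO
    have hrest : ∀ O' ∈ L.erase O, w O' ∈ O ∧ (w O')⁻¹ ∈ O := by
      intro O' hO'
      have hO'L : O' ∈ L := Finset.mem_of_mem_erase hO'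
      have hne : O' ≠ O := Finset.ne_of_mem_erase hO'
      exact hwL O' hO'L O (Finset.mem_erase.mpr ⟨hne.symm, hO⟩)
    have hP : ∏ O' ∈ L.erase O, w O' ∈ O := prod_mem (fun O' hO' => (hrest O' hO').1)
    have hPinv : (∏ O' ∈ L.erase O, w O')⁻¹ ∈ O := by
      rw [← Finset.prod_inv_distrib]
      exact prod_mem (fun O' hO' => (hrest O' hO').2)
    have hP0 : ∏ O' ∈ L.erase O, w O' ≠ 0 :=
      Finset.prod_ne_zero_iff.mpr (fun O' hO' => hw0 O' (Finset.mem_of_mem_erase hO'))
    rw [← hsplit]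
    refine ⟨mul_mem (hwO O hO) hP, ?_⟩
    intro hcon
    apply hwinvO O hO
    have : (w O)⁻¹ = (w O * ∏ O' ∈ L.erase O, w O')⁻¹ * ∏ O' ∈ L.erase O, w O' := by
      rw [mul_inv, mul_assoc, inv_mul_cancel₀ hP0, mul_one]
    rw [this]
    exact mul_mem hcon hP

/-- Two semi-local one-dimensional subrings generating `K`: a unit of `A` in the Jacobson radical
of `B`. -/
theorem exists_unit_mem_jacobson {A B : Subring K} (hA : IsSL1 A) (hB : IsSL1 B)
    (hgen : A ⊔ B = ⊤) :
    ∃ t : K, t ≠ 0 ∧ t ∈ A ∧ t⁻¹ ∈ A ∧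
      ∃ h : t ∈ B, (⟨t, h⟩ : B) ∈ Ideal.jacobson (⊥ : Ideal B) := by
  obtain ⟨L, hL, hBL, hdesc⟩ := exists_finset_dvr B hB
  have hAL : ∀ O ∈ L, ¬ A ≤ O.toSubring := by
    intro O hO hle
    haveI := hL O hO
    apply toSubring_ne_top_of_dvr O
    rw [eq_top_iff, ← hgen]
    exact sup_le hle (hBL O hO)
  obtain ⟨t, ht0, htA, htinvA, htL⟩ := exists_unit_mem_maximalIdeals A hA L hL hAL
  obtain ⟨N, hN, hNJ⟩ := hdesc t htL
  refine ⟨t ^ N, pow_ne_zero _ ht0, A.pow_mem htA N, ?_, hN, hNJ⟩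
  rw [← inv_pow]
  exact A.pow_mem htinvA N

theorem hasGlue_of_sup_eq_top {A B : Subring K} (hA : IsSL1 A) (hB : IsSL1 B)
    (hgen : A ⊔ B = ⊤) : HasGlue A B := by
  obtain ⟨t, ht0, htA, htinvA, htB, htJ⟩ := exists_unit_mem_jacobson hA hB hgen
  obtain ⟨s, hs0, hsB, hsinvB, hsA, hsJ⟩ :=
    exists_unit_mem_jacobson hB hA (by rw [sup_comm]; exact hgen)
  exact ⟨s, t, hsA, hsB, htA, htB, hsinvB, htinvA, hs0, ht0, hsJ, htJ⟩

end Glue

end Groth.Agent.Lib.Helper38
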