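import Mathlib
import Groth.Agent.Lib.Helper38.GlueTwo

/-!
# Gluing finitely many semi-local one-dimensional subrings of a field
-/

set_option autoImplicit false

universe u

namespace Groth.Agent.Lib.Helper38

namespace Glue

variable {K : Type u} [Field K]

/-- `A` is the localization of `R` at the element `τ`, in concrete terms inside the field `K`. -/
def Loc (R A : Subring K) (τ : K) : Prop :=
  τ ∈ R ∧ τ ≠ 0 ∧ τ⁻¹ ∈ A ∧ ∀ x ∈ A, ∃ n : ℕ, τ ^ n * x ∈ R

/-- Transitivity of localizations at one element. -/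
theorem Loc.trans {R R' A : Subring K} {s τ : K} (h1 : Loc R R' s) (h2 : Loc R' A τ)
    (hle : R' ≤ A) :
    ∃ n : ℕ, Loc R A (s ^ (n + 1) * τ) := by
  obtain ⟨hsR, hs0, hsinv, hs⟩ := h1
  obtain ⟨hτR', hτ0, hτinv, hτ⟩ := h2
  obtain ⟨n, hn⟩ := hs τ hτR'
  refine ⟨n, ?_, mul_ne_zero (pow_ne_zero _ hs0) hτ0, ?_, ?_⟩
  · have : s ^ (n + 1) * τ = s * (s ^ n * τ) := by ring
    rw [this]; exact R.mul_mem hsR hn
  · rw [mul_inv, ← inv_pow]
    exact A.mul_mem (A.pow_mem (hle hsinv) _) hτinv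
  · intro x hx
    obtain ⟨a, ha⟩ := hτ x hx
    obtain ⟨b, hb⟩ := hs _ ha
    refine ⟨a + b, ?_⟩
    have : (s ^ (n + 1) * τ) ^ (a + b) * x
        = (s ^ n * τ) ^ b * ((s ^ n) ^ a * (s ^ a * (s ^ b * (τ ^ a * x)))) := by ring
    rw [this]
    exact R.mul_mem (R.pow_mem hn b) (R.mul_mem (R.pow_mem (R.pow_mem hsR n) a)
      (R.mul_mem (R.pow_mem hsR a) hb))

theorem Loc.isLocalization {R A : Subring K} {τ : K} (h : Loc R A τ) (hle : R ≤ A) :
    @IsLocalization.Away R _ ⟨τ, h.1⟩ A _ (Subring.inclusion hle).toAlgebra :=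
  isLocalization_away R A hle ⟨τ, h.1⟩ h.2.1 h.2.2.1 h.2.2.2

/-- Gluing finitely many pairwise "generating" semi-local one-dimensional subrings. -/
theorem glue_finset {ι : Type*} [DecidableEq ι] (A : ι → Subring K) (hA : ∀ i, IsSL1 (A i))
    (hgen : ∀ i j, i ≠ j → A i ⊔ A j = ⊤) (F : Finset ι) (hF : F.Nonempty) :
    IsSL1 (F.inf A) ∧
    (∀ O : ValuationSubring K, IsDiscreteValuationRing O → F.inf A ≤ O.toSubring →
      ∃ i ∈ F, A i ≤ O.toSubring) ∧
    ∃ τ : ι → K, (∀ i ∈ F, Loc (F.inf A) (A i) (τ i)) ∧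
      ∀ p : Ideal ↥(F.inf A), p.IsPrime →
        ∃ i ∈ F, ∀ h : τ i ∈ F.inf A, (⟨τ i, h⟩ : ↥(F.inf A)) ∉ p := by
  induction F using Finset.induction_on with
  | empty => exact absurd hF Finset.not_nonempty_empty
  | insert j F' hj ih =>
    by_cases hF' : F' = ∅
    · subst hF'
      have heq : (insert j (∅ : Finset ι)).inf A = A j := by simp
      rw [heq]
      refine ⟨hA j, fun O _ h => ⟨j, by simp, h⟩, fun _ => 1, ?_, ?_⟩
      · intro i hi
        have : i = j := by simpa using hi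
        subst this
        exact ⟨(A i).one_mem, one_ne_zero, by rw [inv_one]; exact (A i).one_mem,
          fun x hx => ⟨0, by simpa using hx⟩⟩
      · intro p hp
        refine ⟨j, by simp, fun h hmem => hp.ne_top ?_⟩
        exact (Ideal.eq_top_iff_one p).mpr hmem
    · obtain ⟨hR', hR'2, τ, hτ, hcov⟩ := ih (Finset.nonempty_iff_ne_empty.mpr hF')
      have hjR' : A j ⊔ F'.inf A = ⊤ := by
        by_contra hne
        haveI := hR'.frac; haveI := hR'.noeth; haveI := hR'.dim
        haveI := KrullAkizuki.subring_isFractionRing_of_le (F'.inf A) (A j ⊔ F'.inf A) le_sup_right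
        obtain ⟨hN, hD⟩ := KrullAkizuki.subring_of_le (F'.inf A) (A j ⊔ F'.inf A) le_sup_right
        haveI := hN; haveI := hD
        obtain ⟨O, hO, hle⟩ := KrullAkizuki.exists_dvr_of_ne_top _ hne
        obtain ⟨i, hi, hiO⟩ := hR'2 O hO (le_sup_right.trans hle)
        have hij : i ≠ j := fun h => hj (h ▸ hi)
        haveI := hO
        apply toSubring_ne_top_of_dvr O
        rw [eq_top_iff, ← hgen i j hij]
        exact sup_le hiO (le_sup_left.trans hle)
      have hglue : HasGlue (A j) (F'.inf A) := hasGlue_of_sup_eq_top (hA j) hR' hjR'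
      have heq : (insert j F').inf A = A j ⊓ F'.inf A := Finset.inf_insert
      rw [heq]
      haveI := (hA j).frac; haveI := (hA j).noeth; haveI := (hA j).dim
      haveI := hR'.frac; haveI := hR'.noeth; haveI := hR'.dim
      obtain ⟨s, t, hs, ht, hs0, ht0, htinv, hsinv, hAt, hBs, hstinv, hst, hlocA, hlocB⟩ :=
        hglue.data (A j) (F'.inf A)
      have hLocj : Loc (A j ⊓ F'.inf A) (A j) t := ⟨ht, ht0, htinv, hAt⟩
      have hLocR' : Loc (A j ⊓ F'.inf A) (F'.inf A) s := ⟨hs, hs0, hsinv, hBs⟩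
      have hex : ∀ i ∈ F', ∃ n : ℕ, Loc (A j ⊓ F'.inf A) (A i) (s ^ (n + 1) * τ i) :=
        fun i hi => hLocR'.trans (hτ i hi) (Finset.inf_le hi)
      choose! n hn using hex
      refine ⟨hglue.isSL1_inf (hA j) hR', ?_, fun i => if i = j then t else s ^ (n i + 1) * τ i,
        ?_, ?_⟩
      · intro O hO hle
        rcases hglue.le_or_le (A j) (F'.inf A) O hle with h1 | h1
        · exact ⟨j, Finset.mem_insert_self _ _, h1⟩
        · obtain ⟨i, hi, hiO⟩ := hR'2 O hO h1
          exact ⟨i, Finset.mem_insert_of_mem hi, hiO⟩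
      · intro i hi
        by_cases hij : i = j
        · subst hij
          simp only [if_true]
          exact hLocj
        · simp only [hij, if_false]
          exact hn i ((Finset.mem_insert.mp hi).resolve_left hij)
      · intro p hp
        have hu : IsUnit ((⟨s, hs⟩ : ↥(A j ⊓ F'.inf A)) + ⟨t, ht⟩) := by
          refine ⟨⟨⟨s + t, (A j ⊓ F'.inf A).add_mem hs ht⟩, ⟨(s + t)⁻¹, hstinv⟩, ?_, ?_⟩, rfl⟩
          · apply Subtype.ext
            show (s + t) * (s + t)⁻¹ = 1
            exact mul_inv_cancel₀ hst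
          · apply Subtype.ext
            show (s + t)⁻¹ * (s + t) = 1
            exact inv_mul_cancel₀ hst
        by_cases htp : (⟨t, ht⟩ : ↥(A j ⊓ F'.inf A)) ∈ p
        · have hsp : (⟨s, hs⟩ : ↥(A j ⊓ F'.inf A)) ∉ p := by
            intro hsp
            exact hp.ne_top (Ideal.eq_top_of_isUnit_mem _ (p.add_mem hsp htp) hu)
          letI : Algebra ↥(A j ⊓ F'.inf A) ↥(F'.inf A) := (Subring.inclusion inf_le_right).toAlgebra
          haveI : IsLocalization.Away (⟨s, hs⟩ : ↥(A j ⊓ F'.inf A)) ↥(F'.inf A) := hlocB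
          have hrange := PrimeSpectrum.localization_away_comap_range ↥(F'.inf A)
            (⟨s, hs⟩ : ↥(A j ⊓ F'.inf A))
          have hpmem : (⟨p, hp⟩ : PrimeSpectrum ↥(A j ⊓ F'.inf A)) ∈
              (PrimeSpectrum.basicOpen (⟨s, hs⟩ : ↥(A j ⊓ F'.inf A)) :
                Set (PrimeSpectrum ↥(A j ⊓ F'.inf A))) := hsp
          rw [← hrange] at hpmem
          obtain ⟨p', hp'⟩ := hpmem
          have hp'' : Ideal.comap (algebraMap ↥(A j ⊓ F'.inf A) ↥(F'.inf A)) p'.asIdeal = p :=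
            congrArg PrimeSpectrum.asIdeal hp'
          obtain ⟨i, hi, hiτ⟩ := hcov p'.asIdeal p'.2
          have hij : i ≠ j := fun h => hj (h ▸ hi)
          refine ⟨i, Finset.mem_insert_of_mem hi, ?_⟩
          intro h hmem
          simp only [hij, if_false] at h hmem
          rw [← hp'', Ideal.mem_comap] at hmem
          have hτR' : τ i ∈ F'.inf A := (hτ i hi).1
          have hsR' : s ∈ F'.inf A := hs.2
          have hprod : algebraMap ↥(A j ⊓ F'.inf A) ↥(F'.inf A) ⟨s ^ (n i + 1) * τ i, h⟩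
              = (⟨s, hsR'⟩ : ↥(F'.inf A)) ^ (n i + 1) * ⟨τ i, hτR'⟩ := Subtype.ext rfl
          rw [hprod] at hmem
          rcases p'.2.mem_or_mem hmem with h1 | h1
          · have h2 : (⟨s, hsR'⟩ : ↥(F'.inf A)) ∈ p'.asIdeal := p'.2.mem_of_pow_mem _ h1
            have h3 : (⟨s, hsR'⟩ : ↥(F'.inf A)) * ⟨s⁻¹, hsinv⟩ = 1 :=
              Subtype.ext (mul_inv_cancel₀ hs0)
            apply p'.2.ne_top
            rw [Ideal.eq_top_iff_one, ← h3]
            exact Ideal.mul_mem_right _ _ h2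
          · exact hiτ hτR' h1
        · refine ⟨j, Finset.mem_insert_self _ _, ?_⟩
          intro h hmem
          apply htp
          simp only [if_true] at h hmem
          exact hmem

end Glue

end Groth.Agent.Lib.Helper38
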