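import Mathlib
import Groth.Agent.Lib.Helper38.GlueMany

/-!
# Gluing finitely many semi-local one-dimensional subrings: scheme-theoretic conclusions
-/

set_option autoImplicit false

universe u

open CategoryTheory CategoryTheory.Limits AlgebraicGeometry

namespace Groth.Agent.Lib.Helper38

namespace Glue

variable {K : Type u} [Field K]

/-- The localization of the subring `R` of `K` at the prime `m`, as a subring of `K`. -/
def locSubring (R : Subring K) (m : Ideal R) (hm : m.IsPrime) : Subring K where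
  carrier := {x | ∃ b : R, b ∉ m ∧ (b : K) * x ∈ R}
  mul_mem' := by
    rintro x y ⟨b, hb, hbx⟩ ⟨c, hc, hcy⟩
    refine ⟨b * c, fun h => (hm.mem_or_mem h).elim hb hc, ?_⟩
    have : ((b * c : R) : K) * (x * y) = ((b : K) * x) * ((c : K) * y) := by
      rw [Subring.coe_mul]; ring
    rw [this]; exact R.mul_mem hbx hcy
  one_mem' := ⟨1, fun h => hm.ne_top ((Ideal.eq_top_iff_one m).mpr h), by
    rw [mul_one]; exact (1 : R).2⟩
  add_mem' := by
    rintro x y ⟨b, hb, hbx⟩ ⟨c, hc, hcy⟩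
    refine ⟨b * c, fun h => (hm.mem_or_mem h).elim hb hc, ?_⟩
    have : ((b * c : R) : K) * (x + y) = (c : K) * ((b : K) * x) + (b : K) * ((c : K) * y) := by
      rw [Subring.coe_mul]; ring
    rw [this]; exact R.add_mem (R.mul_mem c.2 hbx) (R.mul_mem b.2 hcy)
  zero_mem' := ⟨1, fun h => hm.ne_top ((Ideal.eq_top_iff_one m).mpr h), by
    rw [mul_zero]; exact R.zero_mem⟩
  neg_mem' := by
    rintro x ⟨b, hb, hbx⟩
    exact ⟨b, hb, by rw [mul_neg]; exact R.neg_mem hbx⟩

theorem locSubring_ne_top (R : Subring K) (m : Ideal R) (hm : m.IsPrime) (hm0 : m ≠ ⊥) :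
    locSubring R m hm ≠ ⊤ := by
  intro htop
  obtain ⟨z, hzm, hz0⟩ := Submodule.exists_mem_ne_zero_of_ne_bot hm0
  have hzK : (z : K) ≠ 0 := fun h => hz0 (Subtype.ext h)
  have : (z : K)⁻¹ ∈ locSubring R m hm := by rw [htop]; trivial
  obtain ⟨b, hb, hbz⟩ := this
  apply hb
  have : b = ⟨(b : K) * (z : K)⁻¹, hbz⟩ * z := by
    apply Subtype.ext
    show (b : K) = (b : K) * (z : K)⁻¹ * (z : K)
    rw [mul_assoc, inv_mul_cancel₀ hzK, mul_one]
  rw [this]
  exact m.mul_mem_left _ hzm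

theorem le_locSubring_of_loc {R A : Subring K} {τ : K} (h : Loc R A τ) (m : Ideal R)
    (hm : m.IsPrime) (hτ : (⟨τ, h.1⟩ : R) ∉ m) : A ≤ locSubring R m hm := by
  intro x hx
  obtain ⟨n, hn⟩ := h.2.2.2 x hx
  exact ⟨⟨τ, h.1⟩ ^ n, fun hmem => hτ (hm.mem_of_pow_mem _ hmem), hn⟩

theorem glue_main {ι : Type*} [Fintype ι] [DecidableEq ι] [Nonempty ι] (A : ι → Subring K)
    (hA : ∀ i, IsSL1 (A i)) (hgen : ∀ i j, i ≠ j → A i ⊔ A j = ⊤)
    (R : Subring K) (hR : R = Finset.univ.inf A) (hle : ∀ i, R ≤ A i) :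
    IsNoetherianRing R ∧ ringKrullDim R = 1 ∧ Finite (MaximalSpectrum R) ∧ IsFractionRing R K ∧
      (∀ i, IsOpenImmersion (Spec.map (CommRingCat.ofHom (Subring.inclusion (hle i))))) ∧
      (⋃ i, Set.range (Spec.map (CommRingCat.ofHom (Subring.inclusion (hle i)))).base)
        = Set.univ ∧
      (∀ m : PrimeSpectrum R, m.asIdeal.IsMaximal →
        ∃! i, m ∈ Set.range (Spec.map (CommRingCat.ofHom (Subring.inclusion (hle i)))).base) := by
  subst hR
  obtain ⟨hSL, -, τ, hτ, hcov⟩ := glue_finset A hA hgen Finset.univ Finset.univ_nonempty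
  haveI := hSL.frac; haveI := hSL.noeth; haveI := hSL.dim; haveI := hSL.fin
  have hloc : ∀ i, @IsLocalization.Away ↥(Finset.univ.inf A) _ ⟨τ i, (hτ i (Finset.mem_univ i)).1⟩
      (A i) _ (Subring.inclusion (hle i)).toAlgebra :=
    fun i => (hτ i (Finset.mem_univ i)).isLocalization (hle i)
  have hrange : ∀ i, Set.range (Spec.map (CommRingCat.ofHom (Subring.inclusion (hle i)))).base
      = (PrimeSpectrum.basicOpen (⟨τ i, (hτ i (Finset.mem_univ i)).1⟩ : ↥(Finset.univ.inf A)) :
          Set (PrimeSpectrum ↥(Finset.univ.inf A))) :=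
    fun i => range_of_isLocalization_away _ _ (hle i) _ (hloc i)
  have hdim1 : ringKrullDim ↥(Finset.univ.inf A) = 1 := by
    apply le_antisymm (Ring.krullDimLE_iff.mp hSL.dim)
    have hne : ringKrullDim ↥(Finset.univ.inf A) ≠ 0 := by
      intro h0
      haveI : Ring.KrullDimLE 0 ↥(Finset.univ.inf A) := by
        rw [Ring.krullDimLE_iff, h0]; rfl
      exact hSL.not_isField Ring.KrullDimLE.isField_of_isDomain
    have hpos : ((0 : ℕ) : WithBot ℕ∞) < ringKrullDim ↥(Finset.univ.inf A) :=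
      lt_of_le_of_ne ringKrullDim_nonneg_of_nontrivial (Ne.symm hne)
    have := ENat.WithBot.add_one_le_iff.mpr hpos
    simpa using this
  refine ⟨hSL.noeth, hdim1, hSL.fin, hSL.frac, ?_, ?_, ?_⟩
  · intro i
    exact isOpenImmersion_of_isLocalization_away _ _ (hle i) _ (hloc i)
  · rw [Set.eq_univ_iff_forall]
    intro p
    obtain ⟨i, -, hi⟩ := hcov p.asIdeal p.2
    rw [Set.mem_iUnion]
    refine ⟨i, ?_⟩
    rw [hrange i]
    exact hi _
  · intro m hm
    obtain ⟨i, -, hi⟩ := hcov m.asIdeal m.2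
    refine ⟨i, ?_, ?_⟩
    · show m ∈ Set.range (Spec.map (CommRingCat.ofHom (Subring.inclusion (hle i)))).base
      rw [hrange i]
      exact hi _
    · intro k hk
      by_contra hki
      have hk' : m ∈ Set.range (Spec.map (CommRingCat.ofHom (Subring.inclusion (hle k)))).base := hk
      rw [hrange k] at hk'
      have h1 := le_locSubring_of_loc (hτ i (Finset.mem_univ i)) m.asIdeal m.2 (hi _)
      have h2 := le_locSubring_of_loc (hτ k (Finset.mem_univ k)) m.asIdeal m.2 hk'
      have hm0 : m.asIdeal ≠ ⊥ := Ring.ne_bot_of_isMaximal_of_not_isField hm hSL.not_isField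
      apply locSubring_ne_top _ m.asIdeal m.2 hm0
      rw [eq_top_iff, ← hgen k i hki]
      exact sup_le h2 h1

end Glue

end Groth.Agent.Lib.Helper38
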