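import Groth.Agent.Lib.Helper1.HHTools

/-!
# Vanishing chases in the long exact cohomology sequence (helper38)

For a short exact sequence `0 → X₁ → X₂ → X₃ → 0` of `O_X`-modules:
* `subsingleton_HH_right`: `Hⁿ(X₂) = 0 = Hⁿ⁺¹(X₁)` implies `Hⁿ(X₃) = 0`;
* `subsingleton_HH_left`: `Hⁿ(X₃) = 0 = Hⁿ⁺¹(X₂)` implies `Hⁿ⁺¹(X₁) = 0`.
(The middle one is `Helper1.subsingleton_HH_of_shortExact`.)
-/

set_option autoImplicit false
universe u
open AlgebraicGeometry CategoryTheory Limits Opposite TopologicalSpace Abelian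

namespace Groth.Agent.Lib.Helper38.HHChase

open Groth.Agent.Lib.Helper1

variable {X : Scheme.{u}}

/-- `Hⁿ(X₂) = 0 = Hⁿ⁺¹(X₁)` implies `Hⁿ(X₃) = 0`. -/
theorem subsingleton_HH_right {S : ShortComplex X.Modules} (hS : S.ShortExact) (n : ℕ)
    (h2 : Subsingleton (Coh.HH X S.X₂ n)) (h1 : Subsingleton (Coh.HH X S.X₁ (n + 1))) :
    Subsingleton (Coh.HH X S.X₃ n) := by
  have hS' := shortExact_map_toAbF hS
  refine ⟨fun x y => ?_⟩
  suffices H : ∀ x : Coh.HH X S.X₃ n, x = 0 by rw [H x, H y]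
  intro x
  let x' : Ext (Groth.Agent.S0459.cZ X.toTopCat) (S.map (toAbF X)).X₃ n := x
  obtain ⟨x₂, hx₂⟩ := Ext.covariant_sequence_exact₃ _ hS' x' rfl (h1.elim _ _)
  have : x₂ = 0 := h2.elim _ _
  rw [this, Ext.zero_comp] at hx₂
  exact hx₂.symm

/-- `Hⁿ(X₃) = 0 = Hⁿ⁺¹(X₂)` implies `Hⁿ⁺¹(X₁) = 0`. -/
theorem subsingleton_HH_left {S : ShortComplex X.Modules} (hS : S.ShortExact) (n : ℕ)
    (h3 : Subsingleton (Coh.HH X S.X₃ n)) (h2 : Subsingleton (Coh.HH X S.X₂ (n + 1))) :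
    Subsingleton (Coh.HH X S.X₁ (n + 1)) := by
  have hS' := shortExact_map_toAbF hS
  refine ⟨fun x y => ?_⟩
  suffices H : ∀ x : Coh.HH X S.X₁ (n + 1), x = 0 by rw [H x, H y]
  intro x
  let x' : Ext (Groth.Agent.S0459.cZ X.toTopCat) (S.map (toAbF X)).X₁ (n + 1) := x
  obtain ⟨x₃, hx₃⟩ := Ext.covariant_sequence_exact₁ _ hS' x' (h2.elim _ _) rfl
  have : x₃ = 0 := h3.elim _ _
  rw [this, Ext.zero_comp] at hx₃
  exact hx₃.symm

end Groth.Agent.Lib.Helper38.HHChase
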