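import Mathlib

/-!
# Short exact sequences attached to a short complex in an abelian category (helper38)

For `S : X₁ --f--> X₂ --g--> X₃` with `f ≫ g = 0`:
* `imageKernelSES S : 0 → im f → ker g → coker (X₁ → ker g) → 0` (`imageKernelSES_shortExact`);
* `imageCokerSES f : 0 → im f → Y → coker f → 0` (`imageCokerSES_shortExact`).
-/

set_option autoImplicit false
universe v u
open CategoryTheory Limits

namespace Groth.Agent.Lib.Helper38.ImageSES

variable {C : Type u} [Category.{v} C] [Abelian C]

/-- `0 → im f → Y → coker f → 0`. -/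
noncomputable def imageCokerSES {X Y : C} (f : X ⟶ Y) : ShortComplex C :=
  ShortComplex.mk (Abelian.image.ι f) (cokernel.π f) (kernel.condition (cokernel.π f))

theorem imageCokerSES_shortExact {X Y : C} (f : X ⟶ Y) : (imageCokerSES f).ShortExact :=
  { exact := ShortComplex.exact_of_f_is_kernel _ (kernelIsKernel (cokernel.π f))
    mono_f := inferInstanceAs (Mono (kernel.ι (cokernel.π f)))
    epi_g := inferInstanceAs (Epi (cokernel.π f)) }

theorem image_ι_comp_g (S : ShortComplex C) : Abelian.image.ι S.f ≫ S.g = 0 := by
  rw [← cancel_epi (Abelian.factorThruImage S.f), ← Category.assoc, Abelian.image.fac, S.zero,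
    comp_zero]

/-- the inclusion `im f ⟶ ker g`. -/
noncomputable def imageToKernel' (S : ShortComplex C) : Abelian.image S.f ⟶ kernel S.g :=
  kernel.lift S.g (Abelian.image.ι S.f) (image_ι_comp_g S)

theorem factorThruImage_comp_imageToKernel' (S : ShortComplex C) :
    Abelian.factorThruImage S.f ≫ imageToKernel' S = kernel.lift S.g S.f S.zero := by
  apply (cancel_mono (kernel.ι S.g)).mp
  simp [imageToKernel']

instance (S : ShortComplex C) : Mono (imageToKernel' S) := by
  have : Mono (imageToKernel' S ≫ kernel.ι S.g) := by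
    unfold imageToKernel'
    rw [kernel.lift_ι]
    infer_instance
  exact mono_of_mono (imageToKernel' S) (kernel.ι S.g)

theorem imageToKernel'_comp_π (S : ShortComplex C) :
    imageToKernel' S ≫ cokernel.π (kernel.lift S.g S.f S.zero) = 0 := by
  rw [← cancel_epi (Abelian.factorThruImage S.f), ← Category.assoc,
    factorThruImage_comp_imageToKernel', cokernel.condition, comp_zero]

/-- `0 → im f → ker g → H → 0`, `H = coker (X₁ → ker g)`. -/
noncomputable def imageKernelSES (S : ShortComplex C) : ShortComplex C :=
  ShortComplex.mk (imageToKernel' S) (cokernel.π (kernel.lift S.g S.f S.zero))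
    (imageToKernel'_comp_π S)

theorem imageKernelSES_shortExact (S : ShortComplex C) : (imageKernelSES S).ShortExact := by
  let S₁ : ShortComplex C := ShortComplex.mk (kernel.lift S.g S.f S.zero)
    (cokernel.π (kernel.lift S.g S.f S.zero)) (cokernel.condition _)
  have h₁ : S₁.Exact := ShortComplex.exact_of_g_is_cokernel _ (cokernelIsCokernel _)
  let φ : S₁ ⟶ imageKernelSES S :=
    { τ₁ := Abelian.factorThruImage S.f
      τ₂ := 𝟙 _
      τ₃ := 𝟙 _
      comm₁₂ := by
        change Abelian.factorThruImage S.f ≫ imageToKernel' S = kernel.lift S.g S.f S.zero ≫ 𝟙 _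
        rw [Category.comp_id, factorThruImage_comp_imageToKernel']
      comm₂₃ := by
        change 𝟙 _ ≫ cokernel.π (kernel.lift S.g S.f S.zero) =
          cokernel.π (kernel.lift S.g S.f S.zero) ≫ 𝟙 _
        rw [Category.comp_id, Category.id_comp] }
  haveI : Epi φ.τ₁ := inferInstanceAs (Epi (Abelian.factorThruImage S.f))
  haveI : IsIso φ.τ₂ := inferInstanceAs (IsIso (𝟙 _))
  haveI : Mono φ.τ₃ := inferInstanceAs (Mono (𝟙 _))
  have h₂ : (imageKernelSES S).Exact :=
    (ShortComplex.exact_iff_of_epi_of_isIso_of_mono φ).mp h₁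
  exact { exact := h₂
          mono_f := inferInstanceAs (Mono (imageToKernel' S))
          epi_g := inferInstanceAs (Epi (cokernel.π (kernel.lift S.g S.f S.zero))) }

end Groth.Agent.Lib.Helper38.ImageSES
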