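import Mathlib

/-!
# Integral closure of a field in the global functions of a connected reduced scheme
-/

set_option autoImplicit false

universe u

open CategoryTheory AlgebraicGeometry TopologicalSpace

namespace Groth.Agent.Lib.Helper38

namespace IntClosField

theorem exists_inv_of_isIntegral {k R : Type*} [Field k] [CommRing R] [Algebra k R] [IsReduced R]
    (hidem : ∀ e : R, e * e = e → e = 0 ∨ e = 1) (a : R) (ha : IsIntegral k a) (ha0 : a ≠ 0) :
    ∃ b : R, IsIntegral k b ∧ a * b = 1 := by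
  haveI : Module.Finite k (Algebra.adjoin k {a}) := Module.Finite.iff_fg.mpr ha.fg_adjoin_singleton
  haveI : IsArtinianRing (Algebra.adjoin k {a}) := IsArtinianRing.of_finite k _
  obtain ⟨n, y, hy⟩ := IsArtinian.exists_pow_succ_smul_dvd
    (⟨a, Algebra.subset_adjoin (Set.mem_singleton a)⟩ : Algebra.adjoin k {a})
    (1 : Algebra.adjoin k {a})
  have hy0 : a ^ (n + 1) * (y : R) = a ^ n := by
    have := congrArg (fun z : Algebra.adjoin k {a} => (z : R)) hy
    simpa using this
  have hyint : IsIntegral k (y : R) :=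
    ((Algebra.IsIntegral.of_finite k (Algebra.adjoin k {a})).isIntegral y).map
      (Algebra.adjoin k {a}).val
  have hrel : a ^ (n + 1 + 1) * (y : R) = a ^ (n + 1) := by
    rw [pow_succ a (n + 1), mul_right_comm, hy0, ← pow_succ]
  have hfix : ∀ m : ℕ, a ^ (n + 1) * (a * (y : R)) ^ m = a ^ (n + 1) := by
    intro m
    induction m with
    | zero => rw [pow_zero, mul_one]
    | succ m ih =>
      rw [pow_succ (a * (y : R)) m, ← mul_assoc, ih, ← mul_assoc, ← pow_succ, hrel]
  have hidem' : (a * (y : R)) ^ (n + 1) * (a * (y : R)) ^ (n + 1) = (a * (y : R)) ^ (n + 1) := by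
    calc (a * (y : R)) ^ (n + 1) * (a * (y : R)) ^ (n + 1)
        = (y : R) ^ (n + 1) * (a ^ (n + 1) * (a * (y : R)) ^ (n + 1)) := by
          rw [mul_pow a (y : R) (n + 1)]; ring
      _ = (a * (y : R)) ^ (n + 1) := by rw [hfix, mul_pow]; ring
  rcases hidem _ hidem' with h0 | h1
  · exfalso
    apply ha0
    have : a ^ (n + 1) = 0 := by rw [← hfix (n + 1), h0, mul_zero]
    exact IsReduced.eq_zero _ ⟨n + 1, this⟩
  · refine ⟨(y : R) * (a * (y : R)) ^ n, hyint.mul ((ha.mul hyint).pow n), ?_⟩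
    rw [← mul_assoc, ← pow_succ', h1]

theorem idem_of_connected (X : Scheme.{u}) [ConnectedSpace ↥X] [IsReduced X] (e : Γ(X, ⊤))
    (he : e * e = e) : e = 0 ∨ e = 1 := by
  have h1 : X.basicOpen e ⊓ X.basicOpen (1 - e) = ⊥ := by
    rw [← Scheme.basicOpen_mul]
    have : e * (1 - e) = 0 := by rw [mul_sub, mul_one, he, sub_self]
    rw [this]
    exact Scheme.basicOpen_zero _ _
  have h2 : X.basicOpen e ⊔ X.basicOpen (1 - e) = ⊤ := by
    apply top_le_iff.mp
    have := Scheme.basicOpen_add_le (X := X) e (1 - e)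
    rw [add_sub_cancel, Scheme.basicOpen_one] at this
    exact this
  have h1' : (X.basicOpen e : Set X) ∩ (X.basicOpen (1 - e) : Set X) = ∅ := by
    have := congrArg (fun U : X.Opens => (U : Set X)) h1
    simpa using this
  have h2' : (X.basicOpen e : Set X) ∪ (X.basicOpen (1 - e) : Set X) = Set.univ := by
    have := congrArg (fun U : X.Opens => (U : Set X)) h2
    simpa using this
  have hcompl : (X.basicOpen e : Set X)ᶜ = (X.basicOpen (1 - e) : Set X) :=
    compl_unique h1' h2'
  have hclopen : IsClopen (X.basicOpen e : Set X) := by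
    refine ⟨?_, (X.basicOpen e).isOpen⟩
    rw [← isOpen_compl_iff, hcompl]
    exact (X.basicOpen (1 - e)).isOpen
  rcases isClopen_iff.mp hclopen with h | h
  · left
    rw [← AlgebraicGeometry.basicOpen_eq_bot_iff]
    ext x
    simp [h]
  · right
    have h3 : (X.basicOpen (1 - e) : Set X) = ∅ := by
      rw [← hcompl, h, Set.compl_univ]
    have h4 : X.basicOpen (1 - e) = ⊥ := by
      ext x
      simp [h3]
    have h5 : 1 - e = 0 := (AlgebraicGeometry.basicOpen_eq_bot_iff _).mp h4
    exact (sub_eq_zero.mp h5).symm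

theorem isField_integralClosure (k : Type u) [Field k] (X : Scheme.{u}) [ConnectedSpace ↥X]
    [IsReduced X] [Algebra k Γ(X, ⊤)] : IsField ↥(integralClosure k ↑Γ(X, ⊤)) := by
  haveI : Nonempty (⊤ : X.Opens) := ⟨⟨Classical.arbitrary X, trivial⟩⟩
  haveI : Nontrivial Γ(X, ⊤) := Scheme.component_nontrivial X ⊤
  refine { exists_pair_ne := ⟨0, 1, zero_ne_one⟩, mul_comm := mul_comm, mul_inv_cancel := ?_ }
  intro a ha
  have ha0 : (a : Γ(X, ⊤)) ≠ 0 := fun h => ha (Subtype.ext h)
  obtain ⟨b, hb, hab⟩ := exists_inv_of_isIntegral (k := k) (idem_of_connected X) (a : Γ(X, ⊤)) a.2 ha0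
  exact ⟨⟨b, hb⟩, Subtype.ext hab⟩

end IntClosField

end Groth.Agent.Lib.Helper38
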