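import Mathlib.Topology.Sober
import Mathlib.Topology.Irreducible
import Mathlib.Topology.Inseparable

set_option autoImplicit false
universe u v

namespace Groth.Agent.Lib.Helper38

open Set Topology

/-- For a continuous generalizing map between quasi-sober spaces, the preimage of an irreducible
component is the union of the irreducible components of the source lying in it. -/
theorem preimage_irreducibleComponent_eq_sUnion {Z : Type u} {X : Type v} [TopologicalSpace Z]
    [TopologicalSpace X] [QuasiSober Z] [QuasiSober X] {pr : Z → X} (hc : Continuous pr)
    (hg : GeneralizingMap pr) {T : Set X} (hT : T ∈ irreducibleComponents X) :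
    pr ⁻¹' T = ⋃₀ {Z' : Set Z | Z' ∈ irreducibleComponents Z ∧ Z' ⊆ pr ⁻¹' T} := by
  apply Subset.antisymm
  · intro z hz
    have hTcl : IsClosed T := isClosed_of_mem_irreducibleComponents T hT
    have hTirr : IsIrreducible T := hT.1
    have hξ : closure {hTirr.genericPoint} = T := hTirr.closure_genericPoint hTcl
    have hspec : hTirr.genericPoint ⤳ pr z := by
      rw [specializes_iff_mem_closure, hξ]; exact hz
    obtain ⟨z', hz'z, hz'ξ⟩ := hg hspec
    refine ⟨irreducibleComponent z', ⟨irreducibleComponent_mem_irreducibleComponents z', ?_⟩, ?_⟩
    · -- the component lies in the preimage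
      have hZcl : IsClosed (irreducibleComponent z') := isClosed_irreducibleComponent
      have hZirr : IsIrreducible (irreducibleComponent z') := isIrreducible_irreducibleComponent
      have hη : closure {hZirr.genericPoint} = irreducibleComponent z' :=
        hZirr.closure_genericPoint hZcl
      have h1 : hZirr.genericPoint ⤳ z' := by
        rw [specializes_iff_mem_closure, hη]; exact mem_irreducibleComponent
      have h2 : pr hZirr.genericPoint ⤳ hTirr.genericPoint := by
        rw [← hz'ξ]; exact h1.map hc
      -- closure of the image point is irreducible and contains T
      have h3 : T ⊆ closure {pr hZirr.genericPoint} := by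
        rw [← hξ]
        exact specializes_iff_closure_subset.mp h2
      have h4 : closure {pr hZirr.genericPoint} ⊆ T :=
        hT.2 isIrreducible_singleton.closure h3
      have h5 : pr hZirr.genericPoint ∈ T := h4 (subset_closure rfl)
      intro w hw
      have h6 : hZirr.genericPoint ⤳ w := by
        rw [specializes_iff_mem_closure, hη]; exact hw
      exact (h6.map hc).mem_closed hTcl h5
    · exact hz'z.mem_closed isClosed_irreducibleComponent mem_irreducibleComponent
  · rintro z ⟨Z', ⟨-, hsub⟩, hz⟩
    exact hsub hz

end Groth.Agent.Lib.Helper38
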