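import Mathlib

/-!
# Algebras of small rank over a big field are Jacobson with algebraic residue fields (helper38)
-/

set_option autoImplicit false
universe u
open Cardinal

namespace Groth.Agent.Lib.Helper38.JacCard

variable (K : Type u) [Field K]

/-- A field extension of rank smaller than the cardinality of the base field is algebraic. -/
theorem isAlgebraic_of_rank_lt (L : Type u) [Field L] [Algebra K L]
    (h : Module.rank K L < #K) : Algebra.IsAlgebraic K L := by
  by_contra hna
  rw [Algebra.isAlgebraic_def] at hna
  push Not at hna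
  obtain ⟨t, ht⟩ := hna
  have ht' : Transcendental K t := ht
  have h1 := ht'.linearIndependent_sub_inv.cardinal_lift_le_rank
  rw [lift_id, lift_id] at h1
  exact absurd (h1.trans_lt h) (lt_irrefl _)

variable {K}

/-- Quotients have smaller rank. -/
theorem rank_quotient_le (B : Type u) [CommRing B] [Algebra K B] (I : Ideal B) :
    Module.rank K (B ⧸ I) ≤ Module.rank K B :=
  LinearMap.rank_le_of_surjective (Ideal.Quotient.mkₐ K I).toLinearMap
    (Ideal.Quotient.mkₐ_surjective K I)

/-- Localizing away from an element multiplies the rank by at most `ℵ₀`. -/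
theorem rank_away_le (D : Type u) [CommRing D] [Algebra K D] (f : D) :
    Module.rank K (Localization.Away f) ≤ ℵ₀ * Module.rank K D := by
  let C := Localization.Away f
  let g : (ℕ →₀ D) →ₗ[K] C :=
    Finsupp.lsum K (fun n : ℕ =>
      (LinearMap.mulLeft K ((IsLocalization.Away.invSelf f : C) ^ n)).comp
        (Algebra.linearMap D C |>.restrictScalars K))
  have hg : Function.Surjective g := by
    intro c
    obtain ⟨d, ⟨_, n, rfl⟩, rfl⟩ := IsLocalization.exists_mk'_eq (Submonoid.powers f) c
    refine ⟨Finsupp.single n d, ?_⟩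
    simp only [g, Finsupp.lsum_single, LinearMap.comp_apply, LinearMap.mulLeft_apply]
    change IsLocalization.Away.invSelf f ^ n * algebraMap D C d = _
    rw [IsLocalization.eq_mk'_iff_mul_eq]
    change IsLocalization.Away.invSelf f ^ n * algebraMap D C d * algebraMap D C (f ^ n) = _
    rw [map_pow, mul_right_comm, ← mul_pow]
    have : IsLocalization.Away.invSelf f * algebraMap D C f = 1 := by
      rw [mul_comm]; exact IsLocalization.Away.mul_invSelf f
    rw [this, one_pow, one_mul]
  have h1 := LinearMap.rank_le_of_surjective g hg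
  rw [rank_finsupp] at h1
  simpa using h1

/-- Residue fields at maximal ideals are algebraic. -/
theorem isAlgebraic_quotient (B : Type u) [CommRing B] [Algebra K B]
    (hB : Module.rank K B < #K) (m : Ideal B) [hm : m.IsMaximal] :
    Algebra.IsAlgebraic K (B ⧸ m) := by
  letI := Ideal.Quotient.field m
  exact isAlgebraic_of_rank_lt K (B ⧸ m) ((rank_quotient_le B m).trans_lt hB)

/-- Main ring-level statement. -/
theorem isJacobsonRing_of_rank_lt (hK : ℵ₀ < #K) (B : Type u) [CommRing B] [Algebra K B]
    (hB : Module.rank K B < #K) : IsJacobsonRing B := by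
  rw [isJacobsonRing_iff_prime_eq]
  intro P hP
  refine le_antisymm ?_ Ideal.le_jacobson
  intro f hf
  by_contra hfP
  -- the domain `D = B ⧸ P` and its localization `C = D_f`
  let D := B ⧸ P
  let fb : D := Ideal.Quotient.mk P f
  have hfb : fb ≠ 0 := fun h => hfP (Ideal.Quotient.eq_zero_iff_mem.mp h)
  let C := Localization.Away fb
  have hinj : Function.Injective (algebraMap D C) :=
    IsLocalization.injective C (powers_le_nonZeroDivisors_of_noZeroDivisors hfb)
  haveI : Nontrivial C := hinj.nontrivial
  have hC : Module.rank K C < #K := by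
    refine (rank_away_le D fb).trans_lt ?_
    exact Cardinal.mul_lt_of_lt hK.le hK ((rank_quotient_le B P).trans_lt hB)
  obtain ⟨n, hn⟩ := Ideal.exists_maximal C
  haveI := hn
  letI := Ideal.Quotient.field n
  haveI : Algebra.IsAlgebraic K (C ⧸ n) := isAlgebraic_quotient C hC n
  let φ : B →ₐ[K] C ⧸ n :=
    (Ideal.Quotient.mkₐ K n).comp
      ((IsScalarTower.toAlgHom K D C).comp (Ideal.Quotient.mkₐ K P))
  -- the range is a field
  have hfield : IsField φ.range := Subalgebra.isField_of_algebraic φ.range
  letI := hfield.toField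
  have hmax : (RingHom.ker φ.rangeRestrict.toRingHom).IsMaximal :=
    RingHom.ker_isMaximal_of_surjective φ.rangeRestrict.toRingHom φ.rangeRestrict_surjective
  set m := RingHom.ker φ.rangeRestrict.toRingHom with hm
  have hmem : ∀ b : B, b ∈ m ↔ φ b = 0 := by
    intro b
    rw [hm, RingHom.mem_ker]
    change φ.rangeRestrict b = 0 ↔ _
    rw [← Subtype.coe_inj]
    rfl
  have hPm : P ≤ m := by
    intro b hb
    rw [hmem]
    change Ideal.Quotient.mk n (algebraMap D C (Ideal.Quotient.mk P b)) = 0
    rw [Ideal.Quotient.eq_zero_iff_mem.mpr hb, map_zero, map_zero]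
  have hfm : f ∉ m := by
    rw [hmem]
    change Ideal.Quotient.mk n (algebraMap D C fb) ≠ 0
    intro h0
    have hunit : IsUnit (algebraMap D C fb) := IsLocalization.Away.algebraMap_isUnit fb
    exact hn.ne_top (Ideal.eq_top_of_isUnit_mem n (Ideal.Quotient.eq_zero_iff_mem.mp h0) hunit)
  have : f ∈ m := by
    have := Ideal.mem_sInf.mp hf (I := m) ⟨hPm, hmax⟩
    exact this
  exact hfm this

end Groth.Agent.Lib.Helper38.JacCard
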