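import Mathlib
import Groth.Prelude
import Groth.Agent.Lib.Helper38.JacCard
import Groth.Agent.Lib.Helper50.FiberBC

/-!
# Base change to a big field is Jacobson with algebraic residue fields at closed points (helper38)
-/

set_option autoImplicit false
universe u
open CategoryTheory CategoryTheory.Limits AlgebraicGeometry TensorProduct Cardinal

namespace Groth.Agent.Lib.Helper38.JacBC

section Chart

variable {k : Type u} [Field k] {X : Scheme.{u}} (f : X ⟶ Spec (CommRingCat.of k))
  (K : Type u) [Field K] [Algebra k K]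

/-- An affine chart of the base change. -/
theorem exists_chart {R : Type u} [CommRing R] [Algebra k R]
    (j : Spec (CommRingCat.of R) ⟶ X) [IsOpenImmersion j]
    (hφ : Spec.map (CommRingCat.ofHom (algebraMap k R)) = j ≫ f) :
    ∃ ι : Spec (CommRingCat.of (R ⊗[k] K)) ⟶
        pullback f (Spec.map (CommRingCat.ofHom (algebraMap k K))),
      IsOpenImmersion ι ∧
      ι ≫ pullback.snd f (Spec.map (CommRingCat.ofHom (algebraMap k K))) =
        Spec.map (CommRingCat.ofHom
          (Algebra.TensorProduct.includeRight : K →ₐ[k] R ⊗[k] K).toRingHom) ∧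
      ∀ y, pullback.fst f (Spec.map (CommRingCat.ofHom (algebraMap k K))) y ∈ Set.range j →
        y ∈ Set.range ι := by
  let g := Spec.map (CommRingCat.ofHom (algebraMap k K))
  let a := Spec.map (CommRingCat.ofHom (algebraMap k R))
  have t : IsPullback (pullback.snd f g) (pullback.fst f g) g f :=
    (IsPullback.of_hasPullback f g).flip
  have h0 : IsPullback (pullback.snd a g) (pullback.fst a g) g (j ≫ f) := by
    rw [← hφ]; exact (IsPullback.of_hasPullback a g).flip
  have res := IsPullback.of_right' h0 t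
  obtain ⟨m, hmres, hmsnd⟩ : ∃ m : pullback a g ⟶ pullback f g,
      IsPullback m (pullback.fst a g) (pullback.fst f g) j ∧
        m ≫ pullback.snd f g = pullback.snd a g := ⟨_, res, t.lift_fst _ _ _⟩
  haveI hopen : IsOpenImmersion m :=
    MorphismProperty.of_isPullback (P := @IsOpenImmersion) hmres.flip inferInstance
  refine ⟨(pullbackSpecIso k R K).inv ≫ m, inferInstance, ?_, ?_⟩
  · rw [Category.assoc, hmsnd]
    exact pullbackSpecIso_inv_snd k R K
  · rintro y ⟨r, hr⟩
    obtain ⟨p, hp1, hp2⟩ := Scheme.exists_preimage_of_isPullback hmres y r hr.symm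
    refine ⟨(pullbackSpecIso k R K).hom p, ?_⟩
    rw [← Scheme.Hom.comp_apply, Iso.hom_inv_id_assoc]
    exact hp1

end Chart

section Rank

variable {k : Type u} [Field k] (K : Type u) [Field K] [Algebra k K]
  (R : Type u) [CommRing R] [Algebra k R]

attribute [local instance] Algebra.TensorProduct.rightAlgebra

/-- The rank of `R ⊗[k] K` over `K` is at most the cardinality of `R`. -/
theorem rank_tensor_right_le : Module.rank K (R ⊗[k] K) ≤ #R := by
  let g : (R →₀ K) →ₗ[K] R ⊗[k] K :=
    Finsupp.lsum K (fun r : R => LinearMap.toSpanSingleton K (R ⊗[k] K) (r ⊗ₜ[k] (1 : K)))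
  have hg : Function.Surjective g := by
    intro z
    induction z using TensorProduct.induction_on with
    | zero => exact ⟨0, map_zero g⟩
    | tmul r c =>
      refine ⟨Finsupp.single r c, ?_⟩
      simp only [g, Finsupp.lsum_single, LinearMap.toSpanSingleton_apply]
      rw [Algebra.smul_def]
      change (1 : R) ⊗ₜ[k] c * r ⊗ₜ[k] (1 : K) = r ⊗ₜ[k] c
      rw [Algebra.TensorProduct.tmul_mul_tmul, one_mul, mul_one]
    | add z₁ z₂ h₁ h₂ =>
      obtain ⟨w₁, rfl⟩ := h₁
      obtain ⟨w₂, rfl⟩ := h₂
      exact ⟨w₁ + w₂, map_add g w₁ w₂⟩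
  have h1 := LinearMap.rank_le_of_surjective g hg
  rw [rank_finsupp_self'] at h1
  exact h1

end Rank

section Main

/-- The cardinal bound. -/
noncomputable def kappa (X : Scheme.{u}) : Cardinal.{u} :=
  Order.succ (max ℵ₀ (⨆ i : X.affineOpenCover.I₀, #(X.affineOpenCover.X i)))

theorem aleph0_lt_of_kappa_le {X : Scheme.{u}} {c : Cardinal.{u}} (h : kappa X ≤ c) : ℵ₀ < c :=
  lt_of_le_of_lt (le_max_left _ _) (Order.succ_le_iff.mp h)

theorem mk_lt_of_kappa_le {X : Scheme.{u}} {c : Cardinal.{u}} (h : kappa X ≤ c)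
    (i : X.affineOpenCover.I₀) :
    #(X.affineOpenCover.X i) < c := by
  refine lt_of_le_of_lt ?_ (Order.succ_le_iff.mp h)
  refine le_trans ?_ (le_max_right _ _)
  exact le_ciSup Cardinal.bddAbove_of_small i

variable (k : Type u) [Field k] (X : Scheme.{u}) [X.Over (Spec (CommRingCat.of k))]

/-- Good affine charts of the base change to a big field, auxiliary form. -/
theorem exists_good_chart_aux (K : Type u) [Field K] [Algebra k K]
    (y : ↥(Curv2.bc k X K)) (R : Type u) [CommRing R] (j : Spec (CommRingCat.of R) ⟶ X)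
    [IsOpenImmersion j] (hy : Curv2.bcFst k X K y ∈ Set.range j) (hR : #R < #K) :
    ∃ (B : Type u) (_ : CommRing B) (_ : Algebra K B)
      (ι : Spec (CommRingCat.of B) ⟶ Curv2.bc k X K),
      IsOpenImmersion ι ∧ y ∈ Set.range ι ∧
      ι ≫ Curv2.bcSnd k X K = Spec.map (CommRingCat.ofHom (algebraMap K B)) ∧
      Module.rank K B < #K := by
  let φ := Spec.preimage (j ≫ (X ↘ Spec (CommRingCat.of k)))
  letI : Algebra k R := φ.hom.toAlgebra
  have hφ : Spec.map (CommRingCat.ofHom (algebraMap k R)) =
      j ≫ (X ↘ Spec (CommRingCat.of k)) := Spec.map_preimage _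
  obtain ⟨ι, hι, hsnd, hrange⟩ := exists_chart (X ↘ Spec (CommRingCat.of k)) K j hφ
  letI : Algebra K (R ⊗[k] K) := Algebra.TensorProduct.rightAlgebra
  refine ⟨R ⊗[k] K, inferInstance, inferInstance, ι, hι, hrange y hy, hsnd, ?_⟩
  exact (rank_tensor_right_le K R).trans_lt hR

/-- Good affine charts of the base change to a big field. -/
theorem exists_good_chart (K : Type u) [Field K] [Algebra k K] (hK : kappa X ≤ #K)
    (y : ↥(Curv2.bc k X K)) :
    ∃ (B : Type u) (_ : CommRing B) (_ : Algebra K B)
      (ι : Spec (CommRingCat.of B) ⟶ Curv2.bc k X K),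
      IsOpenImmersion ι ∧ y ∈ Set.range ι ∧
      ι ≫ Curv2.bcSnd k X K = Spec.map (CommRingCat.ofHom (algebraMap K B)) ∧
      Module.rank K B < #K :=
  @exists_good_chart_aux k _ X _ K _ _ y
    (X.affineOpenCover.X (X.affineOpenCover.idx (Curv2.bcFst k X K y))) _
    (X.affineOpenCover.f _) (X.affineOpenCover.map_prop _)
    (X.affineOpenCover.covers _) (mk_lt_of_kappa_le hK _)

theorem jacobsonSpace_bc (K : Type u) [Field K] [Algebra k K] (hK : kappa X ≤ #K) :
    JacobsonSpace ↥(Curv2.bc k X K) := by
  choose B hB1 hB2 ι hι hmem hsnd hrank using exists_good_chart k X K hK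
  have hcov : TopologicalSpace.IsOpenCover (fun y => @Scheme.Hom.opensRange _ _ (ι y) (hι y)) := by
    apply TopologicalSpace.IsOpenCover.mk
    rw [eq_top_iff]
    intro y _
    exact TopologicalSpace.Opens.mem_iSup.mpr ⟨y, hmem y⟩
  rw [hcov.jacobsonSpace_iff]
  intro y
  haveI := hι y
  haveI : IsJacobsonRing (B y) :=
    JacCard.isJacobsonRing_of_rank_lt (aleph0_lt_of_kappa_le hK) (B y) (hrank y)
  haveI : JacobsonSpace (Spec (CommRingCat.of (B y))) := inferInstance
  let e := (ι y).isOpenEmbedding.isEmbedding.toHomeomorph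
  exact .of_isClosedEmbedding e.symm.isClosedEmbedding

end Main

section RingLevel

/-- If `β : B → L` is surjective on stalks with maximal kernel, `L` a field, and `B` has small
rank over the big field `K`, then `L` is algebraic over `K`. -/
theorem isAlgebraic_of_surjectiveOnStalks {K B L : Type u} [Field K] [CommRing B] [Algebra K B]
    [Field L] [Algebra K L] (β : B →ₐ[K] L) (hβ : β.toRingHom.SurjectiveOnStalks)
    (hmax : (RingHom.ker β.toRingHom).IsMaximal) (hB : Module.rank K B < #K) :
    Algebra.IsAlgebraic K L := by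
  haveI := hmax
  haveI : Algebra.IsAlgebraic K (B ⧸ RingHom.ker β.toRingHom) :=
    JacCard.isAlgebraic_quotient B hB _
  let γ : (B ⧸ RingHom.ker β.toRingHom) →ₐ[K] L :=
    Ideal.Quotient.liftₐ (RingHom.ker β.toRingHom) β (fun a ha => ha)
  have hγ : ∀ b : B, γ (Ideal.Quotient.mk _ b) = β b := fun b => rfl
  have halg : ∀ b : B, IsAlgebraic K (β b) := fun b => by
    rw [← hγ]
    exact (Algebra.IsAlgebraic.isAlgebraic _).algHom γ
  refine ⟨fun s => ?_⟩
  obtain ⟨b, r, c, hc, hr, e⟩ :=
    RingHom.surjectiveOnStalks_iff_forall_ideal.mp hβ ⊥ bot_ne_top s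
  have hc' : c ≠ 0 := fun h => hc (by rw [h]; exact Ideal.zero_mem _)
  have hr' : β r ≠ 0 := fun h => hr (by
    change β r ∈ (⊥ : Ideal L)
    rw [h]; exact Ideal.zero_mem _)
  have e' : β r * s = β b := by
    have : c * (β r * s) = c * β b := by rw [← mul_assoc]; exact e
    exact mul_left_cancel₀ hc' this
  have hs : s = β b * (β r)⁻¹ := by
    rw [← e', mul_comm (β r) s, mul_assoc, mul_inv_cancel₀ hr', mul_one]
  rw [hs]
  exact (halg b).mul (IsAlgebraic.inv_iff.mpr (halg r))

end RingLevel

section Closed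

variable (k : Type u) [Field k] (X : Scheme.{u}) [X.Over (Spec (CommRingCat.of k))]

attribute [local instance] Curv2.resAlgebra

theorem isAlgebraic_residueField_bc (K : Type u) [Field K] [Algebra k K] (hK : kappa X ≤ #K)
    (x : ↥(Curv2.bc k X K)) (hx : IsClosed ({x} : Set ↥(Curv2.bc k X K))) :
    letI : (Curv2.bc k X K).Over (Spec (CommRingCat.of K)) := ⟨Curv2.bcSnd k X K⟩
    Algebra.IsAlgebraic K ((Curv2.bc k X K).residueField x) := by
  letI : (Curv2.bc k X K).Over (Spec (CommRingCat.of K)) := ⟨Curv2.bcSnd k X K⟩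
  obtain ⟨B, _, _, ι, hι, hmem, hsnd, hrank⟩ := exists_good_chart k X K hK x
  haveI := hι
  -- the lift of the residue field point
  have hrange : Set.range ((Curv2.bc k X K).fromSpecResidueField x) ⊆ Set.range ι := by
    rw [Scheme.range_fromSpecResidueField]
    exact Set.singleton_subset_iff.mpr hmem
  let τ : Spec ((Curv2.bc k X K).residueField x) ⟶ Spec (CommRingCat.of B) :=
    IsOpenImmersion.lift ι ((Curv2.bc k X K).fromSpecResidueField x) hrange
  have hτ : τ ≫ ι = (Curv2.bc k X K).fromSpecResidueField x := IsOpenImmersion.lift_fac _ _ _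
  let β₀ : CommRingCat.of B ⟶ (Curv2.bc k X K).residueField x := Spec.preimage τ
  have hβ₀ : Spec.map β₀ = τ := Spec.map_preimage τ
  -- compatibility with the `K`-structures
  have hcomp : Curv2.resMap K (Curv2.bc k X K) x = β₀.hom.comp (algebraMap K B) := by
    have h1 := Groth.Agent.Lib.Helper50.specMap_resMap_eq K (X := Curv2.bc k X K) x
    have h2 : Spec.map (CommRingCat.ofHom (Curv2.resMap K (Curv2.bc k X K) x)) =
        Spec.map (CommRingCat.ofHom (algebraMap K B) ≫ β₀) := by
      rw [h1, Spec.map_comp, hβ₀, ← hsnd, ← Category.assoc, hτ]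
      rfl
    have h3 := Spec.map_injective h2
    have h4 := congrArg CommRingCat.Hom.hom h3
    exact h4
  let β : B →ₐ[K] (Curv2.bc k X K).residueField x :=
    { β₀.hom with
      commutes' := fun c => by
        change β₀.hom (algebraMap K B c) = Curv2.resMap K (Curv2.bc k X K) x c
        rw [hcomp]; rfl }
  -- surjective on stalks
  have hpre : IsPreimmersion τ := by
    haveI : IsPreimmersion (τ ≫ ι) := by rw [hτ]; infer_instance
    exact IsPreimmersion.of_comp τ ι
  have hsurj : β.toRingHom.SurjectiveOnStalks := by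
    rw [← hβ₀] at hpre
    exact ((IsPreimmersion.SpecMap_iff β₀).mp hpre).2
  -- maximal kernel
  have hmax : (RingHom.ker β.toRingHom).IsMaximal := by
    let pt : Spec ((Curv2.bc k X K).residueField x) := default
    let q : Spec (CommRingCat.of B) := τ pt
    have hq : ι q = x := by
      change ι (τ pt) = x
      rw [← Scheme.Hom.comp_apply, hτ]
      exact Scheme.fromSpecResidueField_apply x pt
    have hqcl : IsClosed ({q} : Set (Spec (CommRingCat.of B))) := by
      have : ({q} : Set (Spec (CommRingCat.of B))) = ι ⁻¹' {x} := by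
        ext z
        simp only [Set.mem_singleton_iff, Set.mem_preimage]
        constructor
        · rintro rfl; exact hq
        · intro hz
          exact ι.isOpenEmbedding.injective (hz.trans hq.symm)
      rw [this]
      exact hx.preimage ι.continuous
    have hqmax : q.asIdeal.IsMaximal :=
      (PrimeSpectrum.isClosed_singleton_iff_isMaximal q).mp hqcl
    have hker : q.asIdeal = RingHom.ker β.toRingHom := by
      change (τ pt).asIdeal = _
      rw [← hβ₀]
      change Ideal.comap β₀.hom pt.asIdeal = RingHom.ker β₀.hom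
      have hbot : pt.asIdeal = ⊥ := by
        have := pt.isPrime
        exact (Ideal.eq_bot_or_top pt.asIdeal).resolve_right this.ne_top
      rw [hbot]
      rfl
    rw [← hker]
    exact hqmax
  exact isAlgebraic_of_surjectiveOnStalks β hsurj hmax hrank

end Closed

end Groth.Agent.Lib.Helper38.JacBC
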