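import Mathlib.Topology.NoetherianSpace
import Mathlib.Topology.Sober
import Mathlib.Topology.LocallyConstant.Basic

set_option autoImplicit false
universe u v

namespace Groth.Agent.Lib.Helper38

open TopologicalSpace Set

/-- On a Noetherian quasi-sober space a function which is constant along specializations is
locally constant. -/
theorem isLocallyConstant_of_specializes {Y : Type u} [TopologicalSpace Y] [NoetherianSpace Y]
    [QuasiSober Y] {α : Type v} (f : Y → α) (hf : ∀ y y' : Y, y ⤳ y' → f y = f y') :
    IsLocallyConstant f := by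
  classical
  rcases isEmpty_or_nonempty Y with hY | ⟨⟨y0⟩⟩
  · intro s
    rw [Set.eq_empty_of_isEmpty (f ⁻¹' s)]
    exact isOpen_empty
  haveI : Nonempty α := ⟨f y0⟩
  have hfin := NoetherianSpace.finite_irreducibleComponents (α := Y)
  have hval : ∀ Z ∈ irreducibleComponents Y, ∃ v : α, ∀ y ∈ Z, f y = v := by
    intro Z hZ
    refine ⟨f hZ.1.genericPoint, fun y hy => ?_⟩
    have hcl := hZ.1.closure_genericPoint (isClosed_of_mem_irreducibleComponents Z hZ)
    have : hZ.1.genericPoint ⤳ y := by
      rw [specializes_iff_mem_closure, hcl]; exact hy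
    exact (hf _ _ this).symm
  choose! v hv using hval
  rw [IsLocallyConstant.iff_isOpen_fiber]
  intro c
  have hcompl : (f ⁻¹' {c})ᶜ = ⋃ Z ∈ {Z | Z ∈ irreducibleComponents Y ∧ v Z ≠ c}, Z := by
    ext y
    constructor
    · intro hy
      refine mem_iUnion₂.mpr ⟨irreducibleComponent y,
        ⟨irreducibleComponent_mem_irreducibleComponents y, ?_⟩, mem_irreducibleComponent⟩
      rw [← hv _ (irreducibleComponent_mem_irreducibleComponents y) y mem_irreducibleComponent]
      exact hy
    · intro hy
      obtain ⟨Z, ⟨hZ, hvZ⟩, hyZ⟩ := mem_iUnion₂.mp hy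
      intro h
      exact hvZ ((hv Z hZ y hyZ).symm.trans h)
  rw [← isClosed_compl_iff, hcompl]
  exact (hfin.subset fun Z hZ => hZ.1).isClosed_biUnion
    fun Z hZ => isClosed_of_mem_irreducibleComponents Z hZ.1

end Groth.Agent.Lib.Helper38
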