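import Mathlib

/-!
# A separated morphism which is locally an open immersion and injective on generic points
-/

set_option autoImplicit false

universe u

open CategoryTheory CategoryTheory.Limits AlgebraicGeometry Topology

namespace Groth.Agent.Lib.Helper38

namespace LocOpenImm

theorem closure_image_mem_irreducibleComponents {T X : Type*} [TopologicalSpace T]
    [TopologicalSpace X] {g : T → X} (hg : IsOpenEmbedding g) {ξ : T}
    (h : closure ({ξ} : Set T) ∈ irreducibleComponents T) :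
    closure ({g ξ} : Set X) ∈ irreducibleComponents X := by
  refine ⟨isIrreducible_singleton.closure, ?_⟩
  intro Z hZ hle
  have hξZ : g ξ ∈ Z := hle (subset_closure (Set.mem_singleton _))
  have hpre : IsIrreducible (g ⁻¹' Z) := hZ.preimage hg ⟨g ξ, hξZ, ξ, rfl⟩
  have h1 : closure ({ξ} : Set T) ⊆ g ⁻¹' Z := by
    have h2 : closure ({ξ} : Set T) ⊆ g ⁻¹' closure {g ξ} := by
      apply closure_minimal
      · intro y hy
        rw [Set.mem_singleton_iff] at hy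
        subst hy
        exact subset_closure (Set.mem_singleton _)
      · exact isClosed_closure.preimage hg.continuous
    exact h2.trans (Set.preimage_mono hle)
  have h3 : g ⁻¹' Z ⊆ closure ({ξ} : Set T) := h.2 hpre h1
  have h4 : Z ⊆ closure (Z ∩ Set.range g) :=
    subset_closure_inter_of_isPreirreducible_of_isOpen hZ.2 hg.isOpen_range ⟨g ξ, hξZ, ξ, rfl⟩
  refine h4.trans (closure_minimal ?_ isClosed_closure)
  rintro _ ⟨hz, y, rfl⟩
  have : y ∈ closure ({ξ} : Set T) := h3 hz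
  have h5 := image_closure_subset_closure_image hg.continuous (s := {ξ}) ⟨y, this, rfl⟩
  simpa using h5

variable {X Y : Scheme.{u}} (f : X ⟶ Y)

theorem isIso_stalkMap_of_loc (hloc : ∀ x : X, ∃ U : X.Opens, x ∈ U ∧ IsOpenImmersion (U.ι ≫ f))
    (x : X) : IsIso (f.stalkMap x) := by
  obtain ⟨U, hxU, hU⟩ := hloc x
  haveI := hU
  have h0 : IsIso ((U.ι ≫ f).stalkMap ⟨x, hxU⟩) := inferInstance
  have h1 : (U.ι ≫ f).stalkMap ⟨x, hxU⟩ = f.stalkMap (U.ι ⟨x, hxU⟩) ≫ U.ι.stalkMap ⟨x, hxU⟩ :=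
    Scheme.Hom.stalkMap_comp U.ι f ⟨x, hxU⟩
  rw [h1] at h0
  have h3 : IsIso (f.stalkMap (U.ι ⟨x, hxU⟩)) :=
    @IsIso.of_isIso_comp_right _ _ _ _ _ (f.stalkMap (U.ι ⟨x, hxU⟩)) (U.ι.stalkMap ⟨x, hxU⟩)
      inferInstance h0
  exact h3

theorem isOpenMap_of_loc (hloc : ∀ x : X, ∃ U : X.Opens, x ∈ U ∧ IsOpenImmersion (U.ι ≫ f)) :
    IsOpenMap f.base := by
  intro W hW
  rw [isOpen_iff_forall_mem_open]
  rintro _ ⟨x, hxW, rfl⟩
  obtain ⟨U, hxU, hU⟩ := hloc x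
  haveI := hU
  refine ⟨(U.ι ≫ f).base '' (U.ι.base ⁻¹' W), ?_, ?_, ?_⟩
  · rintro _ ⟨y, hy, rfl⟩
    exact ⟨U.ι.base y, hy, rfl⟩
  · exact (U.ι ≫ f).isOpenEmbedding.isOpenMap _ (hW.preimage U.ι.continuous)
  · exact ⟨⟨x, hxU⟩, hxW, rfl⟩

/-- Two morphisms `g₁ g₂ : T ⟶ X` with `g₁ ≫ f = g₂ ≫ f` agreeing at a point agree near it, when
`f` is locally an open immersion. -/
theorem exists_opens_ι_comp_eq (hloc : ∀ x : X, ∃ U : X.Opens, x ∈ U ∧ IsOpenImmersion (U.ι ≫ f))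
    {T : Scheme.{u}} (g₁ g₂ : T ⟶ X) (hg : g₁ ≫ f = g₂ ≫ f) (t : T) (ht : g₁ t = g₂ t) :
    ∃ N : T.Opens, t ∈ N ∧ N.ι ≫ g₁ = N.ι ≫ g₂ := by
  obtain ⟨U₃, hz, hU₃⟩ := hloc (g₁ t)
  haveI := hU₃
  refine ⟨g₁ ⁻¹ᵁ U₃ ⊓ g₂ ⁻¹ᵁ U₃, ⟨hz, by show g₂ t ∈ U₃; rw [← ht]; exact hz⟩, ?_⟩
  have hr₁ : Set.range ((g₁ ⁻¹ᵁ U₃ ⊓ g₂ ⁻¹ᵁ U₃).ι ≫ g₁) ⊆ Set.range U₃.ι := by
    rw [Scheme.Opens.range_ι]
    rintro _ ⟨n, rfl⟩
    exact n.2.1
  have hr₂ : Set.range ((g₁ ⁻¹ᵁ U₃ ⊓ g₂ ⁻¹ᵁ U₃).ι ≫ g₂) ⊆ Set.range U₃.ι := by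
    rw [Scheme.Opens.range_ι]
    rintro _ ⟨n, rfl⟩
    exact n.2.2
  have e₁ := IsOpenImmersion.lift_fac U₃.ι _ hr₁
  have e₂ := IsOpenImmersion.lift_fac U₃.ι _ hr₂
  have hk : IsOpenImmersion.lift U₃.ι _ hr₁ = IsOpenImmersion.lift U₃.ι _ hr₂ := by
    rw [← cancel_mono (U₃.ι ≫ f), ← Category.assoc, ← Category.assoc, e₁, e₂, Category.assoc,
      Category.assoc, hg]
  rw [← e₁, ← e₂, hk]

theorem injective_of_loc [IsSeparated f]
    (hloc : ∀ x : X, ∃ U : X.Opens, x ∈ U ∧ IsOpenImmersion (U.ι ≫ f))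
    (hinj : ∀ ξ ξ' : X, closure ({ξ} : Set X) ∈ irreducibleComponents (X : Type u) →
      closure ({ξ'} : Set X) ∈ irreducibleComponents (X : Type u) → f ξ = f ξ' → ξ = ξ') :
    Function.Injective f := by
  intro x₁ x₂ h12
  obtain ⟨U₁, hx₁, hU₁⟩ := hloc x₁
  obtain ⟨U₂, hx₂, hU₂⟩ := hloc x₂
  haveI := hU₁
  haveI := hU₂
  obtain ⟨t₀, ht₁, ht₂⟩ := Scheme.Pullback.exists_preimage_pullback (f := U₁.ι ≫ f)
    (g := U₂.ι ≫ f) ⟨x₁, hx₁⟩ ⟨x₂, hx₂⟩ h12
  obtain ⟨g₁, hg₁⟩ : ∃ g₁ : pullback (U₁.ι ≫ f) (U₂.ι ≫ f) ⟶ X,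
      g₁ = pullback.fst (U₁.ι ≫ f) (U₂.ι ≫ f) ≫ U₁.ι := ⟨_, rfl⟩
  obtain ⟨g₂, hg₂⟩ : ∃ g₂ : pullback (U₁.ι ≫ f) (U₂.ι ≫ f) ⟶ X,
      g₂ = pullback.snd (U₁.ι ≫ f) (U₂.ι ≫ f) ≫ U₂.ι := ⟨_, rfl⟩
  haveI : IsOpenImmersion g₁ := by rw [hg₁]; infer_instance
  haveI : IsOpenImmersion g₂ := by rw [hg₂]; infer_instance
  have hg : g₁ ≫ f = g₂ ≫ f := by
    rw [hg₁, hg₂, Category.assoc, Category.assoc]
    exact pullback.condition
  have hx₁' : g₁ t₀ = x₁ := by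
    rw [hg₁]
    show U₁.ι (pullback.fst (U₁.ι ≫ f) (U₂.ι ≫ f) t₀) = x₁
    rw [ht₁]; rfl
  have hx₂' : g₂ t₀ = x₂ := by
    rw [hg₂]
    show U₂.ι (pullback.snd (U₁.ι ≫ f) (U₂.ι ≫ f) t₀) = x₂
    rw [ht₂]; rfl
  -- the locus where `g₁` and `g₂` agree
  have hloceq := exists_opens_ι_comp_eq f hloc g₁ g₂ hg
  have hEopen : IsOpen {t | g₁ t = g₂ t} := by
    rw [isOpen_iff_forall_mem_open]
    intro t ht
    obtain ⟨N, htN, hN⟩ := hloceq t ht
    refine ⟨N, ?_, N.isOpen, htN⟩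
    intro n hn
    have := congrArg (fun φ : (N : Scheme.{u}) ⟶ X => φ ⟨n, hn⟩) hN
    exact this
  have hEclosed : IsClosed {t | g₁ t = g₂ t} := by
    have hE : {t | g₁ t = g₂ t}
        = (pullback.lift g₁ g₂ hg : _ ⟶ pullback f f) ⁻¹'
          (Set.range (pullback.diagonal f)) := by
      ext t
      constructor
      · intro ht
        obtain ⟨N, htN, hN⟩ := hloceq t ht
        have hcomp : N.ι ≫ (pullback.lift g₁ g₂ hg : _ ⟶ pullback f f)
            = (N.ι ≫ g₁) ≫ pullback.diagonal f := by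
          apply pullback.hom_ext
          · rw [Category.assoc, pullback.lift_fst, Category.assoc, pullback.diagonal_fst,
              Category.comp_id]
          · rw [Category.assoc, pullback.lift_snd, Category.assoc, pullback.diagonal_snd,
              Category.comp_id, hN]
        have := congrArg (fun φ : (N : Scheme.{u}) ⟶ pullback f f => φ ⟨t, htN⟩) hcomp
        exact ⟨(N.ι ≫ g₁) ⟨t, htN⟩, this.symm⟩
      · rintro ⟨z, hz⟩
        have h1 : g₁ t = z := by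
          have e1 : (pullback.lift g₁ g₂ hg : _ ⟶ pullback f f) ≫ pullback.fst f f = g₁ :=
            pullback.lift_fst _ _ _
          have e2 : pullback.diagonal f ≫ pullback.fst f f = 𝟙 X := pullback.diagonal_fst f
          have a1 := congrArg (fun φ : _ ⟶ X => φ t) e1
          have a2 := congrArg (fun φ : X ⟶ X => φ z) e2
          simp only [Scheme.Hom.comp_apply] at a1 a2
          rw [← a1, ← hz, a2]; rfl
        have h2 : g₂ t = z := by
          have e1 : (pullback.lift g₁ g₂ hg : _ ⟶ pullback f f) ≫ pullback.snd f f = g₂ :=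
            pullback.lift_snd _ _ _
          have e2 : pullback.diagonal f ≫ pullback.snd f f = 𝟙 X := pullback.diagonal_snd f
          have a1 := congrArg (fun φ : _ ⟶ X => φ t) e1
          have a2 := congrArg (fun φ : X ⟶ X => φ z) e2
          simp only [Scheme.Hom.comp_apply] at a1 a2
          rw [← a1, ← hz, a2]; rfl
        exact h1.trans h2.symm
    rw [hE]
    exact (pullback.diagonal f).isClosedEmbedding.isClosed_range.preimage
      (pullback.lift g₁ g₂ hg : _ ⟶ pullback f f).continuous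
  have hgen : ∀ ξ : ↥(pullback (U₁.ι ≫ f) (U₂.ι ≫ f)),
      closure ({ξ} : Set ↥(pullback (U₁.ι ≫ f) (U₂.ι ≫ f))) ∈ irreducibleComponents _ →
      g₁ ξ = g₂ ξ := by
    intro ξ hξ
    apply hinj
    · exact closure_image_mem_irreducibleComponents g₁.isOpenEmbedding hξ
    · exact closure_image_mem_irreducibleComponents g₂.isOpenEmbedding hξ
    · have := congrArg (fun φ : _ ⟶ Y => φ ξ) hg
      exact this
  have hall : ∀ t : ↥(pullback (U₁.ι ≫ f) (U₂.ι ≫ f)), g₁ t = g₂ t := by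
    intro t
    have hZ := irreducibleComponent_mem_irreducibleComponents t
    obtain ⟨ξ, hξ⟩ := QuasiSober.sober hZ.1 (isClosed_of_mem_irreducibleComponents _ hZ)
    have hcl : closure ({ξ} : Set _) = irreducibleComponent t := hξ.def
    have hξE : ξ ∈ {t | g₁ t = g₂ t} := hgen ξ (by rw [hcl]; exact hZ)
    have hsub : closure ({ξ} : Set _) ⊆ {t | g₁ t = g₂ t} :=
      closure_minimal (Set.singleton_subset_iff.mpr hξE) hEclosed
    exact hsub (by rw [hcl]; exact mem_irreducibleComponent)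
  rw [← hx₁', ← hx₂']
  exact hall t₀

theorem isOpenImmersion_of_loc [IsSeparated f]
    (hloc : ∀ x : X, ∃ U : X.Opens, x ∈ U ∧ IsOpenImmersion (U.ι ≫ f))
    (hinj : ∀ ξ ξ' : X, closure ({ξ} : Set X) ∈ irreducibleComponents (X : Type u) →
      closure ({ξ'} : Set X) ∈ irreducibleComponents (X : Type u) → f ξ = f ξ' → ξ = ξ') :
    IsOpenImmersion f := by
  haveI : ∀ x, IsIso (f.stalkMap x) := isIso_stalkMap_of_loc f hloc
  apply IsOpenImmersion.of_isIso_stalkMap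
  exact IsOpenEmbedding.of_continuous_injective_isOpenMap f.continuous
    (injective_of_loc f hloc hinj) (isOpenMap_of_loc f hloc)

end LocOpenImm

end Groth.Agent.Lib.Helper38
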