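import Mathlib

/-!
# Spreading out equalities of morphisms into schemes locally of finite type (helper38)

* `spread_out_unique_of_locallyOfFiniteType`: two `S`-morphisms `f g : X ⟶ Y` into a scheme
  locally of finite type over `S` that agree on the stalk at `x` agree on a neighbourhood of `x`
  (no germ-injectivity needed on `X`).
* `isGermInjectiveAt_of_isReduced`: a reduced scheme with finitely many irreducible components is
  germ-injective at every point.
-/

universe u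

open AlgebraicGeometry CategoryTheory

namespace Groth.Agent.Lib.Helper38.SpreadOutFT

theorem res_res {X : Scheme.{u}} {U V W : X.Opens} (h1 : W ≤ V) (h2 : V ≤ U) (z : Γ(X, U)) :
    X.presheaf.map (homOfLE h1).op (X.presheaf.map (homOfLE h2).op z) =
      X.presheaf.map (homOfLE (h1.trans h2)).op z := by
  rw [← CommRingCat.comp_apply, ← Functor.map_comp]
  rfl

set_option backward.isDefEq.respectTransparency.types false in
/-- Two `S`-morphisms into a scheme locally of finite type over `S` which agree on the stalk at `x`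
agree on an open neighbourhood of `x`. -/
theorem spread_out_unique_of_locallyOfFiniteType {X Y S : Scheme.{u}} (sY : Y ⟶ S)
    [LocallyOfFiniteType sY] (f g : X ⟶ Y) (hS : f ≫ sY = g ≫ sY) {x : X} (e : f x = g x)
    (H : f.stalkMap x =
      Y.presheaf.stalkSpecializes (Inseparable.of_eq e.symm).specializes ≫ g.stalkMap x) :
    ∃ U : X.Opens, x ∈ U ∧ U.ι ≫ f = U.ι ≫ g := by
  obtain ⟨_, ⟨W, hW, rfl⟩, hxW, -⟩ :=
    S.isBasis_affineOpens.exists_subset_of_mem_open (Set.mem_univ (sY (f x))) isOpen_univ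
  obtain ⟨_, ⟨V : Y.Opens, hV, rfl⟩, hxV, hVW⟩ :=
    Y.isBasis_affineOpens.exists_subset_of_mem_open hxW (sY ⁻¹ᵁ W).2
  have hxV' : g x ∈ V := e ▸ hxV
  obtain ⟨U₀, hU₀⟩ : ∃ U₀ : X.Opens, U₀ = f ⁻¹ᵁ V ⊓ g ⁻¹ᵁ V := ⟨_, rfl⟩
  have hU₀f : U₀ ≤ f ⁻¹ᵁ V := hU₀ ▸ inf_le_left
  have hU₀g : U₀ ≤ g ⁻¹ᵁ V := hU₀ ▸ inf_le_right
  have hxU₀ : x ∈ U₀ := hU₀ ▸ ⟨hxV, hxV'⟩
  have hft : (sY.appLE W V hVW).hom.FiniteType := sY.finiteType_appLE hW hV hVW
  have hρ : sY.appLE W V hVW ≫ f.appLE V U₀ hU₀f = sY.appLE W V hVW ≫ g.appLE V U₀ hU₀g := by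
    rw [Scheme.Hom.appLE_comp_appLE, Scheme.Hom.appLE_comp_appLE]
    congr 1
  have hgerm : f.appLE V U₀ hU₀f ≫ X.presheaf.germ U₀ x hxU₀ =
      g.appLE V U₀ hU₀g ≫ X.presheaf.germ U₀ x hxU₀ := by
    simp only [Scheme.Hom.appLE, Category.assoc, X.presheaf.germ_res', ← Scheme.Hom.germ_stalkMap, H]
    simp only [TopCat.Presheaf.germ_stalkSpecializes_assoc, Scheme.Hom.germ_stalkMap]
  algebraize [(sY.appLE W V hVW).hom]
  obtain ⟨s, hs⟩ := hft
  have hex : ∀ t : Γ(Y, V), ∃ (Ut : X.Opens) (_ : x ∈ Ut) (i : Ut ≤ U₀),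
      X.presheaf.map (homOfLE i).op (f.appLE V U₀ hU₀f t) =
        X.presheaf.map (homOfLE i).op (g.appLE V U₀ hU₀g t) := by
    intro t
    have h1 : X.presheaf.germ U₀ x hxU₀ (f.appLE V U₀ hU₀f t) =
        X.presheaf.germ U₀ x hxU₀ (g.appLE V U₀ hU₀g t) := congr($hgerm t)
    obtain ⟨Wt, hxWt, i1, i2, h⟩ := X.presheaf.germ_eq x hxU₀ hxU₀ _ _ h1
    exact ⟨Wt, hxWt, i1.le, h⟩
  choose Ut hxUt iUt hUt using hex
  obtain ⟨U, hU⟩ : ∃ U : X.Opens, U = s.inf Ut ⊓ U₀ := ⟨_, rfl⟩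
  have hxU : x ∈ U := by
    rw [hU, ← SetLike.mem_coe, TopologicalSpace.Opens.coe_inf, TopologicalSpace.Opens.coe_finset_inf]
    exact ⟨by simpa using fun t _ ↦ hxUt t, hxU₀⟩
  have hUU₀ : U ≤ U₀ := hU ▸ inf_le_right
  have hUt' : ∀ t ∈ s, U ≤ Ut t := fun t ht => hU ▸ inf_le_left.trans (Finset.inf_le ht)
  refine ⟨U, hxU, ?_⟩
  have hUf : U ≤ f ⁻¹ᵁ V := hUU₀.trans hU₀f
  have hUg : U ≤ g ⁻¹ᵁ V := hUU₀.trans hU₀g
  have key : f.appLE V U hUf = g.appLE V U hUg := by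
    have hf' : f.appLE V U hUf = f.appLE V U₀ hU₀f ≫ X.presheaf.map (homOfLE hUU₀).op := by
      rw [Scheme.Hom.appLE_map]
    have hg' : g.appLE V U hUg = g.appLE V U₀ hU₀g ≫ X.presheaf.map (homOfLE hUU₀).op := by
      rw [Scheme.Hom.appLE_map]
    have hρ' : sY.appLE W V hVW ≫ f.appLE V U hUf = sY.appLE W V hVW ≫ g.appLE V U hUg := by
      rw [hf', hg', reassoc_of% hρ]
    let E : Subalgebra Γ(S, W) Γ(Y, V) :=
      { (RingHom.eqLocus (f.appLE V U hUf).hom (g.appLE V U hUg).hom) with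
        algebraMap_mem' := fun r => by
          change (f.appLE V U hUf).hom (sY.appLE W V hVW r) = (g.appLE V U hUg).hom (sY.appLE W V hVW r)
          exact congr($hρ' r) }
    have hsE : (s : Set Γ(Y, V)) ⊆ E := by
      intro t ht
      change (f.appLE V U hUf).hom t = (g.appLE V U hUg).hom t
      rw [hf', hg']
      change X.presheaf.map (homOfLE hUU₀).op (f.appLE V U₀ hU₀f t) =
        X.presheaf.map (homOfLE hUU₀).op (g.appLE V U₀ hU₀g t)
      rw [← res_res (hUt' t ht) (iUt t), ← res_res (hUt' t ht) (iUt t), hUt t]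
    have hle : Algebra.adjoin Γ(S, W) (s : Set Γ(Y, V)) ≤ E := Algebra.adjoin_le hsE
    rw [hs] at hle
    ext t
    exact hle (Algebra.mem_top (x := t))
  rw [← Scheme.Hom.resLE_comp_ι _ hUf, ← Scheme.Hom.resLE_comp_ι _ hUg]
  congr 1
  have : IsAffine V := hV
  suffices ∀ (U₁ V₁) (eU : U = U₁) (eV : V = V₁),
      f.appLE V₁ U₁ (eU ▸ eV ▸ hUf) = g.appLE V₁ U₁ (eU ▸ eV ▸ hUg) by
    rw [← cancel_mono V.toScheme.isoSpec.hom]
    simp only [Scheme.isoSpec, asIso_hom, Scheme.toSpecΓ_naturality,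
      Scheme.Hom.app_eq_appLE, Scheme.Hom.resLE_appLE]
    congr 2
    apply this <;> simp
  rintro U₁ V₁ rfl rfl
  exact key

/-- Variant with an equality of morphisms from the spectrum of the local ring. -/
theorem spread_out_unique_of_locallyOfFiniteType' {X Y S : Scheme.{u}} (sY : Y ⟶ S)
    [LocallyOfFiniteType sY] (f g : X ⟶ Y) (hS : f ≫ sY = g ≫ sY) {x : X}
    (e : X.fromSpecStalk x ≫ f = X.fromSpecStalk x ≫ g) :
    ∃ U : X.Opens, x ∈ U ∧ U.ι ≫ f = U.ι ≫ g := by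
  fapply spread_out_unique_of_locallyOfFiniteType sY f g hS
  · simpa using congr($e (IsLocalRing.closedPoint _))
  · apply Spec.map_injective
    rw [← cancel_mono (Y.fromSpecStalk _)]
    simpa [Scheme.SpecMap_stalkSpecializes_fromSpecStalk]

/-- A reduced scheme with finitely many irreducible components is germ-injective at each point. -/
theorem isGermInjectiveAt_of_isReduced (S : Scheme.{u}) [IsReduced S]
    (hS : (irreducibleComponents S).Finite) (s : S) : S.IsGermInjectiveAt s := by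
  let C : Set (Set S) := {Z | Z ∈ irreducibleComponents S ∧ s ∉ Z}
  have hCfin : C.Finite := hS.subset (fun Z hZ => hZ.1)
  have hBcl : IsClosed (⋃ Z ∈ C, Z) :=
    hCfin.isClosed_biUnion (fun Z hZ => isClosed_of_mem_irreducibleComponents Z hZ.1)
  have hsB : s ∈ (⋃ Z ∈ C, Z)ᶜ := by
    intro h
    obtain ⟨Z, hZ, hsZ⟩ := Set.mem_iUnion₂.mp h
    exact hZ.2 hsZ
  obtain ⟨_, ⟨V, hV, rfl⟩, hsV, hVW⟩ :=
    S.isBasis_affineOpens.exists_subset_of_mem_open hsB hBcl.isOpen_compl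
  refine ⟨⟨V, hsV, hV, ?_⟩⟩
  rw [injective_iff_map_eq_zero]
  intro a ha
  obtain ⟨W', hsW', i1, i2, h⟩ := S.presheaf.germ_eq s hsV hsV a 0 (by rw [ha, map_zero])
  have ha' : S.presheaf.map i1.op a = 0 := by rw [h, map_zero]
  rw [← basicOpen_eq_bot_iff, eq_bot_iff]
  intro y hy
  exfalso
  have hyV : y ∈ V := S.basicOpen_le a hy
  have hsZ : s ∈ irreducibleComponent y := by
    by_contra hsZ
    have hC : irreducibleComponent y ∈ C :=
      ⟨irreducibleComponent_mem_irreducibleComponents y, hsZ⟩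
    exact hVW hyV (Set.mem_biUnion hC mem_irreducibleComponent)
  have hirr : IsPreirreducible (irreducibleComponent y) := isIrreducible_irreducibleComponent.2
  obtain ⟨z, hzZ, hz1, hz2⟩ := hirr (S.basicOpen a) W' (S.basicOpen a).2 W'.2
    ⟨y, mem_irreducibleComponent, hy⟩ ⟨s, hsZ, hsW'⟩
  have hzV : z ∈ V := S.basicOpen_le a hz1
  have hunit : IsUnit (S.presheaf.germ V z hzV a) := (S.mem_basicOpen a z hzV).mp hz1
  have hzero : S.presheaf.germ V z hzV a = 0 := by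
    rw [← S.presheaf.germ_res_apply i1 z hz2 a, ha', map_zero]
  rw [hzero] at hunit
  exact not_isUnit_zero hunit

end Groth.Agent.Lib.Helper38.SpreadOutFT
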