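import Mathlib
import Groth.Agent.Lib.Helper38.SpreadOutFT

/-!
# A morphism locally of finite type inducing an isomorphism on a local ring is a local open
immersion (helper38)

The base is assumed germ-injective at the image point (e.g. integral, locally Noetherian, or
reduced with finitely many irreducible components).
-/

universe u

open AlgebraicGeometry CategoryTheory

namespace Groth.Agent.Lib.Helper38.SpreadOutFT

theorem fromSpecStalk_eq_of_lift {A X : Scheme.{u}} (a : A ⟶ X) [Mono a] (x'' : A) (x : X)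
    (hax : a x'' = x) (c : Spec (X.presheaf.stalk x) ⟶ A) (hca : c ≫ a = X.fromSpecStalk x) :
    ∃ ψ : X.presheaf.stalk x ⟶ A.presheaf.stalk x'', A.fromSpecStalk x'' = Spec.map ψ ≫ c := by
  subst hax
  exact ⟨a.stalkMap x'', by
    rw [← cancel_mono a, Category.assoc, hca, Scheme.SpecMap_stalkMap_fromSpecStalk]⟩

set_option backward.isDefEq.respectTransparency.types false in
theorem exists_isOpenImmersion_of_isIso_stalkMap {X S : Scheme.{u}} (f : X ⟶ S)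
    [LocallyOfFiniteType f] (x : X) [S.IsGermInjectiveAt (f x)] (hx : IsIso (f.stalkMap x)) :
    ∃ U : X.Opens, x ∈ U ∧ IsOpenImmersion (U.ι ≫ f) := by
  obtain ⟨φ, hφdef⟩ : ∃ φ : Spec (S.presheaf.stalk (f x)) ⟶ X,
      φ = Spec.map (inv (f.stalkMap x)) ≫ X.fromSpecStalk x := ⟨_, rfl⟩
  have hφ : φ ≫ f = S.fromSpecStalk (f x) ≫ 𝟙 S := by
    rw [hφdef, Category.assoc, Category.comp_id, ← Scheme.SpecMap_stalkMap_fromSpecStalk,
      ← Spec.map_comp_assoc, IsIso.hom_inv_id, Spec.map_id, Category.id_comp]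
  obtain ⟨V, hsV, g, hg1, hg2⟩ := spread_out_of_isGermInjective' (𝟙 S) f φ hφ
  rw [Category.comp_id] at hg2
  have hx₀ : x ∈ f ⁻¹ᵁ V := hsV
  obtain ⟨a, ha⟩ : ∃ a : (f ⁻¹ᵁ V).toScheme ⟶ X, a = (f ⁻¹ᵁ V).ι := ⟨_, rfl⟩
  obtain ⟨b, hb⟩ : ∃ b : (f ⁻¹ᵁ V).toScheme ⟶ X, b = (f ∣_ V) ≫ g := ⟨_, rfl⟩
  have hab : a ≫ f = b ≫ f := by
    rw [ha, hb, Category.assoc, hg2, morphismRestrict_ι]
  obtain ⟨c, hc⟩ : ∃ c : Spec (X.presheaf.stalk x) ⟶ (f ⁻¹ᵁ V).toScheme,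
      c = (f ⁻¹ᵁ V).fromSpecStalkOfMem x hx₀ := ⟨_, rfl⟩
  have hca : c ≫ a = X.fromSpecStalk x := by
    rw [hc, ha]; exact Scheme.Opens.fromSpecStalkOfMem_ι _ x hx₀
  have hcV : c ≫ (f ∣_ V) = Spec.map (f.stalkMap x) ≫ V.fromSpecStalkOfMem (f x) hsV := by
    rw [← cancel_mono V.ι, Category.assoc, morphismRestrict_ι, ← ha, ← Category.assoc, hca,
      Category.assoc, Scheme.Opens.fromSpecStalkOfMem_ι, Scheme.SpecMap_stalkMap_fromSpecStalk]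
  have hcb : c ≫ b = X.fromSpecStalk x := by
    rw [hb, ← Category.assoc, hcV, Category.assoc, ← hg1, hφdef, ← Spec.map_comp_assoc,
      IsIso.inv_hom_id, Spec.map_id, Category.id_comp]
  have hmono : Mono a := ha ▸ inferInstance
  obtain ⟨ψ, h1⟩ := fromSpecStalk_eq_of_lift a ⟨x, hx₀⟩ x (by rw [ha]; rfl) c hca
  have e : (f ⁻¹ᵁ V).toScheme.fromSpecStalk ⟨x, hx₀⟩ ≫ a =
      (f ⁻¹ᵁ V).toScheme.fromSpecStalk ⟨x, hx₀⟩ ≫ b := by
    rw [h1, Category.assoc, Category.assoc, hca, hcb]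
  obtain ⟨U, hxU, hU⟩ := spread_out_unique_of_locallyOfFiniteType' f a b hab e
  -- the open immersion `j : U ⟶ X` and the map `q : U ⟶ V`
  obtain ⟨j, hj⟩ : ∃ j : U.toScheme ⟶ X, j = U.ι ≫ a := ⟨_, rfl⟩
  have hjo : IsOpenImmersion j := by rw [hj, ha]; infer_instance
  obtain ⟨q, hq⟩ : ∃ q : U.toScheme ⟶ V.toScheme, q = U.ι ≫ (f ∣_ V) := ⟨_, rfl⟩
  have hqg : q ≫ g = j := by rw [hq, hj, hU, hb, Category.assoc]
  have hjf : j ≫ f = q ≫ V.ι := by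
    rw [hj, hq, ha, Category.assoc, Category.assoc, morphismRestrict_ι]
  -- the inverse
  obtain ⟨V₁, hV₁⟩ : ∃ V₁ : V.toScheme.Opens, V₁ = g ⁻¹ᵁ j.opensRange := ⟨_, rfl⟩
  have hmem : ∀ w : V.toScheme, w ∈ V₁ ↔ g w ∈ j.opensRange := by
    intro w; rw [hV₁]; rfl
  have hr1 : Set.range (V₁.ι ≫ g) ⊆ Set.range j := by
    rintro _ ⟨v, rfl⟩
    exact (hmem _).mp v.2
  obtain ⟨g₁, hg₁⟩ : ∃ g₁ : V₁.toScheme ⟶ U.toScheme, g₁ ≫ j = V₁.ι ≫ g :=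
    ⟨IsOpenImmersion.lift j (V₁.ι ≫ g) hr1, IsOpenImmersion.lift_fac _ _ _⟩
  have hr2 : Set.range q ⊆ Set.range V₁.ι := by
    rintro _ ⟨u, rfl⟩
    have : q u ∈ V₁ := by
      rw [hmem, ← Scheme.Hom.comp_apply, hqg]
      exact ⟨u, rfl⟩
    exact ⟨⟨q u, this⟩, rfl⟩
  obtain ⟨q₁, hq₁⟩ : ∃ q₁ : U.toScheme ⟶ V₁.toScheme, q₁ ≫ V₁.ι = q :=
    ⟨IsOpenImmersion.lift V₁.ι q hr2, IsOpenImmersion.lift_fac _ _ _⟩
  have hqg₁ : q₁ ≫ g₁ = 𝟙 _ := by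
    rw [← cancel_mono j, Category.assoc, hg₁, ← Category.assoc, hq₁, hqg, Category.id_comp]
  have hgq₁ : g₁ ≫ q₁ = 𝟙 _ := by
    rw [← cancel_mono (V₁.ι ≫ V.ι), Category.assoc, ← Category.assoc q₁, hq₁, ← hjf,
      ← Category.assoc, hg₁, Category.assoc, hg2, Category.id_comp]
  have hq₁iso : IsIso q₁ := ⟨g₁, hqg₁, hgq₁⟩
  have hqo : IsOpenImmersion q := by rw [← hq₁]; infer_instance
  have hjfo : IsOpenImmersion (j ≫ f) := by rw [hjf]; infer_instance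
  refine ⟨j.opensRange, ⟨⟨⟨x, hx₀⟩, hxU⟩, by rw [hj, ha]; rfl⟩, ?_⟩
  rw [← Scheme.Hom.isoOpensRange_inv_comp, Category.assoc]
  infer_instance

end Groth.Agent.Lib.Helper38.SpreadOutFT
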