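import Groth.Agent.Lib.Helper38.Dim1
import Mathlib.RingTheory.Ideal.MinimalPrime.Localization
import Mathlib.RingTheory.Ideal.MinimalPrime.Noetherian
import Mathlib.RingTheory.Localization.AtPrime.Basic
import Mathlib.RingTheory.Localization.Away.Basic
import Mathlib.RingTheory.Nilpotent.Lemmas
import Mathlib.Algebra.Group.Pi.Units
import Mathlib.RingTheory.Localization.Pi

/-! Localizations at minimal primes; for a Noetherian local ring of dimension one and `f` in no
minimal prime, `A_f` is the product of the localizations at the minimal primes (helper38). -/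

set_option autoImplicit false

namespace Groth.Agent.Lib.Helper38

universe u

open IsLocalRing

section General

variable {A : Type u} [CommRing A]

/-- An element of a minimal prime `q` becomes nilpotent in `A_q`. -/
theorem exists_notMem_mul_pow_eq_zero {q : Ideal A} (hq : q ∈ minimalPrimes A) {a : A}
    (ha : a ∈ q) : ∃ s ∉ q, ∃ n : ℕ, s * a ^ n = 0 := by
  haveI : q.IsPrime := hq.1.1
  let S := Localization.AtPrime q
  haveI : Subsingleton (PrimeSpectrum S) :=
    IsLocalization.subsingleton_primeSpectrum_of_mem_minimalPrimes q hq S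
  have hmem : algebraMap A S a ∈ maximalIdeal S :=
    (IsLocalization.AtPrime.to_map_mem_maximal_iff S q a).mpr ha
  have hnil : algebraMap A S a ∈ nilradical S := by
    rw [nilradical_eq_sInf, Ideal.mem_sInf]
    intro J hJ
    have hJ' : J.IsPrime := hJ
    have : (⟨J, hJ'⟩ : PrimeSpectrum S) = ⟨maximalIdeal S, inferInstance⟩ := Subsingleton.elim _ _
    have hJm : J = maximalIdeal S := congrArg PrimeSpectrum.asIdeal this
    rw [hJm]
    exact hmem
  obtain ⟨n, hn⟩ := mem_nilradical.mp hnil
  rw [← map_pow, IsLocalization.map_eq_zero_iff q.primeCompl S] at hn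
  obtain ⟨m, hm⟩ := hn
  exact ⟨m.1, m.2, n, hm⟩

/-- For a minimal prime `p` (among finitely many) there is `t ∉ p` dying in the localization at
every other minimal prime. -/
theorem exists_notMem_forall_mul_eq_zero (hfin : (minimalPrimes A).Finite) {p : Ideal A}
    (hp : p ∈ minimalPrimes A) :
    ∃ t : A, t ∉ p ∧ ∀ q ∈ minimalPrimes A, q ≠ p → ∃ s ∉ q, s * t = 0 := by
  classical
  haveI : p.IsPrime := hp.1.1
  have hex : ∀ q : Ideal A, q ∈ minimalPrimes A → q ≠ p →
      ∃ a : A, a ∉ p ∧ ∃ s ∉ q, ∃ n : ℕ, s * a ^ n = 0 := by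
    intro q hq hqp
    have hnle : ¬ q ≤ p := by
      intro hle
      apply hqp
      exact le_antisymm hle (hp.2 ⟨hq.1.1, bot_le⟩ hle)
    obtain ⟨a, haq, hap⟩ := Set.not_subset.mp hnle
    exact ⟨a, hap, exists_notMem_mul_pow_eq_zero hq haq⟩
  choose! a hap s hsq n hsan using hex
  let T : Finset (Ideal A) := hfin.toFinset.erase p
  refine ⟨∏ q ∈ T, a q ^ n q, ?_, ?_⟩
  · intro hmem
    obtain ⟨q, hqT, hq⟩ := (Ideal.IsPrime.prod_mem_iff).mp hmem
    have hqT' := Finset.mem_erase.mp hqT
    have hqmin : q ∈ minimalPrimes A := hfin.mem_toFinset.mp hqT'.2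
    exact hap q hqmin hqT'.1 (Ideal.IsPrime.mem_of_pow_mem inferInstance _ hq)
  · intro q hq hqp
    refine ⟨s q, hsq q hq hqp, ?_⟩
    have hqT : q ∈ T := Finset.mem_erase.mpr ⟨hqp, hfin.mem_toFinset.mpr hq⟩
    obtain ⟨c, hc⟩ := Finset.dvd_prod_of_mem (fun q => a q ^ n q) hqT
    rw [hc, ← mul_assoc, hsan q hq hqp, zero_mul]

end General

section DimOne

variable (A : Type u) [CommRing A] [IsLocalRing A] [IsNoetherianRing A]

instance finite_minIdx : Finite {p : PrimeSpectrum A // p.asIdeal ∈ minimalPrimes A} := by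
  haveI : Finite (minimalPrimes A) := (minimalPrimes.finite_of_isNoetherianRing A).to_subtype
  refine Finite.of_injective
    (fun p : {p : PrimeSpectrum A // p.asIdeal ∈ minimalPrimes A} =>
      (⟨p.1.asIdeal, p.2⟩ : minimalPrimes A)) ?_
  intro p q h
  apply Subtype.ext
  apply PrimeSpectrum.ext
  exact congrArg Subtype.val h

variable {A}

/-- In a Noetherian local ring of dimension at most one, an element lying in no minimal prime
divides a power of every element of the maximal ideal. -/
theorem exists_pow_eq_mul_of_notMem_minimalPrimes (hdim : ringKrullDim A ≤ 1) {u f : A}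
    (hu : ∀ p ∈ minimalPrimes A, u ∉ p) (hf : f ∈ maximalIdeal A) : ∃ (N : ℕ) (c : A), f ^ N = c * u := by
  obtain ⟨N, hN⟩ := exists_pow_maximalIdeal_le hdim (Ideal.span {u}) (by
    intro p hp hle
    exact hu p hp (hle (Ideal.subset_span (Set.mem_singleton u))))
  have : f ^ N ∈ Ideal.span {u} := hN (Ideal.pow_mem_pow hf N)
  obtain ⟨c, hc⟩ := Ideal.mem_span_singleton'.mp this
  exact ⟨N, c, hc.symm⟩

/-- **Stacks 00PE-type decomposition**: for a Noetherian local ring of dimension at most one and
`f` in the maximal ideal lying in no minimal prime, the product of the localizations at the minimal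
primes is the localization of `A` away from `f`. -/
theorem isLocalization_away_pi (hdim : ringKrullDim A ≤ 1) (f : A) (hfm : f ∈ maximalIdeal A)
    (hf : ∀ p ∈ minimalPrimes A, f ∉ p) :
    IsLocalization.Away f
      (∀ p : {p : PrimeSpectrum A // p.asIdeal ∈ minimalPrimes A},
        Localization.AtPrime p.1.asIdeal) := by
  classical
  haveI := Fintype.ofFinite {p : PrimeSpectrum A // p.asIdeal ∈ minimalPrimes A}
  have hfinmin : (minimalPrimes A).Finite := minimalPrimes.finite_of_isNoetherianRing A
  rw [IsLocalization.Away, isLocalization_iff]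
  refine ⟨?_, ?_, ?_⟩
  · rintro ⟨y, n, rfl⟩
    rw [Pi.isUnit_iff]
    intro p
    change IsUnit (algebraMap A (Localization.AtPrime p.1.asIdeal) (f ^ n))
    rw [IsLocalization.AtPrime.isUnit_to_map_iff _ p.1.asIdeal]
    intro hmem
    exact hf _ p.2 (Ideal.IsPrime.mem_of_pow_mem inferInstance _ hmem)
  · intro z
    -- choose numerators, denominators and the separating elements
    have hsurj : ∀ p : {p : PrimeSpectrum A // p.asIdeal ∈ minimalPrimes A},
        ∃ (b s : A), s ∉ p.1.asIdeal ∧
          z p * algebraMap A (Localization.AtPrime p.1.asIdeal) s =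
            algebraMap A (Localization.AtPrime p.1.asIdeal) b := by
      intro p
      obtain ⟨⟨b, s⟩, hbs⟩ := IsLocalization.surj p.1.asIdeal.primeCompl (z p)
      exact ⟨b, s.1, s.2, hbs⟩
    choose b s hs hbs using hsurj
    have hsep : ∀ p : {p : PrimeSpectrum A // p.asIdeal ∈ minimalPrimes A},
        ∃ t : A, t ∉ p.1.asIdeal ∧ ∀ q ∈ minimalPrimes A, q ≠ p.1.asIdeal → ∃ s ∉ q, s * t = 0 :=
      fun p => exists_notMem_forall_mul_eq_zero hfinmin p.2
    choose t ht htq using hsep
    -- `t p` dies in the localization at `q ≠ p`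
    have htzero : ∀ p q : {p : PrimeSpectrum A // p.asIdeal ∈ minimalPrimes A}, q ≠ p →
        algebraMap A (Localization.AtPrime q.1.asIdeal) (t p) = 0 := by
      intro p q hqp
      have hne : q.1.asIdeal ≠ p.1.asIdeal := by
        intro h
        apply hqp
        apply Subtype.ext
        exact PrimeSpectrum.ext h
      obtain ⟨s', hs'q, hs't⟩ := htq p q.1.asIdeal q.2 hne
      rw [IsLocalization.map_eq_zero_iff q.1.asIdeal.primeCompl]
      exact ⟨⟨s', hs'q⟩, hs't⟩
    have htmem : ∀ p q : {p : PrimeSpectrum A // p.asIdeal ∈ minimalPrimes A}, q ≠ p →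
        t p ∈ q.1.asIdeal := by
      intro p q hqp
      have h0 := htzero p q hqp
      rw [IsLocalization.map_eq_zero_iff q.1.asIdeal.primeCompl] at h0
      obtain ⟨m, hm⟩ := h0
      have : (m : A) * t p ∈ q.1.asIdeal := by rw [hm]; exact zero_mem _
      exact (q.1.isPrime.mem_or_mem this).resolve_left m.2
    let u : A := ∑ p, t p * s p
    let a : A := ∑ p, t p * b p
    have hu : ∀ q ∈ minimalPrimes A, u ∉ q := by
      intro q hq huq
      let q' : {p : PrimeSpectrum A // p.asIdeal ∈ minimalPrimes A} := ⟨⟨q, hq.1.1⟩, hq⟩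
      have hsplit : u = t q' * s q' + ∑ p ∈ Finset.univ.erase q', t p * s p := by
        simp only [u]
        exact (Finset.add_sum_erase Finset.univ (fun p => t p * s p) (Finset.mem_univ q')).symm
      have hrest : ∑ p ∈ Finset.univ.erase q', t p * s p ∈ q := by
        refine sum_mem fun p hp => ?_
        have hpq : q' ≠ p := (Finset.ne_of_mem_erase hp).symm
        exact Ideal.mul_mem_right _ _ (htmem p q' hpq)
      have hmain : t q' * s q' ∈ q := by
        have := huq
        rw [hsplit] at this
        exact (Ideal.add_mem_iff_left _ hrest).mp this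
      rcases hq.1.1.mem_or_mem hmain with h | h
      · exact ht q' h
      · exact hs q' h
    have hkey : z * algebraMap A _ u = algebraMap A _ a := by
      funext q
      change z q * algebraMap A (Localization.AtPrime q.1.asIdeal) u =
        algebraMap A (Localization.AtPrime q.1.asIdeal) a
      simp only [u, a, map_sum, map_mul]
      rw [Finset.mul_sum]
      refine Finset.sum_congr rfl fun p _ => ?_
      by_cases hqp : q = p
      · subst hqp
        rw [mul_comm (algebraMap A _ (t q)), ← mul_assoc, hbs, mul_comm]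
      · rw [htzero p q hqp, zero_mul, zero_mul, mul_zero]
    obtain ⟨N, c, hNc⟩ := exists_pow_eq_mul_of_notMem_minimalPrimes hdim hu hfm
    refine ⟨⟨c * a, ⟨f ^ N, N, rfl⟩⟩, ?_⟩
    change z * algebraMap A _ (f ^ N) = algebraMap A _ (c * a)
    rw [hNc, map_mul, map_mul, ← hkey]
    ring
  · intro x y hxy
    let d := x - y
    have hd : ∀ q : {p : PrimeSpectrum A // p.asIdeal ∈ minimalPrimes A},
        ∃ s' : A, s' ∉ q.1.asIdeal ∧ s' * d = 0 := by
      intro q
      have h0 : algebraMap A (Localization.AtPrime q.1.asIdeal) d = 0 := by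
        have := congrFun hxy q
        change algebraMap A (Localization.AtPrime q.1.asIdeal) x =
          algebraMap A (Localization.AtPrime q.1.asIdeal) y at this
        simp only [d, map_sub, this, sub_self]
      rw [IsLocalization.map_eq_zero_iff q.1.asIdeal.primeCompl] at h0
      obtain ⟨m, hm⟩ := h0
      exact ⟨m.1, m.2, hm⟩
    let J : Ideal A := (Submodule.span A {d}).annihilator
    have hJ : ∀ p ∈ minimalPrimes A, ¬ J ≤ p := by
      intro p hp hle
      obtain ⟨s', hs'p, hs'd⟩ := hd ⟨⟨p, hp.1.1⟩, hp⟩
      apply hs'p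
      apply hle
      rw [Submodule.mem_annihilator_span_singleton]
      exact hs'd
    obtain ⟨N, hN⟩ := exists_pow_maximalIdeal_le hdim J hJ
    have hfN : f ^ N ∈ J := hN (Ideal.pow_mem_pow hfm N)
    rw [Submodule.mem_annihilator_span_singleton] at hfN
    refine ⟨⟨f ^ N, N, rfl⟩, ?_⟩
    change f ^ N * x = f ^ N * y
    have : f ^ N * (x - y) = 0 := hfN
    rw [mul_sub, sub_eq_zero] at this
    exact this

end DimOne

end Groth.Agent.Lib.Helper38
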