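import Groth.Agent.Lib.Helper38.MinLoc
import Mathlib.RingTheory.LocalRing.ResidueField.Ideal
import Mathlib.RingTheory.LocalProperties.Reduced
import Mathlib.RingTheory.KrullDimension.Zero
import Mathlib.RingTheory.Ideal.Operations

/-! Noetherian local rings of dimension one: elements outside the minimal primes (helper38). -/

set_option autoImplicit false

namespace Groth.Agent.Lib.Helper38

universe u

open IsLocalRing

section

variable {A : Type u} [CommRing A] [IsLocalRing A] [IsNoetherianRing A]

/-- In a local ring of Krull dimension one the maximal ideal is not a minimal prime. -/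
theorem maximalIdeal_notMem_minimalPrimes (hdim : ringKrullDim A = 1) :
    maximalIdeal A ∉ minimalPrimes A := by
  intro hmin
  have h0 : Ring.KrullDimLE 0 A := by
    rw [Ring.krullDimLE_zero_iff]
    intro I hI
    have hle : I ≤ maximalIdeal A := le_maximalIdeal hI.ne_top
    have : maximalIdeal A ≤ I := hmin.2 ⟨hI, bot_le⟩ hle
    rw [le_antisymm hle this]
    infer_instance
  have := (Ring.krullDimLE_iff).mp h0
  rw [hdim] at this
  exact absurd this (by decide)

/-- A prime which is not minimal is the maximal ideal (dimension at most one). -/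
theorem eq_maximalIdeal_of_notMem_minimalPrimes (hdim : ringKrullDim A ≤ 1) {q : Ideal A}
    (hq : q.IsPrime) (hmin : q ∉ minimalPrimes A) : q = maximalIdeal A := by
  have hK : Ring.KrullDimLE 1 A := (Ring.krullDimLE_iff).mpr hdim
  rcases Ring.krullDimLE_one_iff.mp hK q hq with h | h
  · exact absurd h hmin
  · exact IsLocalRing.eq_maximalIdeal h

/-- Prime avoidance: some element of the maximal ideal lies in no minimal prime. -/
theorem exists_mem_maximalIdeal_forall_notMem (hdim : ringKrullDim A = 1) :
    ∃ f ∈ maximalIdeal A, ∀ p ∈ minimalPrimes A, f ∉ p := by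
  classical
  by_contra hcon
  push Not at hcon
  have hfin : (minimalPrimes A).Finite := minimalPrimes.finite_of_isNoetherianRing A
  have hsub : ((maximalIdeal A : Ideal A) : Set A) ⊆ ⋃ p ∈ (hfin.toFinset : Set (Ideal A)), (id p : Ideal A) := by
    intro f hf
    obtain ⟨p, hp, hfp⟩ := hcon f hf
    simp only [Set.mem_iUnion]
    exact ⟨p, by simpa using hp, hfp⟩
  have hprime : ∀ i ∈ hfin.toFinset, i ≠ (⊥ : Ideal A) → i ≠ (⊥ : Ideal A) → (id i : Ideal A).IsPrime := by
    intro i hi _ _
    exact (hfin.mem_toFinset.mp hi).1.1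
  obtain ⟨p, hp, hle⟩ := (Ideal.subset_union_prime (s := hfin.toFinset) (f := id) ⊥ ⊥ hprime).mp hsub
  have hpmin : p ∈ minimalPrimes A := hfin.mem_toFinset.mp hp
  have hpm : p = maximalIdeal A :=
    le_antisymm (le_maximalIdeal hpmin.1.1.ne_top) hle
  exact maximalIdeal_notMem_minimalPrimes hdim (hpm ▸ hpmin)

/-- `m = √(f)` iff `f` lies in no minimal prime. -/
theorem maximalIdeal_eq_radical_span_iff (hdim : ringKrullDim A = 1) {f : A}
    (hf : f ∈ maximalIdeal A) :
    maximalIdeal A = (Ideal.span {f}).radical ↔ ∀ p ∈ minimalPrimes A, f ∉ p := by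
  constructor
  · intro h p hp hfp
    have hle : (Ideal.span {f}).radical ≤ p :=
      (hp.1.1.radical_le_iff).mpr ((Ideal.span_singleton_le_iff_mem _).mpr hfp)
    rw [← h] at hle
    have hpm : p = maximalIdeal A := le_antisymm (le_maximalIdeal hp.1.1.ne_top) hle
    exact maximalIdeal_notMem_minimalPrimes hdim (hpm ▸ hp)
  · intro h
    rw [Ideal.radical_eq_sInf]
    apply le_antisymm
    · refine le_sInf ?_
      rintro J ⟨hfJ, hJ⟩
      have hfJ' : f ∈ J := hfJ (Ideal.subset_span (Set.mem_singleton f))
      have hnot : J ∉ minimalPrimes A := fun hJmin => h J hJmin hfJ'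
      rw [eq_maximalIdeal_of_notMem_minimalPrimes hdim.le hJ hnot]
    · refine sInf_le ⟨?_, inferInstance⟩
      rw [Ideal.span_le]
      simpa using hf

/-- Localization at a minimal prime of a reduced ring has zero maximal ideal. -/
theorem maximalIdeal_localization_eq_bot {R : Type u} [CommRing R] [IsReduced R] {q : Ideal R}
    [q.IsPrime] (hq : q ∈ minimalPrimes R) :
    maximalIdeal (Localization.AtPrime q) = ⊥ := by
  let S := Localization.AtPrime q
  haveI : Subsingleton (PrimeSpectrum S) :=
    IsLocalization.subsingleton_primeSpectrum_of_mem_minimalPrimes q hq S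
  rw [eq_bot_iff]
  intro x hx
  have hnil : x ∈ nilradical S := by
    rw [nilradical_eq_sInf, Ideal.mem_sInf]
    intro J hJ
    have hJ' : J.IsPrime := hJ
    have : (⟨J, hJ'⟩ : PrimeSpectrum S) = ⟨maximalIdeal S, inferInstance⟩ := Subsingleton.elim _ _
    have hJm : J = maximalIdeal S := congrArg PrimeSpectrum.asIdeal this
    rw [hJm]
    exact hx
  rw [nilradical_eq_zero] at hnil
  exact hnil

/-- For a minimal prime of a reduced ring, the localization is the residue field. -/
theorem exists_algEquiv_residueField {R : Type u} [CommRing R] [IsReduced R] {q : Ideal R}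
    [q.IsPrime] (hq : q ∈ minimalPrimes R) :
    Nonempty (Localization.AtPrime q ≃ₐ[R] q.ResidueField) := by
  let g : Localization.AtPrime q →ₐ[R] q.ResidueField :=
    IsScalarTower.toAlgHom R (Localization.AtPrime q) q.ResidueField
  have hg : ∀ x, g x = IsLocalRing.residue (Localization.AtPrime q) x := fun _ => rfl
  refine ⟨AlgEquiv.ofBijective g ⟨?_, ?_⟩⟩
  · rw [injective_iff_map_eq_zero]
    intro x hx
    rw [hg, IsLocalRing.residue_eq_zero_iff, maximalIdeal_localization_eq_bot hq] at hx
    exact hx
  · intro y
    obtain ⟨x, rfl⟩ := IsLocalRing.residue_surjective y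
    exact ⟨x, rfl⟩

end

end Groth.Agent.Lib.Helper38
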