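import Groth.Agent.Lib.Helper11.TensorMap
import Groth.Agent.Lib.Helper11.TensorBasis
import Groth.Agent.Lib.Helper49.StalkKerCoker

/-!
# Multiplication by a section `M ⟶ M ⊗ N` (helper38)

For `s : O_X ⟶ N`, `mulBy M s : M ⟶ M ⊗ N` is `m ↦ m ⊗ s(1)`.  It is an isomorphism over the
locus `X_s` (`isIso_restrict_mulBy`), so its kernel and cokernel are supported off `X_s`
(`support_kernel_mulBy_subset`, `support_cokernel_mulBy_subset`).
-/

set_option autoImplicit false
universe u
open AlgebraicGeometry CategoryTheory Limits TopologicalSpace Opposite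

namespace Groth.Agent.Lib.Helper38.MulBySection

open Groth.Agent.Lib.Helper45 Groth.Agent.Lib.Helper49 Groth.Agent.Lib.Helper11.GenLocus
  Groth.Agent.Lib.Helper11.TensorMap

variable {X : Scheme.{u}}

/-- multiplication by the section `s` of `N`: `M ⟶ M ⊗ N`. -/
noncomputable def mulBy (M : X.Modules) {N : X.Modules} (s : Coh.structureModule X ⟶ N) :
    M ⟶ CohB1.tensorMod M N :=
  (SecTwist.unitorR M).inv ≫ tensorModMap (𝟙 M) s

theorem unitorR_inv_app (M : X.Modules) (W : X.Opens) (m : Γ(M, W)) :
    ((SecTwist.unitorR M).inv.app W).hom m = tm M (Coh.structureModule X) W m (toO W 1) := by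
  have h1 : ((SecTwist.unitorR M).hom.app W).hom (tm M (Coh.structureModule X) W m (toO W 1)) = m := by
    have := SecTwist.unitorR_tmul M W m (1 : Γ(X, W))
    exact this.trans (one_smul Γ(X, W) m)
  have h3 : (SecTwist.unitorR M).hom.app W ≫ (SecTwist.unitorR M).inv.app W = 𝟙 _ := by
    rw [← Scheme.Modules.Hom.comp_app, Iso.hom_inv_id]
    rfl
  have h2 : ((SecTwist.unitorR M).inv.app W).hom (((SecTwist.unitorR M).hom.app W).hom
      (tm M (Coh.structureModule X) W m (toO W 1))) = tm M (Coh.structureModule X) W m (toO W 1) :=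
    congrArg (fun φ => φ.hom (tm M (Coh.structureModule X) W m (toO W 1))) h3
  rw [← h2, h1]

theorem mulBy_app (M : X.Modules) {N : X.Modules} (s : Coh.structureModule X ⟶ N)
    (W : X.Opens) (m : Γ(M, W)) :
    ((mulBy M s).app W).hom m = tm M N W m (sec s W) := by
  unfold mulBy
  rw [Scheme.Modules.Hom.comp_app]
  change ((tensorModMap (𝟙 M) s).app W).hom (((SecTwist.unitorR M).inv.app W).hom m) = _
  rw [unitorR_inv_app]
  exact tensorModMap_tm (𝟙 M) s W m (toO W 1)

theorem mulBy_app_bijective (M : X.Modules) {N : X.Modules} (s : Coh.structureModule X ⟶ N)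
    (W : X.Opens) (hW : W ≤ CohB1.genLocus N s) :
    Function.Bijective ((mulBy M s).app W).hom := by
  have hb : IsBasisOn N W (sec s W) := (le_genLocus_iff_isBasisOn s W).mp hW
  have h := tm_basis_bijective M N W (sec s W) hb W le_rfl
  have e : (fun m : Γ(M, W) => tm M N W m (mres N (le_refl W) (sec s W))) =
      ((mulBy M s).app W).hom := by
    funext m
    rw [mulBy_app, sec_mres]
  rw [← e]
  exact h

theorem isIso_restrict_mulBy (M : X.Modules) {N : X.Modules} (s : Coh.structureModule X ⟶ N) :
    IsIso ((Scheme.Modules.restrictFunctor (CohB1.genLocus N s).ι).map (mulBy M s)) := by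
  rw [Groth.Agent.Lib.Helper11.GenLocus.isIso_restrict_iff]
  intro V hV
  rw [ConcreteCategory.isIso_iff_bijective]
  exact mulBy_app_bijective M s V hV

theorem stalkMap_mulBy_bijective (M : X.Modules) {N : X.Modules} (s : Coh.structureModule X ⟶ N)
    (x : X) (hx : x ∈ CohB1.genLocus N s) :
    Function.Bijective (stalkMap (mulBy M s) x).hom :=
  (Groth.Agent.Lib.Helper49.isIso_restrict_iff (mulBy M s) (CohB1.genLocus N s)).mp
    (isIso_restrict_mulBy M s) x hx

theorem support_kernel_mulBy_subset (M : X.Modules) {N : X.Modules}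
    (s : Coh.structureModule X ⟶ N) :
    CohB1.support (kernel (mulBy M s)) ⊆ CohB1.support M ∩ ((CohB1.genLocus N s : Set X))ᶜ := by
  intro x hx
  refine ⟨?_, ?_⟩
  · intro hM
    apply hx
    refine ⟨fun a b => ?_⟩
    apply stalkMap_injective_of_mono (kernel.ι (mulBy M s)) x
    exact hM.elim _ _
  · intro hxs
    apply hx
    exact (subsingleton_stalk_kernel_iff (mulBy M s) x).mpr (stalkMap_mulBy_bijective M s x hxs).1

theorem support_cokernel_mulBy_subset (M : X.Modules) {N : X.Modules}
    (s : Coh.structureModule X ⟶ N) :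
    CohB1.support (cokernel (mulBy M s)) ⊆
      CohB1.support (CohB1.tensorMod M N) ∩ ((CohB1.genLocus N s : Set X))ᶜ := by
  intro x hx
  refine ⟨?_, ?_⟩
  · intro hM
    apply hx
    refine ⟨fun a b => ?_⟩
    obtain ⟨a', rfl⟩ := Groth.Agent.Lib.Helper49.stalkMap_surjective_of_epi (cokernel.π (mulBy M s)) x a
    obtain ⟨b', rfl⟩ := Groth.Agent.Lib.Helper49.stalkMap_surjective_of_epi (cokernel.π (mulBy M s)) x b
    rw [hM.elim a' b']
  · intro hxs
    apply hx
    exact (subsingleton_stalk_cokernel_iff (mulBy M s) x).mpr (stalkMap_mulBy_bijective M s x hxs).2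

end Groth.Agent.Lib.Helper38.MulBySection
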