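import Groth.Agent.Lib.Helper38.TopBasic
import Mathlib.Topology.NoetherianSpace

set_option autoImplicit false
universe u

namespace Groth.Agent.Lib.Helper38

open Set Topology TopologicalSpace

/-- In a Noetherian space, if `x ∈ closure T` then there is an irreducible closed `W ∋ x` such that
`T ∩ W` is dense in `W`. -/
theorem exists_irreducible_closed_dense_of_mem_closure {X : Type*} [TopologicalSpace X]
    [NoetherianSpace X] {T : Set X} {x : X} (hx : x ∈ closure T) :
    ∃ W : Set X, IsClosed W ∧ IsIrreducible W ∧ x ∈ W ∧ W = closure (T ∩ W) := by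
  let P : Set (Closeds X) := {W | x ∈ closure (T ∩ (W : Set X))}
  have hne : P.Nonempty := ⟨⊤, by simpa [P] using hx⟩
  obtain ⟨W, hWP, hmin⟩ := WellFounded.has_min (wellFounded_lt (α := Closeds X)) P hne
  have hxW : x ∈ (W : Set X) :=
    closure_minimal inter_subset_right W.isClosed hWP
  have hWeq : (W : Set X) = closure (T ∩ (W : Set X)) := by
    let W' : Closeds X := ⟨closure (T ∩ (W : Set X)), isClosed_closure⟩
    have hle : W' ≤ W := by
      change closure (T ∩ (W : Set X)) ⊆ W
      exact closure_minimal inter_subset_right W.isClosed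
    have hW'P : W' ∈ P := by
      change x ∈ closure (T ∩ closure (T ∩ (W : Set X)))
      refine closure_mono ?_ hWP
      exact fun y hy => ⟨hy.1, subset_closure hy⟩
    have : ¬ W' < W := hmin W' hW'P
    have heq : W' = W := by
      by_contra hne'
      exact this (lt_of_le_of_ne hle hne')
    exact (congrArg (fun Z : Closeds X => (Z : Set X)) heq).symm
  refine ⟨W, W.isClosed, ⟨⟨x, hxW⟩, ?_⟩, hxW, hWeq⟩
  rw [isPreirreducible_iff_isClosed_union_isClosed]
  intro z₁ z₂ hz₁ hz₂ hcov
  lift z₁ to Closeds X using hz₁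
  lift z₂ to Closeds X using hz₂
  have hsplit : T ∩ (W : Set X) = (T ∩ ((W ⊓ z₁ : Closeds X) : Set X)) ∪
      (T ∩ ((W ⊓ z₂ : Closeds X) : Set X)) := by
    rw [← inter_union_distrib_left]
    congr 1
    simp only [Closeds.coe_inf]
    rw [← inter_union_distrib_left]
    exact (inter_eq_left.mpr hcov).symm
  have hx' : x ∈ closure (T ∩ (W : Set X)) := hWP
  rw [hsplit, closure_union] at hx'
  rcases hx' with h | h
  · left
    have : ¬ (W ⊓ z₁) < W := hmin _ h
    have heq : W ⊓ z₁ = W := by
      by_contra hne'
      exact this (lt_of_le_of_ne inf_le_left hne')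
    have : W ≤ z₁ := inf_eq_left.mp heq
    exact this
  · right
    have : ¬ (W ⊓ z₂) < W := hmin _ h
    have heq : W ⊓ z₂ = W := by
      by_contra hne'
      exact this (lt_of_le_of_ne inf_le_left hne')
    have : W ≤ z₂ := inf_eq_left.mp heq
    exact this

end Groth.Agent.Lib.Helper38
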