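import Mathlib
import Groth.Prelude.Def_CAlg2
import Groth.Agent.Lib.Helper38.NormAff

set_option autoImplicit false

universe u

open AlgebraicGeometry CategoryTheory

namespace Groth.Agent.Lib.Helper38

namespace NormAff

section local2

variable {A B : Type u} [CommRing A] [CommRing B] [IsDomain A] [IsDomain B] [IsIntegrallyClosed B]
  {φ : A →+* B} (hφ : IsFracExt φ) (hφi : φ.IsIntegral) (p : Ideal A) [p.IsPrime]
  (R : Type u) [CommRing R] [IsDomain R] [IsLocalRing R] [Algebra A R] [IsLocalization.AtPrime R p]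

include p hφ hφi in
theorem exists_beta' : ∃ β : B →+* CAlg2.normRed R,
    β.comp φ = (NormRedDom.iota R).comp (algebraMap A R) :=
  NormLocal.exists_beta p hφ hφi (NormRedDom.iota_isFracExt _)

variable {R} {β : B →+* CAlg2.normRed R}
  (hβ : β.comp φ = (NormRedDom.iota R).comp (algebraMap A R))

include hφ hφi hβ in
theorem exists_max_over' (Q : Ideal B) [Q.IsPrime] (hQ : Q.comap φ = p) :
    ∃ m' : Ideal (CAlg2.normRed R), m'.IsMaximal ∧ m'.comap β = Q ∧
      ∀ m'' : Ideal (CAlg2.normRed R), m''.IsMaximal → m''.comap β = Q → m'' = m' := by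
  haveI : IsDomain (Localization.AtPrime Q) :=
    IsLocalization.isDomain_localization Q.primeCompl_le_nonZeroDivisors
  haveI : IsIntegrallyClosed (Localization.AtPrime Q) :=
    isIntegrallyClosed_of_isLocalization _ Q.primeCompl Q.primeCompl_le_nonZeroDivisors
  have hunits : ∀ s : p.primeCompl,
      IsUnit (((algebraMap B (Localization.AtPrime Q)).comp φ) s) := by
    intro s
    have hs : φ s ∈ Q.primeCompl := by
      intro h
      apply s.2
      have h' : (s : A) ∈ Q.comap φ := h
      rw [hQ] at h'
      exact h'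
    exact IsLocalization.map_units (Localization.AtPrime Q) (⟨φ s, hs⟩ : Q.primeCompl)
  have hψ : (IsLocalization.lift (M := p.primeCompl) (S := R) hunits).comp (algebraMap A R) =
      (algebraMap B (Localization.AtPrime Q)).comp φ := IsLocalization.lift_comp hunits
  have hι := NormRedDom.iota_isFracExt R
  have hιi := NormRedDom.iota_isIntegral R
  obtain ⟨χ, hχ⟩ := NormLocal.exists_chi p hφ hι hιi Q hψ
  refine ⟨NormLocal.theta χ, NormLocal.theta_isMaximal p hιi Q hψ hχ hQ,
    NormLocal.comap_beta_theta p hφ hβ Q hψ hχ, ?_⟩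
  intro m'' hm'' hm''Q
  haveI := hm''
  exact (NormLocal.theta_eq_of_comap_eq p hφ hι hιi hβ Q hψ hχ hQ m'' hm''Q).symm

include hφ hφi hβ in
theorem eq_of_isGeomUnibranch' (hgu : CAlg2.IsGeomUnibranch R)
    {K : Type u} [Field K] (g₁ g₂ : B →+* K) (h12 : g₁.comp φ = g₂.comp φ)
    (hp : RingHom.ker (g₁.comp φ) = p) : g₁ = g₂ := by
  haveI hloc : IsLocalRing (CAlg2.normRed R) := hgu.1.2
  have hQ₁ : (RingHom.ker g₁).comap φ = p := by rw [← hp]; rfl
  have hQ₂ : (RingHom.ker g₂).comap φ = p := by rw [← hp, h12]; rfl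
  haveI : (RingHom.ker g₁).IsPrime := RingHom.ker_isPrime g₁
  haveI : (RingHom.ker g₂).IsPrime := RingHom.ker_isPrime g₂
  obtain ⟨m₁, hm₁, hc₁, -⟩ := exists_max_over' hφ hφi p hβ (RingHom.ker g₁) hQ₁
  obtain ⟨m₂, hm₂, hc₂, -⟩ := exists_max_over' hφ hφi p hβ (RingHom.ker g₂) hQ₂
  have hm12 : m₁ = m₂ := by
    rw [IsLocalRing.eq_maximalIdeal hm₁, IsLocalRing.eq_maximalIdeal hm₂]
  subst hm12
  haveI := hm₁
  have hpow := hgu.2 m₁
  refine eq_of_pow_mem (L := CAlg2.normRed R ⧸ m₁) p φ
    (algebraMap A R) (NormRedDom.iota R) β (Ideal.Quotient.mk m₁) hβ ?_ g₁ g₂ h12 ?_ ?_ ?_ hpow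
  · intro r
    obtain ⟨⟨a, s⟩, hs⟩ := IsLocalization.surj p.primeCompl r
    exact ⟨a, s, s.2, hs⟩
  · intro s hs h0
    apply hs
    rw [← hp]
    exact h0
  · intro b
    rw [Ideal.Quotient.eq_zero_iff_mem, ← Ideal.mem_comap, hc₁]
    exact Iff.rfl
  · intro b hb
    rw [Ideal.Quotient.eq_zero_iff_mem, ← Ideal.mem_comap, hc₂] at hb
    exact hb

end local2

section pinsep

theorem eq_of_purelyInseparable {A : Type u} [CommRing A] [IsDomain A] (K L : Type u) [Field K]
    [Field L] [Algebra A K] [IsFractionRing A K] [Algebra K L] [Algebra A L] [IsScalarTower A K L]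
    [IsPurelyInseparable K L]
    (hA : ∀ (p : Ideal A) [p.IsPrime], ∃ (R : Type u) (_ : CommRing R) (_ : IsDomain R)
      (_ : IsLocalRing R) (_ : Algebra A R) (_ : IsLocalization.AtPrime R p),
      CAlg2.IsGeomUnibranch R)
    {K' : Type u} [Field K'] (g₁ g₂ : integralClosure A L →+* K')
    (h12 : g₁.comp (algebraMap A (integralClosure A L)) =
      g₂.comp (algebraMap A (integralClosure A L))) : g₁ = g₂ := by
  haveI : IsIntegrallyClosed (integralClosure A K) :=
    integralClosure.isIntegrallyClosedOfFiniteExtension K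
  have hφ : IsFracExt (algebraMap A (integralClosure A K)) :=
    IsFracExt.of_isFractionRing (K := K) _ (integralClosure A K).val.toRingHom
      (fun x y hxy => Subtype.ext hxy) rfl
  have hφi : (algebraMap A (integralClosure A K)).IsIntegral :=
    algebraMap_isIntegral_iff.mpr inferInstance
  let θ : integralClosure A K →ₐ[A] integralClosure A L :=
    (IsScalarTower.toAlgHom A K L).mapIntegralClosure
  have hθ : ∀ a : A, θ (algebraMap A (integralClosure A K) a) =
      algebraMap A (integralClosure A L) a := fun a => θ.commutes a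
  have h12' : (g₁.comp (θ : integralClosure A K →+* integralClosure A L)).comp
      (algebraMap A (integralClosure A K)) =
      (g₂.comp (θ : integralClosure A K →+* integralClosure A L)).comp
      (algebraMap A (integralClosure A K)) := by
    ext a
    have := congrArg (fun f => f a) h12
    simp only [RingHom.comp_apply] at this ⊢
    show g₁ (θ _) = g₂ (θ _)
    rw [hθ]
    exact this
  haveI hpr : (RingHom.ker ((g₁.comp (θ : integralClosure A K →+* integralClosure A L)).comp
      (algebraMap A (integralClosure A K)))).IsPrime := RingHom.ker_isPrime _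
  obtain ⟨R, _, _, _, _, _, hgu⟩ := hA (RingHom.ker
    ((g₁.comp (θ : integralClosure A K →+* integralClosure A L)).comp
      (algebraMap A (integralClosure A K))))
  obtain ⟨β, hβ⟩ := exists_beta' hφ hφi (RingHom.ker
    ((g₁.comp (θ : integralClosure A K →+* integralClosure A L)).comp
      (algebraMap A (integralClosure A K)))) R
  have hB := eq_of_isGeomUnibranch' hφ hφi _ hβ hgu _ _ h12' rfl
  have hB' : ∀ b : integralClosure A K, g₁ (θ b) = g₂ (θ b) := fun b => by
    have := congrArg (fun f => f b) hB
    exact this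
  obtain ⟨q, hq⟩ := ExpChar.exists K
  ext c
  obtain ⟨n, y, hy⟩ := IsPurelyInseparable.pow_mem K q (c : L)
  have hyint : IsIntegral A y := by
    rw [← isIntegral_algebraMap_iff (algebraMap K L).injective, hy]
    exact c.2.pow _
  have hθb : θ ⟨y, hyint⟩ = c ^ q ^ n := by
    apply Subtype.ext
    exact hy
  have h3 := hB' ⟨y, hyint⟩
  rw [hθb, map_pow, map_pow] at h3
  cases hq with
  | zero =>
    simpa using h3
  | prime hprime =>
    have hinj : Function.Injective (algebraMap A K) := IsFractionRing.injective A K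
    haveI : CharP A q := RingHom.charP (algebraMap A K) hinj q
    have h0 : (q : K') = 0 := by
      have h4 := map_natCast (g₁.comp (algebraMap A (integralClosure A L))) q
      rw [CharP.cast_eq_zero A q, map_zero] at h4
      exact h4.symm
    haveI : CharP K' q := (CharP.charP_iff_prime_eq_zero hprime).mpr h0
    haveI : ExpChar K' q := ExpChar.prime hprime
    exact iterateFrobenius_inj K' q n h3

end pinsep

end NormAff

end Groth.Agent.Lib.Helper38
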