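import Mathlib
import Groth.Prelude.Def_Curv2
import Groth.Prelude.Def_Pi1
import Groth.Agent.Lib.Helper38.NormSch4
import Groth.Agent.Lib.Helper38.NormDesc

set_option autoImplicit false

universe u

open AlgebraicGeometry CategoryTheory TopologicalSpace Opposite

namespace Groth.Agent.Lib.Helper38

namespace NormSch

variable (X : Scheme.{u}) [IsIntegral X]

/-- The stalks of `Z` are domains and the stalk maps of `g : Z ⟶ X` are injective. -/
def IsGenDom {Z : Scheme.{u}} (g : Z ⟶ X) : Prop :=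
  ∀ z : Z, IsDomain (Z.presheaf.stalk z) ∧ Function.Injective (g.stalkMap z).hom

theorem stalkSpecializes_injective {x x' : X} (h : x ⤳ x') :
    Function.Injective (X.presheaf.stalkSpecializes h).hom := by
  have hη : genericPoint X ⤳ x := (genericPoint_spec X).specializes trivial
  have h1 : X.presheaf.stalkSpecializes h ≫ X.presheaf.stalkSpecializes hη =
      X.presheaf.stalkSpecializes (hη.trans h) := TopCat.Presheaf.stalkSpecializes_comp _ _ _
  have h2 : Function.Injective (X.presheaf.stalkSpecializes (hη.trans h)).hom :=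
    IsFractionRing.injective (X.presheaf.stalk x') X.functionField
  rw [← h1] at h2
  exact Function.Injective.of_comp (f := (X.presheaf.stalkSpecializes hη).hom) h2

theorem injective_of_eq_genericPoint (y : X) (hy : y = genericPoint X) {R : Type u} [CommRing R]
    [Nontrivial R] (f : X.presheaf.stalk y →+* R) : Function.Injective f := by
  subst hy
  exact RingHom.injective (R := X.functionField) f

theorem isGenDom_of_normal {Z : Scheme.{u}} (g : Z ⟶ X) (hZ : Pi1.IsNormalScheme Z)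
    (hdom : ∀ z : Z, closure {z} ∈ irreducibleComponents ↥Z → g.base z = genericPoint ↥X) :
    IsGenDom X g := by
  intro z
  refine ⟨(hZ z).1, ?_⟩
  obtain ⟨ξ, hξ⟩ := QuasiSober.sober (isIrreducible_irreducibleComponent (x := z))
    isClosed_irreducibleComponent
  have hcl : closure {ξ} = irreducibleComponent z := hξ.def
  have hgξ : g ξ = genericPoint X :=
    hdom ξ (hcl ▸ irreducibleComponent_mem_irreducibleComponents z)
  have hsp : ξ ⤳ z := by
    rw [specializes_iff_mem_closure, hcl]; exact mem_irreducibleComponent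
  have hnat := Scheme.Hom.stalkSpecializes_stalkMap g ξ z hsp
  have h1 : Function.Injective (X.presheaf.stalkSpecializes (g.base.hom.map_specializes hsp) ≫
      g.stalkMap ξ).hom := by
    haveI : Nontrivial (Z.presheaf.stalk ξ) := by
      haveI := (hZ ξ).1; infer_instance
    exact (injective_of_eq_genericPoint X _ hgξ (g.stalkMap ξ).hom).comp
      (stalkSpecializes_injective X _)
  rw [hnat] at h1
  exact Function.Injective.of_comp (f := (Z.presheaf.stalkSpecializes hsp).hom) h1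

theorem IsGenDom.comp_openImmersion {Z Z' : Scheme.{u}} {g : Z ⟶ X} (hg : IsGenDom X g)
    (j : Z' ⟶ Z) [IsOpenImmersion j] : IsGenDom X (j ≫ g) := by
  intro z'
  obtain ⟨hd, hinj⟩ := hg (j z')
  let i := (asIso (j.stalkMap z')).commRingCatIsoToRingEquiv
  constructor
  · exact i.symm.toMulEquiv.isDomain
  · rw [Scheme.Hom.stalkMap_comp]
    exact i.injective.comp hinj

theorem germ_appLE {Z : Scheme.{u}} (g : Z ⟶ X) {U : X.Opens} {V : Z.Opens}
    (e : V ≤ g ⁻¹ᵁ U) (z : Z) (hz : z ∈ V) (c : Γ(X, U)) :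
    Z.presheaf.germ V z hz ((g.appLE U V e).hom c) =
      (g.stalkMap z).hom (X.presheaf.germ U (g z) (e hz) c) := by
  rw [Scheme.Hom.germ_stalkMap_apply]
  simp only [Scheme.Hom.appLE, CommRingCat.hom_comp, RingHom.coe_comp, Function.comp_apply]
  exact TopCat.Presheaf.germ_res_apply _ _ _ _ _

theorem IsGenDom.germ_appLE_ne_zero {Z : Scheme.{u}} {g : Z ⟶ X} (hg : IsGenDom X g)
    {U : X.Opens} {V : Z.Opens} (e : V ≤ g ⁻¹ᵁ U) (z : Z) (hz : z ∈ V) (c : Γ(X, U))
    (hc : c ≠ 0) : Z.presheaf.germ V z hz ((g.appLE U V e).hom c) ≠ 0 := by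
  rw [germ_appLE]
  intro h0
  have h1 := (hg z).2 (by rw [h0, map_zero] :
    (g.stalkMap z).hom (X.presheaf.germ U (g z) (e hz) c) = (g.stalkMap z).hom 0)
  have h2 := germ_injective_of_isIntegral X (g z) (e hz) (by rw [h1, map_zero] :
    X.presheaf.germ U (g z) (e hz) c = X.presheaf.germ U (g z) (e hz) 0)
  exact hc h2

theorem IsGenDom.nd {Z : Scheme.{u}} {g : Z ⟶ X} (hg : IsGenDom X g) {U : X.Opens}
    {V : Z.Opens} (e : V ≤ g ⁻¹ᵁ U) (c : Γ(X, U)) (hc : c ≠ 0) (t : Γ(Z, V))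
    (ht : t * (g.appLE U V e).hom c = 0) : t = 0 := by
  apply TopCat.Presheaf.section_ext Z.sheaf V
  intro z hz
  change Z.presheaf.germ V z hz t = Z.presheaf.germ V z hz 0
  rw [map_zero]
  haveI := (hg z).1
  have h1 : Z.presheaf.germ V z hz t * Z.presheaf.germ V z hz ((g.appLE U V e).hom c) = 0 := by
    rw [← map_mul, ht, map_zero]
  exact (mul_eq_zero.mp h1).resolve_right (hg.germ_appLE_ne_zero X e z hz c hc)

section desc

variable [QuasiCompact (X.fromSpecStalk (genericPoint X))]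
  [QuasiSeparated (X.fromSpecStalk (genericPoint X))]

theorem div_of_isGenDom {Z : Scheme.{u}} {g : Z ⟶ X} (hZ : Pi1.IsNormalScheme Z)
    (hg : IsGenDom X g) {U : X.Opens} (hU : IsAffineOpen U) {V : Z.Opens} (hV : IsAffineOpen V)
    (e : V ≤ g ⁻¹ᵁ U) (b : Γ(Curv2.normalization X, (Curv2.normalizationι X) ⁻¹ᵁ U))
    (a c : Γ(X, U)) (hc : c ≠ 0)
    (hbc : b * ((Curv2.normalizationι X).app U).hom c = ((Curv2.normalizationι X).app U).hom a)
    (hinj : Function.Injective ((Curv2.normalizationι X).app U).hom) :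
    ∃ c' : Γ(Z, V), c' * (g.appLE U V e).hom c = (g.appLE U V e).hom a := by
  have hb : ((Curv2.normalizationι X).app U).hom.IsIntegralElem b :=
    IsIntegralHom.isIntegral_app (Curv2.normalizationι X) U hU b
  have hmem : (g.appLE U V e).hom a ∈ Ideal.span {(g.appLE U V e).hom c} := by
    rw [hV.mem_ideal_iff]
    intro z hz
    haveI := (hZ z).1
    haveI := (hZ z).2
    obtain ⟨d, hd⟩ := NormDesc.exists_mul_eq ((Curv2.normalizationι X).app U).hom hinj
      ((g.stalkMap z).hom.comp (X.presheaf.germ U (g z) (e hz)).hom) b hb a c hbc (by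
        have := hg.germ_appLE_ne_zero X e z hz c hc
        rw [germ_appLE] at this
        exact this)
    have hd' : d * Z.presheaf.germ V z hz ((g.appLE U V e).hom c) =
        Z.presheaf.germ V z hz ((g.appLE U V e).hom a) := by
      rw [germ_appLE, germ_appLE]; exact hd
    rw [← hd']
    exact Ideal.mul_mem_left _ d (Ideal.mem_map_of_mem _ (Ideal.mem_span_singleton_self _))
  obtain ⟨c', hc'⟩ := Ideal.mem_span_singleton'.mp hmem
  exact ⟨c', hc'⟩

/-- Uniqueness of lifts through the normalization. -/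
theorem hom_ext_of_isGenDom {Z : Scheme.{u}} {g : Z ⟶ X} (hg : IsGenDom X g)
    (h₁ h₂ : Z ⟶ Curv2.normalization X) (e₁ : h₁ ≫ Curv2.normalizationι X = g)
    (e₂ : h₂ ≫ Curv2.normalizationι X = g) : h₁ = h₂ := by
  apply Scheme.hom_ext_of_forall
  intro z
  obtain ⟨U, hU, hzU⟩ := exists_affine X (g z)
  obtain ⟨_, ⟨V, hV, rfl⟩, hzV, hVU⟩ :=
    Z.isBasis_affineOpens.exists_subset_of_mem_open (show z ∈ g ⁻¹ᵁ U from hzU) (g ⁻¹ᵁ U).isOpen
  refine ⟨V, hzV, ?_⟩
  change Scheme.Opens.ι V ≫ h₁ = Scheme.Opens.ι V ≫ h₂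
  have hη : genericPoint X ∈ U := genericPoint_mem X ⟨_, hzU⟩
  haveI : Nonempty U := ⟨⟨_, hη⟩⟩
  have hW : IsAffineOpen ((Curv2.normalizationι X) ⁻¹ᵁ U) := hU.preimage (Curv2.normalizationι X)
  have hfe := (app_props X hU hη).2
  have k₁ : V ≤ h₁ ⁻¹ᵁ ((Curv2.normalizationι X) ⁻¹ᵁ U) := by
    rw [← Scheme.Hom.comp_preimage, e₁]; exact hVU
  have k₂ : V ≤ h₂ ⁻¹ᵁ ((Curv2.normalizationι X) ⁻¹ᵁ U) := by
    rw [← Scheme.Hom.comp_preimage, e₂]; exact hVU
  have c₁ : (h₁.appLE _ V k₁).hom.comp ((Curv2.normalizationι X).app U).hom =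
      (g.appLE U V hVU).hom := by
    subst e₁
    rw [Scheme.Hom.comp_appLE]; rfl
  have c₂ : (h₂.appLE _ V k₂).hom.comp ((Curv2.normalizationι X).app U).hom =
      (g.appLE U V hVU).hom := by
    subst e₂
    rw [Scheme.Hom.comp_appLE]; rfl
  have hχ : (h₁.appLE _ V k₁).hom = (h₂.appLE _ V k₂).hom :=
    NormDesc.ringHom_ext hfe (g.appLE U V hVU).hom (fun c hc t ht => hg.nd X hVU c hc t ht)
      _ _ c₁ c₂
  have hχ' : h₁.appLE _ V k₁ = h₂.appLE _ V k₂ := CommRingCat.hom_ext hχ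
  have s₁ := IsAffineOpen.SpecMap_appLE_fromSpec h₁ hW hV k₁
  have s₂ := IsAffineOpen.SpecMap_appLE_fromSpec h₂ hW hV k₂
  rw [hχ'] at s₁
  have s₃ : hV.fromSpec ≫ h₁ = hV.fromSpec ≫ h₂ := s₁.symm.trans s₂
  have s₄ : Scheme.Opens.ι V = hV.isoSpec.hom ≫ hV.fromSpec := by
    rw [← hV.isoSpec_inv_ι, Iso.hom_inv_id_assoc]
  rw [s₄, Category.assoc, Category.assoc, s₃]

/-- Local existence of lifts through the normalization. -/
theorem exists_lift_affine {Z : Scheme.{u}} {g : Z ⟶ X} (hZ : Pi1.IsNormalScheme Z)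
    (hg : IsGenDom X g) {U : X.Opens} (hU : IsAffineOpen U) {V : Z.Opens} (hV : IsAffineOpen V)
    (e : V ≤ g ⁻¹ᵁ U) (hne : (V : Set Z).Nonempty) :
    ∃ h : V.toScheme ⟶ Curv2.normalization X, h ≫ Curv2.normalizationι X = V.ι ≫ g := by
  obtain ⟨z, hz⟩ := hne
  have hη : genericPoint X ∈ U := genericPoint_mem X ⟨g z, e hz⟩
  haveI : Nonempty U := ⟨⟨_, hη⟩⟩
  have hW : IsAffineOpen ((Curv2.normalizationι X) ⁻¹ᵁ U) := hU.preimage (Curv2.normalizationι X)
  have hfe := (app_props X hU hη).2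
  obtain ⟨χ, hχ⟩ := NormDesc.exists_ringHom hfe (g.appLE U V e).hom
    (fun c hc t ht => hg.nd X e c hc t ht)
    (fun b a c hc hbc => div_of_isGenDom X hZ hg hU hV e b a c hc hbc hfe.inj)
  refine ⟨hV.isoSpec.hom ≫ Spec.map (CommRingCat.ofHom χ) ≫ hW.fromSpec, ?_⟩
  have s₁ := IsAffineOpen.SpecMap_appLE_fromSpec (Curv2.normalizationι X) hU hW le_rfl
  have s₂ := IsAffineOpen.SpecMap_appLE_fromSpec g hU hV e
  have s₃ : (Curv2.normalizationι X).appLE U _ le_rfl ≫ CommRingCat.ofHom χ = g.appLE U V e := by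
    rw [Scheme.Hom.appLE_eq_app]
    exact CommRingCat.hom_ext hχ
  have s₄ : V.ι = hV.isoSpec.hom ≫ hV.fromSpec := by
    rw [← hV.isoSpec_inv_ι, Iso.hom_inv_id_assoc]
  simp only [Category.assoc]
  rw [← s₁, ← Spec.map_comp_assoc, s₃, s₂, s₄, Category.assoc]

/-- **Universal property of the normalization**: a morphism from a normal scheme all of whose
irreducible components dominate `X` factors uniquely through the normalization. -/
theorem existsUnique_lift {Z : Scheme.{u}} (g : Z ⟶ X) (hZ : Pi1.IsNormalScheme Z)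
    (hdom : ∀ z : Z, closure {z} ∈ irreducibleComponents ↥Z → g.base z = genericPoint ↥X) :
    ∃! h : Z ⟶ Curv2.normalization X, h ≫ Curv2.normalizationι X = g := by
  have hg := isGenDom_of_normal X g hZ hdom
  have hex : ∀ z : Z, ∃ (U : X.Opens) (V : Z.Opens), IsAffineOpen U ∧ IsAffineOpen V ∧ z ∈ V ∧
      V ≤ g ⁻¹ᵁ U := by
    intro z
    obtain ⟨U, hU, hzU⟩ := exists_affine X (g z)
    obtain ⟨_, ⟨V, hV, rfl⟩, hzV, hVU⟩ :=
      Z.isBasis_affineOpens.exists_subset_of_mem_open (show z ∈ g ⁻¹ᵁ U from hzU)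
        (g ⁻¹ᵁ U).isOpen
    exact ⟨U, V, hU, hV, hzV, hVU⟩
  choose U V hU hV hzV hVU using hex
  let 𝒰 : Z.OpenCover := Z.openCoverOfIsOpenCover V
    (eq_top_iff.mpr fun z _ => Opens.mem_iSup.mpr ⟨z, hzV z⟩)
  have hloc : ∀ z, ∃ h : (V z).toScheme ⟶ Curv2.normalization X,
      h ≫ Curv2.normalizationι X = (V z).ι ≫ g :=
    fun z => exists_lift_affine X hZ hg (hU z) (hV z) (hVU z) ⟨z, hzV z⟩
  choose hl hhl using hloc
  have hcompat : ∀ x y : 𝒰.I₀, Limits.pullback.fst (𝒰.f x) (𝒰.f y) ≫ hl x =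
      Limits.pullback.snd (𝒰.f x) (𝒰.f y) ≫ hl y := by
    intro x y
    have hg' : IsGenDom X ((Limits.pullback.fst (𝒰.f x) (𝒰.f y) ≫ 𝒰.f x) ≫ g) :=
      hg.comp_openImmersion X _
    refine hom_ext_of_isGenDom X hg' _ _ ?_ ?_
    · rw [Category.assoc, Category.assoc]
      exact congrArg (Limits.pullback.fst (𝒰.f x) (𝒰.f y) ≫ ·) (hhl x)
    · rw [Limits.pullback.condition, Category.assoc, Category.assoc]
      exact congrArg (Limits.pullback.snd (𝒰.f x) (𝒰.f y) ≫ ·) (hhl y)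
  refine ⟨𝒰.glueMorphisms hl hcompat, ?_, ?_⟩
  · apply 𝒰.hom_ext
    intro z
    rw [← Category.assoc, 𝒰.ι_glueMorphisms]; exact hhl z
  · intro h' hh'
    refine hom_ext_of_isGenDom X hg _ _ hh' ?_
    apply 𝒰.hom_ext
    intro z
    rw [← Category.assoc, 𝒰.ι_glueMorphisms]; exact hhl z

end desc

end NormSch

end Groth.Agent.Lib.Helper38
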