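import Mathlib
import Groth.Prelude.Def_Curv2
import Groth.Prelude.Def_Pi1
import Groth.Agent.Lib.Helper38.NormL

/-!
# The normalization of an integral scheme in a field extension of its function field, II

Normality, finiteness criterion and local dimension.
-/

set_option autoImplicit false

universe u

open AlgebraicGeometry CategoryTheory TopologicalSpace Opposite

namespace Groth.Agent.Lib.Helper38

/-- For an injective integral ring map of domains, a prime whose contraction has height one has
height one. -/
theorem height_eq_one_of_isIntegral {A B : Type*} [CommRing A] [CommRing B] [IsDomain A]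
    [IsDomain B] (φ : A →+* B) (hφ : φ.IsIntegral) (hinj : Function.Injective φ) (q : Ideal B)
    [q.IsPrime] (h : (q.comap φ).height = 1) : q.height = 1 := by
  letI := φ.toAlgebra
  haveI : Algebra.IsIntegral A B := ⟨hφ⟩
  have hmono : StrictMono (PrimeSpectrum.comap (algebraMap A B)) := by
    intro p q hpq
    have : p.asIdeal < q.asIdeal := hpq
    exact Ideal.IsIntegral.comap_lt_comap (R := A) this
  have hle : q.height ≤ (q.comap φ).height := by
    have h1 := PrimeSpectrum.height_eq_orderHeight (⟨q, inferInstance⟩ : PrimeSpectrum B)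
    have h2 := PrimeSpectrum.height_eq_orderHeight
      (PrimeSpectrum.comap (algebraMap A B) (⟨q, inferInstance⟩ : PrimeSpectrum B))
    have h3 := Order.height_le_height_apply_of_strictMono _ hmono
      (⟨q, inferInstance⟩ : PrimeSpectrum B)
    rw [← h1, ← h2] at h3
    exact h3
  have hne : q.height ≠ 0 := by
    intro h0
    rw [Ideal.height_eq_zero_iff_eq_bot] at h0
    subst h0
    have h1 : (⊥ : Ideal B).comap φ = ⊥ := by
      rw [← RingHom.ker_eq_comap_bot, (RingHom.injective_iff_ker_eq_bot _).mp hinj]
    rw [h1, Ideal.height_bot] at h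
    exact zero_ne_one h
  rw [h] at hle
  exact le_antisymm hle (Order.one_le_iff_ne_zero.mpr hne)

namespace NormL

variable (X : Scheme.{u}) [IsIntegral X] (L : Type u) [Field L] [Algebra X.functionField L]
  [QuasiCompact (fL X L)] [QuasiSeparated (fL X L)]

omit [IsIntegral X] in
theorem exists_affine (x : X) : ∃ U : X.Opens, IsAffineOpen U ∧ x ∈ U := by
  obtain ⟨_, ⟨U, hU, rfl⟩, hxU, -⟩ :=
    X.isBasis_affineOpens.exists_subset_of_mem_open (Set.mem_univ x) isOpen_univ
  exact ⟨U, hU, hxU⟩

theorem isIntegrallyClosed_app {U : X.Opens} (hU : IsAffineOpen U) [Nonempty U] :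
    IsIntegrallyClosed Γ((fL X L).normalization, (fL X L).fromNormalization ⁻¹ᵁ U) := by
  letI algL : Algebra Γ(X, U) L :=
    ((algebraMap X.functionField L).comp (algebraMap Γ(X, U) X.functionField)).toAlgebra
  obtain ⟨e, -⟩ := exists_app_equiv X L hU
  haveI : IsIntegrallyClosed (integralClosure Γ(X, U) L) := .of_isIntegrallyClosedIn _ L
  exact IsIntegrallyClosed.of_equiv e.symm

theorem injective_app {U : X.Opens} (hU : IsAffineOpen U) [Nonempty U] :
    Function.Injective ((fL X L).fromNormalization.app U).hom := by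
  letI algL : Algebra Γ(X, U) L :=
    ((algebraMap X.functionField L).comp (algebraMap Γ(X, U) X.functionField)).toAlgebra
  obtain ⟨e, he⟩ := exists_app_equiv X L hU
  haveI := functionField_isFractionRing_of_isAffineOpen X U hU
  intro a b hab
  have h1 : algebraMap Γ(X, U) (integralClosure Γ(X, U) L) a =
      algebraMap Γ(X, U) (integralClosure Γ(X, U) L) b := by
    rw [← he a, ← he b, hab]
  have h2 : algebraMap Γ(X, U) L a = algebraMap Γ(X, U) L b :=
    congrArg (fun z : integralClosure Γ(X, U) L => (z : L)) h1
  exact IsFractionRing.injective Γ(X, U) X.functionField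
    ((algebraMap X.functionField L).injective h2)

/-- The normalization of an integral scheme in a field is a normal scheme. -/
theorem isNormalScheme : Pi1.IsNormalScheme (fL X L).normalization := by
  intro y
  refine ⟨inferInstance, ?_⟩
  obtain ⟨U, hU, hyU⟩ := exists_affine X ((fL X L).fromNormalization y)
  have hW : IsAffineOpen ((fL X L).fromNormalization ⁻¹ᵁ U) := hU.preimage (fL X L).fromNormalization
  have hyW : y ∈ (fL X L).fromNormalization ⁻¹ᵁ U := hyU
  haveI : Nonempty U := ⟨⟨_, hyU⟩⟩
  haveI : Nonempty ((fL X L).fromNormalization ⁻¹ᵁ U : (fL X L).normalization.Opens) := ⟨⟨y, hyW⟩⟩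
  haveI := isIntegrallyClosed_app X L hU
  letI : Algebra Γ((fL X L).normalization, (fL X L).fromNormalization ⁻¹ᵁ U)
      ((fL X L).normalization.presheaf.stalk y) :=
    TopCat.Presheaf.algebra_section_stalk (fL X L).normalization.presheaf ⟨y, hyW⟩
  haveI : IsLocalization.AtPrime ((fL X L).normalization.presheaf.stalk y)
      (hW.primeIdealOf ⟨y, hyW⟩).asIdeal := hW.isLocalization_stalk ⟨y, hyW⟩
  exact isIntegrallyClosed_of_isLocalization _ (hW.primeIdealOf ⟨y, hyW⟩).asIdeal.primeCompl
    (Ideal.primeCompl_le_nonZeroDivisors _)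

/-- Finiteness criterion. -/
theorem isFinite_of_finite
    (h : ∀ (U : X.Opens), IsAffineOpen U → ∀ [Nonempty U],
      letI := ((algebraMap X.functionField L).comp (algebraMap Γ(X, U) X.functionField)).toAlgebra
      Module.Finite Γ(X, U) (integralClosure Γ(X, U) L)) :
    IsFinite (fL X L).fromNormalization := by
  refine { toIsAffineHom := inferInstance, finite_app := fun U hU => ?_ }
  by_cases hne : Nonempty U
  · haveI := hne
    letI algL : Algebra Γ(X, U) L :=
      ((algebraMap X.functionField L).comp (algebraMap Γ(X, U) X.functionField)).toAlgebra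
    obtain ⟨e, he⟩ := exists_app_equiv X L hU
    have hfin : Module.Finite Γ(X, U) (integralClosure Γ(X, U) L) := h U hU
    have hfin' : (algebraMap Γ(X, U) (integralClosure Γ(X, U) L)).Finite := hfin
    have h3 : ((fL X L).fromNormalization.app U).hom =
        (e.symm : _ →+* _).comp (algebraMap Γ(X, U) (integralClosure Γ(X, U) L)) := by
      ext a
      simp only [RingHom.comp_apply]
      rw [← he a]
      simp
    rw [h3]
    exact (RingHom.Finite.of_surjective _ e.symm.surjective).comp hfin'
  · have hbot : U = ⊥ := by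
      ext x
      simp only [TopologicalSpace.Opens.coe_bot, Set.mem_empty_iff_false, iff_false]
      exact fun hx => hne ⟨⟨x, hx⟩⟩
    subst hbot
    have h2 : Subsingleton Γ((fL X L).normalization,
        (fL X L).fromNormalization ⁻¹ᵁ ⊥) := by
      have : (fL X L).fromNormalization ⁻¹ᵁ (⊥ : X.Opens) = ⊥ := rfl
      rw [this]; infer_instance
    exact RingHom.Finite.of_surjective _ (fun b => ⟨0, Subsingleton.elim _ _⟩)

/-- Local rings of dimension one lift to local rings of dimension one. -/
theorem ringKrullDim_stalk_eq_one (y : (fL X L).normalization)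
    (h1 : ringKrullDim (X.presheaf.stalk ((fL X L).fromNormalization y)) = 1) :
    ringKrullDim ((fL X L).normalization.presheaf.stalk y) = 1 := by
  obtain ⟨U, hU, hyU⟩ := exists_affine X ((fL X L).fromNormalization y)
  have hW : IsAffineOpen ((fL X L).fromNormalization ⁻¹ᵁ U) := hU.preimage (fL X L).fromNormalization
  have hyW : y ∈ (fL X L).fromNormalization ⁻¹ᵁ U := hyU
  haveI : Nonempty U := ⟨⟨_, hyU⟩⟩
  haveI : Nonempty ((fL X L).fromNormalization ⁻¹ᵁ U : (fL X L).normalization.Opens) := ⟨⟨y, hyW⟩⟩
  letI : Algebra Γ((fL X L).normalization, (fL X L).fromNormalization ⁻¹ᵁ U)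
      ((fL X L).normalization.presheaf.stalk y) :=
    TopCat.Presheaf.algebra_section_stalk (fL X L).normalization.presheaf ⟨y, hyW⟩
  haveI : IsLocalization.AtPrime ((fL X L).normalization.presheaf.stalk y)
      (hW.primeIdealOf ⟨y, hyW⟩).asIdeal := hW.isLocalization_stalk ⟨y, hyW⟩
  letI : Algebra Γ(X, U) (X.presheaf.stalk ((fL X L).fromNormalization y)) :=
    TopCat.Presheaf.algebra_section_stalk X.presheaf ⟨_, hyU⟩
  haveI : IsLocalization.AtPrime (X.presheaf.stalk ((fL X L).fromNormalization y))
      (hU.primeIdealOf ⟨_, hyU⟩).asIdeal := hU.isLocalization_stalk ⟨_, hyU⟩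
  rw [IsLocalization.AtPrime.ringKrullDim_eq_height (hW.primeIdealOf ⟨y, hyW⟩).asIdeal]
  rw [IsLocalization.AtPrime.ringKrullDim_eq_height (hU.primeIdealOf ⟨_, hyU⟩).asIdeal] at h1
  have h2 : (hU.primeIdealOf ⟨_, hyU⟩).asIdeal.height = 1 := by exact_mod_cast h1
  have hcomap : (hW.primeIdealOf ⟨y, hyW⟩).asIdeal.comap ((fL X L).fromNormalization.app U).hom =
      (hU.primeIdealOf ⟨_, hyU⟩).asIdeal := by
    have h3 := IsAffineOpen.comap_primeIdealOf_appLE (f := (fL X L).fromNormalization) U hU
      ((fL X L).fromNormalization ⁻¹ᵁ U) hW le_rfl (x := y) hyW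
    rw [← Scheme.Hom.app_eq_appLE] at h3
    exact congrArg PrimeSpectrum.asIdeal h3
  have h4 := height_eq_one_of_isIntegral ((fL X L).fromNormalization.app U).hom
    (IsIntegralHom.isIntegral_app (fL X L).fromNormalization U hU) (injective_app X L hU)
    (hW.primeIdealOf ⟨y, hyW⟩).asIdeal (by rw [hcomap]; exact h2)
  rw [h4]
  rfl

end NormL

end Groth.Agent.Lib.Helper38
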