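import Mathlib
import Groth.Prelude.Def_Curv2
import Groth.Prelude.Def_Pi1
import Groth.Agent.Lib.Helper38.NormL2

/-!
# The normalization of an integral scheme in a field extension of its function field, III

The generic point and the function field of the normalization.
-/

set_option autoImplicit false

universe u

open AlgebraicGeometry CategoryTheory TopologicalSpace Opposite

namespace Groth.Agent.Lib.Helper38

namespace NormL

variable (X : Scheme.{u}) [IsIntegral X] (L : Type u) [Field L] [Algebra X.functionField L]
  [QuasiCompact (fL X L)] [QuasiSeparated (fL X L)]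

/-- Refined version of `exists_app_equiv`, recording the compatibility with `toNormalization`. -/
theorem exists_app_equiv' {U : X.Opens} (hU : IsAffineOpen U) [Nonempty U]
    (hη : genericPoint X ∈ U)
    (hle : (fL X L) ⁻¹ᵁ U ≤ (fL X L).toNormalization ⁻¹ᵁ ((fL X L).fromNormalization ⁻¹ᵁ U)) :
    letI := ((algebraMap X.functionField L).comp (algebraMap Γ(X, U) X.functionField)).toAlgebra
    ∃ e : Γ((fL X L).normalization, (fL X L).fromNormalization ⁻¹ᵁ U) ≃+*
        integralClosure Γ(X, U) L,
      (∀ a : Γ(X, U), e (((fL X L).fromNormalization.app U).hom a) =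
        algebraMap Γ(X, U) (integralClosure Γ(X, U) L) a) ∧
      ∀ b, ((e b : integralClosure Γ(X, U) L) : L) =
        (rho X L hη).hom (((fL X L).toNormalization.appLE ((fL X L).fromNormalization ⁻¹ᵁ U)
          ((fL X L) ⁻¹ᵁ U) hle).hom b) := by
  letI algL : Algebra Γ(X, U) L :=
    ((algebraMap X.functionField L).comp (algebraMap Γ(X, U) X.functionField)).toAlgebra
  letI := ((fL X L).app U).hom.toAlgebra
  let e0 : Γ(Spec (CommRingCat.of L), (fL X L) ⁻¹ᵁ U) ≃+* L :=
    (asIso (rho X L hη)).commRingCatIsoToRingEquiv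
  have he0 : ∀ a : Γ(X, U), e0 (algebraMap Γ(X, U) _ a) = algebraMap Γ(X, U) L a := by
    intro a
    have := congr($(app_rho X L hη) a)
    exact this
  let e1 : Γ(Spec (CommRingCat.of L), (fL X L) ⁻¹ᵁ U) ≃ₐ[Γ(X, U)] L := AlgEquiv.ofRingEquiv he0
  let i := (fL X L).normalizationObjIso hU
  have h3 : ((fL X L).fromNormalization.app U).hom =
      (i.symm.commRingCatIsoToRingEquiv.toRingHom).comp (algebraMap Γ(X, U) _) :=
    congrArg CommRingCat.Hom.hom ((fL X L).fromNormalization_app hU)
  refine ⟨i.commRingCatIsoToRingEquiv.trans e1.mapIntegralClosure.toRingEquiv, ?_, ?_⟩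
  · intro a
    rw [h3]
    simp only [RingHom.comp_apply, RingEquiv.trans_apply]
    have h4 : i.commRingCatIsoToRingEquiv ((i.symm.commRingCatIsoToRingEquiv.toRingHom)
        (algebraMap Γ(X, U) _ a)) = algebraMap Γ(X, U) _ a := by
      show i.hom.hom (i.inv.hom _) = _
      rw [← CommRingCat.comp_apply, Iso.inv_hom_id]
      rfl
    rw [h4]
    exact e1.mapIntegralClosure.commutes a
  · intro b
    have h5 := congr($((fL X L).normalizationObjIso_hom_val hU) b)
    show (rho X L hη).hom ((i.hom.hom b : integralClosure Γ(X, U)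
      Γ(Spec (CommRingCat.of L), (fL X L) ⁻¹ᵁ U)) : Γ(Spec (CommRingCat.of L), (fL X L) ⁻¹ᵁ U)) = _
    congr 1

omit [QuasiCompact (fL X L)] [QuasiSeparated (fL X L)] in
theorem fL_closedPoint : (fL X L) (IsLocalRing.closedPoint L) = genericPoint X := by
  have h1 : (Spec.map (CommRingCat.ofHom (algebraMap X.functionField L)))
      (IsLocalRing.closedPoint L) = IsLocalRing.closedPoint (X.presheaf.stalk (genericPoint X)) :=
    Subsingleton.elim (α := PrimeSpectrum X.functionField) _ _
  rw [Scheme.Hom.comp_apply, h1]
  exact Scheme.fromSpecStalk_closedPoint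

theorem fromNormalization_toNormalization_closedPoint :
    (fL X L).fromNormalization ((fL X L).toNormalization (IsLocalRing.closedPoint L)) =
      genericPoint X := by
  rw [← Scheme.Hom.comp_apply, Scheme.Hom.toNormalization_fromNormalization]
  exact fL_closedPoint X L

/-- The only point of the normalization over the generic point is the generic point. -/
theorem eq_genericPoint_of_map_eq (y : (fL X L).normalization)
    (hy : (fL X L).fromNormalization y = genericPoint X) :
    y = genericPoint (fL X L).normalization := by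
  obtain ⟨U, hU, hxU⟩ := exists_affine X ((fL X L).fromNormalization y)
  have hη : genericPoint X ∈ U := hy ▸ hxU
  have hW : IsAffineOpen ((fL X L).fromNormalization ⁻¹ᵁ U) := hU.preimage (fL X L).fromNormalization
  have hyW : y ∈ (fL X L).fromNormalization ⁻¹ᵁ U := hxU
  haveI : Nonempty U := ⟨⟨_, hη⟩⟩
  haveI : Nonempty ((fL X L).fromNormalization ⁻¹ᵁ U : (fL X L).normalization.Opens) :=
    ⟨⟨y, hyW⟩⟩
  have hgW : genericPoint (fL X L).normalization ∈ (fL X L).fromNormalization ⁻¹ᵁ U :=
    ((genericPoint_spec (fL X L).normalization).mem_open_set_iff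
      ((fL X L).fromNormalization ⁻¹ᵁ U).isOpen).mpr ⟨y, Set.mem_univ _, hyW⟩
  have h1 := IsAffineOpen.comap_primeIdealOf_appLE (f := (fL X L).fromNormalization) U hU
    ((fL X L).fromNormalization ⁻¹ᵁ U) hW le_rfl (x := y) hyW
  have h2 : (⟨(fL X L).fromNormalization y, hyW⟩ : U) = ⟨genericPoint X, hη⟩ := Subtype.ext hy
  rw [h2, hU.primeIdealOf_genericPoint, genericPoint_eq_bot_of_affine,
    ← Scheme.Hom.app_eq_appLE] at h1
  have h3 : (hW.primeIdealOf ⟨y, hyW⟩).asIdeal = ⊥ := by
    letI := ((fL X L).fromNormalization.app U).hom.toAlgebra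
    haveI : Algebra.IsIntegral Γ(X, U) Γ((fL X L).normalization, (fL X L).fromNormalization ⁻¹ᵁ U) :=
      ⟨IsIntegralHom.isIntegral_app (fL X L).fromNormalization U hU⟩
    exact Ideal.eq_bot_of_comap_eq_bot (R := Γ(X, U)) (congrArg PrimeSpectrum.asIdeal h1)
  have h4 : hW.primeIdealOf ⟨y, hyW⟩ = hW.primeIdealOf ⟨genericPoint _, hgW⟩ := by
    rw [hW.primeIdealOf_genericPoint, genericPoint_eq_bot_of_affine]
    exact PrimeSpectrum.ext h3
  have h5 := hW.fromSpec_primeIdealOf ⟨y, hyW⟩
  have h6 := hW.fromSpec_primeIdealOf ⟨genericPoint _, hgW⟩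
  rw [h4] at h5
  exact h5.symm.trans h6

theorem toNormalization_closedPoint :
    (fL X L).toNormalization (IsLocalRing.closedPoint L) = genericPoint (fL X L).normalization :=
  eq_genericPoint_of_map_eq X L _ (fromNormalization_toNormalization_closedPoint X L)

theorem map_genericPoint :
    (fL X L).fromNormalization (genericPoint (fL X L).normalization) = genericPoint X := by
  rw [← toNormalization_closedPoint X L]
  exact fromNormalization_toNormalization_closedPoint X L

theorem preimage_genericPoint :
    (fL X L).fromNormalization.base ⁻¹' {genericPoint X} = {genericPoint (fL X L).normalization} := by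
  ext y
  simp only [Set.mem_preimage, Set.mem_singleton_iff]
  constructor
  · exact eq_genericPoint_of_map_eq X L y
  · rintro rfl
    exact map_genericPoint X L

/-- Compatibility of `stalkClosedPointTo` with sections over the preimage of an affine open. -/
theorem stalkClosedPointTo_germ {U : X.Opens} (hη : genericPoint X ∈ U)
    (hy : (fL X L).toNormalization (IsLocalRing.closedPoint L) ∈ (fL X L).fromNormalization ⁻¹ᵁ U)
    (hle : (fL X L) ⁻¹ᵁ U ≤ (fL X L).toNormalization ⁻¹ᵁ ((fL X L).fromNormalization ⁻¹ᵁ U))
    (b : Γ((fL X L).normalization, (fL X L).fromNormalization ⁻¹ᵁ U)) :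
    (Scheme.stalkClosedPointTo (fL X L).toNormalization).hom
        ((fL X L).normalization.presheaf.germ ((fL X L).fromNormalization ⁻¹ᵁ U) _ hy b) =
      (rho X L hη).hom (((fL X L).toNormalization.appLE ((fL X L).fromNormalization ⁻¹ᵁ U)
          ((fL X L) ⁻¹ᵁ U) hle).hom b) := by
  have h1 := congr($(Scheme.germ_stalkClosedPointTo (fL X L).toNormalization
    ((fL X L).fromNormalization ⁻¹ᵁ U) hy) b)
  refine h1.trans ?_
  unfold rho Scheme.Hom.appLE
  simp only [Iso.trans_hom, Functor.mapIso_hom, Iso.op_hom, eqToIso.hom, CommRingCat.hom_comp,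
    RingHom.comp_apply]
  congr 1

/-- The local ring of the normalization at the image of the point of `Spec L` embeds into `L`, with
image the algebraic closure of the function field of `X` in `L`. -/
theorem stalkClosedPointTo_props :
    Function.Injective (Scheme.stalkClosedPointTo (fL X L).toNormalization).hom ∧
      Set.range (Scheme.stalkClosedPointTo (fL X L).toNormalization).hom =
        {y : L | IsIntegral X.functionField y} := by
  obtain ⟨U, hU, hηU⟩ := exists_affine X (genericPoint X)
  haveI : Nonempty U := ⟨⟨_, hηU⟩⟩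
  have hy0 := fromNormalization_toNormalization_closedPoint X L
  have hy : (fL X L).toNormalization (IsLocalRing.closedPoint L) ∈
      (fL X L).fromNormalization ⁻¹ᵁ U := by
    show (fL X L).fromNormalization _ ∈ U
    rw [hy0]; exact hηU
  have hW : IsAffineOpen ((fL X L).fromNormalization ⁻¹ᵁ U) := hU.preimage (fL X L).fromNormalization
  have hle : (fL X L) ⁻¹ᵁ U ≤ (fL X L).toNormalization ⁻¹ᵁ ((fL X L).fromNormalization ⁻¹ᵁ U) := by
    rw [← Scheme.Hom.comp_preimage, Scheme.Hom.toNormalization_fromNormalization]
  haveI : Nonempty ((fL X L).fromNormalization ⁻¹ᵁ U : (fL X L).normalization.Opens) := ⟨⟨_, hy⟩⟩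
  letI algL : Algebra Γ(X, U) L :=
    ((algebraMap X.functionField L).comp (algebraMap Γ(X, U) X.functionField)).toAlgebra
  haveI : IsScalarTower Γ(X, U) X.functionField L := IsScalarTower.of_algebraMap_eq' rfl
  haveI := functionField_isFractionRing_of_isAffineOpen X U hU
  obtain ⟨e, he1, he2⟩ := exists_app_equiv' X L hU hηU hle
  set σ := (Scheme.stalkClosedPointTo (fL X L).toNormalization).hom with hσdef
  letI alg : Algebra Γ((fL X L).normalization, (fL X L).fromNormalization ⁻¹ᵁ U)
      ((fL X L).normalization.presheaf.stalk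
        ((fL X L).toNormalization (IsLocalRing.closedPoint L))) :=
    TopCat.Presheaf.algebra_section_stalk (fL X L).normalization.presheaf ⟨_, hy⟩
  haveI hloc : IsLocalization.AtPrime ((fL X L).normalization.presheaf.stalk
      ((fL X L).toNormalization (IsLocalRing.closedPoint L)))
      (hW.primeIdealOf ⟨_, hy⟩).asIdeal := hW.isLocalization_stalk ⟨_, hy⟩
  have hσ : ∀ b, σ (algebraMap Γ((fL X L).normalization, (fL X L).fromNormalization ⁻¹ᵁ U) _ b) =
      ((e b : integralClosure Γ(X, U) L) : L) := by
    intro b
    rw [he2 b]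
    exact stalkClosedPointTo_germ X L hηU hy hle b
  have hq : (hW.primeIdealOf ⟨_, hy⟩).asIdeal.comap ((fL X L).fromNormalization.app U).hom = ⊥ := by
    have h1 := IsAffineOpen.comap_primeIdealOf_appLE (f := (fL X L).fromNormalization) U hU
      ((fL X L).fromNormalization ⁻¹ᵁ U) hW le_rfl
      (x := (fL X L).toNormalization (IsLocalRing.closedPoint L)) hy
    have h2 : (⟨(fL X L).fromNormalization ((fL X L).toNormalization (IsLocalRing.closedPoint L)),
        hy⟩ : U) = ⟨genericPoint X, hηU⟩ := Subtype.ext hy0
    rw [h2, hU.primeIdealOf_genericPoint, genericPoint_eq_bot_of_affine,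
      ← Scheme.Hom.app_eq_appLE] at h1
    exact congrArg PrimeSpectrum.asIdeal h1
  have hinjAL : Function.Injective (algebraMap Γ(X, U) L) :=
    (algebraMap X.functionField L).injective.comp (IsFractionRing.injective Γ(X, U) X.functionField)
  constructor
  · rw [injective_iff_map_eq_zero]
    intro s hs
    obtain ⟨⟨b, c⟩, hbc⟩ := IsLocalization.surj (hW.primeIdealOf ⟨_, hy⟩).asIdeal.primeCompl s
    have h1 := congrArg σ hbc
    rw [map_mul, hs, zero_mul, hσ] at h1
    have h2 : e b = 0 := Subtype.ext h1.symm
    have h3 : b = 0 := by simpa using h2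
    rw [h3, map_zero] at hbc
    exact (IsLocalization.map_units _ c).mul_left_eq_zero.mp hbc
  · ext y
    simp only [Set.mem_range, Set.mem_setOf_eq]
    constructor
    · rintro ⟨s, rfl⟩
      obtain ⟨⟨b, c⟩, hbc⟩ := IsLocalization.surj (hW.primeIdealOf ⟨_, hy⟩).asIdeal.primeCompl s
      have h1 := congrArg σ hbc
      rw [map_mul, hσ, hσ] at h1
      have hc0 : (c : Γ((fL X L).normalization, (fL X L).fromNormalization ⁻¹ᵁ U)) ≠ 0 := by
        intro h0
        exact c.2 (h0 ▸ Ideal.zero_mem _)
      have hec : ((e c : integralClosure Γ(X, U) L) : L) ≠ 0 := by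
        intro h0
        apply hc0
        have : e c = 0 := Subtype.ext h0
        simpa using this
      have h2 : σ s = ((e b : integralClosure Γ(X, U) L) : L) *
          ((e c : integralClosure Γ(X, U) L) : L)⁻¹ := by
        rw [← h1, mul_assoc, mul_inv_cancel₀ hec, mul_one]
      rw [h2]
      have hb : IsIntegral X.functionField ((e b : integralClosure Γ(X, U) L) : L) :=
        (e b).2.tower_top
      have hc : IsIntegral X.functionField ((e c : integralClosure Γ(X, U) L) : L) :=
        (e c).2.tower_top
      exact hb.mul hc.inv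
    · intro hyi
      obtain ⟨⟨m, hm⟩, hmy⟩ := IsIntegral.exists_multiple_integral_of_isLocalization
        (nonZeroDivisors Γ(X, U)) y hyi
      have hm0 : m ≠ 0 := nonZeroDivisors.ne_zero hm
      have hmy' : IsIntegral Γ(X, U) (algebraMap Γ(X, U) L m * y) := by
        have : (⟨m, hm⟩ : nonZeroDivisors Γ(X, U)) • y = algebraMap Γ(X, U) L m * y := by
          rw [Submonoid.smul_def, Algebra.smul_def]
        rwa [this] at hmy
      set b := e.symm ⟨algebraMap Γ(X, U) L m * y, hmy'⟩ with hb
      set c := ((fL X L).fromNormalization.app U).hom m with hc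
      have hcq : c ∈ (hW.primeIdealOf ⟨_, hy⟩).asIdeal.primeCompl := by
        intro hmem
        have : m ∈ (hW.primeIdealOf ⟨_, hy⟩).asIdeal.comap
            ((fL X L).fromNormalization.app U).hom := hmem
        rw [hq] at this
        exact hm0 this
      have hu := IsLocalization.map_units ((fL X L).normalization.presheaf.stalk
        ((fL X L).toNormalization (IsLocalRing.closedPoint L))) ⟨c, hcq⟩
      obtain ⟨u, hu'⟩ := hu
      refine ⟨algebraMap _ _ b * ↑u⁻¹, ?_⟩
      have h1 : σ (algebraMap _ _ b * ↑u⁻¹) * σ (algebraMap _ _ c) = σ (algebraMap _ _ b) := by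
        rw [← map_mul, mul_assoc]
        have : (↑u⁻¹ : (fL X L).normalization.presheaf.stalk
            ((fL X L).toNormalization (IsLocalRing.closedPoint L))) * algebraMap _ _ c = 1 := by
          rw [← show (u : (fL X L).normalization.presheaf.stalk
            ((fL X L).toNormalization (IsLocalRing.closedPoint L))) = algebraMap _ _ c from hu']
          exact Units.inv_mul u
        rw [this, mul_one]
      rw [hσ, hσ, hc, he1 m, hb, RingEquiv.apply_symm_apply] at h1
      have h2 : ((algebraMap Γ(X, U) (integralClosure Γ(X, U) L) m : integralClosure Γ(X, U) L) : L)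
          = algebraMap Γ(X, U) L m := rfl
      rw [h2] at h1
      have h3 : algebraMap Γ(X, U) L m ≠ 0 := by
        intro h0
        exact hm0 (hinjAL (by rw [h0, map_zero]))
      have h4 : σ (algebraMap _ _ b * ↑u⁻¹) * algebraMap Γ(X, U) L m =
          y * algebraMap Γ(X, U) L m := by
        rw [h1]; exact mul_comm _ _
      exact mul_right_cancel₀ h3 h4

end NormL

end Groth.Agent.Lib.Helper38
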