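import Mathlib
import Groth.Prelude.Def_Curv2
import Groth.Prelude.Def_Found
import Groth.Agent.Lib.Helper38.NormSch5

/-!
# A finite normalization is an isomorphism over a nonempty open
-/

set_option autoImplicit false

universe u

open AlgebraicGeometry CategoryTheory TopologicalSpace Opposite

namespace Groth.Agent.Lib.Helper38

/-- A finite fraction extension has a common denominator. -/
theorem IsFracExt.exists_common_denominator {A B : Type*} [CommRing A] [CommRing B] [IsDomain A]
    {φ : A →+* B} (h : IsFracExt φ) (hfin : φ.Finite) :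
    ∃ s : A, s ≠ 0 ∧ ∀ b : B, ∃ a : A, φ s * b = φ a := by
  classical
  letI := φ.toAlgebra
  haveI : Module.Finite A B := hfin
  obtain ⟨S, hS⟩ := (Module.finite_def (R := A) (M := B)).mp inferInstance
  choose a c hc hac using h.frac
  refine ⟨∏ b ∈ S, c b, Finset.prod_ne_zero_iff.mpr (fun b _ => hc b), fun b => ?_⟩
  have hb : b ∈ Submodule.span A (S : Set B) := by rw [hS]; trivial
  induction hb using Submodule.span_induction with
  | mem x hx =>
    refine ⟨(∏ b ∈ S.erase x, c b) * a x, ?_⟩
    rw [← Finset.mul_prod_erase S c hx, map_mul, map_mul, ← hac x]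
    ring
  | zero => exact ⟨0, by simp⟩
  | add x y _ _ hx hy =>
    obtain ⟨ax, hax⟩ := hx
    obtain ⟨ay, hay⟩ := hy
    exact ⟨ax + ay, by rw [mul_add, hax, hay, map_add]⟩
  | smul r x _ hx =>
    obtain ⟨ax, hax⟩ := hx
    refine ⟨r * ax, ?_⟩
    rw [Algebra.smul_def, map_mul, ← hax]
    show φ _ * (φ r * x) = _
    ring

/-- Inverting a common denominator turns a fraction extension into an isomorphism. -/
theorem bijective_of_away {A B As Bs : Type*} [CommRing A] [CommRing B] [CommRing As] [CommRing Bs]
    (φ : A →+* B) (s : A) (α : A →+* As) (β : B →+* Bs) (ψ : As →+* Bs)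
    (hα : @IsLocalization.Away A _ s As _ α.toAlgebra)
    (hβ : @IsLocalization.Away B _ (φ s) Bs _ β.toAlgebra)
    (hcomm : ψ.comp α = β.comp φ) (hinj : Function.Injective φ)
    (hs : ∀ b : B, ∃ a : A, φ s * b = φ a) : Function.Bijective ψ := by
  letI := α.toAlgebra
  letI := β.toAlgebra
  have hαs : IsUnit (α s) := IsLocalization.Away.algebraMap_isUnit (S := As) s
  have hβs : IsUnit (β (φ s)) := IsLocalization.Away.algebraMap_isUnit (S := Bs) (φ s)
  have hc : ∀ a : A, ψ (α a) = β (φ a) := fun a => congr($hcomm a)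
  constructor
  · rw [injective_iff_map_eq_zero]
    intro x hx
    obtain ⟨n, a, ha⟩ := IsLocalization.Away.surj (S := As) s x
    have h1 : β (φ a) = 0 := by
      rw [← hc, ← show x * α s ^ n = α a from ha, map_mul, hx, zero_mul]
    obtain ⟨⟨_, m, rfl⟩, hm⟩ := (IsLocalization.map_eq_zero_iff (Submonoid.powers (φ s)) Bs _).mp h1
    have h2 : s ^ m * a = 0 := by
      apply hinj
      rw [map_mul, map_pow, map_zero]
      exact hm
    have h3 : α s ^ m * α a = 0 := by rw [← map_pow, ← map_mul, h2, map_zero]
    have h4 : α a = 0 := (hαs.pow m).mul_right_eq_zero.mp h3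
    have h5 : x * α s ^ n = 0 := by rw [show x * α s ^ n = α a from ha, h4]
    exact (hαs.pow n).mul_left_eq_zero.mp h5
  · intro y
    obtain ⟨n, b, hb⟩ := IsLocalization.Away.surj (S := Bs) (φ s) y
    obtain ⟨a, ha⟩ := hs b
    obtain ⟨u, hu⟩ := hαs.pow (n + 1)
    refine ⟨α a * ↑u⁻¹, ?_⟩
    have h1 : ψ (α a * ↑u⁻¹) * β (φ s) ^ (n + 1) = y * β (φ s) ^ (n + 1) := by
      have hψu : ψ (↑u⁻¹ : As) * β (φ s) ^ (n + 1) = 1 := by
        rw [← hc s, ← map_pow, ← hu, ← map_mul, Units.inv_mul, map_one]
      rw [map_mul, mul_assoc, hψu, mul_one, hc, ← ha, map_mul, pow_succ,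
        ← show y * β (φ s) ^ n = β b from hb]
      ring
    exact (hβs.pow (n + 1)).mul_left_injective h1

namespace NormSch

variable (X : Scheme.{u}) [IsIntegral X] [QuasiCompact (X.fromSpecStalk (genericPoint X))]
  [QuasiSeparated (X.fromSpecStalk (genericPoint X))]

/-- If the normalization is finite over a nonempty affine open, then it is an isomorphism over a
nonempty open. -/
theorem exists_isIso_morphismRestrict_of_finite {U : X.Opens} (hU : IsAffineOpen U) [Nonempty U]
    (hfin : ((Curv2.normalizationι X).app U).hom.Finite) :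
    ∃ V : X.Opens, (V : Set X).Nonempty ∧ IsIso (Curv2.normalizationι X ∣_ V) := by
  have hη : genericPoint X ∈ U := genericPoint_mem X ⟨_, (Classical.arbitrary U).2⟩
  haveI : IsDomain Γ(X, U) := inferInstance
  obtain ⟨-, hfe⟩ := app_props X hU hη
  obtain ⟨s, hs0, hs⟩ := hfe.exists_common_denominator hfin
  have hV : IsAffineOpen (X.basicOpen s) := hU.basicOpen s
  refine ⟨X.basicOpen s, ?_, ?_⟩
  · by_contra hne
    rw [Set.not_nonempty_iff_eq_empty] at hne
    exact hs0 ((basicOpen_eq_bot_iff s).mp (SetLike.coe_injective (by rw [hne]; rfl)))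
  · rw [isIso_morphismRestrict_iff_isIso_app _ hV, ConcreteCategory.isIso_iff_bijective]
    have hle : X.basicOpen s ≤ U := X.basicOpen_le s
    have hpre : (Curv2.normalizationι X) ⁻¹ᵁ X.basicOpen s =
        (Curv2.normalization X).basicOpen ((Curv2.normalizationι X).app U s) :=
      Scheme.preimage_basicOpen (Curv2.normalizationι X) s
    have hle' : (Curv2.normalizationι X) ⁻¹ᵁ X.basicOpen s ≤ (Curv2.normalizationι X) ⁻¹ᵁ U :=
      fun _ hx => hle hx
    refine bijective_of_away ((Curv2.normalizationι X).app U).hom s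
      (X.presheaf.map (homOfLE hle).op).hom
      ((Curv2.normalization X).presheaf.map (homOfLE hle').op).hom
      ((Curv2.normalizationι X).app (X.basicOpen s)).hom ?_ ?_ ?_ hfe.inj hs
    · exact hU.isLocalization_of_eq_basicOpen s (homOfLE hle) rfl
    · exact (hU.preimage (Curv2.normalizationι X)).isLocalization_of_eq_basicOpen _
        (homOfLE hle') hpre
    · have := (Curv2.normalizationι X).naturality (homOfLE hle).op
      rw [← CommRingCat.hom_comp, ← CommRingCat.hom_comp]
      exact congrArg CommRingCat.Hom.hom this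

end NormSch

end Groth.Agent.Lib.Helper38
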