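import Mathlib
import Groth.Prelude.Def_Curv2
import Groth.Prelude.Def_Found
import Groth.Agent.Lib.Helper38.NormSch2

set_option autoImplicit false

universe u

open AlgebraicGeometry CategoryTheory TopologicalSpace Opposite

namespace Groth.Agent.Lib.Helper38

namespace NormSch

variable (X : Scheme.{u}) [IsIntegral X] [QuasiCompact (X.fromSpecStalk (genericPoint X))]
  [QuasiSeparated (X.fromSpecStalk (genericPoint X))]

theorem finite_app {U : X.Opens} (hU : IsAffineOpen U) [Nonempty U]
    (h : Module.Finite Γ(X, U) (integralClosure Γ(X, U) X.functionField)) :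
    ((Curv2.normalizationι X).app U).hom.Finite := by
  have hη : genericPoint X ∈ U := genericPoint_mem X ⟨_, (Classical.arbitrary U).2⟩
  letI := ((X.fromSpecStalk (genericPoint X)).app U).hom.toAlgebra
  let e0 : Γ(Spec (X.presheaf.stalk (genericPoint X)), (X.fromSpecStalk (genericPoint X)) ⁻¹ᵁ U) ≃+*
      X.functionField := (asIso (rho X hη)).commRingCatIsoToRingEquiv
  have he0 : ∀ a : Γ(X, U), e0 (algebraMap Γ(X, U) _ a) = algebraMap Γ(X, U) X.functionField a := by
    intro a
    have := congr($(app_rho X hη) a)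
    exact this
  let e : Γ(Spec (X.presheaf.stalk (genericPoint X)), (X.fromSpecStalk (genericPoint X)) ⁻¹ᵁ U)
      ≃ₐ[Γ(X, U)] X.functionField := AlgEquiv.ofRingEquiv he0
  haveI : Module.Finite Γ(X, U) (integralClosure Γ(X, U)
      Γ(Spec (X.presheaf.stalk (genericPoint X)), (X.fromSpecStalk (genericPoint X)) ⁻¹ᵁ U)) :=
    Module.Finite.equiv e.mapIntegralClosure.symm.toLinearEquiv
  have h1 : (algebraMap Γ(X, U) (integralClosure Γ(X, U)
      Γ(Spec (X.presheaf.stalk (genericPoint X)), (X.fromSpecStalk (genericPoint X)) ⁻¹ᵁ U))).Finite :=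
    ‹Module.Finite _ _›
  let i := (X.fromSpecStalk (genericPoint X)).normalizationObjIso hU
  have h3 : ((X.fromSpecStalk (genericPoint X)).fromNormalization.app U).hom =
      (i.symm.commRingCatIsoToRingEquiv.toRingHom).comp (algebraMap Γ(X, U) _) :=
    congrArg CommRingCat.Hom.hom ((X.fromSpecStalk (genericPoint X)).fromNormalization_app hU)
  show ((X.fromSpecStalk (genericPoint X)).fromNormalization.app U).hom.Finite
  rw [h3]
  exact (RingHom.Finite.of_surjective _ i.symm.commRingCatIsoToRingEquiv.surjective).comp h1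

theorem isFinite_of_isN2
    (hJ : ∀ (U : X.Opens), IsAffineOpen U → ∀ (hne : Nonempty ↥U),
      @CAlg.IsN2 ↑Γ(X, U) _ (@IsIntegral.component_integral X _ U hne)) :
    IsFinite (Curv2.normalizationι X) := by
  refine { toIsAffineHom := inferInstance, finite_app := fun U hU => ?_ }
  by_cases hne : Nonempty U
  · haveI := hne
    apply finite_app X hU
    haveI := functionField_isFractionRing_of_isAffineOpen X U hU
    have h := hJ U hU hne (FractionRing Γ(X, U)) inferInstance
    let e := (FractionRing.algEquiv Γ(X, U) X.functionField)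
    exact Module.Finite.equiv e.mapIntegralClosure.toLinearEquiv
  · have hbot : U = ⊥ := by
      ext x
      simp only [TopologicalSpace.Opens.coe_bot, Set.mem_empty_iff_false, iff_false]
      exact fun hx => hne ⟨⟨x, hx⟩⟩
    subst hbot
    have h2 : Subsingleton Γ(Curv2.normalization X, (Curv2.normalizationι X) ⁻¹ᵁ ⊥) := by
      have : (Curv2.normalizationι X) ⁻¹ᵁ (⊥ : X.Opens) = ⊥ := rfl
      rw [this]; infer_instance
    exact RingHom.Finite.of_surjective _ (fun b => ⟨0, Subsingleton.elim _ _⟩)

end NormSch

end Groth.Agent.Lib.Helper38
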