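import Mathlib
import Groth.Agent.Lib.Helper38.NormLocal

/-!
# Stalk of the normalization as a localized module (ring-level package)

* `length_quotient_eq`: two localizations of the same module have quotients of the same length.
* `beta_injective`, `isLocalizedModule_beta`: in the setting of `NormLocal`, the comparison map
  `β : B → R'` exhibits `R'` as the localization of `B` at `P`.
-/

set_option autoImplicit false

universe u

namespace Groth.Agent.Lib.Helper38

namespace NormStalkAlg

/-- Abstract comparison: two localized modules of the same module have quotients (by the cyclic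
submodules generated by the images of a fixed element) of the same length. -/
theorem length_quotient_eq {A : Type*} [CommRing A] (P : Ideal A) [P.IsPrime]
    (R : Type*) [CommRing R] [Algebra A R] [IsLocalization.AtPrime R P]
    {B M N : Type*} [AddCommGroup B] [Module A B]
    [AddCommGroup M] [Module A M] [Module R M] [IsScalarTower A R M]
    [AddCommGroup N] [Module A N] [Module R N] [IsScalarTower A R N]
    (g : B →ₗ[A] M) (hg : IsLocalizedModule P.primeCompl g)
    (β : B →ₗ[A] N) (hβ : IsLocalizedModule P.primeCompl β) (b₀ : B)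
    (m₀ : M) (hm₀ : g b₀ = m₀) (n₀ : N) (hn₀ : β b₀ = n₀) :
    Module.length R (M ⧸ Submodule.span R {m₀}) =
      Module.length R (N ⧸ Submodule.span R {n₀}) := by
  subst hm₀ hn₀
  let e : M ≃ₗ[A] N := IsLocalizedModule.linearEquiv P.primeCompl g β
  have he : ∀ b, e (g b) = β b := fun b => IsLocalizedModule.linearEquiv_apply P.primeCompl g β b
  let eR : M ≃ₗ[R] N := e.extendScalarsOfIsLocalization P.primeCompl R
  have heR : ∀ m, eR m = e m := fun m => rfl
  have hmap : Submodule.map (eR : M →ₗ[R] N) (Submodule.span R {g b₀}) =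
      Submodule.span R {β b₀} := by
    rw [Submodule.map_span, Set.image_singleton]
    congr 2
    exact (heR _).trans (he b₀)
  exact (Submodule.Quotient.equiv _ _ eR hmap).length_eq

section

variable {A B R R' : Type*} [CommRing A] [CommRing B] [CommRing R] [CommRing R'] [IsDomain A]
  [IsDomain B] [IsDomain R] [IsDomain R'] (P : Ideal A) [P.IsPrime] [Algebra A R]
  [IsLocalization.AtPrime R P] {φ : A →+* B} (hφ : IsFracExt φ)
  {ι : R →+* R'} (hι : IsFracExt ι) (hιi : ι.IsIntegral) [IsIntegrallyClosed R']
  {β : B →+* R'} (hβ : β.comp φ = ι.comp (algebraMap A R))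

include P hφ hι hβ in
theorem beta_injective : Function.Injective β := by
  have hγ := NormLocal.isFracExt_gamma (R := R) P hι
  rw [injective_iff_map_eq_zero]
  intro b hb
  obtain ⟨a, c, hc, hac⟩ := hφ.frac b
  have h1 : β (φ a) = 0 := by rw [← hac, map_mul, hb, zero_mul]
  have h2 : (ι.comp (algebraMap A R)) a = 0 := by
    rw [← hβ]; exact h1
  have ha : a = 0 := hγ.inj (by rw [h2, map_zero])
  rw [ha, map_zero] at hac
  have hφc : φ c ≠ 0 := fun h0 => hc (hφ.inj (by rw [h0, map_zero]))
  exact (mul_eq_zero.mp hac).resolve_right hφc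

include P hφ hι hιi hβ in
theorem isLocalizedModule_beta [IsIntegrallyClosed B] [Module A B]
    [Module A R'] (hR' : ∀ (a : A) (r : R'), a • r = ι (algebraMap A R a) * r)
    (βl : B →ₗ[A] R') (hβl : ∀ b, βl b = β b) : IsLocalizedModule P.primeCompl βl := by
  refine ⟨?_, ?_, ?_⟩
  · intro s
    rw [Module.End.isUnit_iff]
    have hs : IsUnit (ι (algebraMap A R (s : A))) :=
      (IsLocalization.map_units R s).map ι
    obtain ⟨u, hu⟩ := hs
    constructor
    · intro r₁ r₂ h
      simp only [Module.algebraMap_end_apply, hR'] at h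
      rw [← hu] at h
      exact u.isUnit.mul_left_cancel h
    · intro r
      refine ⟨(↑u⁻¹ : R') * r, ?_⟩
      simp only [Module.algebraMap_end_apply, hR']
      rw [← hu, ← mul_assoc, Units.mul_inv, one_mul]
  · intro r'
    obtain ⟨s, hs, b, hb⟩ := NormLocal.exists_mul_mem_range P hφ hι hιi hβ r'
    refine ⟨(b, ⟨s, hs⟩), ?_⟩
    rw [hβl, Submonoid.smul_def, hR']
    exact hb.symm
  · intro b₁ b₂ h
    refine ⟨1, ?_⟩
    rw [hβl, hβl] at h
    rw [beta_injective P hφ hι hβ h]

end

end NormStalkAlg

end Groth.Agent.Lib.Helper38
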