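import Mathlib
import Groth.Prelude.Def_Curv2
import Groth.Prelude.Def_ClSub2
import Groth.Agent.Lib.Helper38.NormLink
import Groth.Agent.Lib.Helper38.NormAff
import Groth.Agent.Lib.Helper38.NormStalkAlg
import Groth.Agent.Lib.Helper49.StalkKerCoker
import Groth.Agent.Lib.Helper49.QcqsModules
import Groth.Agent.Lib.Helper45.QCohStalk
import Groth.Agent.Lib.Helper1.PushSupport
import Groth.Agent.Lib.Helper38.Codim1
import Groth.Agent.Lib.Helper38.Delta
import Groth.Agent.Lib.Helper38.NormSch3
import Groth.Agent.Lib.Helper38.NormOpenIso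

/-!
# Stalks of `ν_* O_{X^ν} / O_X` for the normalization `ν` of an integral scheme

* `mono_unitToPush`: `O_X → ν_* O_{X^ν}` is a monomorphism.
* `length_stalk_cokernel`: the stalk of the cokernel at `x` has length `δ(O_{X,x})`.
* `subsingleton_stalk_cokernel_of_not_isClosed`: in dimension one the cokernel vanishes at
  non-closed points.
* `isFinite_of_isNagata`, `exists_dense_isIso`.
-/

set_option autoImplicit false
set_option linter.unusedSectionVars false

universe u

open AlgebraicGeometry CategoryTheory TopologicalSpace Opposite CategoryTheory.Limits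

namespace Groth.Agent.Lib.Helper38

namespace NormStalk

variable (X : Scheme.{u}) [IsIntegral X] [QuasiCompact (X.fromSpecStalk (genericPoint X))]
  [QuasiSeparated (X.fromSpecStalk (genericPoint X))]

/-- `ν_* O_{X^ν}`. -/
noncomputable abbrev pushO : X.Modules :=
  (Scheme.Modules.pushforward (Curv2.normalizationι X)).obj
    (Coh.structureModule (Curv2.normalization X))

instance : (pushO X).IsQuasicoherent := by
  haveI := Groth.Agent.Lib.Helper1.isQuasicoherent_structureModule (Curv2.normalization X)
  exact Groth.Agent.Lib.Helper49.isQuasicoherent_pushforward _ (Curv2.normalizationι X)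

attribute [local instance] Groth.Agent.Lib.Helper45.stalkModuleSections

theorem length_span_eq_deltaInv {U : X.Opens} (hU : IsAffineOpen U) (x : U) :
    Module.length (X.presheaf.stalk (x : X))
      (↑((pushO X).presheaf.stalk (x : X)) ⧸ Submodule.span (X.presheaf.stalk (x : X))
        {(pushO X).presheaf.germ U x x.2 (1 : Γ(Curv2.normalization X, (Curv2.normalizationι X) ⁻¹ᵁ U))}) =
      Curv2.deltaInv (X.presheaf.stalk (x : X)) := by
  have hη : genericPoint X ∈ U := NormSch.genericPoint_mem X ⟨_, x.2⟩
  haveI : Nonempty U := ⟨x⟩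
  haveI := NormSch.preimage_nonempty X hη
  obtain ⟨hBic, hφ⟩ := NormSch.app_props X hU hη
  haveI := hBic
  have hφi : ((Curv2.normalizationι X).app U).hom.IsIntegral :=
    IsIntegralHom.isIntegral_app (Curv2.normalizationι X) U hU
  haveI : IsLocalization.AtPrime (X.presheaf.stalk (x : X)) (hU.primeIdealOf x).asIdeal :=
    hU.isLocalization_stalk x
  let R := X.presheaf.stalk (x : X)
  let R' := integralClosure R (FractionRing R)
  have hι : IsFracExt (algebraMap R R') := NormAff.isFracExt_algebraMap R
  have hιi : (algebraMap R R').IsIntegral := NormAff.isIntegral_algebraMap R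
  obtain ⟨β, hβ⟩ := NormLocal.exists_beta (hU.primeIdealOf x).asIdeal hφ hφi hι
  haveI : IsScalarTower Γ(X, U) R R' := inferInstance
  have hsm : ∀ (a : Γ(X, U)) (r : R'), a • r = algebraMap R R' (algebraMap Γ(X, U) R a) * r := by
    intro a r
    rw [Algebra.smul_def, IsScalarTower.algebraMap_apply Γ(X, U) R R']
  letI instMod : Module Γ(X, U) Γ(Curv2.normalization X, (Curv2.normalizationι X) ⁻¹ᵁ U) :=
    (inferInstance : Module Γ(X, U) Γ(pushO X, U))
  let βl : Γ(Curv2.normalization X, (Curv2.normalizationι X) ⁻¹ᵁ U) →ₗ[Γ(X, U)] R' :=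
    { toFun := fun b => β b
      map_add' := map_add β
      map_smul' := fun a b => by
        change β (((Curv2.normalizationι X).app U).hom a * b) = a • β b
        rw [hsm, map_mul]
        congr 1
        exact congr($hβ a) }
  haveI hloc : IsLocalizedModule (hU.primeIdealOf x).asIdeal.primeCompl βl :=
    NormStalkAlg.isLocalizedModule_beta (hU.primeIdealOf x).asIdeal hφ hι hιi hβ
      hsm βl (fun b => rfl)
  have hg := Helper45.isLocalizedModule_germₗ hU (pushO X) x
  have h2 : Submodule.span R {(1 : R')} = LinearMap.range (Algebra.linearMap R R') := by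
    rw [← Submodule.one_eq_span, Submodule.one_eq_range]
  have key := NormStalkAlg.length_quotient_eq (hU.primeIdealOf x).asIdeal R
    (Helper45.germₗ (pushO X) x) hg βl hloc
    (1 : Γ(Curv2.normalization X, (Curv2.normalizationι X) ⁻¹ᵁ U))
    ((pushO X).presheaf.germ U x x.2 (1 : Γ(Curv2.normalization X, (Curv2.normalizationι X) ⁻¹ᵁ U)))
    rfl (1 : R') (map_one β)
  rw [h2] at key
  exact key

theorem app_injective (U : X.Opens) :
    Function.Injective ((Curv2.normalizationι X).app U).hom := by
  by_cases hne : (U : Set X).Nonempty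
  · obtain ⟨x, hxU⟩ := hne
    obtain ⟨_, ⟨V, hV, rfl⟩, hxV, hVU⟩ :=
      X.isBasis_affineOpens.exists_subset_of_mem_open hxU U.2
    have hη : genericPoint X ∈ V := NormSch.genericPoint_mem X ⟨_, hxV⟩
    obtain ⟨-, hfe⟩ := NormSch.app_props X hV hη
    haveI : Nonempty V := ⟨⟨x, hxV⟩⟩
    have hres : Function.Injective (X.presheaf.map (homOfLE hVU).op).hom :=
      map_injective_of_isIntegral X (homOfLE hVU)
    rw [injective_iff_map_eq_zero]
    intro s hs
    apply hres
    rw [map_zero]
    apply hfe.inj
    rw [map_zero]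
    have hnat := (Curv2.normalizationι X).naturality (homOfLE hVU).op
    have h1 := congr($hnat s)
    simp only [CommRingCat.comp_apply] at h1
    rw [h1, hs, map_zero]
  · have hbot : U = ⊥ := by
      ext x
      simp only [TopologicalSpace.Opens.coe_bot, Set.mem_empty_iff_false, iff_false]
      exact fun hx => hne ⟨x, hx⟩
    subst hbot
    intro a b _
    exact Subsingleton.elim _ _

instance mono_unitToPush : Mono (ClSub.unitToPush (Curv2.normalizationι X)) :=
  Groth.Agent.Lib.Helper49.mono_of_app_injective _ fun U => app_injective X U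

theorem unitToPush_app (U : X.Opens) (t : Γ(X, U)) :
    (ClSub.unitToPush (Curv2.normalizationι X)).app U t =
      ((Curv2.normalizationι X).app U).hom t := rfl

theorem range_stalkMapLinear {U : X.Opens} (x : U) :
    LinearMap.range (Groth.Agent.Lib.Helper49.stalkMapLinear
        (ClSub.unitToPush (Curv2.normalizationι X)) (x : X)) =
      Submodule.span (X.presheaf.stalk (x : X))
        {(pushO X).presheaf.germ U x x.2
          (1 : Γ(Curv2.normalization X, (Curv2.normalizationι X) ⁻¹ᵁ U))} := by
  apply le_antisymm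
  · rintro _ ⟨s, rfl⟩
    obtain ⟨V, hxV, t, rfl⟩ :=
      TopCat.Presheaf.exists_germ_eq (Coh.structureModule X).presheaf s
    have hxW : (x : X) ∈ V ⊓ U := ⟨hxV, x.2⟩
    rw [← TopCat.Presheaf.germ_res_apply (Coh.structureModule X).presheaf
      (homOfLE (inf_le_left : V ⊓ U ≤ V)) (x : X) hxW t]
    set t' : Γ(X, V ⊓ U) := (Coh.structureModule X).presheaf.map
      (homOfLE (inf_le_left : V ⊓ U ≤ V)).op t with ht'
    change (Groth.Agent.Lib.Helper49.stalkMap (ClSub.unitToPush (Curv2.normalizationι X)) (x : X)).hom
      ((Coh.structureModule X).presheaf.germ (V ⊓ U) (x : X) hxW t') ∈ _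
    rw [Groth.Agent.Lib.Helper49.stalkMap_germ]
    have h1 : (ClSub.unitToPush (Curv2.normalizationι X)).app (V ⊓ U) t' =
        t' • ((pushO X).presheaf.map (homOfLE (inf_le_right : V ⊓ U ≤ U)).op
          (1 : Γ(Curv2.normalization X, (Curv2.normalizationι X) ⁻¹ᵁ U)) : Γ(pushO X, V ⊓ U)) := by
      have h2 : ((pushO X).presheaf.map (homOfLE (inf_le_right : V ⊓ U ≤ U)).op
          (1 : Γ(Curv2.normalization X, (Curv2.normalizationι X) ⁻¹ᵁ U)) : Γ(pushO X, V ⊓ U)) =
          (1 : Γ(Curv2.normalization X, (Curv2.normalizationι X) ⁻¹ᵁ (V ⊓ U))) :=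
        map_one ((Curv2.normalization X).presheaf.map
          (homOfLE (show (Curv2.normalizationι X) ⁻¹ᵁ (V ⊓ U) ≤ (Curv2.normalizationι X) ⁻¹ᵁ U from
            fun _ h => h.2)).op).hom
      rw [h2]
      change ((Curv2.normalizationι X).app (V ⊓ U)).hom t' =
        ((Curv2.normalizationι X).app (V ⊓ U)).hom t' * 1
      rw [mul_one]
    rw [h1, Groth.Agent.Lib.Helper45.germ_smul, TopCat.Presheaf.germ_res_apply]
    exact Submodule.smul_mem _ _ (Submodule.mem_span_singleton_self _)
  · rw [Submodule.span_le, Set.singleton_subset_iff]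
    refine ⟨(Coh.structureModule X).presheaf.germ U (x : X) x.2 (1 : Γ(X, U)), ?_⟩
    change (Groth.Agent.Lib.Helper49.stalkMap (ClSub.unitToPush (Curv2.normalizationι X)) (x : X)).hom
      ((Coh.structureModule X).presheaf.germ U (x : X) x.2 (1 : Γ(X, U))) = _
    rw [Groth.Agent.Lib.Helper49.stalkMap_germ, unitToPush_app, map_one]

theorem length_stalk_cokernel (x : X) :
    Module.length (X.presheaf.stalk x)
      ((cokernel (ClSub.unitToPush (Curv2.normalizationι X))).presheaf.stalk x) =
      Curv2.deltaInv (X.presheaf.stalk x) := by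
  obtain ⟨U, hU, hxU⟩ := NormSch.exists_affine X x
  have hS : (ShortComplex.mk (ClSub.unitToPush (Curv2.normalizationι X))
      (cokernel.π (ClSub.unitToPush (Curv2.normalizationι X)))
      (cokernel.condition _)).ShortExact :=
    ⟨ShortComplex.exact_of_g_is_cokernel _ (cokernelIsCokernel _)⟩
  have hex := Groth.Agent.Lib.Helper49.stalkMap_exact_of_shortExact _ hS x
  have hsurj := Groth.Agent.Lib.Helper49.stalkMap_surjective_of_epi
    (cokernel.π (ClSub.unitToPush (Curv2.normalizationι X))) x
  let πl := Groth.Agent.Lib.Helper49.stalkMapLinear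
    (cokernel.π (ClSub.unitToPush (Curv2.normalizationι X))) x
  let φl := Groth.Agent.Lib.Helper49.stalkMapLinear (ClSub.unitToPush (Curv2.normalizationι X)) x
  have hex' : Function.Exact φl πl := hex
  have hker : LinearMap.ker πl = LinearMap.range φl := LinearMap.exact_iff.mp hex'
  have e := πl.quotKerEquivOfSurjective hsurj
  rw [← e.length_eq]
  have h3 := range_stalkMapLinear X (U := U) ⟨x, hxU⟩
  have h4 := length_span_eq_deltaInv X hU ⟨x, hxU⟩
  rw [← h4]
  exact (Submodule.quotEquivOfEq _ _ (hker.trans h3)).length_eq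

theorem deltaInv_eq_zero_of_isIntegrallyClosed (A : Type u) [CommRing A] [IsDomain A]
    [IsIntegrallyClosed A] : Curv2.deltaInv A = 0 := by
  unfold Curv2.deltaInv
  rw [Module.length_eq_zero_iff]
  refine ⟨fun a b => ?_⟩
  have key : ∀ c : ↥(integralClosure A (FractionRing A)) ⧸
      LinearMap.range (Algebra.linearMap A ↥(integralClosure A (FractionRing A))), c = 0 := by
    intro c
    obtain ⟨r, rfl⟩ := Submodule.Quotient.mk_surjective _ c
    rw [Submodule.Quotient.mk_eq_zero]
    obtain ⟨y, hy⟩ := IsIntegrallyClosed.algebraMap_eq_of_integral r.2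
    exact ⟨y, Subtype.ext hy⟩
  rw [key a, key b]

theorem eq_genericPoint_of_not_isClosed (hdim : topologicalKrullDim X = 1) (x : X)
    (hx : ¬ IsClosed ({x} : Set X)) : x = genericPoint X := by
  by_contra hne
  have hsub : ({x} : Set X) ⊆ closure {x} := subset_closure
  have hex : ∃ y ∈ closure ({x} : Set X), y ≠ x := by
    by_contra hcon
    push Not at hcon
    apply hx
    have : closure ({x} : Set X) = {x} := by
      apply Set.Subset.antisymm
      · intro y hy
        exact hcon y hy
      · exact hsub
    rw [← this]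
    exact isClosed_closure
  obtain ⟨y, hy, hyx⟩ := hex
  have hZne : closure ({x} : Set X) ≠ Set.univ := by
    intro h
    apply hne
    have h1 : IsGenericPoint x (Set.univ : Set X) := h
    exact h1.eq (genericPoint_spec X)
  have hdimy : ringKrullDim (X.presheaf.stalk y) ≤ 1 :=
    (Ring.krullDimLE_iff ..).mp (NormSch.krullDimLE_one_stalk X hdim y)
  have h2 := Codim1.eq_closure_of_dim_one y hdimy _ isIrreducible_singleton.closure
    isClosed_closure hy hZne
  have h3 : Inseparable x y := by
    rw [inseparable_iff_closure_eq, h2]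
  exact hyx h3.eq.symm

theorem subsingleton_stalk_cokernel_of_not_isClosed (hdim : topologicalKrullDim X = 1) (x : X)
    (hx : ¬ IsClosed ({x} : Set X)) :
    Subsingleton ((cokernel (ClSub.unitToPush (Curv2.normalizationι X))).presheaf.stalk x) := by
  have hxη := eq_genericPoint_of_not_isClosed X hdim x hx
  subst hxη
  rw [← Module.length_eq_zero_iff (R := X.presheaf.stalk (genericPoint X)),
    length_stalk_cokernel]
  letI : Field (X.presheaf.stalk (genericPoint X)) :=
    inferInstanceAs (Field X.functionField)
  exact deltaInv_eq_zero_of_isIntegrallyClosed _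

theorem isFinite_of_isNagata
    (hN : ∀ U : X.affineOpens, CAlg.IsNagata Γ(X, (U : X.Opens))) :
    IsFinite (Curv2.normalizationι X) := by
  refine { toIsAffineHom := inferInstance, finite_app := fun U hU => ?_ }
  by_cases hne : Nonempty U
  · haveI := hne
    apply NormSch.finite_app X hU
    haveI := functionField_isFractionRing_of_isAffineOpen X U hU
    have h := finite_integralClosure_of_isNagata Γ(X, U) (hN ⟨U, hU⟩)
    let e := (FractionRing.algEquiv Γ(X, U) X.functionField)
    exact Module.Finite.equiv e.mapIntegralClosure.toLinearEquiv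
  · have hbot : U = ⊥ := by
      ext x
      simp only [TopologicalSpace.Opens.coe_bot, Set.mem_empty_iff_false, iff_false]
      exact fun hx => hne ⟨⟨x, hx⟩⟩
    subst hbot
    have h2 : Subsingleton Γ(Curv2.normalization X, (Curv2.normalizationι X) ⁻¹ᵁ ⊥) := by
      have : (Curv2.normalizationι X) ⁻¹ᵁ (⊥ : X.Opens) = ⊥ := rfl
      rw [this]; infer_instance
    exact RingHom.Finite.of_surjective _ (fun b => ⟨0, Subsingleton.elim _ _⟩)

theorem exists_dense_isIso (hfin : IsFinite (Curv2.normalizationι X)) :
    ∃ U : X.Opens, Dense ((U : Set X)) ∧ IsIso (Curv2.normalizationι X ∣_ U) := by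
  obtain ⟨U, hU, hxU⟩ := NormSch.exists_affine X (genericPoint X)
  haveI : Nonempty U := ⟨⟨_, hxU⟩⟩
  obtain ⟨V, hVne, hV⟩ := NormSch.exists_isIso_morphismRestrict_of_finite X hU
    (hfin.finite_app U hU)
  exact ⟨V, V.2.dense hVne, hV⟩

end NormStalk

end Groth.Agent.Lib.Helper38
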