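import Mathlib

/-!
# Descent of "integrally closed domain" along faithfully flat ring maps (helper38)
-/

namespace Groth.Agent.Lib.Helper38

/-- If `B` is a faithfully flat `A`-algebra and `B` is an integrally closed domain,
then so is `A`. -/
theorem isDomain_and_isIntegrallyClosed_of_faithfullyFlat (A B : Type*) [CommRing A] [CommRing B]
    [Algebra A B] [Module.FaithfullyFlat A B] [IsDomain B] [IsIntegrallyClosed B] :
    IsDomain A ∧ IsIntegrallyClosed A := by
  have hinj : Function.Injective (algebraMap A B) := FaithfulSMul.algebraMap_injective A B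
  haveI hdom : IsDomain A := hinj.isDomain (algebraMap A B)
  refine ⟨hdom, ?_⟩
  let K := FractionRing A
  let L := FractionRing B
  have hinj' : Function.Injective ((algebraMap B L).comp (algebraMap A B)) :=
    (IsFractionRing.injective B L).comp hinj
  let ψ : K →+* L := IsFractionRing.lift (g := (algebraMap B L).comp (algebraMap A B)) hinj'
  have hψ : ∀ a : A, ψ (algebraMap A K a) = algebraMap B L (algebraMap A B a) := fun a =>
    IsFractionRing.lift_algebraMap hinj' a
  rw [isIntegrallyClosed_iff K]
  intro x hx
  obtain ⟨a, b, hb, rfl⟩ := IsFractionRing.div_surjective (A := A) x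
  have hb0 : b ≠ 0 := nonZeroDivisors.ne_zero hb
  have hbK : algebraMap A K b ≠ 0 := by
    rwa [Ne, IsFractionRing.to_map_eq_zero_iff]
  have hint : IsIntegral B (ψ (algebraMap A K a / algebraMap A K b)) :=
    IsIntegral.map_of_comp_eq (algebraMap A B) ψ (RingHom.ext fun r => (hψ r).symm) hx
  obtain ⟨c, hc⟩ := (isIntegrallyClosed_iff L).mp inferInstance hint
  have h1 : algebraMap A B b * c = algebraMap A B a := by
    apply IsFractionRing.injective B L
    rw [map_mul, hc, ← hψ, ← hψ, ← map_mul, mul_div_cancel₀ _ hbK]
  have h2 : a ∈ (Ideal.span {b} : Ideal A) := by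
    rw [← Ideal.comap_map_eq_self_of_faithfullyFlat (B := B) (Ideal.span {b}), Ideal.mem_comap,
      Ideal.map_span, Set.image_singleton, Ideal.mem_span_singleton']
    exact ⟨c, by rw [mul_comm, h1]⟩
  obtain ⟨a', ha'⟩ := Ideal.mem_span_singleton'.mp h2
  refine ⟨a', ?_⟩
  rw [eq_div_iff hbK, ← map_mul, ha']

end Groth.Agent.Lib.Helper38
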