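import Groth.Agent.Lib.Helper38.SerreVanishPn
import Groth.Agent.Lib.Helper38.MulBySection
import Groth.Agent.Lib.Helper38.DimCompl
import Groth.Agent.Lib.Helper38.HHChase
import Groth.Agent.Lib.Helper17.ProjSpaceProper
import Groth.Agent.Lib.Helper17.VeryAmpleAmple
import Groth.Agent.Lib.Helper11.AmpleFinite
import Groth.Agent.Lib.Helper11.SupportTensor
import Groth.Agent.S1526
import Groth.Agent.S9514

/-!
# Coherent modules on `P^n_k` with support of dimension `≤ 1` (helper38)

`subsingleton_HH_twist_of_supportDim_le_one`: for a coherent module `G` on `P^n_k` (`k` a field)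
whose support has Krull dimension at most one, `H^j(P^n_k, G(d)) = 0` for all `j ≥ 2` and all `d`.
(Multiply by a section of `O(e)` not vanishing at a point of each component of the support, and use
Serre vanishing.)
-/

set_option autoImplicit false
universe u
open AlgebraicGeometry CategoryTheory Limits Opposite TopologicalSpace Topology

namespace Groth.Agent.Lib.Helper38.PnDimOne

open Groth.Agent.Lib.Helper38.SerreVanishPn Groth.Agent.Lib.Helper38.MulBySection
  Groth.Agent.Lib.Helper38.TwistEquiv Groth.Agent.Lib.Helper11.GenLocus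

variable (n : ℕ) (k : Type u) [Field k]

instance : IsProper ((CohB1.ProjSpace n k) ↘ (Spec (CommRingCat.of k))) :=
  Groth.Agent.Lib.Helper17.ProjSpaceProper.isProper_toSpec n k

instance : IsLocallyNoetherian (CohB1.ProjSpace n k) :=
  LocallyOfFiniteType.isLocallyNoetherian ((CohB1.ProjSpace n k) ↘ (Spec (CommRingCat.of k)))

instance : IsNoetherian (CohB1.ProjSpace n k) where

/-- `O(1)^{⊗ e} ≅ O(e)`. -/
noncomputable def powIso : ∀ e : ℕ,
    CohB1.tensorPow (Twist.twistProjSpace n k 1) e ≅ Twist.twistProjSpace n k (e : ℤ)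
  | 0 => (twistZeroIso n k).symm ≪≫ eqToIso (by simp)
  | e + 1 => tensorModCongr (powIso e) (Iso.refl _) ≪≫ twistTensorIso n k (e : ℤ) 1 ≪≫
      eqToIso (by push_cast; rfl)

theorem isCoh_tw {M : (CohB1.ProjSpace n k).Modules} (hM : Coh.IsCoh M) (d : ℤ) :
    Coh.IsCoh (CohB1.tensorMod M (Twist.twistProjSpace n k d)) := by
  have hO := Groth.Agent.Lib.Helper17.FinCoh.isCoh_twist n k d
  haveI : M.IsQuasicoherent := hM.1
  haveI : (Twist.twistProjSpace n k d).IsQuasicoherent := hO.1
  have hT := Groth.Agent.Lib.Helper11.TildeTensor.isQuasicoherent_tensorMod M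
    (Twist.twistProjSpace n k d)
  exact ⟨hT.1, hT.2 hM.2 hO.2⟩

theorem support_tw_subset {M : (CohB1.ProjSpace n k).Modules} (hM : Coh.IsCoh M) (d : ℤ) :
    CohB1.support (CohB1.tensorMod M (Twist.twistProjSpace n k d)) ⊆ CohB1.support M := by
  have hO := Groth.Agent.Lib.Helper17.FinCoh.isCoh_twist n k d
  haveI : M.IsQuasicoherent := hM.1
  haveI : (Twist.twistProjSpace n k d).IsQuasicoherent := hO.1
  rw [Groth.Agent.Lib.Helper11.SupportTensor.support_tensorMod _ _ hM.2 hO.2]
  exact Set.inter_subset_left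

variable {n k}

/-- one step: multiplication by a section `s` of `O(e)` whose locus `X_s` meets every irreducible
component of the closed set `S ⊇ Supp M`. -/
theorem subsingleton_HH_of_tw {S : Set (CohB1.ProjSpace n k)}
    (hS : topologicalKrullDim S ≤ 1) (e : ℤ)
    (s : Coh.structureModule (CohB1.ProjSpace n k) ⟶ Twist.twistProjSpace n k e)
    (hmeet : ∀ C ∈ irreducibleComponents S,
      (C ∩ (Subtype.val ⁻¹' (CohB1.genLocus _ s : Set (CohB1.ProjSpace n k)))).Nonempty)
    (M : (CohB1.ProjSpace n k).Modules) (hM : Coh.IsCoh M) (hMS : CohB1.support M ⊆ S)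
    (j : ℕ) (hj : 2 ≤ j)
    (h : Subsingleton (Coh.HH (CohB1.ProjSpace n k)
      (CohB1.tensorMod M (Twist.twistProjSpace n k e)) j)) :
    Subsingleton (Coh.HH (CohB1.ProjSpace n k) M j) := by
  set W : Set (CohB1.ProjSpace n k) := (CohB1.genLocus _ s : Set (CohB1.ProjSpace n k)) with hW
  have hWo : IsOpen W := (CohB1.genLocus _ s).2
  -- the dimension of `S \ W`
  have hdim0 : topologicalKrullDim ↥((Subtype.val ⁻¹' W : Set S)ᶜ) ≤ 0 :=
    DimCompl.topologicalKrullDim_compl_le_zero hS _ (hWo.preimage continuous_subtype_val) hmeet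
  have hdimY : ∀ T : Set (CohB1.ProjSpace n k), T ⊆ S ∩ Wᶜ → topologicalKrullDim T ≤ 0 := by
    intro T hT
    let g : T → ↥((Subtype.val ⁻¹' W : Set S)ᶜ) := fun x => ⟨⟨x.1, (hT x.2).1⟩, (hT x.2).2⟩
    have hg : Continuous g := by
      apply Continuous.subtype_mk
      apply Continuous.subtype_mk
      exact continuous_subtype_val
    have hcomp : IsInducing ((fun y : ↥((Subtype.val ⁻¹' W : Set S)ᶜ) => (y.1.1 :
        CohB1.ProjSpace n k)) ∘ g) := by
      have : ((fun y : ↥((Subtype.val ⁻¹' W : Set S)ᶜ) => (y.1.1 : CohB1.ProjSpace n k)) ∘ g) =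
          Subtype.val := rfl
      rw [this]
      exact IsInducing.subtypeVal
    have hgi : IsInducing g :=
      IsInducing.of_comp hg (continuous_subtype_val.comp continuous_subtype_val) hcomp
    exact hgi.topologicalKrullDim_le.trans hdim0
  have hMd := isCoh_tw n k hM e
  set φ := mulBy M s with hφ
  have hK : Coh.IsCoh (kernel φ) := (Groth.Agent.S9514.result _ hM hMd φ).1
  have hC : Coh.IsCoh (cokernel φ) := (Groth.Agent.S9514.result _ hM hMd φ).2
  have hKs : topologicalKrullDim (CohB1.support (kernel φ)) ≤ 0 := by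
    apply hdimY
    intro x hx
    have := support_kernel_mulBy_subset M s hx
    exact ⟨hMS this.1, this.2⟩
  have hCs : topologicalKrullDim (CohB1.support (cokernel φ)) ≤ 0 := by
    apply hdimY
    intro x hx
    have := support_cokernel_mulBy_subset M s hx
    exact ⟨hMS (support_tw_subset n k hM e this.1), this.2⟩
  have hK0 : Subsingleton (Coh.HH (CohB1.ProjSpace n k) (kernel φ) j) :=
    Groth.Agent.S1526.result k _ _ hK hKs j (by omega)
  obtain ⟨j', rfl⟩ : ∃ j', j = j' + 1 := ⟨j - 1, by omega⟩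
  have hC0 : Subsingleton (Coh.HH (CohB1.ProjSpace n k) (cokernel φ) j') :=
    Groth.Agent.S1526.result k _ _ hC hCs j' (by omega)
  -- `0 → im φ → M(e) → coker φ → 0`
  have hS2 : (ShortComplex.mk (Abelian.image.ι φ) (cokernel.π φ)
      (kernel.condition (cokernel.π φ))).ShortExact :=
    { exact := ShortComplex.exact_of_f_is_kernel _ (kernelIsKernel (cokernel.π φ))
      mono_f := inferInstanceAs (Mono (kernel.ι (cokernel.π φ)))
      epi_g := inferInstanceAs (Epi (cokernel.π φ)) }
  have hI : Subsingleton (Coh.HH (CohB1.ProjSpace n k) (Abelian.image φ) (j' + 1)) :=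
    HHChase.subsingleton_HH_left hS2 j' hC0 h
  exact Groth.Agent.Lib.Helper1.subsingleton_HH_of_shortExact
    (Groth.Agent.Lib.Helper1.kerImComplex_shortExact φ) (j' + 1) hK0 hI

/-- `G(d) ⊗ O(e) ≅ G(d + e)`. -/
noncomputable def twTwIso (G : (CohB1.ProjSpace n k).Modules) (d e : ℤ) :
    CohB1.tensorMod (CohB1.tensorMod G (Twist.twistProjSpace n k d)) (Twist.twistProjSpace n k e) ≅
      CohB1.tensorMod G (Twist.twistProjSpace n k (d + e)) :=
  (assocNat (Twist.twistProjSpace n k d) (Twist.twistProjSpace n k e)).app G ≪≫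
    (congrNat (twistTensorIso n k d e)).app G

theorem subsingleton_HH_twist_aux (G : (CohB1.ProjSpace n k).Modules)
    (hG : Coh.IsCoh G) (hdim : topologicalKrullDim (CohB1.support G) ≤ 1)
    (e : ℤ) (he1 : 1 ≤ e)
    (s : Coh.structureModule (CohB1.ProjSpace n k) ⟶ Twist.twistProjSpace n k e)
    (hmeet : ∀ C ∈ irreducibleComponents (CohB1.support G),
      (C ∩ (Subtype.val ⁻¹' (CohB1.genLocus _ s : Set (CohB1.ProjSpace n k)))).Nonempty)
    (d : ℤ) (j : ℕ) (hj : 2 ≤ j) :
    Subsingleton (Coh.HH (CohB1.ProjSpace n k)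
      (CohB1.tensorMod G (Twist.twistProjSpace n k d)) j) := by
  have step : ∀ d' : ℤ, Subsingleton (Coh.HH (CohB1.ProjSpace n k)
      (CohB1.tensorMod G (Twist.twistProjSpace n k (d' + e))) j) →
      Subsingleton (Coh.HH (CohB1.ProjSpace n k)
        (CohB1.tensorMod G (Twist.twistProjSpace n k d')) j) := by
    intro d' h
    refine subsingleton_HH_of_tw hdim e s hmeet _ (isCoh_tw n k hG d')
      (support_tw_subset n k hG d') j hj ?_
    exact subsingleton_HH_of_iso k (twTwIso G d' e) j h
  have iter : ∀ r : ℕ, ∀ d' : ℤ, Subsingleton (Coh.HH (CohB1.ProjSpace n k)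
      (CohB1.tensorMod G (Twist.twistProjSpace n k (d' + r * e))) j) →
      Subsingleton (Coh.HH (CohB1.ProjSpace n k)
        (CohB1.tensorMod G (Twist.twistProjSpace n k d')) j) := by
    intro r
    induction r with
    | zero =>
      intro d' h
      have : d' + ((0 : ℕ) : ℤ) * e = d' := by simp
      rwa [this] at h
    | succ r ih =>
      intro d' h
      apply step d'
      apply ih (d' + e)
      have : d' + e + (r : ℤ) * e = d' + ((r + 1 : ℕ) : ℤ) * e := by push_cast; ring
      rwa [this]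
  obtain ⟨d₀, hd₀⟩ := serre_vanishing n k G hG
  apply iter (d₀ - d).toNat d
  apply hd₀ _ _ j (by omega)
  have h1 : d₀ - d ≤ ((d₀ - d).toNat : ℤ) := Int.self_le_toNat _
  have h2 : (0 : ℤ) ≤ ((d₀ - d).toNat : ℤ) := Int.natCast_nonneg _
  nlinarith

/-- **Vanishing above the dimension of the support, for supports of dimension `≤ 1` on `P^n_k`.** -/
theorem subsingleton_HH_twist_of_supportDim_le_one (G : (CohB1.ProjSpace n k).Modules)
    (hG : Coh.IsCoh G) (hdim : topologicalKrullDim (CohB1.support G) ≤ 1) (d : ℤ)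
    (j : ℕ) (hj : 2 ≤ j) :
    Subsingleton (Coh.HH (CohB1.ProjSpace n k)
      (CohB1.tensorMod G (Twist.twistProjSpace n k d)) j) := by
  classical
  have hfin : (irreducibleComponents (CohB1.support G)).Finite :=
    NoetherianSpace.finite_irreducibleComponents
  have hne : ∀ C : irreducibleComponents (CohB1.support G),
      (C.1 : Set (CohB1.support G)).Nonempty := fun C => C.2.1.nonempty
  choose pt hpt using hne
  haveI : Finite (irreducibleComponents (CohB1.support G)) := Set.finite_coe_iff.mpr hfin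
  have hZ : (Set.range (fun C : irreducibleComponents (CohB1.support G) => ((pt C).1 :
    CohB1.ProjSpace n k))).Finite := Set.finite_range _
  obtain ⟨m, t, ht⟩ := exists_section_of_finite
    (Groth.Agent.Lib.Helper17.VeryAmpleAmple.isAmple_O1 n k) _ hZ
  have hloc : CohB1.genLocus _ (t ≫ (powIso n k (m + 1)).hom) = CohB1.genLocus _ t :=
    genLocus_comp_iso t (powIso n k (m + 1))
  refine subsingleton_HH_twist_aux G hG hdim ((m + 1 : ℕ) : ℤ) (by push_cast; omega)
    (t ≫ (powIso n k (m + 1)).hom) ?_ d j hj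
  intro C hC
  refine ⟨pt ⟨C, hC⟩, hpt ⟨C, hC⟩, ?_⟩
  rw [hloc]
  exact ht ⟨⟨C, hC⟩, rfl⟩

end Groth.Agent.Lib.Helper38.PnDimOne
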