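import Groth.Agent.Lib.Helper38.CechPush
import Groth.Agent.Lib.Helper17.HZero

/-!
# Sections of a pushforward over an affine open as `H^0` of the preimage (helper38)

`hh0Lin`: `H^0(Z, M) ≃ₗ[A] Γ(M, ⊤)` for `Z` over `Spec A`.
`secTopEquiv`, `finite_sections_of_finite_HH`: for `g : Y ⟶ X` and an affine open `W` of `X`, with
`g⁻¹ W` viewed over `Spec Γ(X, W)` through `fW = g ∣_ W ≫ hW.isoSpec.hom`.
-/

set_option autoImplicit false
universe u
open AlgebraicGeometry CategoryTheory Limits TopologicalSpace Opposite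

namespace Groth.Agent.Lib.Helper38.PropFinSec

open Groth.Agent.Lib.Helper49 Groth.Agent.Lib.Helper38.SecMod Groth.Agent.Lib.Helper38.SecRestrict

section hh0

variable {A : Type u} [CommRing A] {Z : Scheme.{u}} (s : Z ⟶ Spec (CommRingCat.of A))
  (M : Z.Modules)

theorem secMap_top_eq (a : A) : secMap s ⊤ a = Coh.toGlobal s a := by
  change fres le_top (tg s a) = _
  change (Z.presheaf.map (𝟙 _)).hom _ = _
  rw [Z.presheaf.map_id]
  rfl

/-- `H^0` is the module of global sections, linearly over the base. -/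
noncomputable def hh0Lin :
    letI : Module A (Coh.HH Z M 0) := Module.compHom _ (Coh.toGlobal s)
    Coh.HH Z M 0 ≃ₗ[A] Sec s M ⊤ :=
  letI : Module A (Coh.HH Z M 0) := Module.compHom _ (Coh.toGlobal s)
  { Groth.Agent.Lib.Helper17.HZero.hh0Equiv M with
    map_smul' := fun a x => by
      change Groth.Agent.Lib.Helper17.HZero.hh0Equiv M (Coh.toGlobal s a • x) =
        secMap s ⊤ a • Groth.Agent.Lib.Helper17.HZero.hh0Equiv M x
      rw [Groth.Agent.Lib.Helper17.HZero.hh0Equiv_smul, secMap_top_eq]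
      rfl }

end hh0

section push

theorem fres_self' {Z : Scheme.{u}} {O : Z.Opens} (h : O ≤ O) (r : Γ(Z, O)) : fres h r = r := by
  change (Z.presheaf.map (𝟙 _)).hom r = r
  rw [Z.presheaf.map_id]
  rfl

variable {Y X : Scheme.{u}} (g : Y ⟶ X) (W : X.Opens) (hW : IsAffineOpen W) (N : Y.Modules)

/-- the structure morphism of `g⁻¹ W` over `Spec Γ(X, W)`. -/
noncomputable abbrev fW : ((g ⁻¹ᵁ W : Y.Opens) : Scheme.{u}) ⟶ Spec (CommRingCat.of Γ(X, W)) :=
  g ∣_ W ≫ hW.isoSpec.hom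

theorem tg_fW (r : Γ(X, W)) :
    tg (fW g W hW) r = ((g ∣_ W).appTop).hom (W.topIso.inv.hom r) := by
  change ((g ∣_ W ≫ hW.isoSpec.hom).appTop).hom ((Scheme.ΓSpecIso Γ(X, W)).inv.hom r) = _
  rw [Scheme.Hom.comp_appTop, IsAffineOpen.isoSpec_hom_appTop]
  simp

theorem key (r : Γ(X, W)) :
    (show Γ(Y, (g ⁻¹ᵁ W).ι ''ᵁ ⊤) from tg (fW g W hW) r) =
      fres (g ⁻¹ᵁ W).ι_image_top.le ((g.app W).hom r) := by
  rw [tg_fW, morphismRestrict_appTop]
  simp only [Scheme.Opens.topIso_inv]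
  change (X.presheaf.map _ ≫ g.app _ ≫ Y.presheaf.map _).hom r =
    (g.app W ≫ Y.presheaf.map (homOfLE (g ⁻¹ᵁ W).ι_image_top.le).op).hom r
  rw [Scheme.Hom.naturality_assoc, ← Functor.map_comp]
  rfl

theorem appIso_inv_secMap_fW (r : Γ(X, W)) :
    ((g ⁻¹ᵁ W).ι.appIso ⊤).inv.hom (secMap (fW g W hW) ⊤ r) =
      fres (g ⁻¹ᵁ W).ι_image_top.le ((g.app W).hom r) := by
  rw [Scheme.Opens.ι_appIso]
  have h1 : secMap (fW g W hW) ⊤ r = tg (fW g W hW) r := by
    change fres le_top (tg (fW g W hW) r) = _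
    exact fres_self' _ _
  rw [h1]
  exact key g W hW r

/-- global sections of the restriction to `g⁻¹ W` are the sections of the pushforward over `W`. -/
noncomputable def secTopEquiv :
    Sec (fW g W hW) (N.restrict (g ⁻¹ᵁ W).ι) ⊤ ≃ₗ[Γ(X, W)]
      Γ((Scheme.Modules.pushforward g).obj N, W) where
  toFun m := (show Γ((Scheme.Modules.pushforward g).obj N, W) from
    mres N (g ⁻¹ᵁ W).ι_image_top.ge (show Γ(N, (g ⁻¹ᵁ W).ι ''ᵁ ⊤) from m))
  invFun t := toSec (fW g W hW) (N.restrict (g ⁻¹ᵁ W).ι) ⊤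
    (show Γ(N.restrict (g ⁻¹ᵁ W).ι, ⊤) from
      mres N (g ⁻¹ᵁ W).ι_image_top.le (show Γ(N, g ⁻¹ᵁ W) from t))
  map_add' a b := map_add (mres N (g ⁻¹ᵁ W).ι_image_top.ge) _ _
  map_smul' r m := by
    change mres N (g ⁻¹ᵁ W).ι_image_top.ge
        (((g ⁻¹ᵁ W).ι.appIso ⊤).inv.hom (secMap (fW g W hW) ⊤ r) •
          (show Γ(N, (g ⁻¹ᵁ W).ι ''ᵁ ⊤) from m)) =
      ((g.app W).hom r) • mres N (g ⁻¹ᵁ W).ι_image_top.ge (show Γ(N, (g ⁻¹ᵁ W).ι ''ᵁ ⊤) from m)
    rw [appIso_inv_secMap_fW, mres_smul, fres_fres]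
    congr 1
    exact fres_self' _ _
  left_inv m := by
    change mres N (g ⁻¹ᵁ W).ι_image_top.le (mres N (g ⁻¹ᵁ W).ι_image_top.ge _) = m
    rw [mres_mres]
    exact mres_self N _
  right_inv t := by
    change mres N (g ⁻¹ᵁ W).ι_image_top.ge (mres N (g ⁻¹ᵁ W).ι_image_top.le _) = t
    rw [mres_mres]
    exact mres_self N _

/-- finiteness of `H^0` of the restriction to `g⁻¹ W` gives finiteness of the sections of the
pushforward over `W`. -/
theorem finite_sections_of_finite_HH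
    (h : letI : Module Γ(X, W) (Coh.HH ((g ⁻¹ᵁ W : Y.Opens) : Scheme.{u})
        (N.restrict (g ⁻¹ᵁ W).ι) 0) := Module.compHom _ (Coh.toGlobal (fW g W hW))
      Module.Finite Γ(X, W) (Coh.HH ((g ⁻¹ᵁ W : Y.Opens) : Scheme.{u})
        (N.restrict (g ⁻¹ᵁ W).ι) 0)) :
    Module.Finite Γ(X, W) Γ((Scheme.Modules.pushforward g).obj N, W) := by
  letI : Module Γ(X, W) (Coh.HH ((g ⁻¹ᵁ W : Y.Opens) : Scheme.{u})
    (N.restrict (g ⁻¹ᵁ W).ι) 0) := Module.compHom _ (Coh.toGlobal (fW g W hW))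
  exact Module.Finite.equiv
    ((hh0Lin (fW g W hW) (N.restrict (g ⁻¹ᵁ W).ι)).trans (secTopEquiv g W hW N))

end push

end Groth.Agent.Lib.Helper38.PropFinSec
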