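import Groth.Agent.Lib.Helper16.FlatPull.Chart
import Groth.Agent.Lib.Helper11.PullbackBasis
import Groth.Agent.Lib.Helper11.GenLocusBasis

set_option autoImplicit false
universe u
open AlgebraicGeometry CategoryTheory Limits TopologicalSpace Opposite TensorProduct

namespace Groth.Agent.Lib.Helper38.PullSBC

open Groth.Agent.Lib.Helper11.PullbackChart Groth.Agent.Lib.Helper11 Groth.Agent.Lib.Helper49
  Groth.Agent.Lib.Helper16.FlatPull Groth.Agent.Lib.Helper11.PullbackBasis
  Groth.Agent.Lib.Helper11.GenLocus Groth.Agent.Lib.Helper16 Groth.Agent.Lib.Helper11.CounitEpi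

section charts

variable {X Y : Scheme.{u}} (h : X ⟶ Y) {U : Y.Opens} (hU : IsAffineOpen U) {W : X.Opens}
  (hW : IsAffineOpen W) (hWU : W ≤ h ⁻¹ᵁ U)

theorem comp_three {C : Type*} [Category C] {D : Type*} [Category D] (Γ : C ⥤ D)
    {A B T T' : C} {E E' : D} (a : A ⟶ B) (bc : B ⟶ T) (bc' : A ⟶ T') (t : T' ⟶ T)
    (d : Γ.obj T ⟶ E) (d' : Γ.obj T' ⟶ E') (w : E' ⟶ E)
    (h1 : a ≫ bc = bc' ≫ t) (h2 : Γ.map t ≫ d = d' ≫ w) :
    Γ.map a ≫ Γ.map bc ≫ d = (Γ.map bc' ≫ d') ≫ w := by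
  rw [← Category.assoc, ← Functor.map_comp, h1, Functor.map_comp, Category.assoc, h2,
    Category.assoc]

/-- naturality of helper16's `sectionsIso` in the quasi-coherent module. -/
theorem sectionsIso_naturality {F G : Y.Modules} [F.IsQuasicoherent] [G.IsQuasicoherent]
    (u : F ⟶ G) :
    (ΓU hW).map ((Scheme.Modules.pullback h).map u) ≫ (sectionsIso h hU hW hWU G).hom =
      (sectionsIso h hU hW hWU F).hom ≫
        (ModuleCat.extendScalars (h.appLE U W hWU).hom).map ((ΓU hU).map u) := by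
  have hw := Arrow.w (chartArrowIso h hU hW hWU u).hom
  have hl : (chartArrowIso h hU hW hWU u).hom.left = (chartIso h hU hW hWU F).hom := rfl
  have hr : (chartArrowIso h hU hW hWU u).hom.right = (chartIso h hU hW hWU G).hom := rfl
  rw [hl, hr] at hw
  have hw' : (Scheme.Modules.pullback hW.fromSpec).map ((Scheme.Modules.pullback h).map u) ≫
      (chartIso h hU hW hWU G).hom = (chartIso h hU hW hWU F).hom ≫
      tilde.map ((ModuleCat.extendScalars (h.appLE U W hWU).hom).map ((ΓU hU).map u)) := hw.symm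
  have hn := (Scheme.Modules.restrictFunctorIsoPullback hW.fromSpec).hom.naturality
    ((Scheme.Modules.pullback h).map u)
  have ht := (tilde.toTildeΓNatIso (R := Γ(X, W))).inv.naturality
    ((ModuleCat.extendScalars (h.appLE U W hWU).hom).map ((ΓU hU).map u))
  have h1 : (Scheme.Modules.restrictFunctor hW.fromSpec).map ((Scheme.Modules.pullback h).map u) ≫
      ((Scheme.Modules.restrictFunctorIsoPullback hW.fromSpec).hom.app _ ≫
          (chartIso h hU hW hWU G).hom) =
      ((Scheme.Modules.restrictFunctorIsoPullback hW.fromSpec).hom.app _ ≫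
          (chartIso h hU hW hWU F).hom) ≫
      tilde.map ((ModuleCat.extendScalars (h.appLE U W hWU).hom).map ((ΓU hU).map u)) := by
    rw [← Category.assoc, hn, Category.assoc, hw', Category.assoc]
  exact comp_three moduleSpecΓFunctor _ _ _ _ _ _ _ h1 ht

/-- The canonical map on sections `Γ(G, U) → Γ(h^* G, W)` for `W ≤ h⁻¹ U`. -/
noncomputable def kap (G : Y.Modules) : Γ(G, U) →+ Γ((Scheme.Modules.pullback h).obj G, W) :=
  (mres ((Scheme.Modules.pullback h).obj G) hWU).comp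
    (((Scheme.Modules.pullbackPushforwardAdjunction h).unit.app G).app U).hom

theorem kap_apply (G : Y.Modules) (t : Γ(G, U)) :
    kap h hWU G t = mres ((Scheme.Modules.pullback h).obj G) hWU (pullS h G U t) := rfl

theorem kap_smul (G : Y.Modules) (r : Γ(Y, U)) (t : Γ(G, U)) :
    kap h hWU G (r • t) = (h.appLE U W hWU).hom r • kap h hWU G t := by
  rw [kap_apply, kap_apply, pullS_smul, mres_smul]
  rfl

theorem kap_naturality {F G : Y.Modules} (u : F ⟶ G) (t : Γ(F, U)) :
    (((Scheme.Modules.pullback h).map u).app W).hom (kap h hWU F t) =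
      kap h hWU G ((u.app U).hom t) := by
  rw [kap_apply, kap_apply, ← pullS_naturality]
  exact (app_res ((Scheme.Modules.pullback h).map u) hWU (pullS h F U t)).symm

/-- helper16's chart equivalence, as a definition. -/
noncomputable def eqv (G : Y.Modules) [G.IsQuasicoherent] :
    letI := (h.appLE U W hWU).hom.toAlgebra
    Γ(X, W) ⊗[Γ(Y, U)] Γ(G, U) ≃ₗ[Γ(X, W)] Γ((Scheme.Modules.pullback h).obj G, W) :=
  letI := (h.appLE U W hWU).hom.toAlgebra
  (TensorProduct.AlgebraTensorModule.congr (LinearEquiv.refl Γ(X, W) Γ(X, W))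
      (sectionsFromSpecTopEquiv hU G).symm) ≪≫ₗ
    (extEquiv (h.appLE U W hWU).hom ((ΓU hU).obj G)).symm ≪≫ₗ
    (sectionsIso h hU hW hWU G).toLinearEquiv.symm ≪≫ₗ
    sectionsFromSpecTopEquiv hW ((Scheme.Modules.pullback h).obj G)

theorem ΓU_map_apply {F G : Y.Modules} (u : F ⟶ G)
    (m : Γ(F.restrict hU.fromSpec, (⊤ : (Spec Γ(Y, U)).Opens))) :
    ((ΓU hU).map u).hom m = (((Scheme.Modules.restrictFunctor hU.fromSpec).map u).app ⊤).hom m :=
  rfl

set_option maxRecDepth 8000 in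
theorem eqv_naturality {F G : Y.Modules} [F.IsQuasicoherent] [G.IsQuasicoherent] (u : F ⟶ G)
    (r : Γ(X, W)) (t : Γ(F, U)) :
    letI := (h.appLE U W hWU).hom.toAlgebra
    (((Scheme.Modules.pullback h).map u).app W).hom (eqv h hU hW hWU F (r ⊗ₜ t)) =
      eqv h hU hW hWU G (r ⊗ₜ ((u.app U).hom t)) := by
  letI := (h.appLE U W hWU).hom.toAlgebra
  have hn := sectionsIso_naturality h hU hW hWU u
  -- unfold the equivalences
  have e1 : ∀ (G : Y.Modules) [G.IsQuasicoherent] (r : Γ(X, W)) (t : Γ(G, U)),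
      eqv h hU hW hWU G (r ⊗ₜ t) =
        sectionsFromSpecTopEquiv hW ((Scheme.Modules.pullback h).obj G)
          ((sectionsIso h hU hW hWU G).inv.hom
            ((r ⊗ₜ[Γ(Y, U)] ((sectionsFromSpecTopEquiv hU G).symm t) :
              (ModuleCat.extendScalars (h.appLE U W hWU).hom).obj ((ΓU hU).obj G)))) :=
    fun G _ r t => rfl
  rw [e1, e1]
  rw [← sectionsFromSpecTopEquiv_naturality hW ((Scheme.Modules.pullback h).map u)]
  congr 1
  rw [← ΓU_map_apply]
  -- now in ModuleCat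
  have h2 : (sectionsIso h hU hW hWU F).inv ≫ (ΓU hW).map ((Scheme.Modules.pullback h).map u) =
      (ModuleCat.extendScalars (h.appLE U W hWU).hom).map ((ΓU hU).map u) ≫
        (sectionsIso h hU hW hWU G).inv := by
    rw [Iso.inv_comp_eq, ← Category.assoc, ← hn, Category.assoc, Iso.hom_inv_id, Category.comp_id]
  have h3 := congrArg (fun φ => φ.hom ((r ⊗ₜ[Γ(Y, U)] ((sectionsFromSpecTopEquiv hU F).symm t) :
              (ModuleCat.extendScalars (h.appLE U W hWU).hom).obj ((ΓU hU).obj F)))) h2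
  refine h3.trans ?_
  change (sectionsIso h hU hW hWU G).inv.hom
    (((ModuleCat.extendScalars (h.appLE U W hWU).hom).map ((ΓU hU).map u)).hom _) = _
  congr 1
  refine (ModuleCat.ExtendScalars.map_tmul (f := (h.appLE U W hWU).hom) ((ΓU hU).map u) r
    ((sectionsFromSpecTopEquiv hU F).symm t)).trans ?_
  congr 1
  apply (sectionsFromSpecTopEquiv hU G).injective
  rw [LinearEquiv.apply_symm_apply, ΓU_map_apply,
    sectionsFromSpecTopEquiv_naturality hU u, LinearEquiv.apply_symm_apply]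

/-- the image of the unit section under `kap` corresponds to `1`. -/
theorem pullbackUnitIso_kap_one :
    (((pullbackUnitIso h).hom.app W).hom (kap h hWU (Coh.structureModule Y) (toO U 1))) =
      toO W 1 := by
  rw [kap_apply]
  have h1 := app_res (pullbackUnitIso h).hom hWU (pullS h (Coh.structureModule Y) U (toO U 1))
  have h2 := pullbackUnitIso_hom_pullS (f := h) U 1
  rw [map_one] at h2
  refine h1.symm.trans ?_
  rw [h2, toO_res, map_one]

/-- every element of `Γ(X, W) ⊗ Γ(O_Y, U)` is of the form `c ⊗ 1`. -/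
theorem exists_tmul_one
    (z : letI := (h.appLE U W hWU).hom.toAlgebra
      Γ(X, W) ⊗[Γ(Y, U)] Γ(Coh.structureModule Y, U)) :
    letI := (h.appLE U W hWU).hom.toAlgebra
    ∃ c : Γ(X, W), z = c ⊗ₜ[Γ(Y, U)] (toO U 1) := by
  letI := (h.appLE U W hWU).hom.toAlgebra
  induction z using TensorProduct.induction_on with
  | zero => exact ⟨0, (TensorProduct.zero_tmul _ _).symm⟩
  | tmul r a =>
    refine ⟨(h.appLE U W hWU).hom (ofO U a) * r, ?_⟩
    have ha : a = (ofO U a) • toO U 1 := by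
      rw [toO_smul, mul_one, toO_ofO]
    conv_lhs => rw [ha]
    rw [TensorProduct.tmul_smul, TensorProduct.smul_tmul']
    rfl
  | add x y hx hy =>
    obtain ⟨c, rfl⟩ := hx
    obtain ⟨d, rfl⟩ := hy
    exact ⟨c + d, (TensorProduct.add_tmul _ _ _).symm⟩

theorem exists_unit :
    letI := (h.appLE U W hWU).hom.toAlgebra
    ∃ c : Γ(X, W), IsUnit c ∧ kap h hWU (Coh.structureModule Y) (toO U 1) =
      c • eqv h hU hW hWU (Coh.structureModule Y) (1 ⊗ₜ[Γ(Y, U)] toO U 1) := by
  letI := (h.appLE U W hWU).hom.toAlgebra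
  obtain ⟨z, hz⟩ := (eqv h hU hW hWU (Coh.structureModule Y)).surjective
    (kap h hWU (Coh.structureModule Y) (toO U 1))
  obtain ⟨c, rfl⟩ := exists_tmul_one h hWU z
  have hc : c ⊗ₜ[Γ(Y, U)] (toO U (1 : Γ(Y, U))) = c • ((1 : Γ(X, W)) ⊗ₜ[Γ(Y, U)] toO U 1) := by
    rw [TensorProduct.smul_tmul', smul_eq_mul, mul_one]
  rw [hc, map_smul] at hz
  refine ⟨c, ?_, hz.symm⟩
  have h1 := pullbackUnitIso_kap_one h hWU
  rw [← hz, Scheme.Modules.Hom.app_smul] at h1
  have h2 := congrArg (ofO W) h1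
  rw [ofO_smul, ofO_toO] at h2
  exact IsUnit.of_mul_eq_one _ h2

end charts

section gen
variable {X Y : Scheme.{u}} (h : X ⟶ Y) {U : Y.Opens} {W : X.Opens} (hWU : W ≤ h ⁻¹ᵁ U)

/-- `kap` as a linear map over the sections of the target. -/
noncomputable def kapL (G : Y.Modules) :
    letI := (h.appLE U W hWU).hom.toAlgebra
    letI : Module Γ(Y, U) Γ((Scheme.Modules.pullback h).obj G, W) :=
      Module.compHom _ (h.appLE U W hWU).hom
    Γ(G, U) →ₗ[Γ(Y, U)] Γ((Scheme.Modules.pullback h).obj G, W) :=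
  letI := (h.appLE U W hWU).hom.toAlgebra
  letI : Module Γ(Y, U) Γ((Scheme.Modules.pullback h).obj G, W) :=
    Module.compHom _ (h.appLE U W hWU).hom
  { toFun := kap h hWU G
    map_add' := map_add _
    map_smul' := fun r t => kap_smul h hWU G r t }

end gen

section top

variable {X Y : Scheme.{u}} (h : X ⟶ Y) {W : X.Opens} (hW : IsAffineOpen W)
  (hT : IsAffineOpen (⊤ : Y.Opens)) (hWT : W ≤ h ⁻¹ᵁ ⊤)

theorem kap_eq_smul_eqv :
    letI := (h.appLE ⊤ W hWT).hom.toAlgebra
    ∃ c : Γ(X, W), IsUnit c ∧ ∀ (G : Y.Modules) [G.IsQuasicoherent] (t : Γ(G, ⊤)),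
      kap h hWT G t = c • eqv h hT hW hWT G (1 ⊗ₜ[Γ(Y, ⊤)] t) := by
  letI := (h.appLE ⊤ W hWT).hom.toAlgebra
  obtain ⟨c, hc, hc'⟩ := exists_unit h hT hW hWT
  refine ⟨c, hc, fun G _ t => ?_⟩
  have ht : ((homOfSection G t).app ⊤).hom (toO ⊤ 1) = t := by
    have := sec_homOfSection G t ⊤
    rw [sec] at this
    rw [this]
    exact mres_self G t
  have h1 := kap_naturality h hWT (homOfSection G t) (toO ⊤ 1)
  rw [ht] at h1
  rw [← h1, hc', Scheme.Modules.Hom.app_smul]
  congr 1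
  have h2 := eqv_naturality h hT hW hWT (homOfSection G t) 1 (toO ⊤ 1)
  rw [ht] at h2
  exact h2

set_option maxRecDepth 8000 in
include hW hT in
theorem isBaseChange_kapL_top (G : Y.Modules) [G.IsQuasicoherent] :
    letI := (h.appLE ⊤ W hWT).hom.toAlgebra
    letI : Module Γ(Y, ⊤) Γ((Scheme.Modules.pullback h).obj G, W) :=
      Module.compHom _ (h.appLE ⊤ W hWT).hom
    haveI : IsScalarTower Γ(Y, ⊤) Γ(X, W) Γ((Scheme.Modules.pullback h).obj G, W) :=
      IsScalarTower.of_compHom _ _ _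
    IsBaseChange Γ(X, W) (kapL h hWT G) := by
  letI := (h.appLE ⊤ W hWT).hom.toAlgebra
  letI : Module Γ(Y, ⊤) Γ((Scheme.Modules.pullback h).obj G, W) :=
    Module.compHom _ (h.appLE ⊤ W hWT).hom
  haveI : IsScalarTower Γ(Y, ⊤) Γ(X, W) Γ((Scheme.Modules.pullback h).obj G, W) :=
    IsScalarTower.of_compHom _ _ _
  obtain ⟨c, hc, hc'⟩ := kap_eq_smul_eqv h hW hT hWT
  refine IsBaseChange.of_equiv
    ((eqv h hT hW hWT G) ≪≫ₗ (LinearEquiv.smulOfUnit hc.unit)) (fun t => ?_)
  rw [LinearEquiv.trans_apply]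
  exact (hc' G t).symm

end top

end Groth.Agent.Lib.Helper38.PullSBC
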