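import Mathlib
import Groth.Prelude

/-!
# Quasi-compact opens of a base change descend to a finitely generated subalgebra (helper38)
-/

set_option autoImplicit false
universe u
open CategoryTheory CategoryTheory.Limits AlgebraicGeometry TensorProduct

namespace Groth.Agent.Lib.Helper38.QcDesc

section Chart

variable {k : Type u} [CommRing k] {X : Scheme.{u}} (f : X ⟶ Spec (CommRingCat.of k))

/-- The structure map of the base change of the base. -/
noncomputable abbrev gA (A : Type u) [CommRing A] [Algebra k A] :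
    Spec (CommRingCat.of A) ⟶ Spec (CommRingCat.of k) :=
  Spec.map (CommRingCat.ofHom (algebraMap k A))

variable {R : Type u} [CommRing R] [Algebra k R]
  (j : Spec (CommRingCat.of R) ⟶ X)
  (hφ : Spec.map (CommRingCat.ofHom (algebraMap k R)) = j ≫ f)

/-- The affine chart `Spec (R ⊗[k] A) ⟶ X ×_k Spec A` attached to an affine chart of `X`. -/
noncomputable def chart (A : Type u) [CommRing A] [Algebra k A] :
    Spec (CommRingCat.of (R ⊗[k] A)) ⟶ pullback f (gA (k := k) A) :=
  (pullbackSpecIso k R A).inv ≫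
    pullback.map (Spec.map (CommRingCat.ofHom (algebraMap k R))) (gA (k := k) A) f (gA (k := k) A)
      j (𝟙 _) (𝟙 _) (by rw [Category.comp_id, hφ]) (by rw [Category.comp_id, Category.id_comp])

instance (A : Type u) [CommRing A] [Algebra k A] [IsOpenImmersion j] :
    IsOpenImmersion (chart f j hφ A) := by
  unfold chart
  infer_instance

theorem chart_fst (A : Type u) [CommRing A] [Algebra k A] :
    chart f j hφ A ≫ pullback.fst f (gA (k := k) A) =
      Spec.map (CommRingCat.ofHom
        (Algebra.TensorProduct.includeLeft : R →ₐ[k] R ⊗[k] A).toRingHom) ≫ j := by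
  unfold chart
  rw [Category.assoc, pullback.lift_fst, ← Category.assoc, pullbackSpecIso_inv_fst]
  rfl

theorem chart_snd (A : Type u) [CommRing A] [Algebra k A] :
    chart f j hφ A ≫ pullback.snd f (gA (k := k) A) =
      Spec.map (CommRingCat.ofHom
        (Algebra.TensorProduct.includeRight : A →ₐ[k] R ⊗[k] A).toRingHom) := by
  unfold chart
  rw [Category.assoc, pullback.lift_snd, Category.comp_id, pullbackSpecIso_inv_snd]
  rfl

theorem mem_range_chart (A : Type u) [CommRing A] [Algebra k A]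
    (y : ↥(pullback f (gA (k := k) A))) (hy : pullback.fst f (gA (k := k) A) y ∈ Set.range j) :
    y ∈ Set.range (chart f j hφ A) := by
  have h1 := Scheme.Pullback.range_map
    (f := Spec.map (CommRingCat.ofHom (algebraMap k R))) (g := gA (k := k) A)
    f (gA (k := k) A) j (𝟙 _) (𝟙 _)
    (by rw [Category.comp_id, hφ]) (by rw [Category.comp_id, Category.id_comp])
  have h2 : y ∈ Set.range (pullback.map (Spec.map (CommRingCat.ofHom (algebraMap k R)))
      (gA (k := k) A) f (gA (k := k) A) j (𝟙 _) (𝟙 _)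
      (by rw [Category.comp_id, hφ]) (by rw [Category.comp_id, Category.id_comp])) := by
    rw [h1]
    refine ⟨hy, ?_⟩
    simp
  obtain ⟨z, hz⟩ := h2
  refine ⟨(pullbackSpecIso k R A).hom z, ?_⟩
  unfold chart
  rw [← Scheme.Hom.comp_apply, Iso.hom_inv_id_assoc]
  exact hz

/-- Naturality of the charts in the algebra. -/
theorem chart_comp {A A' : Type u} [CommRing A] [Algebra k A] [CommRing A'] [Algebra k A']
    (ψ : A' →ₐ[k] A)
    (π : pullback f (gA (k := k) A) ⟶ pullback f (gA (k := k) A'))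
    (h₁ : π ≫ pullback.fst _ _ = pullback.fst _ _)
    (h₂ : π ≫ pullback.snd _ _ = pullback.snd _ _ ≫ Spec.map (CommRingCat.ofHom ψ.toRingHom)) :
    chart f j hφ A ≫ π =
      Spec.map (CommRingCat.ofHom
        (Algebra.TensorProduct.map (AlgHom.id k R) ψ).toRingHom) ≫ chart f j hφ A' := by
  have e1 : CommRingCat.ofHom (Algebra.TensorProduct.includeLeft : R →ₐ[k] R ⊗[k] A').toRingHom ≫
      CommRingCat.ofHom (Algebra.TensorProduct.map (AlgHom.id k R) ψ).toRingHom =
      CommRingCat.ofHom (Algebra.TensorProduct.includeLeft : R →ₐ[k] R ⊗[k] A).toRingHom := by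
    ext r
    change Algebra.TensorProduct.map (AlgHom.id k R) ψ (r ⊗ₜ[k] (1 : A')) =
      (r ⊗ₜ[k] (1 : A) : R ⊗[k] A)
    rw [Algebra.TensorProduct.map_tmul, map_one]
    rfl
  have e2 : CommRingCat.ofHom (Algebra.TensorProduct.includeRight : A' →ₐ[k] R ⊗[k] A').toRingHom ≫
      CommRingCat.ofHom (Algebra.TensorProduct.map (AlgHom.id k R) ψ).toRingHom =
      CommRingCat.ofHom ψ.toRingHom ≫
      CommRingCat.ofHom (Algebra.TensorProduct.includeRight : A →ₐ[k] R ⊗[k] A).toRingHom := by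
    ext a
    change Algebra.TensorProduct.map (AlgHom.id k R) ψ ((1 : R) ⊗ₜ[k] a) =
      ((1 : R) ⊗ₜ[k] (ψ a) : R ⊗[k] A)
    rw [Algebra.TensorProduct.map_tmul, map_one]
  apply pullback.hom_ext
  · rw [Category.assoc, h₁, chart_fst, Category.assoc, chart_fst, ← Category.assoc,
      ← Spec.map_comp, e1]
  · rw [Category.assoc, h₂, ← Category.assoc, chart_snd, Category.assoc, chart_snd,
      ← Spec.map_comp, ← Spec.map_comp, e2]

end Chart

section Algebra

variable {k : Type u} [CommRing k] (R : Type u) [CommRing R] [Algebra k R]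
  {A : Type u} [CommRing A] [Algebra k A]

/-- The tensors defined over a subalgebra. -/
def tensorRange (A' : Subalgebra k A) : Set (R ⊗[k] A) :=
  Set.range (Algebra.TensorProduct.map (AlgHom.id k R) A'.val)

theorem tensorRange_mono {A₁ A₂ : Subalgebra k A} (h : A₁ ≤ A₂) :
    tensorRange R A₁ ⊆ tensorRange R A₂ := by
  rintro _ ⟨z, rfl⟩
  refine ⟨Algebra.TensorProduct.map (AlgHom.id k R) (Subalgebra.inclusion h) z, ?_⟩
  rw [← AlgHom.comp_apply, ← Algebra.TensorProduct.map_comp]
  rfl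

theorem exists_fg_mem_tensorRange (t : R ⊗[k] A) :
    ∃ A' : Subalgebra k A, A'.FG ∧ t ∈ tensorRange R A' := by
  induction t using TensorProduct.induction_on with
  | zero => exact ⟨⊥, Subalgebra.fg_bot, ⟨0, map_zero _⟩⟩
  | tmul r a =>
    refine ⟨Algebra.adjoin k {a}, Subalgebra.fg_def.mpr ⟨{a}, Set.finite_singleton a, rfl⟩, ?_⟩
    refine ⟨r ⊗ₜ[k] ⟨a, Algebra.subset_adjoin (Set.mem_singleton a)⟩, ?_⟩
    rw [Algebra.TensorProduct.map_tmul]
    rfl
  | add t₁ t₂ h₁ h₂ =>
    obtain ⟨A₁, hA₁, z₁, hz₁⟩ := h₁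
    obtain ⟨A₂, hA₂, z₂, hz₂⟩ := h₂
    refine ⟨A₁ ⊔ A₂, hA₁.sup hA₂, ?_⟩
    obtain ⟨w₁, hw₁⟩ := tensorRange_mono R (le_sup_left : A₁ ≤ A₁ ⊔ A₂) ⟨z₁, hz₁⟩
    obtain ⟨w₂, hw₂⟩ := tensorRange_mono R (le_sup_right : A₂ ≤ A₁ ⊔ A₂) ⟨z₂, hz₂⟩
    exact ⟨w₁ + w₂, by rw [map_add, hw₁, hw₂]⟩

theorem exists_fg_forall_mem_tensorRange {ι : Type*} (s : Finset ι)
    (Rs : ι → Type u) [∀ i, CommRing (Rs i)] [∀ i, Algebra k (Rs i)]
    (t : ∀ i, Rs i ⊗[k] A) :
    ∃ A' : Subalgebra k A, A'.FG ∧ ∀ i ∈ s, t i ∈ tensorRange (Rs i) A' := by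
  classical
  induction s using Finset.induction_on with
  | empty => exact ⟨⊥, Subalgebra.fg_bot, fun i hi => absurd hi (Finset.notMem_empty i)⟩
  | insert a s ha ih =>
    obtain ⟨A₁, hA₁, h₁⟩ := ih
    obtain ⟨A₂, hA₂, h₂⟩ := exists_fg_mem_tensorRange (Rs a) (t a)
    refine ⟨A₁ ⊔ A₂, hA₁.sup hA₂, fun i hi => ?_⟩
    rcases Finset.mem_insert.mp hi with rfl | hi
    · exact tensorRange_mono _ le_sup_right h₂
    · exact tensorRange_mono _ le_sup_left (h₁ i hi)

end Algebra

section Basic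

/-- The basic open subset of `Spec B` attached to `h`, as a set of points. -/
def D {B : Type u} [CommRing B] (h : B) : Set ↥(Spec (CommRingCat.of B)) :=
  {q | h ∉ q.asIdeal}

theorem isOpen_D {B : Type u} [CommRing B] (h : B) : IsOpen (D h) :=
  (PrimeSpectrum.basicOpen h).isOpen

theorem isCompact_D {B : Type u} [CommRing B] (h : B) : IsCompact (D h) :=
  PrimeSpectrum.isCompact_basicOpen h

theorem exists_D_subset {B : Type u} [CommRing B] (W : Set ↥(Spec (CommRingCat.of B)))
    (hW : IsOpen W) (q : ↥(Spec (CommRingCat.of B))) (hq : q ∈ W) :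
    ∃ h : B, q ∈ D h ∧ D h ⊆ W := by
  obtain ⟨_, ⟨h, rfl⟩, hqh, hsub⟩ :=
    (PrimeSpectrum.isTopologicalBasis_basic_opens (R := B)).exists_subset_of_mem_open hq hW
  exact ⟨h, hqh, hsub⟩

theorem preimage_D {B B' : Type u} [CommRing B] [CommRing B'] (φ : B' →+* B) (h' : B') :
    (Spec.map (CommRingCat.ofHom φ)) ⁻¹' D h' = D (φ h') := by
  ext q
  rfl

end Basic

section Main

variable {k : Type u} [CommRing k] {X : Scheme.{u}} (f : X ⟶ Spec (CommRingCat.of k))

/-- Every point of `X` has an affine chart compatible with the structure map. -/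
theorem exists_affine_chart (x : X) :
    ∃ (R : Type u) (_ : CommRing R) (_ : Algebra k R) (j : Spec (CommRingCat.of R) ⟶ X),
      IsOpenImmersion j ∧ Spec.map (CommRingCat.ofHom (algebraMap k R)) = j ≫ f ∧
        x ∈ Set.range j := by
  let j := X.affineOpenCover.f (X.affineOpenCover.idx x)
  let φ := Spec.preimage (j ≫ f)
  letI : Algebra k (X.affineOpenCover.X (X.affineOpenCover.idx x)) := φ.hom.toAlgebra
  exact ⟨X.affineOpenCover.X (X.affineOpenCover.idx x), inferInstance, inferInstance, j,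
    X.affineOpenCover.map_prop _, Spec.map_preimage _, X.affineOpenCover.covers x⟩

theorem preimage_chart_image {R : Type u} [CommRing R] [Algebra k R]
    (j : Spec (CommRingCat.of R) ⟶ X) [IsOpenImmersion j]
    (hφ : Spec.map (CommRingCat.ofHom (algebraMap k R)) = j ≫ f)
    {A A' : Type u} [CommRing A] [Algebra k A] [CommRing A'] [Algebra k A']
    (ψ : A' →ₐ[k] A)
    (π : pullback f (gA (k := k) A) ⟶ pullback f (gA (k := k) A'))
    (h₁ : π ≫ pullback.fst _ _ = pullback.fst _ _)
    (h₂ : π ≫ pullback.snd _ _ = pullback.snd _ _ ≫ Spec.map (CommRingCat.ofHom ψ.toRingHom))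
    (h' : R ⊗[k] A') :
    π ⁻¹' (chart f j hφ A' '' D h') =
      chart f j hφ A '' D (Algebra.TensorProduct.map (AlgHom.id k R) ψ h') := by
  have hcomp := chart_comp f j hφ ψ π h₁ h₂
  have key : ∀ q : ↥(Spec (CommRingCat.of (R ⊗[k] A))),
      π (chart f j hφ A q) = chart f j hφ A' (Spec.map (CommRingCat.ofHom
        (Algebra.TensorProduct.map (AlgHom.id k R) ψ).toRingHom) q) := by
    intro q
    rw [← Scheme.Hom.comp_apply, hcomp, Scheme.Hom.comp_apply]
  ext y
  constructor
  · rintro ⟨q', hq', hq'y⟩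
    have hy : pullback.fst f (gA (k := k) A) y ∈ Set.range j := by
      rw [← h₁, Scheme.Hom.comp_apply, ← hq'y, ← Scheme.Hom.comp_apply, chart_fst,
        Scheme.Hom.comp_apply]
      exact ⟨_, rfl⟩
    obtain ⟨q, rfl⟩ := mem_range_chart f j hφ A y hy
    refine ⟨q, ?_, rfl⟩
    rw [key] at hq'y
    have := (chart f j hφ A').isOpenEmbedding.injective hq'y
    rw [this] at hq'
    exact hq'
  · rintro ⟨q, hq, rfl⟩
    exact ⟨_, hq, (key q).symm⟩

theorem main (A : Type u) [CommRing A] [Algebra k A]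
    (V : Set ↥(pullback f (gA (k := k) A))) (hV : IsOpen V) (hVc : IsCompact V) :
    ∃ (A' : Subalgebra k A), A'.FG ∧
      ∃ (V' : Set ↥(pullback f (gA (k := k) ↥A'))), IsOpen V' ∧ IsCompact V' ∧
        ∀ π : pullback f (gA (k := k) A) ⟶ pullback f (gA (k := k) ↥A'),
          π ≫ pullback.fst _ _ = pullback.fst _ _ →
          π ≫ pullback.snd _ _ =
            pullback.snd _ _ ≫ Spec.map (CommRingCat.ofHom A'.val.toRingHom) →
            π ⁻¹' V' = V := by
  classical
  choose R hR1 hR2 j hj hcompat hmem using exists_affine_chart f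
  -- local data at the points of `V`
  have hloc : ∀ y : V, ∃ h : R (pullback.fst f (gA (k := k) A) y.1) ⊗[k] A,
      y.1 ∈ chart f (j _) (hcompat _) A '' D h ∧ chart f (j _) (hcompat _) A '' D h ⊆ V := by
    intro y
    haveI := hj (pullback.fst f (gA (k := k) A) y.1)
    obtain ⟨q, hq⟩ := mem_range_chart f (j _) (hcompat _) A y.1 (hmem _)
    obtain ⟨h, hqh, hsub⟩ := exists_D_subset
      (chart f (j _) (hcompat (pullback.fst f (gA (k := k) A) y.1)) A ⁻¹' V)
      (hV.preimage (chart f (j _) (hcompat _) A).continuous) q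
      (by change chart f (j _) (hcompat _) A q ∈ V; rw [hq]; exact y.2)
    refine ⟨h, ⟨q, hqh, hq⟩, ?_⟩
    rintro _ ⟨q', hq', rfl⟩
    exact hsub hq'
  choose h hh1 hh2 using hloc
  -- finite subcover
  obtain ⟨t, ht⟩ := hVc.elim_finite_subcover
    (fun y : V => chart f (j _) (hcompat (pullback.fst f (gA (k := k) A) y.1)) A '' D (h y))
    (fun y => by
      haveI := hj (pullback.fst f (gA (k := k) A) y.1)
      exact (chart f (j _) (hcompat _) A).isOpenEmbedding.isOpenMap _ (isOpen_D _))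
    (fun y hy => Set.mem_iUnion.mpr ⟨⟨y, hy⟩, hh1 ⟨y, hy⟩⟩)
  have hVeq : V = ⋃ y ∈ t,
      chart f (j _) (hcompat (pullback.fst f (gA (k := k) A) y.1)) A '' D (h y) := by
    refine Set.Subset.antisymm ht ?_
    exact Set.iUnion₂_subset fun y _ => hh2 y
  -- the finitely generated subalgebra
  obtain ⟨A', hA', hA't⟩ := exists_fg_forall_mem_tensorRange t
    (fun y : V => R (pullback.fst f (gA (k := k) A) y.1)) h
  choose! h' hh' using hA't
  refine ⟨A', hA', ⋃ y ∈ t,
    chart f (j _) (hcompat (pullback.fst f (gA (k := k) A) y.1)) ↥A' '' D (h' y), ?_, ?_, ?_⟩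
  · refine isOpen_biUnion fun y _ => ?_
    haveI := hj (pullback.fst f (gA (k := k) A) y.1)
    exact (chart f (j _) (hcompat _) ↥A').isOpenEmbedding.isOpenMap _ (isOpen_D _)
  · refine t.isCompact_biUnion fun y _ => ?_
    exact (isCompact_D _).image (chart f (j _) (hcompat _) ↥A').continuous
  · intro π h₁ h₂
    refine Eq.trans ?_ hVeq.symm
    rw [Set.preimage_iUnion₂]
    refine Set.iUnion₂_congr fun y hy => ?_
    haveI := hj (pullback.fst f (gA (k := k) A) y.1)
    rw [preimage_chart_image f (j _) (hcompat _) A'.val π h₁ h₂ (h' y), hh' y hy]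

end Main

end Groth.Agent.Lib.Helper38.QcDesc
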