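import Groth.Agent.Lib.Helper38.PnDimOne
import Groth.Agent.Lib.Helper38.ImageSES
import Groth.Agent.Lib.Helper49.StalkNbhd2

/-!
# Castelnuovo–Mumford regularity along a complex on `P^n_k` (helper38)

`V F m i` abbreviates `H^i(P^n_k, F(m)) = 0`, with its three exact-sequence rules (`V_mid`,
`V_right`, `V_left`).  `Reg F m` is `m`-regularity without the bound `i ≤ n` (equivalent to
`Curv2.IsMRegular` for quasi-coherent `F`).  `reg_image_step` is the inductive step for a complex
whose homology sheaves have supports of dimension `≤ 1`.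
-/

set_option autoImplicit false
universe u
open AlgebraicGeometry CategoryTheory Limits Opposite TopologicalSpace Topology

namespace Groth.Agent.Lib.Helper38.RegComplex

open Groth.Agent.Lib.Helper38.SerreVanishPn Groth.Agent.Lib.Helper38.PnDimOne
  Groth.Agent.Lib.Helper38.ImageSES Groth.Agent.Lib.Helper49

theorem support_eq_of_iso {X : Scheme.{u}} {M N : X.Modules} (e : M ≅ N) :
    CohB1.support M = CohB1.support N := by
  ext x
  simp only [CohB1.support, Set.mem_ofPred_eq]
  have hb := stalkMap_bijective_of_isIso e.hom x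
  constructor
  · intro h hN
    exact h (hb.1.subsingleton)
  · intro h hM
    exact h (hb.2.subsingleton)

variable (n : ℕ) (k : Type u) [Field k]

/-- `H^i(P^n_k, F(m)) = 0`. -/
def V (F : (CohB1.ProjSpace n k).Modules) (m : ℤ) (i : ℕ) : Prop :=
  Subsingleton (Coh.HH (CohB1.ProjSpace n k) (CohB1.tensorMod F (Twist.twistProjSpace n k m)) i)

variable {n k}

theorem V_mid {S : ShortComplex (CohB1.ProjSpace n k).Modules} (hS : S.ShortExact) (m : ℤ) (i : ℕ)
    (h1 : V n k S.X₁ m i) (h3 : V n k S.X₃ m i) : V n k S.X₂ m i :=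
  Groth.Agent.Lib.Helper1.subsingleton_HH_of_shortExact (shortExact_tw n k m hS) i h1 h3

theorem V_right {S : ShortComplex (CohB1.ProjSpace n k).Modules} (hS : S.ShortExact) (m : ℤ)
    (i : ℕ) (h2 : V n k S.X₂ m i) (h1 : V n k S.X₁ m (i + 1)) : V n k S.X₃ m i :=
  HHChase.subsingleton_HH_right (shortExact_tw n k m hS) i h2 h1

theorem V_left {S : ShortComplex (CohB1.ProjSpace n k).Modules} (hS : S.ShortExact) (m : ℤ)
    (i : ℕ) (h3 : V n k S.X₃ m i) (h2 : V n k S.X₂ m (i + 1)) : V n k S.X₁ m (i + 1) :=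
  HHChase.subsingleton_HH_left (shortExact_tw n k m hS) i h3 h2

theorem V_of_isZero {F : (CohB1.ProjSpace n k).Modules} (hF : IsZero F) (m : ℤ) (i : ℕ) :
    V n k F m i :=
  Groth.Agent.Lib.Helper1.subsingleton_HH_of_isZero ((tw n k m).map_isZero hF) i

theorem V_of_iso {F F' : (CohB1.ProjSpace n k).Modules} (e : F ≅ F') (m : ℤ) (i : ℕ)
    (h : V n k F' m i) : V n k F m i :=
  subsingleton_HH_of_iso k ((tw n k m).mapIso e) i h

/-- `m`-regularity, without the restriction `i ≤ n`. -/
def Reg (F : (CohB1.ProjSpace n k).Modules) (m : ℤ) : Prop :=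
  ∀ i : ℕ, 1 ≤ i → V n k F (m - i) i

theorem reg_of_isMRegular {F : (CohB1.ProjSpace n k).Modules} (hF : Coh.IsCoh F) {m : ℤ}
    (h : Curv2.IsMRegular k n F m) : Reg F m := by
  intro i hi
  by_cases hin : i ≤ n
  · exact h i hi hin
  · exact SerreVanishPn.base n k F hF (m - i) i (by omega)

theorem isMRegular_of_reg {F : (CohB1.ProjSpace n k).Modules} {m : ℤ} (h : Reg F m) :
    Curv2.IsMRegular k n F m := fun i hi _ => h i hi

theorem reg_of_isZero {F : (CohB1.ProjSpace n k).Modules} (hF : IsZero F) (m : ℤ) : Reg F m :=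
  fun i _ => V_of_isZero hF _ i

/-- the homology `coker (X₁ → ker g)` of a short complex of coherent modules whose support has
dimension `≤ 1` has no twisted cohomology in degrees `≥ 2`. -/
theorem V_homology (S : ShortComplex (CohB1.ProjSpace n k).Modules)
    (h1 : Coh.IsCoh S.X₁) (h2 : Coh.IsCoh S.X₂) (h3 : Coh.IsCoh S.X₃)
    (hdim : topologicalKrullDim (CohB1.support (cokernel (kernel.lift S.g S.f S.zero))) ≤ 1)
    (m : ℤ) (i : ℕ) (hi : 2 ≤ i) :
    V n k (cokernel (kernel.lift S.g S.f S.zero)) m i := by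
  have hK : Coh.IsCoh (kernel S.g) := (Groth.Agent.S9514.result _ h2 h3 S.g).1
  have hH : Coh.IsCoh (cokernel (kernel.lift S.g S.f S.zero)) :=
    (Groth.Agent.S9514.result _ h1 hK _).2
  exact subsingleton_HH_twist_of_supportDim_le_one _ hH hdim m i hi

/-- **inductive step**: for `X₁ --f--> X₂ --g--> X₃` of coherent modules with homology supported in
dimension `≤ 1`: if `im f` is `(m+1)`-regular and `X₂` is `m`-regular then `im g` is `m`-regular. -/
theorem reg_image_step (S : ShortComplex (CohB1.ProjSpace n k).Modules)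
    (h1 : Coh.IsCoh S.X₁) (h2 : Coh.IsCoh S.X₂) (h3 : Coh.IsCoh S.X₃)
    (hdim : topologicalKrullDim (CohB1.support (cokernel (kernel.lift S.g S.f S.zero))) ≤ 1)
    (m : ℤ) (hB : Reg (Abelian.image S.f) (m + 1)) (hX : Reg S.X₂ m) :
    Reg (Abelian.image S.g) m := by
  intro i hi
  -- `ker g` has `H^{i+1}((ker g)(m - i)) = 0`
  have hKer : V n k (kernel S.g) (m - i) (i + 1) := by
    refine V_mid (imageKernelSES_shortExact S) (m - i) (i + 1) ?_
      (V_homology S h1 h2 h3 hdim (m - i) (i + 1) (by omega))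
    have := hB (i + 1) (by omega)
    have e : m + 1 - ((i + 1 : ℕ) : ℤ) = m - i := by push_cast; ring
    rwa [e] at this
  exact V_right (Groth.Agent.Lib.Helper1.kerImComplex_shortExact S.g) (m - i) i (hX i hi) hKer

/-- the cokernel of `f : X ⟶ Y` is `m`-regular if `Y` is and `im f` is `(m+1)`-regular. -/
theorem reg_cokernel {X Y : (CohB1.ProjSpace n k).Modules} (f : X ⟶ Y) (m : ℤ)
    (hB : Reg (Abelian.image f) (m + 1)) (hY : Reg Y m) : Reg (cokernel f) m := by
  intro i hi
  refine V_right (imageCokerSES_shortExact f) (m - i) i (hY i hi) ?_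
  have := hB (i + 1) (by omega)
  have e : m + 1 - ((i + 1 : ℕ) : ℤ) = m - i := by push_cast; ring
  rwa [e] at this

end Groth.Agent.Lib.Helper38.RegComplex
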