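import Mathlib.AlgebraicGeometry.Morphisms.SchemeTheoreticallyDominant
import Mathlib.AlgebraicGeometry.Morphisms.Separated
import Mathlib.AlgebraicGeometry.Morphisms.Immersion
import Mathlib.AlgebraicGeometry.Morphisms.Flat

set_option autoImplicit false
universe u
open AlgebraicGeometry CategoryTheory Limits TopologicalSpace Opposite

namespace Groth.Agent.Lib.Helper38.SchDom

variable {X Y Z S T : Scheme.{u}}

/-- a closed immersion through which a scheme-theoretically dominant morphism factors is an
isomorphism. -/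
theorem isIso_of_factors (h : X ⟶ Y) [IsSchemeTheoreticallyDominant h] (i : Z ⟶ Y)
    [IsClosedImmersion i] (l : X ⟶ Z) (hl : l ≫ i = h) : IsIso i := by
  rw [IsClosedImmersion.isIso_iff_ker_eq_bot, eq_bot_iff]
  calc i.ker ≤ (l ≫ i).ker := Scheme.Hom.le_ker_comp l i
    _ = ⊥ := by rw [hl]; exact h.ker_eq_bot

/-- two morphisms into a separated `S`-scheme which agree on a scheme-theoretically dominant
morphism agree. -/
theorem ext_of_isSchemeTheoreticallyDominant (h : X ⟶ Y) [IsSchemeTheoreticallyDominant h]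
    {a b : Y ⟶ T} (t : T ⟶ S) [IsSeparated t] (hab : a ≫ t = b ≫ t) (hh : h ≫ a = h ≫ b) :
    a = b := by
  let Y' : Over S := Over.mk (a ≫ t)
  let T' : Over S := Over.mk t
  let a' : Y' ⟶ T' := Over.homMk a
  let b' : Y' ⟶ T' := Over.homMk b (by simpa [Y', T'] using hab.symm)
  have : IsSeparated T'.hom := ‹_›
  let X' : Over S := Over.mk (h ≫ a ≫ t)
  let h' : X' ⟶ Y' := Over.homMk h
  have hh' : h' ≫ a' = h' ≫ b' := by
    ext1
    exact hh
  have := isIso_of_factors h (equalizer.ι a' b').left (equalizer.lift h' hh').left (by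
    rw [← Over.comp_left, equalizer.lift_ι]
    rfl)
  rw [← cancel_epi (equalizer.ι a' b').left]
  exact congr($(equalizer.condition a' b').left)

/-- a morphism whose precomposition with a scheme-theoretically dominant morphism factors through
a closed immersion factors through it. -/
theorem exists_lift_of_isSchemeTheoreticallyDominant (h : X ⟶ Y) [IsSchemeTheoreticallyDominant h]
    (p : Y ⟶ T) (i : Z ⟶ T) [IsClosedImmersion i] (l : X ⟶ Z) (hl : l ≫ i = h ≫ p) :
    ∃ ρ : Y ⟶ Z, ρ ≫ i = p := by
  have hle : i.ker ≤ p.ker := by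
    calc i.ker ≤ (l ≫ i).ker := Scheme.Hom.le_ker_comp l i
      _ = (h ≫ p).ker := by rw [hl]
      _ = p.ker := by
        rw [Scheme.Hom.ker_comp, h.ker_eq_bot, Scheme.IdealSheafData.map_bot]
  exact ⟨IsClosedImmersion.lift i p hle, IsClosedImmersion.lift_fac i p hle⟩

/-- the morphism to the scheme-theoretic image is scheme-theoretically dominant. -/
instance isSchemeTheoreticallyDominant_toImage (f : X ⟶ Y) [QuasiCompact f] :
    IsSchemeTheoreticallyDominant f.toImage := by
  rw [isSchemeTheoreticallyDominant_iff]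
  have hcov : ⨆ U : Y.affineOpens, (f.imageι ⁻¹ᵁ U.1) = ⊤ := by
    rw [← Scheme.Hom.preimage_iSup, iSup_affineOpens_eq_top, Scheme.Hom.preimage_top]
  refine Scheme.IdealSheafData.ext_of_iSup_eq_top
    (fun U : Y.affineOpens => ⟨f.imageι ⁻¹ᵁ U.1, U.2.preimage f.imageι⟩) hcov ?_
  intro U
  rw [Scheme.Hom.ker_apply, Scheme.IdealSheafData.ideal_bot, Pi.bot_apply,
    ← RingHom.injective_iff_ker_eq_bot]
  exact f.toImage_app_injective U

/-- restriction of a quasi-compact scheme-theoretically dominant morphism to an open. -/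
instance isSchemeTheoreticallyDominant_morphismRestrict (f : X ⟶ Y)
    [IsSchemeTheoreticallyDominant f] [QuasiCompact f] (U : Y.Opens) :
    IsSchemeTheoreticallyDominant (f ∣_ U) :=
  IsSchemeTheoreticallyDominant.of_isPullback (isPullback_morphismRestrict f U).flip

/-- if `h ≫ j` is quasi-compact and scheme-theoretically dominant with `j` an open immersion, so
is `h`. -/
theorem of_comp_isOpenImmersion (h : X ⟶ Y) (j : Y ⟶ Z) [IsOpenImmersion j]
    [IsSchemeTheoreticallyDominant (h ≫ j)] [QuasiCompact (h ≫ j)] :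
    IsSchemeTheoreticallyDominant h := by
  have hpb : IsPullback (𝟙 X) h (h ≫ j) j := by
    have s : IsPullback (𝟙 X) h h (𝟙 Y) := IsPullback.of_id_fst
    have t : IsPullback (𝟙 Y) (𝟙 Y) j j := IsKernelPair.id_of_mono j
    simpa using s.paste_vert t
  exact IsSchemeTheoreticallyDominant.of_isPullback hpb

end Groth.Agent.Lib.Helper38.SchDom
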