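import Groth.Agent.Lib.Helper38.PullSBC
import Groth.Agent.Lib.Helper38.BCAlg

/-!
# Sections of modules on schemes over an affine base, as modules over the base ring (helper38)

For `s : Z ⟶ Spec A`, `Sec s M O` is a type synonym of `Γ(M, O)` carrying the `A`-module structure
induced by `s`; for an `A`-algebra... (a ring `k` with `Algebra k A`) it is also a `k`-module.
`kapK` is the canonical map `Γ(F, U) → Γ(h^* F, W)` as a linear map over the base ring.
-/

set_option autoImplicit false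
universe u
open AlgebraicGeometry CategoryTheory Limits TopologicalSpace Opposite TensorProduct

namespace Groth.Agent.Lib.Helper38.SecMod

open Groth.Agent.Lib.Helper49 Groth.Agent.Lib.Helper38.PullSBC

variable {A : Type u} [CommRing A] {Z : Scheme.{u}} (s : Z ⟶ Spec (CommRingCat.of A))

/-- The structure map `A → Γ(Z, ⊤)`. -/
noncomputable def tg : A →+* Γ(Z, ⊤) :=
  (s.appTop).hom.comp (Scheme.ΓSpecIso (CommRingCat.of A)).inv.hom

/-- The structure map `A → Γ(Z, O)`. -/
noncomputable def secMap (O : Z.Opens) : A →+* Γ(Z, O) := (fres le_top).comp (tg s)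

theorem fres_secMap {O O' : Z.Opens} (h : O' ≤ O) (a : A) :
    fres h (secMap s O a) = secMap s O' a := by
  change fres h (fres le_top (tg s a)) = fres le_top (tg s a)
  rw [fres_fres]

/-- `Γ(M, O)` with the `A`-module structure induced by `s : Z ⟶ Spec A`. -/
@[nolint unusedArguments]
def Sec {A : Type u} [CommRing A] {Z : Scheme.{u}} (_s : Z ⟶ Spec (CommRingCat.of A))
    (M : Z.Modules) (O : Z.Opens) : Type u := Γ(M, O)

variable (M : Z.Modules) (O : Z.Opens)

noncomputable instance : AddCommGroup (Sec s M O) := inferInstanceAs (AddCommGroup Γ(M, O))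

noncomputable instance : Module Γ(Z, O) (Sec s M O) := inferInstanceAs (Module Γ(Z, O) Γ(M, O))

/-- view a section as an element of `Sec`. -/
def toSec (m : Γ(M, O)) : Sec s M O := m

/-- view an element of `Sec` as a section. -/
def ofSec (m : Sec s M O) : Γ(M, O) := m

noncomputable instance instModuleSec (k : Type u) [CommRing k] [Algebra k A] :
    Module k (Sec s M O) :=
  Module.compHom Γ(M, O) ((secMap s O).comp (algebraMap k A))

theorem smul_def (k : Type u) [CommRing k] [Algebra k A] (a : k) (m : Sec s M O) :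
    a • m = toSec s M O (secMap s O (algebraMap k A a) • ofSec s M O m) := rfl

instance (k : Type u) [CommRing k] [Algebra k A] : IsScalarTower k A (Sec s M O) :=
  IsScalarTower.of_algebraMap_smul fun _ _ => rfl

section kapK

variable {k K : Type u} [CommRing k] [CommRing K] [Algebra k K]
  {X X' : Scheme.{u}} (h : X' ⟶ X) (f : X ⟶ Spec (CommRingCat.of k))
  (g' : X' ⟶ Spec (CommRingCat.of K))
  (comm : h ≫ f = g' ≫ Spec.map (CommRingCat.ofHom (algebraMap k K)))
  {U : X.Opens} {W : X'.Opens} (hWU : W ≤ h ⁻¹ᵁ U)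

include comm in
theorem appTop_tg (a : k) : h.appTop.hom (tg f a) = tg g' (algebraMap k K a) := by
  have h1 : (h ≫ f).appTop = (g' ≫ Spec.map (CommRingCat.ofHom (algebraMap k K))).appTop := by
    rw [comm]
  rw [Scheme.Hom.comp_appTop, Scheme.Hom.comp_appTop] at h1
  have h2 := congrArg (fun φ => φ.hom ((Scheme.ΓSpecIso (CommRingCat.of k)).inv.hom a)) h1
  simp only [CommRingCat.hom_comp, RingHom.comp_apply] at h2
  refine h2.trans ?_
  change g'.appTop.hom _ = g'.appTop.hom _
  congr 1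
  have h3 := Scheme.ΓSpecIso_inv_naturality (CommRingCat.ofHom (algebraMap k K))
  exact (congrArg (fun φ => φ.hom a) h3).symm

include comm in
theorem appLE_secMap (a : k) :
    (h.appLE U W hWU).hom (secMap f U a) = secMap g' W (algebraMap k K a) := by
  have h1 : (h.appLE U W hWU).hom (secMap f U a) =
      (h.appLE ⊤ W le_top).hom (tg f a) := by
    change (X.presheaf.map (homOfLE le_top).op ≫ h.appLE U W hWU).hom (tg f a) = _
    rw [Scheme.Hom.map_appLE]
  rw [h1]
  have h2 : (h.appLE ⊤ W le_top) = h.appTop ≫ X'.presheaf.map (homOfLE le_top).op := rfl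
  rw [h2]
  change fres le_top (h.appTop.hom (tg f a)) = fres le_top (tg g' (algebraMap k K a))
  rw [appTop_tg h f g' comm]

/-- The canonical map on sections as a linear map over the base ring. -/
noncomputable def kapK (F : X.Modules) :
    Sec f F U →ₗ[k] Sec g' ((Scheme.Modules.pullback h).obj F) W where
  toFun t := toSec g' _ W (kap h hWU F (ofSec f F U t))
  map_add' a b := map_add (kap h hWU F) a b
  map_smul' a t := by
    change kap h hWU F (secMap f U a • ofSec f F U t) =
      secMap g' W (algebraMap k K a) • kap h hWU F (ofSec f F U t)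
    rw [kap_smul, appLE_secMap h f g' comm hWU]

theorem secMap_top (a : k) : secMap f ⊤ a = tg f a := by
  change fres le_top (tg f a) = _
  exact congrFun (congrArg DFunLike.coe (congrArg CommRingCat.Hom.hom (X.presheaf.map_id _))) _

/-- the ring-level pushout for a pullback square over a ring map, affine case. -/
theorem isPushout_top [IsAffine X]
    (sq : IsPullback h g' f (Spec.map (CommRingCat.ofHom (algebraMap k K)))) :
    letI : Algebra k Γ(X, ⊤) := (secMap f ⊤).toAlgebra
    letI : Algebra K Γ(X', ⊤) := (secMap g' ⊤).toAlgebra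
    letI : Algebra Γ(X, ⊤) Γ(X', ⊤) := (h.appLE ⊤ ⊤ le_top).hom.toAlgebra
    letI : Algebra k Γ(X', ⊤) := ((secMap g' ⊤).comp (algebraMap k K)).toAlgebra
    haveI : IsScalarTower k K Γ(X', ⊤) := IsScalarTower.of_algebraMap_eq (fun _ => rfl)
    haveI : IsScalarTower k Γ(X, ⊤) Γ(X', ⊤) := IsScalarTower.of_algebraMap_eq
      (fun a => (appLE_secMap h f g' sq.w le_top a).symm)
    Algebra.IsPushout k K Γ(X, ⊤) Γ(X', ⊤) := by
  letI : Algebra k Γ(X, ⊤) := (secMap f ⊤).toAlgebra
  letI : Algebra K Γ(X', ⊤) := (secMap g' ⊤).toAlgebra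
  letI : Algebra Γ(X, ⊤) Γ(X', ⊤) := (h.appLE ⊤ ⊤ le_top).hom.toAlgebra
  letI : Algebra k Γ(X', ⊤) := ((secMap g' ⊤).comp (algebraMap k K)).toAlgebra
  haveI : IsScalarTower k K Γ(X', ⊤) := IsScalarTower.of_algebraMap_eq (fun _ => rfl)
  haveI : IsScalarTower k Γ(X, ⊤) Γ(X', ⊤) := IsScalarTower.of_algebraMap_eq
    (fun a => (appLE_secMap h f g' sq.w le_top a).symm)
  have hpo := isPushout_appTop_of_isPullback sq
  have hpo0 : IsPushout (CommRingCat.ofHom (tg f)) (CommRingCat.ofHom (algebraMap k K))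
      (CommRingCat.ofHom h.appTop.hom) (CommRingCat.ofHom (tg g')) := by
    refine hpo.of_iso (Scheme.ΓSpecIso (CommRingCat.of k)) (Iso.refl _)
      (Scheme.ΓSpecIso (CommRingCat.of K)) (Iso.refl _) ?_ ?_ ?_ ?_
    · simp [tg]
    · simp
    · simp
    · simp [tg]
  have e1 : CommRingCat.ofHom (algebraMap k Γ(X, ⊤)) = CommRingCat.ofHom (tg f) := by
    congr 1
    ext a
    exact secMap_top f a
  have e2 : CommRingCat.ofHom (algebraMap K Γ(X', ⊤)) = CommRingCat.ofHom (tg g') := by
    congr 1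
    ext a
    exact secMap_top g' a
  have e3 : CommRingCat.ofHom (algebraMap Γ(X, ⊤) Γ(X', ⊤)) = CommRingCat.ofHom h.appTop.hom := by
    have : h.appLE ⊤ ⊤ le_top = h.appTop := by
      rw [Scheme.Hom.appTop, Scheme.Hom.app_eq_appLE]
      rfl
    change CommRingCat.ofHom (h.appLE ⊤ ⊤ le_top).hom = _
    rw [this]
  have hpo' : IsPushout (CommRingCat.ofHom (algebraMap k Γ(X, ⊤)))
      (CommRingCat.ofHom (algebraMap k K))
      (CommRingCat.ofHom (algebraMap Γ(X, ⊤) Γ(X', ⊤)))
      (CommRingCat.ofHom (algebraMap K Γ(X', ⊤))) := by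
    rw [e1, e2, e3]
    exact hpo0
  exact (CommRingCat.isPushout_iff_isPushout.mp hpo').symm

set_option maxRecDepth 8000 in
/-- **Lemma A'**: affine case over a ring map. -/
theorem isBaseChange_kapK_top [IsAffine X]
    (sq : IsPullback h g' f (Spec.map (CommRingCat.ofHom (algebraMap k K))))
    (G : X.Modules) [G.IsQuasicoherent] :
    IsBaseChange K (kapK (U := ⊤) (W := ⊤) h f g' sq.w le_top G) := by
  haveI : IsAffine X' := IsAffine.of_isPullback sq
  letI : Algebra k Γ(X, ⊤) := (secMap f ⊤).toAlgebra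
  letI : Algebra K Γ(X', ⊤) := (secMap g' ⊤).toAlgebra
  letI : Algebra Γ(X, ⊤) Γ(X', ⊤) := (h.appLE ⊤ ⊤ le_top).hom.toAlgebra
  letI : Algebra k Γ(X', ⊤) := ((secMap g' ⊤).comp (algebraMap k K)).toAlgebra
  haveI : IsScalarTower k K Γ(X', ⊤) := IsScalarTower.of_algebraMap_eq (fun _ => rfl)
  haveI : IsScalarTower k Γ(X, ⊤) Γ(X', ⊤) := IsScalarTower.of_algebraMap_eq
    (fun a => (appLE_secMap h f g' sq.w le_top a).symm)
  haveI : Algebra.IsPushout k K Γ(X, ⊤) Γ(X', ⊤) := isPushout_top h f g' sq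
  -- module structures
  letI : Module Γ(X, ⊤) (Sec g' ((Scheme.Modules.pullback h).obj G) ⊤) :=
    Module.compHom _ (h.appLE ⊤ ⊤ le_top).hom
  haveI : IsScalarTower Γ(X, ⊤) Γ(X', ⊤) (Sec g' ((Scheme.Modules.pullback h).obj G) ⊤) :=
    IsScalarTower.of_compHom _ _ _
  haveI : IsScalarTower k Γ(X, ⊤) (Sec f G ⊤) := IsScalarTower.of_algebraMap_smul fun _ _ => rfl
  haveI : IsScalarTower K Γ(X', ⊤) (Sec g' ((Scheme.Modules.pullback h).obj G) ⊤) :=
    IsScalarTower.of_algebraMap_smul fun _ _ => rfl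
  haveI : IsScalarTower k Γ(X, ⊤) (Sec g' ((Scheme.Modules.pullback h).obj G) ⊤) :=
    IsScalarTower.of_algebraMap_smul fun a m => by
      change (h.appLE ⊤ ⊤ le_top).hom (secMap f ⊤ a) • ofSec g' _ ⊤ m =
        secMap g' ⊤ (algebraMap k K a) • ofSec g' _ ⊤ m
      rw [appLE_secMap h f g' sq.w]
  have hA := isBaseChange_kapL_top h (isAffineOpen_top X') (isAffineOpen_top X) le_top G
  have t1 : IsScalarTower k Γ(X, ⊤) (Sec f G ⊤) := inferInstance
  have t2 : IsScalarTower Γ(X, ⊤) Γ(X', ⊤) (Sec g' ((Scheme.Modules.pullback h).obj G) ⊤) :=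
    inferInstance
  have t3 : IsScalarTower K Γ(X', ⊤) (Sec g' ((Scheme.Modules.pullback h).obj G) ⊤) :=
    inferInstance
  have t4 : IsScalarTower k K (Sec g' ((Scheme.Modules.pullback h).obj G) ⊤) :=
    inferInstance
  have t5 : IsScalarTower k Γ(X, ⊤) (Sec g' ((Scheme.Modules.pullback h).obj G) ⊤) :=
    inferInstance
  exact @BCAlg.isBaseChange_of_isPushout k K Γ(X, ⊤) Γ(X', ⊤) _ _ _ _ _ _ _ _ _ _ _ _
    (Sec f G ⊤) (Sec g' ((Scheme.Modules.pullback h).obj G) ⊤) _ _ _ _ t1 _ _ _ _ t2 t3 t4 t5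
    (kapL h (le_top : (⊤ : X'.Opens) ≤ h ⁻¹ᵁ ⊤) G) hA

end kapK

end Groth.Agent.Lib.Helper38.SecMod
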