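import Groth.Agent.Lib.Helper38.SecMod

/-!
# Sections over affine opens and flat base change along a ring map (helper38)

`isBaseChange_kapK_of_isAffineOpen`: for a pullback square `X' = X ×_k K`, a quasi-coherent `F` on `X`
and an affine open `V ⊆ X`, the map `Γ(F, V) → Γ(h^* F, h⁻¹ V)` is a base change along `k → K`.
-/

set_option autoImplicit false
universe u
open AlgebraicGeometry CategoryTheory Limits TopologicalSpace Opposite TensorProduct

namespace Groth.Agent.Lib.Helper38.SecRestrict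

open Groth.Agent.Lib.Helper49 Groth.Agent.Lib.Helper38.PullSBC Groth.Agent.Lib.Helper38.SecMod
  Groth.Agent.Lib.Helper11.PullbackBasis

/-- transporting a base change along linear equivalences. -/
theorem isBaseChange_of_equiv_comm {k K : Type*} [CommRing k] [CommRing K] [Algebra k K]
    {M M₁ N N₁ : Type*} [AddCommGroup M] [AddCommGroup M₁] [AddCommGroup N] [AddCommGroup N₁]
    [Module k M] [Module k M₁] [Module k N] [Module k N₁] [Module K N] [Module K N₁]
    [IsScalarTower k K N] [IsScalarTower k K N₁]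
    (φ : M₁ →ₗ[k] N₁) (hφ : IsBaseChange K φ) (μ : M ≃ₗ[k] M₁) (ν : N₁ ≃ₗ[K] N) (ψ : M →ₗ[k] N)
    (hc : ∀ t, ν (φ (μ t)) = ψ t) : IsBaseChange K ψ := by
  refine IsBaseChange.of_equiv
    ((TensorProduct.AlgebraTensorModule.congr (LinearEquiv.refl K K) μ) ≪≫ₗ hφ.equiv ≪≫ₗ ν)
    (fun t => ?_)
  rw [LinearEquiv.trans_apply, LinearEquiv.trans_apply,
    TensorProduct.AlgebraTensorModule.congr_tmul, LinearEquiv.refl_apply, hφ.equiv_tmul, one_smul]
  exact hc t

section secMap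

variable {A : Type u} [CommRing A] {X Y : Scheme.{u}} (j : Y ⟶ X) [IsOpenImmersion j]
  (s : X ⟶ Spec (CommRingCat.of A))

theorem secMap_eq_appLE {Z : Scheme.{u}} (s : Z ⟶ Spec (CommRingCat.of A)) (O : Z.Opens) (a : A) :
    secMap s O a =
      (s.appLE ⊤ O le_top).hom ((Scheme.ΓSpecIso (CommRingCat.of A)).inv.hom a) := rfl

theorem appIso_inv_secMap (O : Y.Opens) (a : A) :
    (j.appIso O).inv.hom (secMap (j ≫ s) O a) = secMap s (j ''ᵁ O) a := by
  rw [secMap_eq_appLE, secMap_eq_appLE]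
  have h1 : (j ≫ s).appLE ⊤ O le_top ≫ (j.appIso O).inv = s.appLE ⊤ (j ''ᵁ O) le_top := by
    rw [Scheme.Hom.comp_appLE, Category.assoc, Scheme.Hom.appLE_appIso_inv]
    rfl
  exact congrArg (fun φ => φ.hom ((Scheme.ΓSpecIso (CommRingCat.of A)).inv.hom a)) h1

variable (k : Type u) [CommRing k] [Algebra k A]

/-- sections of a restriction along an open immersion, as a linear equivalence. -/
noncomputable def restrictEquiv (F : X.Modules) (O : Y.Opens) (W : X.Opens) (hW : j ''ᵁ O = W) :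
    Sec s F W ≃ₗ[k] Sec (j ≫ s) (F.restrict j) O where
  toFun t := toSec (j ≫ s) (F.restrict j) O
    (show Γ(F.restrict j, O) from mres F hW.le (ofSec s F W t))
  invFun n := toSec s F W (mres F hW.ge (show Γ(F, j ''ᵁ O) from ofSec (j ≫ s) (F.restrict j) O n))
  map_add' a b := map_add (mres F hW.le) a b
  map_smul' a t := by
    change mres F hW.le (secMap s W (algebraMap k A a) • ofSec s F W t) =
      (j.appIso O).inv.hom (secMap (j ≫ s) O (algebraMap k A a)) • mres F hW.le (ofSec s F W t)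
    rw [mres_smul, fres_secMap, appIso_inv_secMap]
  left_inv t := by
    change mres F hW.ge (mres F hW.le (ofSec s F W t)) = t
    rw [mres_mres]
    exact mres_self F _
  right_inv n := by
    change mres F hW.le (mres F hW.ge (show Γ(F, j ''ᵁ O) from n)) = n
    rw [mres_mres]
    exact mres_self F _

theorem restrictEquiv_apply (F : X.Modules) (O : Y.Opens) (W : X.Opens) (hW : j ''ᵁ O = W)
    (t : Sec s F W) :
    ofSec _ _ _ (restrictEquiv j s k F O W hW t) =
      (show Γ(F.restrict j, O) from mres F hW.le (ofSec s F W t)) := rfl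

theorem restrictEquiv_symm_apply (F : X.Modules) (O : Y.Opens) (W : X.Opens) (hW : j ''ᵁ O = W)
    (n : Sec (j ≫ s) (F.restrict j) O) :
    ofSec _ _ _ ((restrictEquiv j s k F O W hW).symm n) =
      mres F hW.ge (show Γ(F, j ''ᵁ O) from ofSec (j ≫ s) (F.restrict j) O n) := rfl

/-- an isomorphism of modules gives a linear equivalence on sections. -/
noncomputable def isoEquiv {P P' : X.Modules} (e : P ≅ P') (O : X.Opens) :
    Sec s P O ≃ₗ[k] Sec s P' O where
  toFun t := toSec s P' O ((e.hom.app O).hom (ofSec s P O t))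
  invFun n := toSec s P O ((e.inv.app O).hom (ofSec s P' O n))
  map_add' a b := map_add (e.hom.app O).hom a b
  map_smul' a t := by
    change (e.hom.app O).hom (secMap s O (algebraMap k A a) • ofSec s P O t) =
      secMap s O (algebraMap k A a) • (e.hom.app O).hom (ofSec s P O t)
    exact Scheme.Modules.Hom.app_smul e.hom _ _
  left_inv t := by
    change (e.inv.app O).hom ((e.hom.app O).hom t) = t
    have h := congrArg (fun φ => (Scheme.Modules.Hom.app φ O).hom t) e.hom_inv_id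
    exact h
  right_inv n := by
    change (e.hom.app O).hom ((e.inv.app O).hom n) = n
    have h := congrArg (fun φ => (Scheme.Modules.Hom.app φ O).hom n) e.inv_hom_id
    exact h

end secMap

section lemmaB

variable {k K : Type u} [CommRing k] [CommRing K] [Algebra k K]
  {X X' : Scheme.{u}} (h : X' ⟶ X) (f : X ⟶ Spec (CommRingCat.of k))
  (g' : X' ⟶ Spec (CommRingCat.of K))

theorem le_image_preimage (V : X.Opens) :
    h ⁻¹ᵁ V ≤ (h ⁻¹ᵁ V).ι ''ᵁ ((h ∣_ V) ⁻¹ᵁ (V.ι ⁻¹ᵁ V)) := by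
  intro x hx
  refine ⟨⟨x, hx⟩, ?_, rfl⟩
  change (h ∣_ V) ⟨x, hx⟩ ∈ V.ι ⁻¹ᵁ V
  rw [Scheme.Opens.ι_preimage_self]
  trivial

set_option maxRecDepth 8000 in
/-- **Lemma B'**: for an affine open `V` of `X`, the canonical map
`Γ(F, V) → Γ(h^* F, h⁻¹ V)` is a base change along `k → K`. -/
theorem isBaseChange_kapK_of_isAffineOpen
    (sq : IsPullback h g' f (Spec.map (CommRingCat.ofHom (algebraMap k K))))
    (F : X.Modules) [F.IsQuasicoherent] {V : X.Opens} (hV : IsAffineOpen V) :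
    IsBaseChange K (kapK (U := V) (W := h ⁻¹ᵁ V) h f g' sq.w le_rfl F) := by
  haveI : IsAffine (V : Scheme.{u}) := hV
  have sqV : IsPullback (h ∣_ V) ((h ⁻¹ᵁ V).ι ≫ g') (V.ι ≫ f)
      (Spec.map (CommRingCat.ofHom (algebraMap k K))) :=
    (isPullback_morphismRestrict h V).paste_vert sq
  have hA := isBaseChange_kapK_top (h ∣_ V) (V.ι ≫ f) ((h ⁻¹ᵁ V).ι ≫ g') sqV (F.restrict V.ι)
  let μ := restrictEquiv V.ι f k F ⊤ V V.ι_image_top
  let ν₁ := isoEquiv ((h ⁻¹ᵁ V).ι ≫ g') K ((pullbackRestrictNatIso h V).app F) ⊤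
  let ν₂ := (restrictEquiv (h ⁻¹ᵁ V).ι g' K ((Scheme.Modules.pullback h).obj F) ⊤ (h ⁻¹ᵁ V)
    (h ⁻¹ᵁ V).ι_image_top).symm
  refine isBaseChange_of_equiv_comm _ hA μ (ν₁ ≪≫ₗ ν₂) _ (fun t => ?_)
  -- notation
  set Q := (Scheme.Modules.pullback h).obj F with hQ
  set G := F.restrict V.ι with hG
  set P := (Scheme.Modules.pullback (h ∣_ V)).obj G with hP
  set ν := (pullbackRestrictNatIso h V).hom.app F with hν
  have hTO : ((h ∣_ V) ⁻¹ᵁ (V.ι ⁻¹ᵁ V)) ≤ (⊤ : ((h ⁻¹ᵁ V : X'.Opens) : Scheme.{u}).Opens) := le_top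
  have hle' := le_image_preimage h V
  have hle : h ⁻¹ᵁ V ≤ (h ⁻¹ᵁ V).ι ''ᵁ ⊤ := (h ⁻¹ᵁ V).ι_image_top.ge
  -- the element x
  let t0 : Γ(F, V) := ofSec f F V t
  let x : Γ(P, ⊤) := kap (h ∣_ V) le_top G (show Γ(G, ⊤) from mres F V.ι_image_top.le t0)
  change mres Q hle (show Γ(Q, (h ⁻¹ᵁ V).ι ''ᵁ ⊤) from (ν.app ⊤).hom x) = kap h le_rfl F t0
  -- Step A
  rw [← mres_mres Q hle' ((h ⁻¹ᵁ V).ι.image_mono hTO)]
  -- Step B
  have hB : mres Q ((h ⁻¹ᵁ V).ι.image_mono hTO)
      (show Γ(Q, (h ⁻¹ᵁ V).ι ''ᵁ ⊤) from (ν.app ⊤).hom x) =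
      (show Γ(Q, (h ⁻¹ᵁ V).ι ''ᵁ ((h ∣_ V) ⁻¹ᵁ (V.ι ⁻¹ᵁ V))) from
        (ν.app ((h ∣_ V) ⁻¹ᵁ (V.ι ⁻¹ᵁ V))).hom (mres P hTO x)) :=
    Groth.Agent.Lib.Helper11.GenLocus.app_res ν hTO x
  rw [hB]
  -- Step C
  have hC : mres P hTO x = pullS (h ∣_ V) G (V.ι ⁻¹ᵁ V)
      (show Γ(G, V.ι ⁻¹ᵁ V) from mres F (V.ι.image_preimage_le V) t0) := by
    change mres P hTO (mres P _ (pullS (h ∣_ V) G ⊤ _)) = _
    rw [mres_mres]
    have h1 := pullS_res (f := h ∣_ V) G (le_top : V.ι ⁻¹ᵁ V ≤ ⊤)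
      (show Γ(G, ⊤) from mres F V.ι_image_top.le t0)
    refine h1.trans ?_
    congr 1
    exact mres_mres F (V.ι.image_mono (le_top : V.ι ⁻¹ᵁ V ≤ ⊤)) V.ι_image_top.le t0
  rw [hC]
  -- Step E
  have hE := pullbackRestrictNatIso_pullS h V F V t0
  refine (congrArg (mres Q hle') hE).trans ?_
  -- Step F
  change mres Q hle' (mres Q (image_preimage_le' h V V) (pullS h F V t0)) = _
  rw [mres_mres, kap_apply]

/-- Variant of Lemma B' with the open upstairs only propositionally equal to the preimage. -/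
theorem isBaseChange_kapK_of_isAffineOpen'
    (sq : IsPullback h g' f (Spec.map (CommRingCat.ofHom (algebraMap k K))))
    (F : X.Modules) [F.IsQuasicoherent] {V : X.Opens} (hV : IsAffineOpen V)
    {W : X'.Opens} (hW : W = h ⁻¹ᵁ V) (hWV : W ≤ h ⁻¹ᵁ V) :
    IsBaseChange K (kapK (U := V) (W := W) h f g' sq.w hWV F) := by
  subst hW
  exact isBaseChange_kapK_of_isAffineOpen h f g' sq F hV

end lemmaB

end Groth.Agent.Lib.Helper38.SecRestrict
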