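import Groth.Prelude.Def_W4stktopologysheavesBas

set_option autoImplicit false
universe u

namespace Groth.Agent.Lib.Helper38

open TopologicalSpace ShB

variable {X : Type u} [TopologicalSpace X] {B : Set (Opens X)}

/-- Separatedness of a presheaf on a basis with respect to arbitrary families of members. -/
def IsSepB (F : Pre B) : Prop :=
  ∀ (U : B) (ι : Type u) (V : ι → B) (hle : ∀ i, (V i : Opens X) ≤ (U : Opens X)),
    (U : Opens X) ≤ ⨆ i, (V i : Opens X) → ∀ t t' : F.obj U,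
      (∀ i, F.res (hle i) t = F.res (hle i) t') → t = t'

/-- The cofinality hypothesis on a system of coverings. -/
def IsCofinalB (C : ∀ U : B, Set (Cover B)) : Prop :=
  ∀ (U : B) (ι : Type u) (V : ι → B), (∀ i, (V i : Opens X) ≤ (U : Opens X)) →
    (U : Opens X) ≤ ⨆ i, (V i : Opens X) →
    ∃ c ∈ C U, ∀ i' : c.ι, ∃ i, (c.V i' : Opens X) ≤ (V i : Opens X)

theorem isSepB_of_cofinal (F : Pre B) (C : ∀ U : B, Set (Cover B))
    (hCU : ∀ U, ∀ c ∈ C U, c.U = U) (hC : IsCofinalB C)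
    (hglue : ∀ U, ∀ c ∈ C U, GluesUniquely F c) : IsSepB F := by
  intro U ι V hle hcov t t' htt'
  obtain ⟨c, hc, href⟩ := hC U ι V hle hcov
  have hU : c.U = U := hCU U c hc
  have h1 : (c.U : Opens X) ≤ (U : Opens X) := by rw [hU]
  have h2 : (U : Opens X) ≤ (c.U : Opens X) := by rw [hU]
  have key : F.res h1 t = F.res h1 t' := by
    obtain ⟨t₀, -, huniq⟩ := hglue U c hc (fun i' => F.res (c.V_le i') (F.res h1 t)) (by
      intro i j k
      rw [F.res_comp, F.res_comp, F.res_comp, F.res_comp])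
    have e1 := huniq (F.res h1 t) (fun _ => rfl)
    have e2 := huniq (F.res h1 t') (fun i' => by
      obtain ⟨i, hi⟩ := href i'
      have := congrArg (F.res hi) (htt' i)
      rw [F.res_comp, F.res_comp] at this
      rw [F.res_comp, F.res_comp]
      exact this.symm)
    rw [e1, e2]
  have := congrArg (F.res h2) key
  rwa [F.res_comp, F.res_comp, F.res_id, F.res_id] at this

theorem res_eq_of_compat (hB : Opens.IsBasis B) (F : Pre B) (hsep : IsSepB F) {V₁ V₂ : B}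
    (s₁ : F.obj V₁) (s₂ : F.obj V₂) {κ : Type u} (W : κ → B)
    (hl : ∀ k, (W k : Opens X) ≤ (V₁ : Opens X)) (hr : ∀ k, (W k : Opens X) ≤ (V₂ : Opens X))
    (hcov : (V₁ : Opens X) ⊓ (V₂ : Opens X) ≤ ⨆ k, (W k : Opens X))
    (hcompat : ∀ k, F.res (hl k) s₁ = F.res (hr k) s₂) (W' : B)
    (h1 : (W' : Opens X) ≤ (V₁ : Opens X)) (h2 : (W' : Opens X) ≤ (V₂ : Opens X)) :
    F.res h1 s₁ = F.res h2 s₂ := by
  refine hsep W' {W'' : B // ∃ k, (W'' : Opens X) ≤ (W k : Opens X) ∧ (W'' : Opens X) ≤ (W' : Opens X)}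
    (fun w => w.1) (fun w => w.2.choose_spec.2) ?_ _ _ ?_
  · intro x hx
    have hx' : x ∈ (V₁ : Opens X) ⊓ (V₂ : Opens X) := ⟨h1 hx, h2 hx⟩
    obtain ⟨k, hk⟩ := Opens.mem_iSup.mp (hcov hx')
    obtain ⟨W'', hW''B, hxW'', hW''le⟩ := Opens.isBasis_iff_nbhd.mp hB
      (show x ∈ (W k : Opens X) ⊓ (W' : Opens X) from ⟨hk, hx⟩)
    exact Opens.mem_iSup.mpr
      ⟨⟨⟨W'', hW''B⟩, k, hW''le.trans inf_le_left, hW''le.trans inf_le_right⟩, hxW''⟩
  · intro w
    obtain ⟨k, hk1, hk2⟩ := w.2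
    have := congrArg (F.res hk1) (hcompat k)
    rw [F.res_comp, F.res_comp] at this
    rw [F.res_comp, F.res_comp]
    exact this

theorem gluesUniquely_of_cofinal (hB : Opens.IsBasis B) (F : Pre B) (C : ∀ U : B, Set (Cover B))
    (hCU : ∀ U, ∀ c ∈ C U, c.U = U) (hC : IsCofinalB C)
    (hglue : ∀ U, ∀ c ∈ C U, GluesUniquely F c) (c₀ : Cover B) : GluesUniquely F c₀ := by
  have hsep := isSepB_of_cofinal F C hCU hC hglue
  intro s hs
  -- agreement on small members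
  have hagree : ∀ (i j : c₀.ι) (W' : B) (h1 : (W' : Opens X) ≤ (c₀.V i : Opens X))
      (h2 : (W' : Opens X) ≤ (c₀.V j : Opens X)), F.res h1 (s i) = F.res h2 (s j) :=
    fun i j W' h1 h2 => res_eq_of_compat hB F hsep (s i) (s j) (c₀.W i j) (c₀.W_le_left i j)
      (c₀.W_le_right i j) (c₀.W_cover i j) (hs i j) W' h1 h2
  obtain ⟨c, hc, href⟩ := hC c₀.U c₀.ι c₀.V c₀.V_le c₀.V_cover
  have hU : c.U = c₀.U := hCU c₀.U c hc
  have h1 : (c.U : Opens X) ≤ (c₀.U : Opens X) := by rw [hU]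
  have h2 : (c₀.U : Opens X) ≤ (c.U : Opens X) := by rw [hU]
  choose α hα using href
  obtain ⟨t₁, ht₁, -⟩ := hglue c₀.U c hc (fun i' => F.res (hα i') (s (α i'))) (by
    intro i' j' k'
    rw [F.res_comp, F.res_comp]
    exact hagree _ _ _ _ _)
  refine ⟨F.res h2 t₁, ?_, ?_⟩
  · intro i
    refine hsep (c₀.V i) {W'' : B // ∃ i', (W'' : Opens X) ≤ (c.V i' : Opens X) ∧
        (W'' : Opens X) ≤ (c₀.V i : Opens X)}
      (fun w => w.1) (fun w => w.2.choose_spec.2) ?_ _ _ ?_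
    · intro x hx
      have hx' : x ∈ (c.U : Opens X) := h2 (c₀.V_le i hx)
      obtain ⟨i', hi'⟩ := Opens.mem_iSup.mp (c.V_cover hx')
      obtain ⟨W'', hW''B, hxW'', hW''le⟩ := Opens.isBasis_iff_nbhd.mp hB
        (show x ∈ (c.V i' : Opens X) ⊓ (c₀.V i : Opens X) from ⟨hi', hx⟩)
      exact Opens.mem_iSup.mpr
        ⟨⟨⟨W'', hW''B⟩, i', hW''le.trans inf_le_left, hW''le.trans inf_le_right⟩, hxW''⟩
    · intro w
      obtain ⟨i', hw1, hw2⟩ := w.2
      have e := congrArg (F.res hw1) (ht₁ i')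
      rw [F.res_comp, F.res_comp] at e
      rw [F.res_comp, F.res_comp]
      have e' := hagree (α i') i w.1 (hw1.trans (hα i')) hw2
      rw [← e']
      rw [← e]
  · intro t' ht'
    refine hsep c₀.U c₀.ι c₀.V c₀.V_le c₀.V_cover _ _ ?_
    intro i
    rw [ht' i]
    -- reuse the first part
    refine hsep (c₀.V i) {W'' : B // ∃ i', (W'' : Opens X) ≤ (c.V i' : Opens X) ∧
        (W'' : Opens X) ≤ (c₀.V i : Opens X)}
      (fun w => w.1) (fun w => w.2.choose_spec.2) ?_ _ _ ?_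
    · intro x hx
      have hx' : x ∈ (c.U : Opens X) := h2 (c₀.V_le i hx)
      obtain ⟨i', hi'⟩ := Opens.mem_iSup.mp (c.V_cover hx')
      obtain ⟨W'', hW''B, hxW'', hW''le⟩ := Opens.isBasis_iff_nbhd.mp hB
        (show x ∈ (c.V i' : Opens X) ⊓ (c₀.V i : Opens X) from ⟨hi', hx⟩)
      exact Opens.mem_iSup.mpr
        ⟨⟨⟨W'', hW''B⟩, i', hW''le.trans inf_le_left, hW''le.trans inf_le_right⟩, hxW''⟩
    · intro w
      obtain ⟨i', hw1, hw2⟩ := w.2
      have e := congrArg (F.res hw1) (ht₁ i')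
      rw [F.res_comp, F.res_comp] at e
      rw [F.res_comp, F.res_comp]
      have e' := hagree (α i') i w.1 (hw1.trans (hα i')) hw2
      rw [← e']
      rw [← e]

end Groth.Agent.Lib.Helper38

namespace Groth.Agent.Lib.Helper38

open TopologicalSpace ShB

variable {X : Type u} [TopologicalSpace X] {B : Set (Opens X)}

/-- The covering datum with all members inside `V i ∩ V j` as the chosen covering of the
intersections. -/
def fullCover (hB : Opens.IsBasis B) (U : B) (ι : Type u) (V : ι → B)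
    (hle : ∀ i, (V i : Opens X) ≤ (U : Opens X)) (hcov : (U : Opens X) ≤ ⨆ i, (V i : Opens X)) :
    Cover B where
  U := U
  ι := ι
  V := V
  V_le := hle
  V_cover := hcov
  κ := fun i j => {W : B // (W : Opens X) ≤ (V i : Opens X) ⊓ (V j : Opens X)}
  W := fun _ _ k => k.1
  W_le_left := fun _ _ k => k.2.trans inf_le_left
  W_le_right := fun _ _ k => k.2.trans inf_le_right
  W_cover := fun i j x hx => by
    obtain ⟨W, hWB, hxW, hWle⟩ := Opens.isBasis_iff_nbhd.mp hB hx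
    exact Opens.mem_iSup.mpr ⟨⟨⟨W, hWB⟩, hWle⟩, hxW⟩

theorem isSepB_of_isSheaf (hB : Opens.IsBasis B) (F : Pre B) (hF : IsSheaf F) : IsSepB F :=
  isSepB_of_cofinal F (fun U => {c | c.U = U}) (fun _ _ hc => hc)
    (fun U ι V hle hcov => ⟨fullCover hB U ι V hle hcov, rfl, fun i' => ⟨i', le_rfl⟩⟩)
    (fun _ c _ => hF c)

theorem stalkRel_equivalence (hB : Opens.IsBasis B) (F : Pre B) (x : X) :
    Equivalence (StalkRel F x) where
  refl a := ⟨a.1.1, a.1.2, le_rfl, le_rfl, rfl⟩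
  symm := by
    rintro a b ⟨W, hxW, ha, hb, h⟩
    exact ⟨W, hxW, hb, ha, h.symm⟩
  trans := by
    rintro a b c ⟨W₁, hxW₁, ha, hb, h⟩ ⟨W₂, hxW₂, hb', hc, h'⟩
    obtain ⟨W, hWB, hxW, hWle⟩ := Opens.isBasis_iff_nbhd.mp hB
      (show x ∈ (W₁ : Opens X) ⊓ (W₂ : Opens X) from ⟨hxW₁, hxW₂⟩)
    have h1 : ((⟨W, hWB⟩ : B) : Opens X) ≤ (W₁ : Opens X) := hWle.trans inf_le_left
    have h2 : ((⟨W, hWB⟩ : B) : Opens X) ≤ (W₂ : Opens X) := hWle.trans inf_le_right
    refine ⟨⟨W, hWB⟩, hxW, h1.trans ha, h2.trans hc, ?_⟩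
    have e1 := congrArg (F.res h1) h
    have e2 := congrArg (F.res h2) h'
    rw [F.res_comp, F.res_comp] at e1 e2
    exact e1.trans e2

theorem germ_eq_iff (hB : Opens.IsBasis B) (F : Pre B) {U U' : B} (x : X)
    (hx : x ∈ (U : Opens X)) (hx' : x ∈ (U' : Opens X)) (s : F.obj U) (s' : F.obj U') :
    germ F x hx s = germ F x hx' s' ↔
      ∃ (W : B) (_ : x ∈ (W : Opens X)) (ha : (W : Opens X) ≤ (U : Opens X))
        (hb : (W : Opens X) ≤ (U' : Opens X)), F.res ha s = F.res hb s' := by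
  constructor
  · intro h
    have h' : Quot.mk (StalkRel F x) ⟨⟨U, hx⟩, s⟩ = Quot.mk (StalkRel F x) ⟨⟨U', hx'⟩, s'⟩ := h
    exact ((stalkRel_equivalence hB F x).eqvGen_iff).mp (Quot.eq.mp h')
  · rintro ⟨W, hxW, ha, hb, e⟩
    exact Quot.sound ⟨W, hxW, ha, hb, e⟩

theorem germ_res (F : Pre B) {U V : B} (h : (V : Opens X) ≤ (U : Opens X)) (x : X)
    (hx : x ∈ (V : Opens X)) (s : F.obj U) :
    germ F x hx (F.res h s) = germ F x (h hx) s :=
  Quot.sound ⟨V, hx, le_rfl, h, by rw [F.res_id]⟩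

theorem germ_injective (hB : Opens.IsBasis B) (F : Pre B) (hF : IsSheaf F) (U : B)
    (s s' : F.obj U) (h : ∀ x (hx : x ∈ (U : Opens X)), germ F x hx s = germ F x hx s') :
    s = s' := by
  have hsep := isSepB_of_isSheaf hB F hF
  have hex : ∀ x : (U : Opens X), ∃ (W : B) (_ : x.1 ∈ (W : Opens X))
      (ha : (W : Opens X) ≤ (U : Opens X)), F.res ha s = F.res ha s' := by
    intro x
    obtain ⟨W, hxW, ha, hb, e⟩ := (germ_eq_iff hB F x.1 x.2 x.2 s s').mp (h x.1 x.2)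
    exact ⟨W, hxW, ha, e⟩
  choose W hxW ha e using hex
  refine hsep U _ W ha ?_ s s' e
  intro x hx
  exact Opens.mem_iSup.mpr ⟨⟨x, hx⟩, hxW ⟨x, hx⟩⟩

end Groth.Agent.Lib.Helper38
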