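import Groth.Agent.Lib.Helper38.ShCl

/-!
# Essential image of pushforward of sheaves of sets along a closed embedding (helper38)
-/

set_option autoImplicit false
universe u
open CategoryTheory TopologicalSpace Opposite

namespace Groth.Agent.Lib.Helper38.ShCl

variable {Z X : TopCat.{u}} (i : Z ⟶ X) (hi : Topology.IsClosedEmbedding i)
variable (G : X.Sheaf (Type u))

theorem subsingleton_sections
    (hG : ∀ x : X, x ∉ Set.range i → Nonempty (Unique (G.presheaf.stalk x)))
    (O : Opens X) (hO : O ≤ compl i hi) : Subsingleton (G.obj.obj (op O)) := by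
  refine ⟨fun s t => ?_⟩
  apply TopCat.Presheaf.section_ext G O s t
  intro x hx
  obtain ⟨u⟩ := hG x (hO hx)
  exact (u.uniq _).trans (u.uniq _).symm

theorem nonempty_unique_sections
    (hG : ∀ x : X, x ∉ Set.range i → Nonempty (Unique (G.presheaf.stalk x)))
    (O : Opens X) (hO : O ≤ compl i hi) : Nonempty (Unique (G.obj.obj (op O))) := by
  haveI hsub : ∀ O' : Opens X, O' ≤ compl i hi → Subsingleton (G.obj.obj (op O')) :=
    fun O' hO' => subsingleton_sections i hi G hG O' hO'
  have hex : ∀ x : O, ∃ U ≤ O, ∃ (_ : x.1 ∈ U), Nonempty (G.obj.obj (op U)) := by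
    intro x
    obtain ⟨u⟩ := hG x.1 (hO x.2)
    obtain ⟨U, hU, m, s, _⟩ := TopCat.Presheaf.exists_le_germ_eq G.presheaf u.default x.2
    exact ⟨U, hU, m, ⟨s⟩⟩
  choose U hU m s using hex
  have hcompat : TopCat.Presheaf.IsCompatible G.obj U (fun x => (s x).some) := by
    intro x y
    haveI := hsub (U x ⊓ U y) (inf_le_left.trans ((hU x).trans hO))
    exact Subsingleton.elim _ _
  obtain ⟨t, -, -⟩ := G.existsUnique_gluing' U O (fun x => homOfLE (hU x))
    (fun x hx => by
      simp only [Opens.mem_iSup]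
      exact ⟨⟨x, hx⟩, m ⟨x, hx⟩⟩) (fun x => (s x).some) hcompat
  haveI := hsub O hO
  exact ⟨⟨⟨t⟩, fun _ => Subsingleton.elim _ _⟩⟩

include hi in
theorem bijective_res
    (hG : ∀ x : X, x ∉ Set.range i → Nonempty (Unique (G.presheaf.stalk x)))
    {V V' : Opens X} (h : V ≤ V') (h' : (Opens.map i).obj V' ≤ (Opens.map i).obj V) :
    Function.Bijective (G.obj.map (homOfLE h).op) := by
  have hcov : V' ≤ V ⊔ (V' ⊓ compl i hi) := by
    intro x hx
    by_cases hxr : x ∈ Set.range i
    · obtain ⟨z, rfl⟩ := hxr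
      exact Or.inl (h' hx)
    · exact Or.inr ⟨hx, hxr⟩
  constructor
  · intro s t hst
    refine G.eq_of_locally_eq₂ (homOfLE h) (homOfLE (inf_le_left : V' ⊓ compl i hi ≤ V'))
      hcov s t hst ?_
    haveI := subsingleton_sections i hi G hG (V' ⊓ compl i hi) inf_le_right
    exact Subsingleton.elim _ _
  · intro s
    obtain ⟨u⟩ := nonempty_unique_sections i hi G hG (V' ⊓ compl i hi) inf_le_right
    let U : Bool → Opens X := fun b => Bool.rec (V' ⊓ compl i hi) V b
    let sf : ∀ b, G.obj.obj (op (U b)) := fun b =>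
      Bool.rec (motive := fun b => G.obj.obj (op (U b))) u.default s b
    have hU : ∀ b, U b ≤ V' := by
      intro b
      cases b
      · exact inf_le_left
      · exact h
    have hcompat : TopCat.Presheaf.IsCompatible G.obj U sf := by
      intro b b'
      cases b <;> cases b'
      · haveI := subsingleton_sections i hi G hG (U false ⊓ U false)
          (inf_le_left.trans inf_le_right)
        exact Subsingleton.elim _ _
      · haveI := subsingleton_sections i hi G hG (U false ⊓ U true)
          (inf_le_left.trans inf_le_right)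
        exact Subsingleton.elim _ _
      · haveI := subsingleton_sections i hi G hG (U true ⊓ U false)
          (inf_le_right.trans inf_le_right)
        exact Subsingleton.elim _ _
      · change G.obj.map _ s = G.obj.map _ s
        rw [Subsingleton.elim (Opens.infLELeft (U true) (U true)).op
          (Opens.infLERight (U true) (U true)).op]
    obtain ⟨t, ht, -⟩ := G.existsUnique_gluing' U V' (fun b => homOfLE (hU b))
      (by
        refine hcov.trans ?_
        rw [sup_le_iff]
        exact ⟨le_iSup U true, le_iSup U false⟩) sf hcompat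
    exact ⟨t, ht true⟩

theorem vOf_inf_le (W W' : Opens Z) : vOf i hi W ⊓ vOf i hi W' ≤ vOf i hi (W ⊓ W') := by
  rintro x ⟨hx, hx'⟩ ⟨z, hz, rfl⟩
  by_cases hzW : z ∈ W
  · exact hx' ⟨z, fun h => hz ⟨hzW, h⟩, rfl⟩
  · exact hx ⟨z, hzW, rfl⟩

/-- The presheaf on `Z` whose pushforward will be `G`. -/
def preF : TopCat.Presheaf (Type u) Z := (vFun i hi).op ⋙ G.obj

theorem preF_map {W W' : Opens Z} (h : W ≤ W') (s : G.obj.obj (op (vOf i hi W'))) :
    (preF i hi G).map (homOfLE h).op s = G.obj.map (homOfLE (vOf_mono i hi h)).op s := rfl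

theorem map_map_apply (P : TopCat.Presheaf (Type u) X) {A B C : Opens X} (f : A ⟶ B) (g : B ⟶ C)
    (s : P.obj (op C)) :
    P.map f.op (P.map g.op s) = P.map (f ≫ g).op s := by
  rw [op_comp, P.map_comp]
  rfl

theorem map_congr_hom (P : TopCat.Presheaf (Type u) X) {A B : Opens X} (f g : A ⟶ B)
    (s : P.obj (op B)) :
    P.map f.op s = P.map g.op s := by
  rw [Subsingleton.elim f g]

theorem isSheaf_preF
    (hG : ∀ x : X, x ∉ Set.range i → Nonempty (Unique (G.presheaf.stalk x))) :
    (preF i hi G).IsSheaf := by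
  apply TopCat.Presheaf.isSheaf_of_isSheafUniqueGluing_types
  intro ι W sf hsf
  -- the corresponding family on `X`
  let V : ι → Opens X := fun j => vOf i hi (W j)
  have hcompat : TopCat.Presheaf.IsCompatible G.obj V sf := by
    intro j k
    have h1 : G.obj.map (homOfLE (vOf_mono i hi (inf_le_left : W j ⊓ W k ≤ W j))).op (sf j) =
        G.obj.map (homOfLE (vOf_mono i hi (inf_le_right : W j ⊓ W k ≤ W k))).op (sf k) := hsf j k
    have h2 := congrArg (G.obj.map (homOfLE (vOf_inf_le i hi (W j) (W k))).op) h1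
    exact ((map_congr_hom G.obj _ _ _).trans (map_map_apply G.obj _ _ _).symm).trans
      (h2.trans ((map_map_apply G.obj _ _ _).trans (map_congr_hom G.obj _ _ _)))
  obtain ⟨t, ht, htu⟩ := G.existsUnique_gluing V sf hcompat
  have hle : iSup V ≤ vOf i hi (iSup W) :=
    iSup_le fun j => vOf_mono i hi (le_iSup W j)
  have hpre : (Opens.map i).obj (vOf i hi (iSup W)) ≤ (Opens.map i).obj (iSup V) := by
    rw [map_vOf]
    intro z hz
    simp only [Opens.mem_iSup] at hz
    obtain ⟨j, hj⟩ := hz
    have : z ∈ (Opens.map i).obj (vOf i hi (W j)) := by rw [map_vOf]; exact hj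
    exact (le_iSup V j : V j ≤ iSup V) this
  have hbij := bijective_res i hi G hG hle hpre
  obtain ⟨s, hs⟩ := hbij.2 t
  refine ⟨s, ?_, ?_⟩
  · intro j
    have h3 : G.obj.map (Opens.leSupr V j).op (G.obj.map (homOfLE hle).op s) = sf j := by
      rw [hs]; exact ht j
    change G.obj.map (homOfLE (vOf_mono i hi (le_iSup W j))).op s = sf j
    exact ((map_congr_hom G.obj _ _ _).trans (map_map_apply G.obj _ _ _).symm).trans h3
  · intro s' hs'
    apply hbij.1
    rw [hs]
    apply htu
    intro j
    have h3 : G.obj.map (homOfLE (vOf_mono i hi (le_iSup W j))).op s' = sf j := hs' j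
    change G.obj.map (Opens.leSupr V j).op (G.obj.map (homOfLE hle).op s') = sf j
    exact ((map_map_apply G.obj _ _ _).trans (map_congr_hom G.obj _ _ _)).trans h3

/-- The sheaf on `Z` whose pushforward is `G`. -/
def sheafF
    (hG : ∀ x : X, x ∉ Set.range i → Nonempty (Unique (G.presheaf.stalk x))) :
    Z.Sheaf (Type u) := ⟨preF i hi G, isSheaf_preF i hi G hG⟩

/-- The comparison map `i_* F ⟶ G` of presheaves. -/
def compNat : (Opens.map i).op ⋙ preF i hi G ⟶ G.obj where
  app V := G.obj.map (homOfLE (le_vOf_map i hi V.unop)).op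
  naturality := by
    intro V V' f
    change G.obj.map _ ≫ G.obj.map _ = G.obj.map _ ≫ G.obj.map _
    rw [← G.obj.map_comp, ← G.obj.map_comp]
    congr 1

theorem isIso_compNat
    (hG : ∀ x : X, x ∉ Set.range i → Nonempty (Unique (G.presheaf.stalk x))) :
    IsIso (compNat i hi G) := by
  haveI : ∀ V, IsIso ((compNat i hi G).app V) := by
    intro V
    rw [isIso_iff_bijective]
    apply bijective_res i hi G hG
    rw [map_vOf]
  exact NatIso.isIso_of_isIso_app _

include hi in
theorem essImage_pushforward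
    (hG : ∀ x : X, x ∉ Set.range i → Nonempty (Unique (G.presheaf.stalk x))) :
    (TopCat.Sheaf.pushforward (Type u) i).essImage G := by
  haveI := isIso_compNat i hi G hG
  have e : ((Opens.map i).op ⋙ preF i hi G) ≅ G.obj := asIso (compNat i hi G)
  exact ⟨sheafF i hi G hG, ⟨ObjectProperty.isoMk _ e⟩⟩

include hi in
theorem stalk_unique_of_essImage (h : (TopCat.Sheaf.pushforward (Type u) i).essImage G)
    (x : X) (hx : x ∉ Set.range i) : Nonempty (Unique (G.presheaf.stalk x)) := by
  obtain ⟨F, ⟨e⟩⟩ := h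
  obtain ⟨u⟩ := stalk_pushforward_unique i hi F x hx
  have e' : ((TopCat.Sheaf.pushforward (Type u) i).obj F).presheaf.stalk x ≅ G.presheaf.stalk x :=
    (TopCat.Presheaf.stalkFunctor (Type u) x).mapIso ((TopCat.Sheaf.forget _ _).mapIso e)
  exact ⟨e'.toEquiv.symm.unique⟩

end Groth.Agent.Lib.Helper38.ShCl
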