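import Groth.Agent.Lib.Helper38.ShBasis
import Mathlib.Topology.Sheaves.SheafCondition.UniqueGluing

set_option autoImplicit false
universe u

namespace Groth.Agent.Lib.Helper38

open TopologicalSpace ShB CategoryTheory Opposite

variable {X : Type u} [TopologicalSpace X] {B : Set (Opens X)}

/-- Compatible families of sections over the members of `B` inside `U`. -/
def ExtObj (F : Pre B) (U : Opens X) : Type u :=
  {s : ∀ V : {V : B // (V : Opens X) ≤ U}, F.obj V.1 //
    ∀ (V W : {V : B // (V : Opens X) ≤ U}) (h : (W.1 : Opens X) ≤ (V.1 : Opens X)),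
      F.res h (s V) = s W}

/-- Restriction of compatible families. -/
def ExtObj.res (F : Pre B) {U U' : Opens X} (h : U' ≤ U) (s : ExtObj F U) : ExtObj F U' :=
  ⟨fun V => s.1 ⟨V.1, V.2.trans h⟩,
    fun V W h' => s.2 ⟨V.1, V.2.trans h⟩ ⟨W.1, W.2.trans h⟩ h'⟩

theorem ExtObj.ext {F : Pre B} {U : Opens X} {s t : ExtObj F U}
    (h : ∀ (V : B) (hV : (V : Opens X) ≤ U), s.1 ⟨V, hV⟩ = t.1 ⟨V, hV⟩) : s = t := by
  apply Subtype.ext
  funext V
  exact h V.1 V.2

/-- The extension of a presheaf on a basis to a presheaf on all opens. -/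
def extPre (F : Pre B) : (Opens X)ᵒᵖ ⥤ Type u where
  obj U := ExtObj F U.unop
  map {U U'} f := ↾(ExtObj.res F f.unop.le)
  map_id U := by
    ext s
    rfl
  map_comp f g := by
    ext s
    rfl

theorem extPre_map_apply (F : Pre B) {U U' : (Opens X)ᵒᵖ} (f : U ⟶ U') (s : ExtObj F U.unop)
    (V : B) (hV : (V : Opens X) ≤ U'.unop) :
    ((extPre F).map f s : ExtObj F U'.unop).1 ⟨V, hV⟩ = s.1 ⟨V, hV.trans f.unop.le⟩ := rfl

theorem exists_unique_local (hB : Opens.IsBasis B) (F : Pre B) (hF : IsSheaf F) {ι : Type u}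
    (U : ι → Opens X) (sf : ∀ i, ExtObj F (U i))
    (hA : ∀ i j (W : B) (h1 : (W : Opens X) ≤ U i) (h2 : (W : Opens X) ≤ U j),
      (sf i).1 ⟨W, h1⟩ = (sf j).1 ⟨W, h2⟩)
    (V : B) (hV : (V : Opens X) ≤ iSup U) :
    ∃! t : F.obj V, ∀ (W : B) (i : ι) (h1 : (W : Opens X) ≤ (V : Opens X))
      (h2 : (W : Opens X) ≤ U i), F.res h1 t = (sf i).1 ⟨W, h2⟩ := by
  let I := {p : B × ι // (p.1 : Opens X) ≤ (V : Opens X) ∧ (p.1 : Opens X) ≤ U p.2}
  have hcov : (V : Opens X) ≤ ⨆ p : I, (p.1.1 : Opens X) := by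
    intro x hx
    obtain ⟨i, hi⟩ := Opens.mem_iSup.mp (hV hx)
    obtain ⟨W, hWB, hxW, hWle⟩ := Opens.isBasis_iff_nbhd.mp hB
      (show x ∈ (V : Opens X) ⊓ U i from ⟨hx, hi⟩)
    exact Opens.mem_iSup.mpr
      ⟨⟨(⟨W, hWB⟩, i), hWle.trans inf_le_left, hWle.trans inf_le_right⟩, hxW⟩
  have hglue := hF (fullCover hB V I (fun p => p.1.1) (fun p => p.2.1) hcov)
    (fun p => (sf p.1.2).1 ⟨p.1.1, p.2.2⟩) (by
      intro p p' k
      have e1 := (sf p.1.2).2 ⟨p.1.1, p.2.2⟩ ⟨k.1, (k.2.trans inf_le_left).trans p.2.2⟩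
        (k.2.trans inf_le_left)
      have e2 := (sf p'.1.2).2 ⟨p'.1.1, p'.2.2⟩ ⟨k.1, (k.2.trans inf_le_right).trans p'.2.2⟩
        (k.2.trans inf_le_right)
      exact e1.trans ((hA p.1.2 p'.1.2 k.1 _ _).trans e2.symm))
  obtain ⟨t, ht, huniq⟩ := hglue
  refine ⟨t, fun W i h1 h2 => ht ⟨(W, i), h1, h2⟩, fun t' ht' => huniq t' fun p => ?_⟩
  exact ht' p.1.1 p.1.2 p.2.1 p.2.2

theorem extPre_isSheaf (hB : Opens.IsBasis B) (F : Pre B) (hF : IsSheaf F) :
    TopCat.Presheaf.IsSheaf (X := TopCat.of X) (extPre F) := by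
  apply TopCat.Presheaf.isSheaf_of_isSheafUniqueGluing_types
  intro ι U sf hcompat
  have hA : ∀ i j (W : B) (h1 : (W : Opens X) ≤ U i) (h2 : (W : Opens X) ≤ U j),
      (sf i).1 ⟨W, h1⟩ = (sf j).1 ⟨W, h2⟩ := by
    intro i j W h1 h2
    have := congrArg (fun t : ExtObj F (U i ⊓ U j) => t.1 ⟨W, le_inf h1 h2⟩) (hcompat i j)
    exact this
  have hloc := exists_unique_local hB F hF U sf hA
  choose t ht huniq using hloc
  have hcompat_t : ∀ (V W : {V : B // (V : Opens X) ≤ iSup U})
      (h : (W.1 : Opens X) ≤ (V.1 : Opens X)), F.res h (t V.1 V.2) = t W.1 W.2 := by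
    intro V W h
    refine huniq W.1 W.2 _ fun W' i h1 h2 => ?_
    rw [F.res_comp]
    exact ht V.1 V.2 W' i (h1.trans h) h2
  refine ⟨⟨fun V => t V.1 V.2, hcompat_t⟩, ?_, ?_⟩
  · intro i
    refine ExtObj.ext fun V hV => ?_
    change t V (hV.trans (le_iSup U i)) = (sf i).1 ⟨V, hV⟩
    symm
    refine huniq V _ _ fun W j h1 h2 => ?_
    have e1 := (sf i).2 ⟨V, hV⟩ ⟨W, h1.trans hV⟩ h1
    exact e1.trans (hA i j W _ h2)
  · intro s' hs'
    refine ExtObj.ext fun V hV => ?_
    change (s' : ExtObj F (iSup U)).1 ⟨V, hV⟩ = t V hV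
    refine huniq V hV _ fun W i h1 h2 => ?_
    have e1 := (s' : ExtObj F (iSup U)).2 ⟨V, hV⟩ ⟨W, h1.trans hV⟩ h1
    refine e1.trans ?_
    have := congrArg (fun r : ExtObj F (U i) => r.1 ⟨W, h2⟩) (hs' i)
    exact this

/-- The restriction of the extension to the basis is the original presheaf. -/
def extIso (F : Pre B) : ShB.Iso (ShB.restrict B (extPre F)) F where
  hom :=
    { app := fun U s => (s : ExtObj F U).1 ⟨U, le_rfl⟩
      natural := by
        intro U V h s
        exact (s : ExtObj F U).2 ⟨U, le_rfl⟩ ⟨V, h⟩ h }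
  inv :=
    { app := fun U t => (⟨fun V => F.res V.2 t, fun V W h => F.res_comp _ _ _⟩ : ExtObj F U)
      natural := by
        intro U V h t
        refine ExtObj.ext fun W hW => ?_
        exact (F.res_comp h hW t).symm }
  hom_inv := by
    intro U s
    refine ExtObj.ext fun V hV => ?_
    exact (s : ExtObj F U).2 ⟨U, le_rfl⟩ ⟨V, hV⟩ hV
  inv_hom := by
    intro U t
    exact F.res_id U t

/-- The extension as a sheaf. -/
def extSheaf (hB : Opens.IsBasis B) (F : Pre B) (hF : IsSheaf F) :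
    TopCat.Sheaf (Type u) (TopCat.of X) :=
  ⟨extPre F, extPre_isSheaf hB F hF⟩

theorem map_map (G : (Opens X)ᵒᵖ ⥤ Type u) {U V W : (Opens X)ᵒᵖ} (a : U ⟶ V) (b : V ⟶ W)
    (c : U ⟶ W) (s : G.obj U) : G.map b (G.map a s) = G.map c s := by
  have : a ≫ b = c := Subsingleton.elim _ _
  subst this
  rw [Functor.map_comp]
  rfl

theorem exists_unique_ext_section (hB : Opens.IsBasis B)
    (G G' : TopCat.Sheaf (Type u) (TopCat.of X))
    (θ : ShB.Hom (ShB.restrict B G.presheaf) (ShB.restrict B G'.presheaf)) (O : Opens X)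
    (s : G.presheaf.obj (op O)) :
    ∃! s' : G'.presheaf.obj (op O), ∀ (V : B) (hV : (V : Opens X) ≤ O),
      G'.presheaf.map (homOfLE hV).op s' = θ.app V (G.presheaf.map (homOfLE hV).op s) := by
  let I := {V : B // (V : Opens X) ≤ O}
  let UO : I → Opens (TopCat.of X) := fun V => (V.1 : Opens X)
  have hcover : O ≤ iSup UO := by
    intro x hx
    obtain ⟨W, hWB, hxW, hWle⟩ := Opens.isBasis_iff_nbhd.mp hB hx
    exact Opens.mem_iSup.mpr ⟨⟨⟨W, hWB⟩, hWle⟩, hxW⟩
  let sf : ∀ V : I, G'.presheaf.obj (op (UO V)) :=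
    fun V => θ.app V.1 (G.presheaf.map (homOfLE V.2).op s)
  have hcompat : TopCat.Presheaf.IsCompatible G'.presheaf UO sf := by
    intro V V'
    -- check on basis members inside the intersection
    let I' := {W : B // (W : Opens X) ≤ UO V ⊓ UO V'}
    refine TopCat.Sheaf.eq_of_locally_eq' G' (fun W : I' => ((W.1 : Opens X) : Opens (TopCat.of X)))
      (UO V ⊓ UO V') (fun W => homOfLE W.2) ?_ _ _ ?_
    · intro x hx
      obtain ⟨W, hWB, hxW, hWle⟩ := Opens.isBasis_iff_nbhd.mp hB hx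
      exact Opens.mem_iSup.mpr ⟨⟨⟨W, hWB⟩, hWle⟩, hxW⟩
    · intro W
      have h1 : (W.1 : Opens X) ≤ (V.1 : Opens X) := W.2.trans inf_le_left
      have h2 : (W.1 : Opens X) ≤ (V'.1 : Opens X) := W.2.trans inf_le_right
      have e1 := θ.natural h1 (G.presheaf.map (homOfLE V.2).op s)
      have e2 := θ.natural h2 (G.presheaf.map (homOfLE V'.2).op s)
      change G'.presheaf.map (homOfLE h1).op _ = θ.app W.1 (G.presheaf.map (homOfLE h1).op _) at e1
      change G'.presheaf.map (homOfLE h2).op _ = θ.app W.1 (G.presheaf.map (homOfLE h2).op _) at e2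
      rw [map_map G.presheaf _ _ (homOfLE (h1.trans V.2)).op] at e1
      rw [map_map G.presheaf _ _ (homOfLE (h1.trans V.2)).op] at e2
      rw [map_map G'.presheaf _ _ (homOfLE h1).op, map_map G'.presheaf _ _ (homOfLE h2).op]
      exact e1.trans e2.symm
  obtain ⟨s', hs', huniq⟩ :=
    TopCat.Sheaf.existsUnique_gluing' G' UO O (fun V => homOfLE V.2) hcover sf hcompat
  exact ⟨s', fun V hV => hs' ⟨V, hV⟩, fun t ht => huniq t fun V => ht V.1 V.2⟩

/-- The extension of a morphism on the basis, on sections. -/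
noncomputable def extApp (hB : Opens.IsBasis B) (G G' : TopCat.Sheaf (Type u) (TopCat.of X))
    (θ : ShB.Hom (ShB.restrict B G.presheaf) (ShB.restrict B G'.presheaf)) (O : Opens X)
    (s : G.presheaf.obj (op O)) : G'.presheaf.obj (op O) :=
  (exists_unique_ext_section hB G G' θ O s).choose

theorem extApp_spec (hB : Opens.IsBasis B) (G G' : TopCat.Sheaf (Type u) (TopCat.of X))
    (θ : ShB.Hom (ShB.restrict B G.presheaf) (ShB.restrict B G'.presheaf)) (O : Opens X)
    (s : G.presheaf.obj (op O)) (V : B) (hV : (V : Opens X) ≤ O) :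
    G'.presheaf.map (homOfLE hV).op (extApp hB G G' θ O s) =
      θ.app V (G.presheaf.map (homOfLE hV).op s) :=
  (exists_unique_ext_section hB G G' θ O s).choose_spec.1 V hV

theorem extApp_unique (hB : Opens.IsBasis B) (G G' : TopCat.Sheaf (Type u) (TopCat.of X))
    (θ : ShB.Hom (ShB.restrict B G.presheaf) (ShB.restrict B G'.presheaf)) (O : Opens X)
    (s : G.presheaf.obj (op O)) (t : G'.presheaf.obj (op O))
    (ht : ∀ (V : B) (hV : (V : Opens X) ≤ O),
      G'.presheaf.map (homOfLE hV).op t = θ.app V (G.presheaf.map (homOfLE hV).op s)) :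
    t = extApp hB G G' θ O s :=
  (exists_unique_ext_section hB G G' θ O s).choose_spec.2 t ht

/-- The extension of a morphism on the basis to a morphism of sheaves. -/
noncomputable def extHom (hB : Opens.IsBasis B) (G G' : TopCat.Sheaf (Type u) (TopCat.of X))
    (θ : ShB.Hom (ShB.restrict B G.presheaf) (ShB.restrict B G'.presheaf)) : G ⟶ G' :=
  ObjectProperty.homMk
    { app := fun O => ↾(extApp hB G G' θ O.unop)
      naturality := by
        intro O O' f
        ext s
        change extApp hB G G' θ O'.unop (G.presheaf.map f s) =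
          G'.presheaf.map f (extApp hB G G' θ O.unop s)
        symm
        apply extApp_unique
        intro V hV
        rw [map_map G'.presheaf f _ (homOfLE (hV.trans f.unop.le)).op, extApp_spec,
          map_map G.presheaf f _ (homOfLE (hV.trans f.unop.le)).op] }

theorem extHom_app (hB : Opens.IsBasis B) (G G' : TopCat.Sheaf (Type u) (TopCat.of X))
    (θ : ShB.Hom (ShB.restrict B G.presheaf) (ShB.restrict B G'.presheaf)) (O : Opens X)
    (s : G.presheaf.obj (op O)) :
    (extHom hB G G' θ).1.app (op O) s = extApp hB G G' θ O s := rfl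

theorem extHom_app_basis (hB : Opens.IsBasis B) (G G' : TopCat.Sheaf (Type u) (TopCat.of X))
    (θ : ShB.Hom (ShB.restrict B G.presheaf) (ShB.restrict B G'.presheaf)) (U : B)
    (s : G.presheaf.obj (op (U : Opens X))) :
    (extHom hB G G' θ).1.app (op (U : Opens X)) s = θ.app U s := by
  rw [extHom_app]
  symm
  apply extApp_unique
  intro V hV
  exact θ.natural hV s

theorem extHom_unique (hB : Opens.IsBasis B) (G G' : TopCat.Sheaf (Type u) (TopCat.of X))
    (θ : ShB.Hom (ShB.restrict B G.presheaf) (ShB.restrict B G'.presheaf)) (φ' : G ⟶ G')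
    (h : ∀ (U : B) (s : G.presheaf.obj (op (U : Opens X))),
      φ'.1.app (op (U : Opens X)) s = θ.app U s) : φ' = extHom hB G G' θ := by
  apply Sheaf.hom_ext
  ext O s
  change φ'.1.app O s = extApp hB G G' θ O.unop s
  apply extApp_unique
  intro V hV
  have := congrArg (fun g => g s) (φ'.1.naturality (homOfLE hV).op)
  rw [← h]
  exact this.symm

end Groth.Agent.Lib.Helper38
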