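import Mathlib

/-!
# Sheaves of sets and open embeddings: extension by the empty set (helper38)
-/

set_option autoImplicit false
universe u
open CategoryTheory TopologicalSpace Opposite

namespace Groth.Agent.Lib.Helper38.ShOpen

variable {Y X : TopCat.{u}} {f : Y ⟶ X} (hf : Topology.IsOpenEmbedding f)

/-- The adjunction (naive) restriction ⊣ pushforward for an open embedding. -/
noncomputable def restrictPushforwardAdj (C : Type*) [Category.{u} C] :
    hf.sheafPullback C ⊣ TopCat.Sheaf.pushforward C f :=
  haveI := hf.functor_isContinuous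
  Adjunction.sheafPushforwardContinuous (E := C) hf.isOpenMap.adjunction
    (Opens.grothendieckTopology Y) (Opens.grothendieckTopology X)

include hf in
theorem map_functor_obj (W : Opens Y) : (Opens.map f).obj (hf.functor.obj W) = W := by
  ext y
  constructor
  · rintro ⟨y', hy', he⟩
    exact hf.injective he ▸ hy'
  · intro hy
    exact ⟨y, hy, rfl⟩

theorem isIso_counit (C : Type*) [Category.{u} C] :
    IsIso (restrictPushforwardAdj hf C).counit := by
  haveI : ∀ P, IsIso ((restrictPushforwardAdj hf C).counit.app P) := by
    intro P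
    haveI : IsIso ((restrictPushforwardAdj hf C).counit.app P).hom := by
      haveI : ∀ W, IsIso (((restrictPushforwardAdj hf C).counit.app P).hom.app W) := by
        intro W
        induction W using Opposite.rec with | op W => ?_
        rw [restrictPushforwardAdj, Adjunction.sheafPushforwardContinuous_counit_app_hom_app]
        haveI : IsIso (hf.isOpenMap.adjunction.unit.app W) :=
          ⟨⟨homOfLE (map_functor_obj hf W).le, Subsingleton.elim _ _, Subsingleton.elim _ _⟩⟩
        change IsIso (P.obj.map (hf.isOpenMap.adjunction.unit.app W).op)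
        infer_instance
      exact NatIso.isIso_of_isIso_app _
    exact (ObjectProperty.isIso_hom_iff _).mp this
  exact NatIso.isIso_of_isIso_app _

section LeftAdjoint

variable (L : Y.Sheaf (Type u) ⥤ X.Sheaf (Type u)) (adj : L ⊣ hf.sheafPullback (Type u))

include adj in
theorem isIso_unit : IsIso adj.unit := by
  let t : Adjunction.Triple L (hf.sheafPullback (Type u))
      (TopCat.Sheaf.pushforward (Type u) f) := ⟨adj, restrictPushforwardAdj hf (Type u)⟩
  exact t.isIso_unit_iff_isIso_counit.mpr (isIso_counit hf (Type u))

include adj in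
theorem full_of_adj : L.Full := by
  haveI := isIso_unit hf L adj
  exact adj.fullyFaithfulLOfIsIsoUnit.full

include adj in
theorem faithful_of_adj : L.Faithful := by
  haveI := isIso_unit hf L adj
  exact adj.fullyFaithfulLOfIsIsoUnit.faithful

/-- The range of `f` as an open of `X`. -/
def rangeOpen : Opens X := ⟨Set.range f, hf.isOpen_range⟩

theorem functor_obj_le_rangeOpen (W : Opens Y) : hf.functor.obj W ≤ rangeOpen hf := by
  rintro _ ⟨y, -, rfl⟩
  exact ⟨y, rfl⟩

theorem functor_obj_map_of_le {V : Opens X} (hV : V ≤ rangeOpen hf) :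
    hf.functor.obj ((Opens.map f).obj V) = V := by
  ext x
  constructor
  · rintro ⟨y, hy, rfl⟩
    exact hy
  · intro hx
    obtain ⟨y, rfl⟩ := hV hx
    exact ⟨y, hx, rfl⟩

theorem isSheaf_yoneda_rangeOpen :
    TopCat.Presheaf.IsSheaf (yoneda.obj (rangeOpen hf) : TopCat.Presheaf (Type u) X) := by
  apply TopCat.Presheaf.isSheaf_of_isSheafUniqueGluing_types
  intro ι W sf _
  refine ⟨homOfLE (iSup_le fun j => leOfHom (sf j)), ?_, ?_⟩
  · intro j
    exact Subsingleton.elim (α := (W j ⟶ rangeOpen hf)) _ _
  · intro s' _
    exact Subsingleton.elim (α := (iSup W ⟶ rangeOpen hf)) _ _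

/-- The sheaf represented by the range of `f`. -/
def sheafT : X.Sheaf (Type u) := ⟨yoneda.obj (rangeOpen hf), isSheaf_yoneda_rangeOpen hf⟩

/-- Every sheaf on `Y` maps to the restriction of `sheafT`. -/
def toRT (F : Y.Sheaf (Type u)) : F ⟶ (hf.sheafPullback (Type u)).obj (sheafT hf) :=
  ObjectProperty.homMk
    { app := fun W => TypeCat.ofHom fun _ => homOfLE (functor_obj_le_rangeOpen hf W.unop)
      naturality := by
        intro W W' g
        ext s
        exact Subsingleton.elim (α := (hf.functor.obj W'.unop ⟶ rangeOpen hf)) _ _ }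

include adj in
theorem le_rangeOpen_of_section (F : Y.Sheaf (Type u)) (V : Opens X)
    (s : (L.obj F).obj.obj (op V)) : V ≤ rangeOpen hf :=
  leOfHom (((adj.homEquiv F (sheafT hf)).symm (toRT hf F)).hom.app (op V) s)

include adj in
theorem isEmpty_stalk_of_essImage (G : X.Sheaf (Type u)) (h : L.essImage G) (x : X)
    (hx : x ∉ Set.range f) : IsEmpty (G.presheaf.stalk x) := by
  obtain ⟨F, ⟨e⟩⟩ := h
  refine ⟨fun s => ?_⟩
  obtain ⟨V, hxV, t, -⟩ := TopCat.Presheaf.exists_germ_eq G.presheaf s
  exact hx (le_rangeOpen_of_section hf L adj F V (e.inv.hom.app (op V) t) hxV)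

include adj in
theorem essImage_of_isEmpty_stalk (G : X.Sheaf (Type u))
    (hG : ∀ x : X, x ∉ Set.range f → IsEmpty (G.presheaf.stalk x)) : L.essImage G := by
  have hGV : ∀ V : Opens X, ¬ V ≤ rangeOpen hf → IsEmpty (G.obj.obj (op V)) := by
    intro V hV
    refine ⟨fun s => hV ?_⟩
    intro x hxV
    by_contra hx
    exact (hG x hx).false (G.presheaf.germ V x hxV s)
  haveI := isIso_unit hf L adj
  have hRε : IsIso ((hf.sheafPullback (Type u)).map (adj.counit.app G)) := by
    have h1 := adj.right_triangle_components G
    haveI : IsIso (adj.unit.app ((hf.sheafPullback (Type u)).obj G) ≫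
        (hf.sheafPullback (Type u)).map (adj.counit.app G)) := by
      rw [h1]; exact IsIso.id _
    exact IsIso.of_isIso_comp_left (adj.unit.app ((hf.sheafPullback (Type u)).obj G)) _
  have hRε' : ∀ W : Opens Y, IsIso ((adj.counit.app G).hom.app (op (hf.functor.obj W))) := by
    intro W
    haveI : IsIso ((hf.sheafPullback (Type u)).map (adj.counit.app G)).hom :=
      (ObjectProperty.isIso_hom_iff _).mpr hRε
    exact (inferInstance :
      IsIso (((hf.sheafPullback (Type u)).map (adj.counit.app G)).hom.app (op W)))
  haveI : IsIso (adj.counit.app G) := by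
    haveI : IsIso (adj.counit.app G).hom := by
      haveI : ∀ V, IsIso ((adj.counit.app G).hom.app V) := by
        intro V
        induction V using Opposite.rec with | op V => ?_
        by_cases hV : V ≤ rangeOpen hf
        · have := hRε' ((Opens.map f).obj V)
          rwa [functor_obj_map_of_le hf hV] at this
        · rw [isIso_iff_bijective]
          have h2 := hGV V hV
          have h3 : IsEmpty ((L.obj ((hf.sheafPullback (Type u)).obj G)).obj.obj (op V)) :=
            ⟨fun s => hV (le_rangeOpen_of_section hf L adj _ V s)⟩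
          exact ⟨fun a => (h3.false a).elim, fun b => (h2.false b).elim⟩
      exact NatIso.isIso_of_isIso_app _
    exact (ObjectProperty.isIso_hom_iff _).mp this
  exact ⟨(hf.sheafPullback (Type u)).obj G, ⟨asIso (adj.counit.app G)⟩⟩

end LeftAdjoint

end Groth.Agent.Lib.Helper38.ShOpen
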