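import Groth.Prelude.Def_W4stktopologysheavesDim
import Mathlib.Topology.Sober
import Mathlib.Topology.Spectral.Basic
import Mathlib.Topology.NoetherianSpace
import Mathlib.Topology.QuasiSeparated

set_option autoImplicit false
universe u

namespace Groth.Agent.Lib.Helper38

open Set Topology TopologicalSpace PtTop

variable {X : Type u} [TopologicalSpace X]

/-- A point of the soberification as an irreducible closed subset. -/
def sobIC (Z : Sob X) : IrreducibleCloseds X := Z

/-- An irreducible closed subset as a point of the soberification. -/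
def sobOfIC (Z : IrreducibleCloseds X) : Sob X := Z

/-- The basic open of the soberification attached to a subset `U` of `X`. -/
def sobD (U : Set X) : Set (Sob X) := {Z : Sob X | ((sobIC Z : Set X) ∩ U).Nonempty}

theorem sobIC_injective : Function.Injective (sobIC (X := X)) := fun _ _ h => h

theorem mem_sobD {U : Set X} {Z : Sob X} :
    Z ∈ sobD U ↔ ((sobIC Z : Set X) ∩ U).Nonempty := Iff.rfl

theorem sobD_mono {U V : Set X} (h : U ⊆ V) : sobD U ⊆ sobD V :=
  fun _ hZ => hZ.mono (inter_subset_inter_right _ h)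

theorem sobD_univ : sobD (univ : Set X) = univ := by
  ext Z
  simp only [mem_sobD, inter_univ, mem_univ, iff_true]
  exact (sobIC Z).isIrreducible.nonempty

theorem sobD_inter {U V : Set X} (hU : IsOpen U) (hV : IsOpen V) :
    sobD (U ∩ V) = sobD U ∩ sobD V := by
  ext Z
  constructor
  · intro h
    exact ⟨h.mono (inter_subset_inter_right _ inter_subset_left),
      h.mono (inter_subset_inter_right _ inter_subset_right)⟩
  · rintro ⟨h1, h2⟩
    exact (sobIC Z).isIrreducible.isPreirreducible U V hU hV h1 h2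

theorem sobD_iUnion {ι : Sort*} (U : ι → Set X) : sobD (⋃ i, U i) = ⋃ i, sobD (U i) := by
  ext Z
  simp only [mem_sobD, inter_iUnion, nonempty_iUnion, mem_iUnion]

theorem sobD_sUnion (S : Set (Set X)) : sobD (⋃₀ S) = ⋃ U ∈ S, sobD U := by
  rw [sUnion_eq_biUnion, sobD_iUnion]
  simp only [sobD_iUnion]

theorem isOpen_sobD {U : Set X} (hU : IsOpen U) : IsOpen (sobD U) :=
  TopologicalSpace.isOpen_generateFrom_of_mem ⟨⟨U, hU⟩, rfl⟩

/-- Every open subset of the soberification is of the form `sobD U`. -/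
theorem exists_eq_sobD_of_isOpen {S : Set (Sob X)} (hS : IsOpen S) :
    ∃ U : Set X, IsOpen U ∧ S = sobD U := by
  induction hS with
  | basic s hs =>
    obtain ⟨U, rfl⟩ := hs
    exact ⟨U, U.2, rfl⟩
  | univ => exact ⟨univ, isOpen_univ, sobD_univ.symm⟩
  | inter s t _ _ ihs iht =>
    obtain ⟨U, hU, rfl⟩ := ihs
    obtain ⟨V, hV, rfl⟩ := iht
    exact ⟨U ∩ V, hU.inter hV, (sobD_inter hU hV).symm⟩
  | sUnion S _ ih =>
    choose U hU hSU using ih
    refine ⟨⋃ s : S, U s.1 s.2, isOpen_iUnion fun s => hU s.1 s.2, ?_⟩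
    rw [sobD_iUnion, sUnion_eq_iUnion]
    exact iUnion_congr fun s => hSU s.1 s.2

theorem preimage_toSob_sobD {U : Set X} (hU : IsOpen U) : toSob X ⁻¹' sobD U = U := by
  ext x
  change (closure {x} ∩ U).Nonempty ↔ x ∈ U
  constructor
  · rintro ⟨y, hy, hyU⟩
    exact (specializes_iff_mem_closure.mpr hy).mem_open hU hyU
  · intro hx
    exact ⟨x, subset_closure rfl, hx⟩

theorem sobD_subset_sobD_iff {U V : Set X} (hU : IsOpen U) (hV : IsOpen V) :
    sobD U ⊆ sobD V ↔ U ⊆ V := by
  refine ⟨fun h => ?_, sobD_mono⟩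
  rw [← preimage_toSob_sobD hU, ← preimage_toSob_sobD hV]
  exact preimage_mono h

theorem continuous_toSob : Continuous (toSob X) := by
  rw [continuous_def]
  intro S hS
  obtain ⟨U, hU, rfl⟩ := exists_eq_sobD_of_isOpen hS
  rw [preimage_toSob_sobD hU]
  exact hU

theorem compl_sobD (U : Set X) :
    (sobD U)ᶜ = {Z : Sob X | (sobIC Z : Set X) ⊆ Uᶜ} := by
  ext Z
  simp only [mem_compl_iff, mem_sobD, not_nonempty_iff_eq_empty, mem_ofPred_eq,
    subset_compl_iff_disjoint_right, disjoint_iff_inter_eq_empty]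

theorem t0Space_sob : T0Space (Sob X) := by
  rw [t0Space_iff_exists_isOpen_xor_mem]
  intro Z Z' hne
  by_cases h : (sobIC Z : Set X) ⊆ (sobIC Z' : Set X)
  · have h' : ¬ (sobIC Z' : Set X) ⊆ (sobIC Z : Set X) :=
      fun h' => hne (sobIC_injective (IrreducibleCloseds.ext (h.antisymm h')))
    obtain ⟨x, hxZ', hxZ⟩ := not_subset.mp h'
    refine ⟨sobD (sobIC Z : Set X)ᶜ,
      isOpen_sobD (sobIC Z).isClosed.isOpen_compl, Or.inr ⟨⟨x, hxZ', hxZ⟩, ?_⟩⟩
    rintro ⟨y, hy, hy'⟩
    exact hy' hy
  · obtain ⟨x, hxZ, hxZ'⟩ := not_subset.mp h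
    refine ⟨sobD (sobIC Z' : Set X)ᶜ,
      isOpen_sobD (sobIC Z').isClosed.isOpen_compl, Or.inl ⟨⟨x, hxZ, hxZ'⟩, ?_⟩⟩
    rintro ⟨y, hy, hy'⟩
    exact hy' hy

/-- The closure of a point `C` of the soberification is the set of irreducible closed subsets of
`C`. -/
theorem closure_singleton_sob (C : Sob X) :
    closure ({C} : Set (Sob X)) =
      {Z : Sob X | (sobIC Z : Set X) ⊆ (sobIC C : Set X)} := by
  apply Subset.antisymm
  · apply closure_minimal
    · rw [singleton_subset_iff]; exact Subset.refl (sobIC C : Set X)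
    · have := compl_sobD ((sobIC C : Set X)ᶜ)
      rw [compl_compl] at this
      rw [← this]
      exact (isOpen_sobD (sobIC C).isClosed.isOpen_compl).isClosed_compl
  · intro Z hZ
    rw [mem_closure_iff]
    intro S hS hZS
    obtain ⟨U, hU, rfl⟩ := exists_eq_sobD_of_isOpen hS
    exact ⟨C, hZS.mono (inter_subset_inter_left _ hZ), rfl⟩

theorem quasiSober_sob : QuasiSober (Sob X) := by
  refine ⟨fun {T} hTi hTc => ?_⟩
  obtain ⟨U, hU, hTU⟩ := exists_eq_sobD_of_isOpen hTc.isOpen_compl
  have hT : T = {Z : Sob X | (sobIC Z : Set X) ⊆ Uᶜ} := by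
    rw [← compl_sobD, ← hTU, compl_compl]
  -- `Uᶜ` is irreducible
  have hirr : IsIrreducible Uᶜ := by
    constructor
    · obtain ⟨Z, hZ⟩ := hTi.nonempty
      rw [hT] at hZ
      exact (sobIC Z).isIrreducible.nonempty.mono hZ
    · rw [isPreirreducible_iff_isClosed_union_isClosed]
      intro A B hA hB hAB
      have h1 : T ⊆ (sobD Aᶜ)ᶜ ∪ (sobD Bᶜ)ᶜ := by
        intro Z hZ
        rw [hT] at hZ
        rw [compl_sobD, compl_sobD, compl_compl, compl_compl]
        exact (isPreirreducible_iff_isClosed_union_isClosed.mp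
          (sobIC Z).isIrreducible.isPreirreducible) A B hA hB (hZ.trans hAB)
      have h2 := (isPreirreducible_iff_isClosed_union_isClosed.mp hTi.isPreirreducible) _ _
        (isOpen_sobD hA.isOpen_compl).isClosed_compl (isOpen_sobD hB.isOpen_compl).isClosed_compl h1
      have key : ∀ D : Set X, IsClosed D → T ⊆ (sobD Dᶜ)ᶜ → Uᶜ ⊆ D := by
        intro D _ hTD x hx
        have hxT : toSob X x ∈ T := by
          rw [hT]
          exact closure_minimal (singleton_subset_iff.mpr hx) hU.isClosed_compl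
        have := hTD hxT
        rw [compl_sobD, compl_compl] at this
        exact this (subset_closure rfl)
      rcases h2 with h | h
      · exact Or.inl (key A hA h)
      · exact Or.inr (key B hB h)
  refine ⟨sobOfIC ⟨Uᶜ, hirr, hU.isClosed_compl⟩, ?_⟩
  rw [isGenericPoint_def, closure_singleton_sob, hT]
  rfl

end Groth.Agent.Lib.Helper38
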