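import Groth.Agent.Lib.Helper38.Sob
import Mathlib.Topology.Spectral.Prespectral

set_option autoImplicit false
universe u

namespace Groth.Agent.Lib.Helper38

open Set Topology TopologicalSpace PtTop

variable {X : Type u} [TopologicalSpace X]

theorem isCompact_sobD_iff {U : Set X} (hU : IsOpen U) : IsCompact (sobD U) ↔ IsCompact U := by
  constructor
  · intro hc
    rw [isCompact_iff_finite_subcover]
    intro κ V hV hcov
    have hcov' : sobD U ⊆ ⋃ i, sobD (V i) := by
      rw [← sobD_iUnion]; exact sobD_mono hcov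
    obtain ⟨t, ht⟩ := hc.elim_finite_subcover _ (fun i => isOpen_sobD (hV i)) hcov'
    refine ⟨t, ?_⟩
    have hop : IsOpen (⋃ i ∈ t, V i) := isOpen_iUnion fun i => isOpen_iUnion fun _ => hV i
    rw [← sobD_subset_sobD_iff hU hop]
    simpa only [sobD_iUnion] using ht
  · intro hc
    rw [isCompact_iff_finite_subcover]
    intro κ W hW hcov
    choose V hV hWV using fun i => exists_eq_sobD_of_isOpen (hW i)
    have hcov' : U ⊆ ⋃ i, V i := by
      rw [← sobD_subset_sobD_iff hU (isOpen_iUnion hV), sobD_iUnion]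
      simpa only [← hWV] using hcov
    obtain ⟨t, ht⟩ := hc.elim_finite_subcover V hV hcov'
    refine ⟨t, ?_⟩
    have := sobD_mono ht
    simpa only [sobD_iUnion, ← hWV] using this

theorem compactSpace_sob [CompactSpace X] : CompactSpace (Sob X) := by
  refine ⟨?_⟩
  rw [← sobD_univ (X := X), isCompact_sobD_iff isOpen_univ]
  exact isCompact_univ

theorem prespectralSpace_sob [PrespectralSpace X] : PrespectralSpace (Sob X) := by
  refine .of_isTopologicalBasis (B := {S | ∃ U : Set X, IsOpen U ∧ IsCompact U ∧ S = sobD U}) ?_ ?_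
  · refine isTopologicalBasis_of_isOpen_of_nhds ?_ ?_
    · rintro _ ⟨U, hU, _, rfl⟩
      exact isOpen_sobD hU
    · intro Z S hZS hS
      obtain ⟨U, hU, rfl⟩ := exists_eq_sobD_of_isOpen hS
      obtain ⟨x, hxZ, hxU⟩ := hZS
      obtain ⟨V, ⟨hVo, hVc⟩, hxV, hVU⟩ :=
        PrespectralSpace.isTopologicalBasis.exists_subset_of_mem_open hxU hU
      exact ⟨sobD V, ⟨V, hVo, hVc, rfl⟩, ⟨x, hxZ, hxV⟩, sobD_mono hVU⟩
  · rintro _ ⟨U, hU, hUc, rfl⟩
    exact (isCompact_sobD_iff hU).mpr hUc

theorem quasiSeparatedSpace_sob [QuasiSeparatedSpace X] : QuasiSeparatedSpace (Sob X) := by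
  refine ⟨fun S T hS hSc hT hTc => ?_⟩
  obtain ⟨U, hU, rfl⟩ := exists_eq_sobD_of_isOpen hS
  obtain ⟨V, hV, rfl⟩ := exists_eq_sobD_of_isOpen hT
  rw [← sobD_inter hU hV, isCompact_sobD_iff (hU.inter hV)]
  exact ((isCompact_sobD_iff hU).mp hSc).inter_of_isOpen ((isCompact_sobD_iff hV).mp hTc) hU hV

theorem spectralSpace_sob [CompactSpace X] [PrespectralSpace X] [QuasiSeparatedSpace X] :
    SpectralSpace (Sob X) :=
  { toT0Space := t0Space_sob
    toCompactSpace := compactSpace_sob
    toQuasiSober := quasiSober_sob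
    toQuasiSeparatedSpace := quasiSeparatedSpace_sob
    toPrespectralSpace := prespectralSpace_sob }

theorem noetherianSpace_sob [NoetherianSpace X] : NoetherianSpace (Sob X) := by
  rw [noetherianSpace_iff_opens]
  intro S
  obtain ⟨U, hU, hSU⟩ := exists_eq_sobD_of_isOpen S.2
  have hSU' : (S : Set (Sob X)) = sobD U := hSU
  rw [hSU', isCompact_sobD_iff hU]
  exact NoetherianSpace.isCompact U

end Groth.Agent.Lib.Helper38
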