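import Groth.Agent.Lib.Helper38.SpectralSub
import Groth.Agent.Lib.Helper38.CofLimit

set_option autoImplicit false
universe u

namespace Groth.Agent.Lib.Helper38

open CategoryTheory CategoryTheory.Limits Set Topology TopologicalSpace

/-- A spectral map induces a continuous map for the constructible topologies. -/
theorem continuous_withConstructibleTopology_map {X Y : Type*} [TopologicalSpace X]
    [TopologicalSpace Y] {f : X → Y} (hf : IsSpectralMap f) :
    Continuous (fun x : WithConstructibleTopology X =>
      WithTopology.toTopology (constructibleTopology Y) (f (WithTopology.ofTopology x))) := by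
  rw [continuous_def]
  intro s hs
  rw [WithConstructibleTopology.isOpen_iff] at hs ⊢
  exact @Continuous.isOpen_preimage X Y (constructibleTopology X) (constructibleTopology Y) f
    (IsSpectralMap.continuous_constructibleTopology hf) _ hs

variable {J : Type u} [SmallCategory J] (F : J ⥤ TopCat.{u})

/-- The product of the spaces of the diagram, each with its constructible topology. -/
abbrev PC := ∀ j, WithConstructibleTopology (F.obj j)

/-- The compatible families inside the product `PC F`. -/
def sectionsCT : Set (PC F) :=
  {u | ∀ ⦃i j : J⦄ (a : i ⟶ j),
    F.map a (WithTopology.ofTopology (u i)) = WithTopology.ofTopology (u j)}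

/-- The condition of compatibility along one arrow. -/
def arrowSet (σ : Σ i j : J, (i ⟶ j)) : Set (PC F) :=
  {u | F.map σ.2.2 (WithTopology.ofTopology (u σ.1)) = WithTopology.ofTopology (u σ.2.1)}

theorem sectionsCT_eq_iInter : sectionsCT F = ⋂ σ, arrowSet F σ := by
  ext u
  simp only [sectionsCT, arrowSet, mem_ofPred_eq, mem_iInter, Sigma.forall]

variable [hF : ∀ j, SpectralSpace (F.obj j)]

section

variable (hFm : ∀ {i j : J} (a : i ⟶ j), IsSpectralMap (F.map a : F.obj i → F.obj j))

include hFm

theorem isClosed_arrowSet (σ : Σ i j : J, (i ⟶ j)) : IsClosed (arrowSet F σ) := by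
  have h1 : Continuous fun u : PC F =>
      WithTopology.toTopology (constructibleTopology (F.obj σ.2.1))
        (F.map σ.2.2 (WithTopology.ofTopology (u σ.1))) :=
    (continuous_withConstructibleTopology_map (hFm σ.2.2)).comp (continuous_apply σ.1)
  have h2 : Continuous fun u : PC F => u σ.2.1 := continuous_apply σ.2.1
  have := isClosed_eq h1 h2
  have heq : arrowSet F σ = {u : PC F |
      WithTopology.toTopology (constructibleTopology (F.obj σ.2.1))
        (F.map σ.2.2 (WithTopology.ofTopology (u σ.1))) = u σ.2.1} := by
    ext u
    simp only [arrowSet, mem_ofPred_eq]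
    constructor
    · intro h; rw [h]
    · intro h; exact congrArg WithTopology.ofTopology h
  rw [heq]
  exact this

theorem isClosed_sectionsCT : IsClosed (sectionsCT F) := by
  rw [sectionsCT_eq_iInter]
  exact isClosed_iInter fun σ => isClosed_arrowSet F hFm σ

theorem compactSpace_sectionsCT : CompactSpace (sectionsCT F) :=
  isCompact_iff_compactSpace.mp (isClosed_sectionsCT F hFm).isCompact

end

/-- The set of families whose `k`-th coordinate lies in `C`. -/
def coordSet (k : J) (C : Set (F.obj k)) : Set (PC F) :=
  {u | WithTopology.ofTopology (u k) ∈ C}

omit hF in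
theorem isClosed_coordSet (k : J) {C : Set (F.obj k)} (hC : IsClosedCT C) :
    IsClosed (coordSet F k C) := by
  have : IsClosed (WithTopology.ofTopology (t := constructibleTopology (F.obj k)) ⁻¹' C) := by
    rw [WithConstructibleTopology.isClosed_iff]; exact hC
  change IsClosed ((fun u : PC F => u k) ⁻¹'
    (WithTopology.ofTopology (t := constructibleTopology (F.obj k)) ⁻¹' C))
  exact IsClosed.preimage (continuous_apply k) this

/-- The cone over `F` with apex the compatible families, topologized by the constructible
topologies. -/
def coneCT : Cone F where
  pt := TopCat.of (sectionsCT F)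
  π :=
    { app := fun j => TopCat.ofHom
        ⟨fun u => WithTopology.ofTopology (u.1 j),
          continuous_ofTopology_constructible.comp
            ((continuous_apply j).comp continuous_subtype_val)⟩
      naturality := by
        intro i j a
        ext u
        exact (u.2 a).symm }

variable (c : Cone F) (hc : IsLimit c)

/-- The canonical continuous map from compatible families to the limit. -/
noncomputable def fromSections : TopCat.of (sectionsCT F) ⟶ c.pt := hc.lift (coneCT F)

theorem π_fromSections (j : J) (u : sectionsCT F) :
    c.π.app j (fromSections F c hc u) = WithTopology.ofTopology (u.1 j) := by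
  have := hc.fac (coneCT F) j
  exact ConcreteCategory.congr_hom this u

/-- The compatible family attached to a point of the limit. -/
def toSections (x : c.pt) : sectionsCT F :=
  ⟨fun j => WithTopology.toTopology _ (c.π.app j x), fun _ _ a => cone_w_apply F c a x⟩

theorem fromSections_toSections (x : c.pt) : fromSections F c hc (toSections F c x) = x :=
  cone_ext F hc fun j => by rw [π_fromSections]; rfl

section

variable (hFm : ∀ {i j : J} (a : i ⟶ j), IsSpectralMap (F.map a : F.obj i → F.obj j))

include hFm hc

/-- Preimages in the limit of subsets closed in the constructible topology are quasi-compact. -/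
theorem isCompact_preimage_of_isClosedCT (k : J) {C : Set (F.obj k)} (hC : IsClosedCT C) :
    IsCompact (c.π.app k ⁻¹' C) := by
  have := compactSpace_sectionsCT F hFm
  have hcl : IsClosed ((Subtype.val : sectionsCT F → PC F) ⁻¹' coordSet F k C) :=
    (isClosed_coordSet F k hC).preimage continuous_subtype_val
  have hcomp := hcl.isCompact.image (fromSections F c hc).hom.continuous
  suffices h : c.π.app k ⁻¹' C =
      (fromSections F c hc) '' ((Subtype.val : sectionsCT F → PC F) ⁻¹' coordSet F k C) by
    rw [h]; exact hcomp
  ext x
  constructor
  · intro hx
    exact ⟨toSections F c x, hx, fromSections_toSections F c hc x⟩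
  · rintro ⟨u, hu, rfl⟩
    change c.π.app k (fromSections F c hc u) ∈ C
    rw [π_fromSections]
    exact hu

theorem compactSpace_limit [IsCofiltered J] : CompactSpace c.pt := by
  have : Nonempty J := IsCofiltered.nonempty
  have := isCompact_preimage_of_isClosedCT F c hc hFm (Classical.arbitrary J) (C := univ)
    (IsClosedCT.of_isClosed isClosed_univ)
  rw [preimage_univ] at this
  exact ⟨this⟩

theorem isSpectralMap_π (j : J) : IsSpectralMap (c.π.app j : c.pt → F.obj j) :=
  ⟨(c.π.app j).hom.continuous, fun _ ho hc' =>
    isCompact_preimage_of_isClosedCT F c hc hFm j (IsClosedCT.of_isOpen_isCompact ho hc')⟩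

end

end Groth.Agent.Lib.Helper38
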