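import Groth.Agent.Lib.Helper38.SpectralLimit

set_option autoImplicit false
universe u

namespace Groth.Agent.Lib.Helper38

open CategoryTheory CategoryTheory.Limits Set Topology TopologicalSpace

variable {J : Type u} [SmallCategory J] [IsCofiltered J] (F : J ⥤ TopCat.{u})
  [hF : ∀ j, SpectralSpace (F.obj j)]
  (hFm : ∀ {i j : J} (a : i ⟶ j), IsSpectralMap (F.map a : F.obj i → F.obj j))
  (c : Cone F) (hc : IsLimit c)

include hFm hc

/-- The preimages of quasi-compact opens form a basis of the limit. -/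
theorem isTopologicalBasis_limit_spectral :
    IsTopologicalBasis {U : Set c.pt | ∃ (j : J) (V : Set (F.obj j)),
      V ∈ {V : Set (F.obj j) | IsOpen V ∧ IsCompact V} ∧ U = c.π.app j ⁻¹' V} :=
  TopCat.isTopologicalBasis_cofiltered_limit F c hc (fun j => {V | IsOpen V ∧ IsCompact V})
    (fun _ => PrespectralSpace.isTopologicalBasis)
    (fun _ => ⟨isOpen_univ, isCompact_univ⟩)
    (fun _ U1 U2 h1 h2 => ⟨h1.1.inter h2.1, h1.2.inter_of_isOpen h2.2 h1.1 h2.1⟩)
    (fun _ _ f V hV => ⟨hV.1.preimage (hFm f).continuous,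
      (hFm f).isCompact_preimage_of_isOpen hV.1 hV.2⟩)

theorem t0Space_limit : T0Space c.pt := by
  rw [t0Space_iff_inseparable]
  intro x y hxy
  exact cone_ext F hc fun j => (hxy.map (c.π.app j).hom.continuous).eq

theorem prespectralSpace_limit : PrespectralSpace c.pt :=
  .of_isTopologicalBasis (isTopologicalBasis_limit_spectral F hFm c hc) (by
    rintro _ ⟨j, V, hV, rfl⟩
    exact isCompact_preimage_of_isClosedCT F c hc hFm j (IsClosedCT.of_isOpen_isCompact hV.1 hV.2))

theorem quasiSeparatedSpace_limit : QuasiSeparatedSpace c.pt := by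
  let ι := Σ j : J, {V : Set (F.obj j) // IsOpen V ∧ IsCompact V}
  let b : ι → Set c.pt := fun s => c.π.app s.1 ⁻¹' s.2.1
  have hb : IsTopologicalBasis (range b) := by
    convert isTopologicalBasis_limit_spectral F hFm c hc using 1
    ext U
    simp only [mem_range, mem_ofPred_eq, b, ι]
    constructor
    · rintro ⟨⟨j, V, hV⟩, rfl⟩; exact ⟨j, V, hV, rfl⟩
    · rintro ⟨j, V, hV, rfl⟩; exact ⟨⟨j, V, hV⟩, rfl⟩
  refine QuasiSeparatedSpace.of_isTopologicalBasis hb ?_
  rintro ⟨i, V, hV⟩ ⟨j, V', hV'⟩
  let m := IsCofiltered.min i j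
  let a : m ⟶ i := IsCofiltered.minToLeft i j
  let a' : m ⟶ j := IsCofiltered.minToRight i j
  have : b ⟨i, V, hV⟩ ∩ b ⟨j, V', hV'⟩ = c.π.app m ⁻¹' (F.map a ⁻¹' V ∩ F.map a' ⁻¹' V') := by
    rw [preimage_inter, cone_preimage_preimage, cone_preimage_preimage]
  rw [this]
  apply isCompact_preimage_of_isClosedCT F c hc hFm
  exact (IsClosedCT.of_isOpen_isCompact (hV.1.preimage (hFm a).continuous)
      ((hFm a).isCompact_preimage_of_isOpen hV.1 hV.2)).inter
    (IsClosedCT.of_isOpen_isCompact (hV'.1.preimage (hFm a').continuous)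
      ((hFm a').isCompact_preimage_of_isOpen hV'.1 hV'.2))

theorem quasiSober_limit : QuasiSober c.pt := by
  refine ⟨fun {Z} hZi hZc => ?_⟩
  -- the closures of the images
  have hirr : ∀ j, IsIrreducible (closure (c.π.app j '' Z)) := fun j =>
    (hZi.image _ (c.π.app j).hom.continuous.continuousOn).closure
  have hgen : ∀ j, IsGenericPoint (hirr j).genericPoint (closure (c.π.app j '' Z)) := fun j =>
    (hirr j).isGenericPoint_genericPoint isClosed_closure
  -- compatibility of the generic points
  have hcompat : ∀ ⦃i j : J⦄ (a : i ⟶ j), F.map a (hirr i).genericPoint = (hirr j).genericPoint := by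
    intro i j a
    refine IsGenericPoint.eq ?_ (hgen j)
    have himg : F.map a '' (c.π.app i '' Z) = c.π.app j '' Z := by
      rw [← image_comp]
      apply image_congr
      intro z _
      exact cone_w_apply F c a z
    rw [isGenericPoint_def]
    apply Subset.antisymm
    · apply closure_minimal _ isClosed_closure
      rw [singleton_subset_iff, ← himg]
      exact image_closure_subset_closure_image (hFm a).continuous ⟨_, (hgen i).mem, rfl⟩
    · apply closure_minimal _ isClosed_closure
      rintro _ ⟨z, hz, rfl⟩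
      rw [← cone_w_apply F c a z, ← specializes_iff_mem_closure]
      exact ((hgen i).specializes (subset_closure ⟨z, hz, rfl⟩)).map (hFm a).continuous
  let u : sectionsCT F := ⟨fun j => WithTopology.toTopology _ (hirr j).genericPoint,
    fun _ _ a => hcompat a⟩
  let ξ : c.pt := fromSections F c hc u
  have hξ : ∀ j, c.π.app j ξ = (hirr j).genericPoint := fun j => π_fromSections F c hc j u
  have hB := isTopologicalBasis_limit_spectral F hFm c hc
  have hξZ : ξ ∈ Z := by
    by_contra hne
    obtain ⟨_, ⟨j, V, hV, rfl⟩, hξV, hVZ⟩ := hB.exists_subset_of_mem_open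
      (show ξ ∈ Zᶜ from hne) hZc.isOpen_compl
    have h1 : (hirr j).genericPoint ∈ V := hξ j ▸ hξV
    obtain ⟨_, hyV, ⟨z, hz, rfl⟩⟩ := mem_closure_iff.mp (hgen j).mem V hV.1 h1
    exact hVZ hyV hz
  refine ⟨ξ, ?_⟩
  rw [isGenericPoint_iff_forall_closed hZc hξZ]
  intro Z' hZ' hξZ'
  by_contra hne
  obtain ⟨z, hzZ, hzZ'⟩ := not_subset.mp hne
  obtain ⟨_, ⟨j, V, hV, rfl⟩, hzV, hVZ'⟩ := hB.exists_subset_of_mem_open
    (show z ∈ Z'ᶜ from hzZ') hZ'.isOpen_compl
  have hspec : (hirr j).genericPoint ⤳ c.π.app j z :=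
    (hgen j).specializes (subset_closure ⟨z, hzZ, rfl⟩)
  have : ξ ∈ c.π.app j ⁻¹' V := by
    change c.π.app j ξ ∈ V
    rw [hξ j]
    exact hspec.mem_open hV.1 hzV
  exact hVZ' this hξZ'

/-- Stacks 0A2Z: a cofiltered limit of spectral spaces with spectral transition maps is spectral. -/
theorem spectralSpace_limit : SpectralSpace c.pt :=
  { toT0Space := t0Space_limit F hFm c hc
    toCompactSpace := compactSpace_limit F c hc hFm
    toQuasiSober := quasiSober_limit F hFm c hc
    toQuasiSeparatedSpace := quasiSeparatedSpace_limit F hFm c hc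
    toPrespectralSpace := prespectralSpace_limit F hFm c hc }

end Groth.Agent.Lib.Helper38
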