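import Groth.Agent.Lib.Helper38.SpectralLimit2

set_option autoImplicit false
universe u

namespace Groth.Agent.Lib.Helper38

open CategoryTheory CategoryTheory.Limits Set Topology TopologicalSpace

variable {J : Type u} [SmallCategory J] [IsCofiltered J] (F : J ⥤ TopCat.{u})
  [hF : ∀ j, SpectralSpace (F.obj j)]
  (hFm : ∀ {i j : J} (a : i ⟶ j), IsSpectralMap (F.map a : F.obj i → F.obj j))
  (c : Cone F) (hc : IsLimit c)

include hFm hc

/-- If a subset `C` of `X_{k₀}` closed in the constructible topology has empty preimage in the limit,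
then it already has empty preimage in some `X_k`. -/
theorem exists_preimage_eq_empty (k₀ : J) {C : Set (F.obj k₀)} (hC : IsClosedCT C)
    (hempty : c.π.app k₀ ⁻¹' C = ∅) : ∃ (k : J) (a : k ⟶ k₀), F.map a ⁻¹' C = ∅ := by
  classical
  by_contra hcon
  push Not at hcon
  have hne : ∀ (k : J) (a : k ⟶ k₀), (F.map a ⁻¹' C).Nonempty := fun k a => hcon k a
  -- every space of the diagram is nonempty
  have hnonempty : ∀ j, Nonempty (F.obj j) := fun j => by
    obtain ⟨y, -⟩ := hne _ (IsCofiltered.minToRight j k₀)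
    exact ⟨F.map (IsCofiltered.minToLeft j k₀) y⟩
  -- compactness in the product of the constructible topologies
  have hcomp : IsCompact (coordSet F k₀ C) := (isClosed_coordSet F k₀ hC).isCompact
  have key : (coordSet F k₀ C ∩ ⋂ σ, arrowSet F σ).Nonempty := by
    refine hcomp.inter_iInter_nonempty _ (fun σ => isClosed_arrowSet F hFm σ) fun fin => ?_
    -- a finite set of arrows
    let O : Finset J := insert k₀ (fin.image (fun σ => σ.1) ∪ fin.image (fun σ => σ.2.1))
    have hk₀ : k₀ ∈ O := Finset.mem_insert_self _ _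
    have hsrc : ∀ σ ∈ fin, σ.1 ∈ O := fun σ hσ =>
      Finset.mem_insert_of_mem (Finset.mem_union_left _ (Finset.mem_image_of_mem _ hσ))
    have htgt : ∀ σ ∈ fin, σ.2.1 ∈ O := fun σ hσ =>
      Finset.mem_insert_of_mem (Finset.mem_union_right _ (Finset.mem_image_of_mem _ hσ))
    let H : Finset (Σ' (X Y : J) (_ : X ∈ O) (_ : Y ∈ O), X ⟶ Y) :=
      fin.attach.image fun σ => ⟨σ.1.1, σ.1.2.1, hsrc σ.1 σ.2, htgt σ.1 σ.2, σ.1.2.2⟩
    obtain ⟨S, T, hT⟩ := IsCofiltered.inf_exists O H
    obtain ⟨y, hy⟩ := hne S (T hk₀)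
    let u : PC F := fun j =>
      if hj : j ∈ O then WithTopology.toTopology _ (F.map (T hj) y)
      else WithTopology.toTopology _ (hnonempty j).some
    refine ⟨u, ?_, ?_⟩
    · change WithTopology.ofTopology (u k₀) ∈ C
      simp only [u, dif_pos hk₀]
      exact hy
    · rw [mem_iInter₂]
      intro σ hσ
      change F.map σ.2.2 (WithTopology.ofTopology (u σ.1)) = WithTopology.ofTopology (u σ.2.1)
      simp only [u, dif_pos (hsrc σ hσ), dif_pos (htgt σ hσ)]
      have hmem : (⟨σ.1, σ.2.1, hsrc σ hσ, htgt σ hσ, σ.2.2⟩ :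
          Σ' (X Y : J) (_ : X ∈ O) (_ : Y ∈ O), X ⟶ Y) ∈ H :=
        Finset.mem_image.mpr ⟨⟨σ, hσ⟩, Finset.mem_attach _ _, rfl⟩
      have := hT (hsrc σ hσ) (htgt σ hσ) hmem
      rw [← this, F.map_comp]
      rfl
  obtain ⟨u, hu1, hu2⟩ := key
  rw [← sectionsCT_eq_iInter] at hu2
  have : fromSections F c hc ⟨u, hu2⟩ ∈ c.π.app k₀ ⁻¹' C := by
    change c.π.app k₀ (fromSections F c hc ⟨u, hu2⟩) ∈ C
    rw [π_fromSections]
    exact hu1
  rw [hempty] at this
  exact this

/-- Inclusions between preimages in the limit descend to a finite stage. -/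
theorem exists_preimage_subset (i : J) {A B : Set (F.obj i)} (hA : IsClosedCT A) (hB : IsOpenCT B)
    (h : c.π.app i ⁻¹' A ⊆ c.π.app i ⁻¹' B) :
    ∃ (j : J) (a : j ⟶ i), F.map a ⁻¹' A ⊆ F.map a ⁻¹' B := by
  have hC : IsClosedCT (A \ B) := by
    rw [sdiff_eq]
    exact hA.inter (isClosedCT_compl_iff.mpr hB)
  have hempty : c.π.app i ⁻¹' (A \ B) = ∅ := by
    rw [preimage_sdiff, sdiff_eq_empty]
    exact h
  obtain ⟨j, a, ha⟩ := exists_preimage_eq_empty F hFm c hc i hC hempty
  refine ⟨j, a, ?_⟩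
  rw [preimage_sdiff, sdiff_eq_empty] at ha
  exact ha

/-- Equalities between preimages in the limit descend to a finite stage. -/
theorem exists_preimage_eq (i : J) {A B : Set (F.obj i)} (hA : IsClosedCT A) (hA' : IsOpenCT A)
    (hB : IsClosedCT B) (hB' : IsOpenCT B) (h : c.π.app i ⁻¹' A = c.π.app i ⁻¹' B) :
    ∃ (j : J) (a : j ⟶ i), F.map a ⁻¹' A = F.map a ⁻¹' B := by
  have hC : IsClosedCT ((A \ B) ∪ (B \ A)) := by
    rw [sdiff_eq, sdiff_eq]
    exact (hA.inter (isClosedCT_compl_iff.mpr hB')).union (hB.inter (isClosedCT_compl_iff.mpr hA'))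
  have hempty : c.π.app i ⁻¹' ((A \ B) ∪ (B \ A)) = ∅ := by
    rw [preimage_union, preimage_sdiff, preimage_sdiff, h, sdiff_self]
    simp
  obtain ⟨j, a, ha⟩ := exists_preimage_eq_empty F hFm c hc i hC hempty
  refine ⟨j, a, ?_⟩
  rw [preimage_union, preimage_sdiff, preimage_sdiff, union_empty_iff, sdiff_eq_empty,
    sdiff_eq_empty] at ha
  exact Subset.antisymm ha.1 ha.2

end Groth.Agent.Lib.Helper38
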