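import Groth.Agent.Lib.Helper38.ConstrTop

set_option autoImplicit false
universe u

namespace Groth.Agent.Lib.Helper38

open Set Topology TopologicalSpace

variable {X : Type*} [TopologicalSpace X]

/-- A subset of a spectral space closed for the constructible topology is retrocompact. -/
theorem IsClosedCT.isRetrocompact [SpectralSpace X] {Z : Set X} (hZ : IsClosedCT Z) :
    IsRetrocompact Z := fun _ hUc hUo =>
  (hZ.inter (IsClosedCT.of_isOpen_isCompact hUo hUc)).isCompact

/-- If `Z` is closed for the constructible topology of a (pre)spectral space and `T ⊆ Z` is such that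
`closure T` has a generic point `η`, then `η ∈ Z`. -/
theorem mem_of_isGenericPoint_closure_of_isClosedCT {Z T : Set X} (hZ : IsClosedCT Z)
    (hTZ : T ⊆ Z) {η : X} (hη : IsGenericPoint η (closure T)) : η ∈ Z := by
  by_contra hηZ
  have hopen : IsOpen[constructibleTopology X] Zᶜ := isOpenCT_compl_iff.mpr hZ
  have hbasis := @isTopologicalBasis_of_subbasis X (constructibleTopology X)
    (constructibleTopologySubbasis X) rfl
  obtain ⟨_, ⟨f, ⟨hfin, hfsub⟩, rfl⟩, hηf, hfZ⟩ :=
    (@IsTopologicalBasis.exists_subset_of_mem_open X (constructibleTopology X) _ hbasis η Zᶜ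
      hηZ hopen)
  -- the open members of `f`
  let f₁ : Set (Set X) := {s ∈ f | IsOpen s}
  have hU : IsOpen (⋂₀ f₁) := (hfin.subset (sep_subset _ _)).isOpen_sInter fun s hs => hs.2
  have hηU : η ∈ ⋂₀ f₁ := fun s hs => hηf s hs.1
  -- `T` meets this open set
  have hηcl : η ∈ closure T := hη.mem
  obtain ⟨t, htU, htT⟩ := mem_closure_iff.mp hηcl _ hU hηU
  have hspec : η ⤳ t := hη.specializes (subset_closure htT)
  have : t ∈ ⋂₀ f := by
    intro s hs
    rcases hfsub hs with ⟨hso, _⟩ | ⟨hscl, _⟩
    · exact htU s ⟨hs, hso⟩
    · exact hspec.mem_closed hscl (hηf s hs)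
  exact hfZ this (hTZ htT)

/-- Stacks 0902: a subset of a spectral space which is closed in the constructible topology is a
spectral space. -/
theorem IsClosedCT.spectralSpace [SpectralSpace X] {Z : Set X} (hZ : IsClosedCT Z) :
    SpectralSpace Z := by
  have hcomp : CompactSpace Z := isCompact_iff_compactSpace.mp hZ.isCompact
  have hretro : IsRetrocompact Z := hZ.isRetrocompact
  have hpre : PrespectralSpace Z := prespectralSpace_of_isRetrocompact hretro
  have hqs : QuasiSeparatedSpace Z := by
    have hb : IsTopologicalBasis (range fun U : {U : Set X // IsOpen U ∧ IsCompact U} =>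
        (Subtype.val : Z → X) ⁻¹' U.1) := by
      have := (PrespectralSpace.isTopologicalBasis (X := X)).isInducing
        (IsInducing.subtypeVal (t := Z))
      convert this using 1
      ext s
      simp only [mem_range, Subtype.exists, mem_image, mem_ofPred_eq]
      constructor
      · rintro ⟨U, hU, rfl⟩; exact ⟨U, hU, rfl⟩
      · rintro ⟨U, hU, rfl⟩; exact ⟨U, hU, rfl⟩
    refine QuasiSeparatedSpace.of_isTopologicalBasis hb fun U V => ?_
    rw [← preimage_inter, IsInducing.subtypeVal.isCompact_iff, Subtype.image_preimage_coe]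
    exact hretro (U.2.2.inter_of_isOpen V.2.2 U.2.1 V.2.1) (U.2.1.inter V.2.1)
  have hsober : QuasiSober Z := by
    refine ⟨fun {T} hTi hTc => ?_⟩
    have hirr : IsIrreducible (closure ((Subtype.val : Z → X) '' T)) :=
      (hTi.image _ continuous_subtype_val.continuousOn).closure
    have hgen := hirr.isGenericPoint_genericPoint isClosed_closure
    have hηZ : hirr.genericPoint ∈ Z :=
      mem_of_isGenericPoint_closure_of_isClosedCT hZ (by rintro _ ⟨z, _, rfl⟩; exact z.2) hgen
    refine ⟨⟨hirr.genericPoint, hηZ⟩, ?_⟩
    rw [isGenericPoint_def, IsInducing.subtypeVal.closure_eq_preimage_closure_image,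
      image_singleton, hgen.def, ← IsInducing.subtypeVal.closure_eq_preimage_closure_image,
      hTc.closure_eq]
  exact { toT0Space := inferInstance, toCompactSpace := hcomp, toQuasiSober := hsober,
          toQuasiSeparatedSpace := hqs, toPrespectralSpace := hpre }

end Groth.Agent.Lib.Helper38
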