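import Mathlib.Topology.Irreducible
import Mathlib.Topology.LocallyClosed
import Mathlib.Topology.Sober

set_option autoImplicit false
universe u

namespace Groth.Agent.Lib.Helper38

open Set Topology

/-- An irreducible set contained in a finite indexed union of closed sets is contained in
one of them. -/
theorem IsIrreducible.subset_of_subset_iUnion_isClosed {X : Type*} [TopologicalSpace X]
    {ι : Type*} [Finite ι] {Z : Set X} (hZ : IsIrreducible Z) (C : ι → Set X)
    (hC : ∀ i, IsClosed (C i)) (h : Z ⊆ ⋃ i, C i) : ∃ i, Z ⊆ C i := by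
  classical
  have := Fintype.ofFinite ι
  have := isIrreducible_iff_sUnion_isClosed.mp hZ (Finset.univ.image C)
    (by simp only [Finset.mem_image, Finset.mem_univ, true_and]; rintro _ ⟨i, rfl⟩; exact hC i)
    (by
      intro x hx
      obtain ⟨i, hi⟩ := mem_iUnion.mp (h hx)
      exact mem_sUnion.mpr ⟨C i, by simp, hi⟩)
  obtain ⟨z, hz, hZz⟩ := this
  simp only [Finset.mem_image, Finset.mem_univ, true_and] at hz
  obtain ⟨i, rfl⟩ := hz
  exact ⟨i, hZz⟩

/-- Core of Stacks 005K: if `E` is a finite union of locally closed sets and `E ∩ Z` is dense in the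
irreducible `Z`, then there is an open `U` with `U ∩ Z ⊆ E` and `U ∩ Z` dense in `Z`. -/
theorem exists_open_of_dense_inter_irreducible {X : Type*} [TopologicalSpace X]
    {Z : Set X} (hZ : IsIrreducible Z) {ι : Type*} [Finite ι] (L : ι → Set X)
    (hL : ∀ i, IsLocallyClosed (L i)) (h : Z ⊆ closure ((⋃ i, L i) ∩ Z)) :
    ∃ U : Set X, IsOpen U ∧ U ∩ Z ⊆ ⋃ i, L i ∧ Z ⊆ closure (U ∩ Z) := by
  have h1 : Z ⊆ ⋃ i, closure (L i ∩ Z) := by
    rw [← closure_iUnion_of_finite, ← iUnion_inter]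
    exact h
  obtain ⟨i, hi⟩ := IsIrreducible.subset_of_subset_iUnion_isClosed hZ _
    (fun i => isClosed_closure) h1
  obtain ⟨U, C, hU, hC, hUC⟩ := hL i
  have hZC : Z ⊆ C := by
    refine hi.trans (closure_minimal ?_ hC)
    rw [hUC]
    exact fun x hx => hx.1.2
  have hUZ : U ∩ Z = L i ∩ Z := by
    rw [hUC]
    ext x
    constructor
    · rintro ⟨hxU, hxZ⟩
      exact ⟨⟨hxU, hZC hxZ⟩, hxZ⟩
    · rintro ⟨⟨hxU, _⟩, hxZ⟩
      exact ⟨hxU, hxZ⟩
  refine ⟨U, hU, ?_, ?_⟩
  · rw [hUZ]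
    exact fun x hx => mem_iUnion.mpr ⟨i, hx.1⟩
  · rw [hUZ]
    exact hi

/-- If `E` is a finite union of locally closed sets with `E ∩ Z` dense in `Z` irreducible and `ξ ∈ Z` is
a generic point of `Z`, then `ξ ∈ E`. -/
theorem mem_of_dense_inter_irreducible_of_generic {X : Type*} [TopologicalSpace X]
    {Z : Set X} (hZ : IsIrreducible Z) {ι : Type*} [Finite ι] (L : ι → Set X)
    (hL : ∀ i, IsLocallyClosed (L i)) (h : Z ⊆ closure ((⋃ i, L i) ∩ Z))
    {ξ : X} (hξ : ξ ∈ Z) (hgen : Z ⊆ closure {ξ}) : ξ ∈ ⋃ i, L i := by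
  obtain ⟨U, hU, hUE, hUd⟩ := exists_open_of_dense_inter_irreducible hZ L hL h
  have hne : (U ∩ Z).Nonempty := by
    by_contra hempty
    rw [not_nonempty_iff_eq_empty] at hempty
    rw [hempty, closure_empty] at hUd
    exact hUd hξ
  obtain ⟨z, hzU, hzZ⟩ := hne
  have hspec : ξ ⤳ z := specializes_iff_mem_closure.mpr (hgen hzZ)
  exact hUE ⟨hspec.mem_open hU hzU, hξ⟩

end Groth.Agent.Lib.Helper38
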